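import Mathlib

/-!
# Transvections in `SL_n(F)` and `PSL_n(F)` (toolkit for `Aut(PSL_n(F))`)

`tvm u φ c = 1 + c • u φᵀ`, the element `tv u φ c` of `SL_n` (for `φ ⬝ᵥ u = 0`), conjugation,
flag transitivity, proportionality `Par`, and the relation "all products are transvections":
two transvection subgroups have this property iff they share the centre or the axis (`n ≥ 3`).
-/

set_option autoImplicit false
set_option linter.unusedSectionVars false
set_option linter.unusedSimpArgs false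
set_option linter.unusedVariables false

namespace Cfsg.Agent.Helper13.AutPSLTv

open Matrix

variable {n : ℕ} {F : Type*} [Field F]

local notation "SLn" => Matrix.SpecialLinearGroup (Fin n) F
local notation "PSLn" => Matrix.ProjectiveSpecialLinearGroup (Fin n) F
local notation "Mn" => Matrix (Fin n) (Fin n) F
local notation "Vn" => Fin n → F

/-! ### the matrices `1 + c u φᵀ` -/

/-- the matrix `1 + c u φᵀ` -/
def tvm (u φ : Vn) (c : F) : Mn := 1 + c • vecMulVec u φ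

theorem tvm_zero (u φ : Vn) : tvm u φ 0 = 1 := by simp [tvm]

theorem tvm_mul_tvm (u φ v ψ : Vn) (c d : F) :
    tvm u φ c * tvm v ψ d =
      1 + c • vecMulVec u φ + d • vecMulVec v ψ + (c * d * (φ ⬝ᵥ v)) • vecMulVec u ψ := by
  unfold tvm
  rw [add_mul, mul_add, mul_add, one_mul, mul_one, one_mul, smul_mul_assoc, mul_smul_comm,
    vecMulVec_mul_vecMulVec, vecMulVec_smul, smul_smul, smul_smul]
  abel

theorem tvm_mul_same {u φ : Vn} (h : φ ⬝ᵥ u = 0) (c d : F) :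
    tvm u φ c * tvm u φ d = tvm u φ (c + d) := by
  rw [tvm_mul_tvm, h, mul_zero, zero_smul, add_zero]
  unfold tvm
  rw [add_smul, add_assoc]

theorem det_tvm (u φ : Vn) (c : F) : (tvm u φ c).det = 1 + c * (φ ⬝ᵥ u) := by
  unfold tvm
  rw [← smul_vecMulVec, Matrix.vecMulVec_eq Unit, Matrix.det_one_add_replicateCol_mul_replicateRow,
    dotProduct_smul, smul_eq_mul]

theorem mul_tvm_mul {M N : Mn} (u φ : Vn) (c : F) (h : M * N = 1) :
    M * tvm u φ c * N = tvm (M *ᵥ u) (φ ᵥ* N) c := by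
  unfold tvm
  rw [mul_add, add_mul, mul_one, h, mul_smul_comm, smul_mul_assoc, mul_vecMulVec, vecMulVec_mul]

theorem tvm_smul_smul (u φ : Vn) (a b c : F) :
    tvm (a • u) (b • φ) c = tvm u φ (a * b * c) := by
  unfold tvm
  rw [smul_vecMulVec, vecMulVec_smul, smul_smul, smul_smul]
  congr 2
  ring

theorem tvm_mulVec (u φ x : Vn) (c : F) : tvm u φ c *ᵥ x = x + (c * (φ ⬝ᵥ x)) • u := by
  unfold tvm
  rw [add_mulVec, one_mulVec, smul_mulVec, vecMulVec_mulVec]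
  congr 1
  ext i
  simp only [Pi.smul_apply, MulOpposite.smul_eq_mul_unop, MulOpposite.unop_op, smul_eq_mul]
  ring

theorem vecMul_tvm (u φ x : Vn) (c : F) : x ᵥ* tvm u φ c = x + (c * (x ⬝ᵥ u)) • φ := by
  unfold tvm
  rw [vecMul_add, vecMul_one, vecMul_smul, vecMul_vecMulVec, smul_smul]

theorem tvm_injective {u φ : Vn} (hu : u ≠ 0) (hφ : φ ≠ 0) {c d : F}
    (h : tvm u φ c = tvm u φ d) : c = d := by
  obtain ⟨i, hi⟩ := Function.ne_iff.1 hu
  obtain ⟨j, hj⟩ := Function.ne_iff.1 hφ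
  have h1 := congrFun (congrFun h i) j
  unfold tvm at h1
  simp only [Matrix.add_apply, Matrix.smul_apply, vecMulVec_apply, smul_eq_mul] at h1
  have h2 : c * (u i * φ j) = d * (u i * φ j) := add_left_cancel h1
  exact mul_right_cancel₀ (mul_ne_zero hi hj) h2

theorem tvm_single (i j : Fin n) (c : F) :
    tvm (Pi.single i (1 : F)) (Pi.single j (1 : F)) c = Matrix.transvection i j c := by
  unfold Matrix.transvection tvm
  rw [← single_eq_single_vecMulVec_single, smul_single, smul_eq_mul, mul_one]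

theorem sq_zero_of_flag {u φ : Vn} (h : φ ⬝ᵥ u = 0) (c : F) :
    (c • vecMulVec u φ) * (c • vecMulVec u φ) = 0 := by
  rw [smul_mul_assoc, mul_smul_comm, vecMulVec_mul_vecMulVec, h, zero_smul, vecMulVec_zero,
    smul_zero, smul_zero]

/-! ### the elements of `SL_n` -/

/-- auxiliary: the transvection with its proof -/
def tvS (u φ : Vn) (c : F) (h : φ ⬝ᵥ u = 0) : SLn :=
  ⟨tvm u φ c, by rw [det_tvm, h, mul_zero, add_zero]⟩

open Classical in
/-- the transvection `1 + c u φᵀ` in `SL_n` (the identity when `φ ⬝ᵥ u ≠ 0`) -/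
noncomputable def tv (u φ : Vn) (c : F) : SLn :=
  if h : φ ⬝ᵥ u = 0 then tvS u φ c h else 1

theorem tv_coe {u φ : Vn} (h : φ ⬝ᵥ u = 0) (c : F) : ((tv u φ c : SLn) : Mn) = tvm u φ c := by
  unfold tv
  rw [dif_pos h]
  rfl

theorem tv_mul {u φ : Vn} (h : φ ⬝ᵥ u = 0) (c d : F) : tv u φ c * tv u φ d = tv u φ (c + d) := by
  apply Subtype.ext
  rw [Matrix.SpecialLinearGroup.coe_mul, tv_coe h, tv_coe h, tv_coe h, tvm_mul_same h]

theorem tv_zero (u φ : Vn) : tv u φ (0 : F) = 1 := by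
  by_cases h : φ ⬝ᵥ u = 0
  · apply Subtype.ext
    rw [tv_coe h, tvm_zero, Matrix.SpecialLinearGroup.coe_one]
  · unfold tv
    rw [dif_neg h]

theorem tv_inv {u φ : Vn} (h : φ ⬝ᵥ u = 0) (c : F) : (tv u φ c)⁻¹ = tv u φ (-c) := by
  rw [inv_eq_iff_mul_eq_one, tv_mul h, add_neg_cancel, tv_zero]

theorem tv_smul_smul {u φ : Vn} (h : φ ⬝ᵥ u = 0) (a b c : F) :
    tv (a • u) (b • φ) c = tv u φ (a * b * c) := by
  have h' : (b • φ) ⬝ᵥ (a • u) = 0 := by
    rw [smul_dotProduct, dotProduct_smul, h, smul_zero, smul_zero]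
  apply Subtype.ext
  rw [tv_coe h', tv_coe h, tvm_smul_smul]

theorem tv_smul_left {u φ : Vn} (h : φ ⬝ᵥ u = 0) (a c : F) :
    tv (a • u) φ c = tv u φ (a * c) := by
  have := tv_smul_smul h a 1 c
  rwa [one_smul, mul_one] at this

theorem tv_smul_right {u φ : Vn} (h : φ ⬝ᵥ u = 0) (b c : F) :
    tv u (b • φ) c = tv u φ (b * c) := by
  have := tv_smul_smul h 1 b c
  rwa [one_smul, one_mul] at this

theorem coe_inv_mul_coe (g : SLn) : ((g⁻¹ : SLn) : Mn) * (g : Mn) = 1 := by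
  have := congrArg (fun x : SLn => (x : Mn)) (inv_mul_cancel g)
  simpa only [Matrix.SpecialLinearGroup.coe_mul, Matrix.SpecialLinearGroup.coe_one] using this

theorem coe_mul_coe_inv (g : SLn) : (g : Mn) * ((g⁻¹ : SLn) : Mn) = 1 := by
  have := congrArg (fun x : SLn => (x : Mn)) (mul_inv_cancel g)
  simpa only [Matrix.SpecialLinearGroup.coe_mul, Matrix.SpecialLinearGroup.coe_one] using this

theorem conj_flag (g : SLn) (u φ : Vn) :
    (φ ᵥ* ((g⁻¹ : SLn) : Mn)) ⬝ᵥ ((g : Mn) *ᵥ u) = φ ⬝ᵥ u := by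
  rw [dotProduct_mulVec, vecMul_vecMul, coe_inv_mul_coe, vecMul_one]

theorem conj_tv (g : SLn) {u φ : Vn} (h : φ ⬝ᵥ u = 0) (c : F) :
    g * tv u φ c * g⁻¹ = tv ((g : Mn) *ᵥ u) (φ ᵥ* ((g⁻¹ : SLn) : Mn)) c := by
  apply Subtype.ext
  rw [Matrix.SpecialLinearGroup.coe_mul, Matrix.SpecialLinearGroup.coe_mul, tv_coe h,
    tv_coe ((conj_flag g u φ).trans h), mul_tvm_mul u φ c (coe_mul_coe_inv g)]

theorem tv_commute {u φ v ψ : Vn} (hu : φ ⬝ᵥ u = 0) (hv : ψ ⬝ᵥ v = 0) (h1 : φ ⬝ᵥ v = 0)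
    (h2 : ψ ⬝ᵥ u = 0) (c d : F) : tv u φ c * tv v ψ d = tv v ψ d * tv u φ c := by
  apply Subtype.ext
  rw [Matrix.SpecialLinearGroup.coe_mul, Matrix.SpecialLinearGroup.coe_mul, tv_coe hu, tv_coe hv,
    tvm_mul_tvm, tvm_mul_tvm, h1, h2, mul_zero, mul_zero, zero_smul, zero_smul]
  abel

/-! ### flags -/

/-- `(u, φ)` is an incident point-hyperplane pair -/
def IsFlag (u φ : Vn) : Prop := u ≠ 0 ∧ φ ≠ 0 ∧ φ ⬝ᵥ u = 0

theorem single_ne_zero' (i : Fin n) : (Pi.single i (1 : F) : Vn) ≠ 0 := by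
  intro h
  have := congrFun h i
  simp at this

theorem single_flag {i j : Fin n} (hij : i ≠ j) :
    IsFlag (Pi.single i (1 : F) : Vn) (Pi.single j (1 : F)) := by
  refine ⟨single_ne_zero' i, single_ne_zero' j, ?_⟩
  rw [single_dotProduct, one_mul, Pi.single_eq_of_ne (Ne.symm hij)]

/-- proportional vectors -/
def Par (v w : Vn) : Prop := ∃ a : F, a ≠ 0 ∧ w = a • v

theorem Par.refl (v : Vn) : Par v v := ⟨1, one_ne_zero, (one_smul _ _).symm⟩

theorem Par.symm {v w : Vn} (h : Par v w) : Par w v := by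
  obtain ⟨a, ha, rfl⟩ := h
  exact ⟨a⁻¹, inv_ne_zero ha, by rw [smul_smul, inv_mul_cancel₀ ha, one_smul]⟩

theorem Par.trans {u v w : Vn} (h : Par u v) (h' : Par v w) : Par u w := by
  obtain ⟨a, ha, rfl⟩ := h
  obtain ⟨b, hb, rfl⟩ := h'
  exact ⟨b * a, mul_ne_zero hb ha, by rw [smul_smul]⟩

theorem par_of_minors {u v : Vn} (hu : u ≠ 0) (hv : v ≠ 0)
    (h : ∀ i j, u i * v j = u j * v i) : Par u v := by
  obtain ⟨i₀, hi₀⟩ := Function.ne_iff.1 hu
  have hi₀' : u i₀ ≠ 0 := hi₀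
  have hvu : v = (v i₀ / u i₀) • u := by
    ext j
    rw [Pi.smul_apply, smul_eq_mul, div_mul_eq_mul_div, eq_div_iff hi₀', mul_comm (v j), h i₀ j,
      mul_comm]
  refine ⟨v i₀ / u i₀, ?_, hvu⟩
  intro h0
  rw [h0, zero_smul] at hvu
  exact hv hvu

theorem exists_minor_of_not_par {u v : Vn} (hu : u ≠ 0) (hv : v ≠ 0) (h : ¬ Par u v) :
    ∃ i j, u i * v j ≠ u j * v i := by
  by_contra hcon
  push Not at hcon
  exact h (par_of_minors hu hv hcon)

/-- for non-proportional `φ, ψ` there is `z` with `φ z = 1`, `ψ z = 0` -/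
theorem exists_dual_vec {φ ψ : Vn} (hφ : φ ≠ 0) (hψ : ψ ≠ 0) (h : ¬ Par φ ψ) :
    ∃ z : Vn, φ ⬝ᵥ z = 1 ∧ ψ ⬝ᵥ z = 0 := by
  obtain ⟨i, j, hij⟩ := exists_minor_of_not_par hφ hψ h
  have hΔ : φ i * ψ j - φ j * ψ i ≠ 0 := sub_ne_zero.2 hij
  refine ⟨Pi.single i (ψ j / (φ i * ψ j - φ j * ψ i)) +
    Pi.single j (-ψ i / (φ i * ψ j - φ j * ψ i)), ?_, ?_⟩
  · rw [dotProduct_add, dotProduct_single, dotProduct_single, mul_div_assoc', mul_div_assoc',
      ← add_div, div_eq_one_iff_eq hΔ]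
    ring
  · rw [dotProduct_add, dotProduct_single, dotProduct_single, mul_div_assoc', mul_div_assoc',
      ← add_div, div_eq_zero_iff]
    left
    ring

/-- in dimension `≥ 3` two functionals have a common nonzero kernel vector -/
theorem exists_common_kernel (hn : 3 ≤ n) (φ ψ : Vn) :
    ∃ w : Vn, w ≠ 0 ∧ φ ⬝ᵥ w = 0 ∧ ψ ⬝ᵥ w = 0 := by
  let f : Vn →ₗ[F] (Fin 2 → F) :=
    { toFun := fun w => ![φ ⬝ᵥ w, ψ ⬝ᵥ w]
      map_add' := by
        intro x y
        ext i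
        fin_cases i <;> simp [dotProduct_add]
      map_smul' := by
        intro a x
        ext i
        fin_cases i <;> simp [dotProduct_smul] }
  have hlt : Module.finrank F (Fin 2 → F) < Module.finrank F Vn := by
    rw [Module.finrank_fin_fun, Module.finrank_fin_fun]
    omega
  have hker := LinearMap.ker_ne_bot_of_finrank_lt (f := f) hlt
  obtain ⟨w, hw, hw0⟩ := (Submodule.ne_bot_iff _).1 hker
  refine ⟨w, hw0, ?_, ?_⟩
  · have := congrFun (LinearMap.mem_ker.1 hw) 0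
    simpa [f] using this
  · have := congrFun (LinearMap.mem_ker.1 hw) 1
    simpa [f] using this

/-! ### working modulo scalars -/

theorem exists_smul_of_mk_eq {s s' : SLn}
    (h : (QuotientGroup.mk s : PSLn) = QuotientGroup.mk s') :
    ∃ r : F, (s' : Mn) = r • (s : Mn) := by
  have h2 := QuotientGroup.eq.1 h
  obtain ⟨r, -, hr⟩ := Matrix.SpecialLinearGroup.mem_center_iff.1 h2
  refine ⟨r, ?_⟩
  have h3 : s' = s * (s⁻¹ * s') := by group
  calc (s' : Mn) = ((s * (s⁻¹ * s') : SLn) : Mn) := congrArg (fun x : SLn => (x : Mn)) h3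
    _ = (s : Mn) * ((s⁻¹ * s' : SLn) : Mn) := Matrix.SpecialLinearGroup.coe_mul _ _
    _ = (s : Mn) * Matrix.scalar (Fin n) r := by rw [hr]
    _ = r • (s : Mn) := by rw [Matrix.scalar_apply, Matrix.smul_eq_mul_diagonal]

theorem eq_one_of_unipotent_smul (hn : 0 < n) {N M : Mn} (hN : N * N = 0) (hM : M * M = 0) {r : F}
    (h : 1 + M = r • (1 + N)) : r = 1 := by
  set c : F := r - 1 with hc
  have hM' : M = c • (1 : Mn) + r • N := by
    have h1 : M = r • (1 + N) - 1 := by rw [← h]; abel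
    rw [h1, smul_add, hc, sub_smul, one_smul]; abel
  have hNM : N * M = c • N := by
    rw [hM', mul_add, mul_smul_comm, mul_one, mul_smul_comm, hN, smul_zero, add_zero]
  have h0 : (c * c) • N = 0 := by
    have h1 : N * (M * M) = (c * c) • N := by
      rw [← mul_assoc, hNM, smul_mul_assoc, hNM, smul_smul]
    rw [← h1, hM, mul_zero]
  have hcc : c * c = 0 := by
    rcases smul_eq_zero.1 h0 with h1 | h1
    · exact h1
    · rw [h1, smul_zero, add_zero] at hM'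
      rw [hM', smul_mul_smul_comm, mul_one] at hM
      have h2 := congrFun (congrFun hM ⟨0, hn⟩) ⟨0, hn⟩
      simpa using h2
  have h3 : c = 0 := mul_self_eq_zero.1 hcc
  rw [hc, sub_eq_zero] at h3
  exact h3

theorem tvm_eq_of_mk_eq (hn : 0 < n) {u φ u' φ' : Vn} (h : φ ⬝ᵥ u = 0) (h' : φ' ⬝ᵥ u' = 0)
    {c c' : F}
    (he : (QuotientGroup.mk (tv u φ c) : PSLn) = QuotientGroup.mk (tv u' φ' c')) :
    tvm u φ c = tvm u' φ' c' := by
  obtain ⟨r, hr⟩ := exists_smul_of_mk_eq he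
  rw [tv_coe h, tv_coe h'] at hr
  have hr1 : r = 1 :=
    eq_one_of_unipotent_smul hn (sq_zero_of_flag h c) (sq_zero_of_flag h' c') hr
  rw [hr1, one_smul] at hr
  exact hr.symm

theorem tv_param_eq_of_mk_eq (hn : 0 < n) {u φ : Vn} (hf : IsFlag u φ) {c c' : F}
    (he : (QuotientGroup.mk (tv u φ c) : PSLn) = QuotientGroup.mk (tv u φ c')) : c = c' :=
  tvm_injective hf.1 hf.2.1 (tvm_eq_of_mk_eq hn hf.2.2 hf.2.2 he)

theorem tv_zero_right (u : Vn) (c : F) : tv u (0 : Vn) c = 1 := by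
  apply Subtype.ext
  rw [tv_coe (zero_dotProduct u), Matrix.SpecialLinearGroup.coe_one]
  unfold tvm
  rw [vecMulVec_zero, smul_zero, add_zero]

theorem tv_zero_left (φ : Vn) (c : F) : tv (0 : Vn) φ c = 1 := by
  apply Subtype.ext
  rw [tv_coe (dotProduct_zero φ), Matrix.SpecialLinearGroup.coe_one]
  unfold tvm
  rw [zero_vecMulVec, smul_zero, add_zero]

/-! ### transvection elements of `PSL_n` -/

/-- `x` is the image of a transvection, or the identity -/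
def IsTvE (x : PSLn) : Prop :=
  ∃ u φ : Vn, IsFlag u φ ∧ ∃ c : F, x = QuotientGroup.mk (tv u φ c)

theorem isTvE_mul_of_center {u φ φ' : Vn} (hf : IsFlag u φ) (hf' : IsFlag u φ') (c c' : F) :
    IsTvE ((QuotientGroup.mk (tv u φ c) : PSLn) * QuotientGroup.mk (tv u φ' c')) := by
  have h3 : (c • φ + c' • φ') ⬝ᵥ u = 0 := by
    rw [add_dotProduct, smul_dotProduct, smul_dotProduct, hf.2.2, hf'.2.2, smul_zero, smul_zero,
      add_zero]
  have hprod : tv u φ c * tv u φ' c' = tv u (c • φ + c' • φ') 1 := by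
    apply Subtype.ext
    rw [Matrix.SpecialLinearGroup.coe_mul, tv_coe hf.2.2, tv_coe hf'.2.2, tv_coe h3, tvm_mul_tvm,
      hf.2.2, mul_zero, zero_smul, add_zero]
    unfold tvm
    rw [one_smul, vecMulVec_add, vecMulVec_smul, vecMulVec_smul, add_assoc]
  rw [← QuotientGroup.mk_mul, hprod]
  by_cases h0 : c • φ + c' • φ' = 0
  · refine ⟨u, φ, hf, 0, ?_⟩
    rw [h0, tv_zero_right, tv_zero]
  · exact ⟨u, c • φ + c' • φ', ⟨hf.1, h0, h3⟩, 1, rfl⟩

theorem isTvE_mul_of_axis {u u' φ : Vn} (hf : IsFlag u φ) (hf' : IsFlag u' φ) (c c' : F) :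
    IsTvE ((QuotientGroup.mk (tv u φ c) : PSLn) * QuotientGroup.mk (tv u' φ c')) := by
  have h3 : φ ⬝ᵥ (c • u + c' • u') = 0 := by
    rw [dotProduct_add, dotProduct_smul, dotProduct_smul, hf.2.2, hf'.2.2, smul_zero, smul_zero,
      add_zero]
  have hprod : tv u φ c * tv u' φ c' = tv (c • u + c' • u') φ 1 := by
    apply Subtype.ext
    rw [Matrix.SpecialLinearGroup.coe_mul, tv_coe hf.2.2, tv_coe hf'.2.2, tv_coe h3, tvm_mul_tvm,
      hf'.2.2, mul_zero, zero_smul, add_zero]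
    unfold tvm
    rw [one_smul, add_vecMulVec, smul_vecMulVec, smul_vecMulVec, add_assoc]
  rw [← QuotientGroup.mk_mul, hprod]
  by_cases h0 : c • u + c' • u' = 0
  · refine ⟨u, φ, hf, 0, ?_⟩
    rw [h0, tv_zero_left, tv_zero]
  · exact ⟨c • u + c' • u', φ, ⟨h0, hf.2.1, h3⟩, 1, rfl⟩

theorem isTvE_mul_of_par_center {u u' φ φ' : Vn} (hf : IsFlag u φ) (hf' : IsFlag u' φ')
    (hp : Par u u') (c c' : F) :
    IsTvE ((QuotientGroup.mk (tv u φ c) : PSLn) * QuotientGroup.mk (tv u' φ' c')) := by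
  obtain ⟨a, ha, rfl⟩ := hp
  have h1 : φ' ⬝ᵥ u = 0 := by
    have := hf'.2.2
    rw [dotProduct_smul, smul_eq_mul] at this
    rcases mul_eq_zero.1 this with h | h
    · exact absurd h ha
    · exact h
  rw [tv_smul_left h1]
  exact isTvE_mul_of_center hf ⟨hf.1, hf'.2.1, h1⟩ c (a * c')

theorem isTvE_mul_of_par_axis {u u' φ φ' : Vn} (hf : IsFlag u φ) (hf' : IsFlag u' φ')
    (hp : Par φ φ') (c c' : F) :
    IsTvE ((QuotientGroup.mk (tv u φ c) : PSLn) * QuotientGroup.mk (tv u' φ' c')) := by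
  obtain ⟨b, hb, rfl⟩ := hp
  have h1 : φ ⬝ᵥ u' = 0 := by
    have := hf'.2.2
    rw [smul_dotProduct, smul_eq_mul] at this
    rcases mul_eq_zero.1 this with h | h
    · exact absurd h hb
    · exact h
  rw [tv_smul_right h1]
  exact isTvE_mul_of_axis hf ⟨hf'.1, hf.2.1, h1⟩ c (b * c')

/-- the key lemma: if the product of two transvections is a scalar multiple of a transvection,
the two transvections share the centre or the axis (`n ≥ 3`) -/
theorem rgen_matrix (hn : 3 ≤ n) {v φ v' φ' u χ : Vn} (hv : v ≠ 0) (hv' : v' ≠ 0) (hφ : φ ≠ 0)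
    (hφ' : φ' ≠ 0) (hχu : χ ⬝ᵥ u = 0) {a b r c : F} (ha : a ≠ 0) (hb : b ≠ 0)
    (h : tvm v φ a * tvm v' φ' b = r • tvm u χ c) : Par v v' ∨ Par φ φ' := by
  by_contra hcon
  push Not at hcon
  obtain ⟨hnv, hnφ⟩ := hcon
  have key : ∀ x : Vn, x + (b * (φ' ⬝ᵥ x)) • v' +
      (a * (φ ⬝ᵥ x + b * (φ' ⬝ᵥ x) * (φ ⬝ᵥ v'))) • v = r • (x + (c * (χ ⬝ᵥ x)) • u) := by
    intro x
    have h1 : (tvm v φ a * tvm v' φ' b) *ᵥ x = (r • tvm u χ c) *ᵥ x := by rw [h]
    rw [← mulVec_mulVec, tvm_mulVec, tvm_mulVec, smul_mulVec, tvm_mulVec, dotProduct_add,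
      dotProduct_smul, smul_eq_mul] at h1
    exact h1
  obtain ⟨w, hw0, hw1, hw2⟩ := exists_common_kernel hn φ φ'
  have hr : r = 1 := by
    have hw := key w
    simp only [hw1, hw2, mul_zero, zero_mul, add_zero, zero_smul] at hw
    have hdot : χ ⬝ᵥ w = χ ⬝ᵥ (r • (w + (c * (χ ⬝ᵥ w)) • u)) := by rw [← hw]
    rw [dotProduct_smul, dotProduct_add, dotProduct_smul, hχu, smul_zero, add_zero, smul_eq_mul]
      at hdot
    have h2 : (1 - r) * (χ ⬝ᵥ w) = 0 := by linear_combination hdot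
    rcases mul_eq_zero.1 h2 with h3 | h3
    · exact (sub_eq_zero.1 h3).symm
    · rw [h3, mul_zero, zero_smul, add_zero] at hw
      have h4 : (1 - r) • w = 0 := by
        rw [sub_smul, one_smul, ← hw, sub_self]
      rcases smul_eq_zero.1 h4 with h5 | h5
      · exact (sub_eq_zero.1 h5).symm
      · exact absurd h5 hw0
  obtain ⟨z, hz1, hz2⟩ := exists_dual_vec hφ hφ' hnφ
  obtain ⟨z', hz'1, hz'2⟩ := exists_dual_vec hφ' hφ (fun hp => hnφ hp.symm)
  have e1 : a • v = (c * (χ ⬝ᵥ z)) • u := by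
    have hk := key z
    rw [hr, one_smul, hz1, hz2, mul_zero, zero_smul, add_zero, zero_mul, add_zero, mul_one] at hk
    exact add_left_cancel hk
  have e2 : b • v' + (a * (b * (φ ⬝ᵥ v'))) • v = (c * (χ ⬝ᵥ z')) • u := by
    have hk := key z'
    rw [hr, one_smul, hz'1, hz'2, mul_one, zero_add, add_assoc] at hk
    exact add_left_cancel hk
  have hk0 : c * (χ ⬝ᵥ z) ≠ 0 := by
    intro h0
    rw [h0, zero_smul] at e1
    rcases smul_eq_zero.1 e1 with h1 | h1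
    · exact ha h1
    · exact hv h1
  have hu : u = (a / (c * (χ ⬝ᵥ z))) • v := by
    rw [div_eq_inv_mul, ← smul_smul, e1, smul_smul, inv_mul_cancel₀ hk0, one_smul]
  have hv'eq : v' = (b⁻¹ * (c * (χ ⬝ᵥ z') * (a / (c * (χ ⬝ᵥ z))) - a * (b * (φ ⬝ᵥ v')))) • v := by
    have h1 : b • v' = (c * (χ ⬝ᵥ z') * (a / (c * (χ ⬝ᵥ z))) - a * (b * (φ ⬝ᵥ v'))) • v := by
      rw [sub_smul, ← smul_smul, ← hu, ← e2]
      abel
    rw [← smul_smul, ← h1, smul_smul, inv_mul_cancel₀ hb, one_smul]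
  apply hnv
  refine ⟨_, ?_, hv'eq⟩
  intro h0
  rw [h0, zero_smul] at hv'eq
  exact hv' hv'eq

theorem rgen (hn : 3 ≤ n) {v φ v' φ' : Vn} (hf : IsFlag v φ) (hf' : IsFlag v' φ') {a b : F}
    (ha : a ≠ 0) (hb : b ≠ 0)
    (h : IsTvE ((QuotientGroup.mk (tv v φ a) : PSLn) * QuotientGroup.mk (tv v' φ' b))) :
    Par v v' ∨ Par φ φ' := by
  obtain ⟨u, χ, hfu, c, hc⟩ := h
  rw [← QuotientGroup.mk_mul] at hc
  obtain ⟨r, hr⟩ := exists_smul_of_mk_eq hc.symm
  rw [Matrix.SpecialLinearGroup.coe_mul, tv_coe hf.2.2, tv_coe hf'.2.2, tv_coe hfu.2.2] at hr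
  exact rgen_matrix hn hf.1 hf'.1 hf.2.1 hf'.2.1 hfu.2.2 ha hb hr

/-! ### transitivity on flags -/

/-- two flags are conjugate under `SL_n`, up to scalars -/
def FlagConj (u φ v ψ : Vn) : Prop :=
  ∃ (g : SLn) (a b : F), a ≠ 0 ∧ b ≠ 0 ∧ (g : Mn) *ᵥ u = a • v ∧
    φ ᵥ* ((g⁻¹ : SLn) : Mn) = b • ψ

theorem FlagConj.refl (u φ : Vn) : FlagConj u φ u φ := by
  refine ⟨1, 1, 1, one_ne_zero, one_ne_zero, ?_, ?_⟩
  · rw [Matrix.SpecialLinearGroup.coe_one, one_mulVec, one_smul]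
  · rw [inv_one, Matrix.SpecialLinearGroup.coe_one, vecMul_one, one_smul]

theorem FlagConj.trans {u φ v ψ w θ : Vn} (h1 : FlagConj u φ v ψ) (h2 : FlagConj v ψ w θ) :
    FlagConj u φ w θ := by
  obtain ⟨g1, a1, b1, ha1, hb1, e1, f1⟩ := h1
  obtain ⟨g2, a2, b2, ha2, hb2, e2, f2⟩ := h2
  refine ⟨g2 * g1, a1 * a2, b1 * b2, mul_ne_zero ha1 ha2, mul_ne_zero hb1 hb2, ?_, ?_⟩
  · rw [Matrix.SpecialLinearGroup.coe_mul, ← mulVec_mulVec, e1, mulVec_smul, e2, smul_smul]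
  · rw [_root_.mul_inv_rev, Matrix.SpecialLinearGroup.coe_mul, ← vecMul_vecMul, f1, smul_vecMul, f2,
      smul_smul]

theorem FlagConj.symm {u φ v ψ : Vn} (h : FlagConj u φ v ψ) : FlagConj v ψ u φ := by
  obtain ⟨g, a, b, ha, hb, e, f⟩ := h
  refine ⟨g⁻¹, a⁻¹, b⁻¹, inv_ne_zero ha, inv_ne_zero hb, ?_, ?_⟩
  · have h1 : ((g⁻¹ : SLn) : Mn) *ᵥ ((g : Mn) *ᵥ u) = u := by
      rw [mulVec_mulVec, coe_inv_mul_coe, one_mulVec]
    rw [e, mulVec_smul] at h1
    rw [← h1, smul_smul, inv_mul_cancel₀ ha, one_smul]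
  · have h1 : (φ ᵥ* ((g⁻¹ : SLn) : Mn)) ᵥ* (g : Mn) = φ := by
      rw [vecMul_vecMul, coe_inv_mul_coe, vecMul_one]
    rw [f, smul_vecMul] at h1
    rw [inv_inv, ← h1, smul_smul, inv_mul_cancel₀ hb, one_smul]

theorem flagConj_center {u v φ : Vn} (hu : IsFlag u φ) (hv : IsFlag v φ) : FlagConj u φ v φ := by
  by_cases hp : Par u v
  · obtain ⟨c, hc, rfl⟩ := hp
    refine ⟨1, c⁻¹, 1, inv_ne_zero hc, one_ne_zero, ?_, ?_⟩
    · rw [Matrix.SpecialLinearGroup.coe_one, one_mulVec, smul_smul, inv_mul_cancel₀ hc, one_smul]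
    · rw [inv_one, Matrix.SpecialLinearGroup.coe_one, vecMul_one, one_smul]
  · obtain ⟨i, j, hij⟩ := exists_minor_of_not_par hu.1 hv.1 hp
    have hΔ : u i * v j - u j * v i ≠ 0 := sub_ne_zero.2 hij
    set a : F := (v j - u j) / (u i * v j - u j * v i) with ha
    set b : F := (u i - v i) / (u i * v j - u j * v i) with hb
    have hχu : (Pi.single i a + Pi.single j b : Vn) ⬝ᵥ u = 1 := by
      rw [add_dotProduct, single_dotProduct, single_dotProduct, ha, hb, div_mul_eq_mul_div,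
        div_mul_eq_mul_div, ← add_div, div_eq_one_iff_eq hΔ]
      ring
    have hχv : (Pi.single i a + Pi.single j b : Vn) ⬝ᵥ v = 1 := by
      rw [add_dotProduct, single_dotProduct, single_dotProduct, ha, hb, div_mul_eq_mul_div,
        div_mul_eq_mul_div, ← add_div, div_eq_one_iff_eq hΔ]
      ring
    have hχ : (Pi.single i a + Pi.single j b : Vn) ⬝ᵥ (v - u) = 0 := by
      rw [dotProduct_sub, hχu, hχv, sub_self]
    refine ⟨tv (v - u) (Pi.single i a + Pi.single j b) 1, 1, 1, one_ne_zero, one_ne_zero, ?_, ?_⟩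
    · rw [tv_coe hχ, tvm_mulVec, hχu, mul_one, one_smul, one_smul, add_sub_cancel]
    · rw [tv_inv hχ, tv_coe hχ, vecMul_tvm, dotProduct_sub, hu.2.2, hv.2.2, sub_self, mul_zero,
        zero_smul, add_zero, one_smul]

theorem flagConj_axis {u φ ψ : Vn} (hφ : IsFlag u φ) (hψ : IsFlag u ψ) : FlagConj u φ u ψ := by
  by_cases hp : Par φ ψ
  · obtain ⟨c, hc, rfl⟩ := hp
    refine ⟨1, 1, c⁻¹, one_ne_zero, inv_ne_zero hc, ?_, ?_⟩
    · rw [Matrix.SpecialLinearGroup.coe_one, one_mulVec, one_smul]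
    · rw [inv_one, Matrix.SpecialLinearGroup.coe_one, vecMul_one, smul_smul, inv_mul_cancel₀ hc,
        one_smul]
  · obtain ⟨i, j, hij⟩ := exists_minor_of_not_par hφ.2.1 hψ.2.1 hp
    have hΔ : φ i * ψ j - φ j * ψ i ≠ 0 := sub_ne_zero.2 hij
    set a : F := (ψ j - φ j) / (φ i * ψ j - φ j * ψ i) with ha
    set b : F := (φ i - ψ i) / (φ i * ψ j - φ j * ψ i) with hb
    have hφw : φ ⬝ᵥ (Pi.single i a + Pi.single j b : Vn) = 1 := by
      rw [dotProduct_add, dotProduct_single, dotProduct_single, ha, hb, mul_div_assoc',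
        mul_div_assoc', ← add_div, div_eq_one_iff_eq hΔ]
      ring
    have hψw : ψ ⬝ᵥ (Pi.single i a + Pi.single j b : Vn) = 1 := by
      rw [dotProduct_add, dotProduct_single, dotProduct_single, ha, hb, mul_div_assoc',
        mul_div_assoc', ← add_div, div_eq_one_iff_eq hΔ]
      ring
    have hw : (φ - ψ) ⬝ᵥ (Pi.single i a + Pi.single j b : Vn) = 0 := by
      rw [sub_dotProduct, hφw, hψw, sub_self]
    refine ⟨tv (Pi.single i a + Pi.single j b) (φ - ψ) 1, 1, 1, one_ne_zero, one_ne_zero, ?_, ?_⟩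
    · rw [tv_coe hw, tvm_mulVec, sub_dotProduct, hφ.2.2, hψ.2.2, sub_self, mul_zero, zero_smul,
        add_zero, one_smul]
    · rw [tv_inv hw, tv_coe hw, vecMul_tvm, hφw, mul_one, one_smul, neg_smul, one_smul]
      abel

/-- `SL_n` is transitive on flags up to scalars (`n ≥ 3`) -/
theorem flagConj_all (hn : 3 ≤ n) {u φ v ψ : Vn} (hf : IsFlag u φ) (hf' : IsFlag v ψ) :
    FlagConj u φ v ψ := by
  obtain ⟨χ, hχ0, hχu, hχv⟩ := exists_common_kernel hn u v
  rw [dotProduct_comm] at hχu hχv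
  have f1 : IsFlag u χ := ⟨hf.1, hχ0, hχu⟩
  have f2 : IsFlag v χ := ⟨hf'.1, hχ0, hχv⟩
  exact ((flagConj_axis hf f1).trans (flagConj_center f1 f2)).trans (flagConj_axis f2 hf')

theorem conj_tv_of_flagConj {u φ v ψ : Vn} (hf : IsFlag u φ) {g : SLn} {a b : F} (ha : a ≠ 0)
    (hb : b ≠ 0) (e : (g : Mn) *ᵥ u = a • v) (f : φ ᵥ* ((g⁻¹ : SLn) : Mn) = b • ψ) (c : F) :
    ψ ⬝ᵥ v = 0 ∧ g * tv u φ c * g⁻¹ = tv v ψ (a * b * c) := by
  have h1 : ψ ⬝ᵥ v = 0 := by
    have h2 := conj_flag g u φ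
    rw [e, f, hf.2.2, smul_dotProduct, dotProduct_smul, smul_eq_mul, smul_eq_mul] at h2
    rcases mul_eq_zero.1 h2 with h3 | h3
    · exact absurd h3 hb
    · rcases mul_eq_zero.1 h3 with h4 | h4
      · exact absurd h4 ha
      · exact h4
  refine ⟨h1, ?_⟩
  rw [conj_tv g hf.2.2, e, f, tv_smul_smul h1]

end Cfsg.Agent.Helper13.AutPSLTv
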