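import Mathlib
import Cfsg.Agent.Lib.Helper13.AutPSLTv
import Cfsg.Agent.Lib.Helper5.GLCard
import Cfsg.Agent.Lib.Helper5.SLCard

/-!
# The unitriangular Sylow subgroup of `PSL_n(F)` and transvections under automorphisms

The upper unitriangular group `UT` has order `q^(n(n-1)/2)`, its image in `PSL_n(F)` is a Sylow
`p`-subgroup whose centre is the root group of `(e_0, e_{n-1})`.  Consequently every automorphism
of `PSL_n(F)` (`n ≥ 3`) maps transvection subgroups to transvection subgroups (`aut_tv`).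
-/

set_option autoImplicit false
set_option linter.unusedSectionVars false
set_option linter.unusedSimpArgs false
set_option linter.unusedVariables false

namespace Cfsg.Agent.Helper13.AutPSLSylow

open Matrix Cfsg.Agent.Helper13.AutPSLTv

variable {n : ℕ} {F : Type*} [Field F]

local notation "SLn" => Matrix.SpecialLinearGroup (Fin n) F
local notation "PSLn" => Matrix.ProjectiveSpecialLinearGroup (Fin n) F
local notation "Mn" => Matrix (Fin n) (Fin n) F
local notation "Vn" => Fin n → F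

/-! ### upper unitriangular matrices -/

/-- upper unitriangular -/
def IsUT (g : Mn) : Prop := ∀ i j : Fin n, j ≤ i → g i j = if i = j then 1 else 0

theorem isUT_one : IsUT (1 : Mn) := by
  intro i j _
  rw [Matrix.one_apply]

theorem IsUT.mul {g h : Mn} (hg : IsUT g) (hh : IsUT h) : IsUT (g * h) := by
  intro i j hji
  rw [Matrix.mul_apply, Finset.sum_eq_single i]
  · rw [hg i i le_rfl, if_pos rfl, one_mul, hh i j hji]
  · intro k _ hki
    rcases lt_or_gt_of_ne hki with hlt | hgt
    · rw [hg i k hlt.le, if_neg (Ne.symm hki), zero_mul]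
    · have hjk : j ≤ k := hji.trans hgt.le
      have hne : k ≠ j := by
        intro e
        rw [e] at hgt
        exact absurd hji (not_le.2 hgt)
      rw [hh k j hjk, if_neg hne, mul_zero]
  · intro h
    exact absurd (Finset.mem_univ i) h

/-- the upper unitriangular subgroup of `SL_n` -/
def UT (n : ℕ) (F : Type*) [Field F] [Finite F] : Subgroup (Matrix.SpecialLinearGroup (Fin n) F) where
  carrier := {g | IsUT (g : Matrix (Fin n) (Fin n) F)}
  one_mem' := by
    show IsUT ((1 : Matrix.SpecialLinearGroup (Fin n) F) : Matrix (Fin n) (Fin n) F)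
    rw [Matrix.SpecialLinearGroup.coe_one]
    exact isUT_one
  mul_mem' := by
    intro a b ha hb
    show IsUT ((a * b : Matrix.SpecialLinearGroup (Fin n) F) : Matrix (Fin n) (Fin n) F)
    rw [Matrix.SpecialLinearGroup.coe_mul]
    exact IsUT.mul ha hb
  inv_mem' := by
    intro g hg
    have hpow : ∀ k : ℕ,
        IsUT ((g ^ k : Matrix.SpecialLinearGroup (Fin n) F) : Matrix (Fin n) (Fin n) F) := by
      intro k
      induction k with
      | zero =>
        rw [pow_zero, Matrix.SpecialLinearGroup.coe_one]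
        exact isUT_one
      | succ k ih =>
        rw [pow_succ, Matrix.SpecialLinearGroup.coe_mul]
        exact IsUT.mul ih hg
    have hinv : g⁻¹ = g ^ (orderOf g - 1) := by
      have ho : 0 < orderOf g := orderOf_pos g
      rw [inv_eq_iff_mul_eq_one, ← pow_succ', Nat.sub_add_cancel ho, pow_orderOf_eq_one]
    show IsUT ((g⁻¹ : Matrix.SpecialLinearGroup (Fin n) F) : Matrix (Fin n) (Fin n) F)
    rw [hinv]
    exact hpow _

theorem mem_UT [Finite F] {g : SLn} : g ∈ UT n F ↔ IsUT (g : Mn) := Iff.rfl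

/-- the matrix built from its strictly upper entries -/
def utMat (f : {p : Fin n × Fin n // p.1 < p.2} → F) : Mn :=
  Matrix.of fun i j => if h : i < j then f ⟨(i, j), h⟩ else if i = j then 1 else 0

theorem utMat_isUT (f : {p : Fin n × Fin n // p.1 < p.2} → F) : IsUT (utMat f) := by
  intro i j hji
  unfold utMat
  rw [Matrix.of_apply, dif_neg (not_lt.2 hji)]

theorem utMat_det (f : {p : Fin n × Fin n // p.1 < p.2} → F) : (utMat f).det = 1 := by
  have hup : (utMat f).IsUpperTriangular := by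
    intro i j hji
    have hji' : j < i := hji
    rw [utMat_isUT f i j hji'.le, if_neg (ne_of_gt hji')]
  rw [Matrix.det_of_isUpperTriangular hup]
  apply Finset.prod_eq_one
  intro i _
  rw [utMat_isUT f i i le_rfl, if_pos rfl]

/-- `UT ≃ (strictly upper positions → F)` -/
noncomputable def utEquiv [Finite F] : UT n F ≃ ({p : Fin n × Fin n // p.1 < p.2} → F) where
  toFun g := fun p => ((g : SLn) : Mn) p.1.1 p.1.2
  invFun f := ⟨⟨utMat f, utMat_det f⟩, utMat_isUT f⟩
  left_inv g := by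
    apply Subtype.ext
    apply Subtype.ext
    ext i j
    show utMat (fun p : {p : Fin n × Fin n // p.1 < p.2} => ((g : SLn) : Mn) p.1.1 p.1.2) i j =
      ((g : SLn) : Mn) i j
    unfold utMat
    rw [Matrix.of_apply]
    by_cases h : i < j
    · rw [dif_pos h]
    · rw [dif_neg h]
      exact (g.2 i j (not_lt.1 h)).symm
  right_inv f := by
    funext p
    show utMat f p.1.1 p.1.2 = f p
    unfold utMat
    rw [Matrix.of_apply, dif_pos p.2]

theorem card_upper_positions : Nat.card {p : Fin n × Fin n // p.1 < p.2} = n * (n - 1) / 2 := by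
  have e : {p : Fin n × Fin n // p.1 < p.2} ≃ (Σ j : Fin n, Fin (j : ℕ)) :=
    { toFun := fun p => ⟨p.1.2, ⟨(p.1.1 : ℕ), p.2⟩⟩
      invFun := fun s => ⟨(⟨(s.2 : ℕ), s.2.2.trans s.1.2⟩, s.1), s.2.2⟩
      left_inv := by
        rintro ⟨⟨i, j⟩, h⟩
        rfl
      right_inv := by
        rintro ⟨j, i⟩
        rfl }
  rw [Nat.card_congr e, Nat.card_eq_fintype_card, Fintype.card_sigma]
  simp only [Fintype.card_fin]
  rw [Fin.sum_univ_eq_sum_range (fun i => i) n, Finset.sum_range_id]

theorem card_UT [Fintype F] : Nat.card (UT n F) = Fintype.card F ^ (n * (n - 1) / 2) := by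
  rw [Nat.card_congr utEquiv, Nat.card_fun, card_upper_positions, Nat.card_eq_fintype_card]

/-! ### the image in `PSL_n` is a Sylow subgroup -/

/-- the image of `UT` in `PSL_n` -/
def UTbar (n : ℕ) (F : Type*) [Field F] [Finite F] :
    Subgroup (Matrix.ProjectiveSpecialLinearGroup (Fin n) F) :=
  (UT n F).map (QuotientGroup.mk' (Subgroup.center (Matrix.SpecialLinearGroup (Fin n) F)))

theorem mem_UTbar [Finite F] {x : PSLn} :
    x ∈ UTbar n F ↔ ∃ u : SLn, u ∈ UT n F ∧ (QuotientGroup.mk u : PSLn) = x := by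
  unfold UTbar
  rw [Subgroup.mem_map]
  rfl

theorem mk_injOn_UT [Finite F] (hn : 0 < n) {a b : SLn} (ha : a ∈ UT n F) (hb : b ∈ UT n F)
    (h : (QuotientGroup.mk a : PSLn) = QuotientGroup.mk b) : a = b := by
  obtain ⟨r, hr⟩ := exists_smul_of_mk_eq h
  have h00 := congrFun (congrFun hr ⟨0, hn⟩) ⟨0, hn⟩
  rw [Matrix.smul_apply, hb _ _ le_rfl, ha _ _ le_rfl, if_pos rfl, smul_eq_mul, mul_one] at h00
  apply Subtype.ext
  rw [hr, ← h00, one_smul]

theorem card_UTbar [Fintype F] (hn : 0 < n) :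
    Nat.card (UTbar n F) = Fintype.card F ^ (n * (n - 1) / 2) := by
  rw [← card_UT]
  symm
  apply Nat.card_congr
  refine Equiv.ofBijective
    (fun u : UT n F => (⟨QuotientGroup.mk (u : SLn), mem_UTbar.2 ⟨u, u.2, rfl⟩⟩ : UTbar n F))
    ⟨?_, ?_⟩
  · intro a b hab
    have h1 : (QuotientGroup.mk (a : SLn) : PSLn) = QuotientGroup.mk (b : SLn) :=
      congrArg Subtype.val hab
    exact Subtype.ext (mk_injOn_UT hn a.2 b.2 h1)
  · rintro ⟨x, hx⟩
    obtain ⟨u, hu, rfl⟩ := mem_UTbar.1 hx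
    exact ⟨⟨u, hu⟩, rfl⟩

theorem factorization_card_PSL [Fintype F] {p f : ℕ} [Fact p.Prime]
    (hF : Fintype.card F = p ^ f) (hf : 1 ≤ f) (hn : 0 < n) :
    (Nat.card PSLn).factorization p = f * (n * (n - 1) / 2) := by
  have hp : p.Prime := Fact.out
  have h1 := Cfsg.Agent.Helper5.card_PSL_mul (F := F) hF n hn
  rw [Cfsg.Agent.Helper5.prod_GL_split] at h1
  have hnd := Cfsg.Agent.Helper5.not_dvd_prod_sub_one p f (p ^ f) n hp hf rfl
  have hq2 : 2 ≤ p ^ f := by
    calc 2 ≤ p := hp.two_le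
      _ = p ^ 1 := (pow_one p).symm
      _ ≤ p ^ f := Nat.pow_le_pow_right hp.pos hf
  have hq1 : ¬ p ∣ p ^ f - 1 := by
    intro hd
    have hdvd : p ∣ p ^ f := dvd_pow_self p (by omega)
    have h2 := Nat.dvd_sub hdvd hd
    rw [Nat.sub_sub_self (by omega)] at h2
    exact hp.one_lt.ne' (Nat.dvd_one.1 h2)
  have hg : ¬ p ∣ Nat.gcd n (p ^ f - 1) := fun h => hq1 (h.trans (Nat.gcd_dvd_right _ _))
  have hA0 : Nat.card PSLn ≠ 0 := Nat.card_pos.ne'
  have hg0 : Nat.gcd n (p ^ f - 1) ≠ 0 := by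
    intro h
    exact hg (h ▸ dvd_zero p)
  have hq0 : p ^ f - 1 ≠ 0 := by omega
  have hm0 : ∏ i : Fin n, ((p ^ f) ^ (n - (i : ℕ)) - 1) ≠ 0 := fun h => hnd (h ▸ dvd_zero p)
  have hqq0 : p ^ f ≠ 0 := by omega
  have h2 : (Nat.card PSLn * Nat.gcd n (p ^ f - 1) * (p ^ f - 1)).factorization p =
      ((p ^ f) ^ (n * (n - 1) / 2) *
        ∏ i : Fin n, ((p ^ f) ^ (n - (i : ℕ)) - 1)).factorization p := by rw [h1]
  rw [Nat.factorization_mul (mul_ne_zero hA0 hg0) hq0, Nat.factorization_mul hA0 hg0,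
    Finsupp.add_apply, Finsupp.add_apply, Nat.factorization_eq_zero_of_not_dvd hg,
    Nat.factorization_eq_zero_of_not_dvd hq1, add_zero, add_zero,
    Nat.factorization_mul (pow_ne_zero _ hqq0) hm0, Finsupp.add_apply,
    Nat.factorization_eq_zero_of_not_dvd hnd, add_zero, Nat.factorization_pow,
    Nat.factorization_pow, Finsupp.smul_apply, Finsupp.smul_apply, hp.factorization_self] at h2
  rw [h2]
  simp only [smul_eq_mul, mul_one]
  ring

/-- the unitriangular Sylow subgroup of `PSL_n` -/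
noncomputable def UTsylow [Fintype F] {p f : ℕ} [Fact p.Prime] (hF : Fintype.card F = p ^ f)
    (hf : 1 ≤ f) (hn : 0 < n) : Sylow p PSLn :=
  Sylow.ofCard (UTbar n F) (by
    rw [card_UTbar hn, factorization_card_PSL hF hf hn, hF, ← pow_mul])

theorem coe_UTsylow [Fintype F] {p f : ℕ} [Fact p.Prime] (hF : Fintype.card F = p ^ f)
    (hf : 1 ≤ f) (hn : 0 < n) : ((UTsylow hF hf hn : Sylow p PSLn) : Subgroup PSLn) = UTbar n F :=
  Sylow.coe_ofCard _ _

/-! ### the centre of the unitriangular group -/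

theorem mul_single_one_apply (B : Mn) (i j a c : Fin n) :
    (B * Matrix.single i j (1 : F)) a c = if c = j then B a i else 0 := by
  rw [Matrix.mul_apply]
  simp only [Matrix.single_apply]
  by_cases hcj : c = j
  · simp [hcj]
  · simp [hcj, Ne.symm hcj]

theorem single_one_mul_apply (B : Mn) (i j a c : Fin n) :
    (Matrix.single i j (1 : F) * B) a c = if a = i then B j c else 0 := by
  rw [Matrix.mul_apply]
  simp only [Matrix.single_apply]
  by_cases hai : a = i
  · simp [hai]
  · simp [hai, Ne.symm hai]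

theorem tvm_single_apply (i j : Fin n) (c : F) (a b : Fin n) :
    tvm (Pi.single i (1 : F)) (Pi.single j (1 : F)) c a b =
      (if a = b then 1 else 0) + (if a = i ∧ b = j then c else 0) := by
  rw [tvm_single, Matrix.transvection, Matrix.add_apply, Matrix.one_apply, Matrix.single_apply]
  have hiff : (i = a ∧ j = b) ↔ (a = i ∧ b = j) :=
    ⟨fun h => ⟨h.1.symm, h.2.symm⟩, fun h => ⟨h.1.symm, h.2.symm⟩⟩
  simp only [hiff]

theorem tv_single_mem_UT [Finite F] {i j : Fin n} (hij : i < j) (c : F) :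
    tv (Pi.single i (1 : F)) (Pi.single j (1 : F)) c ∈ UT n F := by
  rw [mem_UT, tv_coe (single_flag (ne_of_lt hij)).2.2]
  intro a b hba
  have hno : ¬ (a = i ∧ b = j) := by
    rintro ⟨rfl, rfl⟩
    exact absurd hij (not_lt.2 hba)
  rw [tvm_single_apply, if_neg hno, add_zero]

theorem tvm_single_eq (i j : Fin n) (c : F) :
    tvm (Pi.single i (1 : F)) (Pi.single j (1 : F)) c = 1 + c • Matrix.single i j (1 : F) := by
  rw [tvm_single, Matrix.transvection, smul_single, smul_eq_mul, mul_one]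

/-- the centre of the image of the unitriangular group is the root group of `(e_{i0}, e_{il})`,
where `i0`, `il` are the least and the greatest index -/
theorem zUT_iff [Finite F] (hn : 0 < n) {i0 il : Fin n} (h0 : ∀ i, i0 ≤ i) (hl : ∀ i, i ≤ il)
    (hne : i0 ≠ il) (x : PSLn) :
    (x ∈ UTbar n F ∧ ∀ y ∈ UTbar n F, x * y = y * x) ↔
      ∃ c : F, x = QuotientGroup.mk (tv (Pi.single i0 (1 : F)) (Pi.single il (1 : F)) c) := by
  have h0l : i0 < il := lt_of_le_of_ne (h0 il) hne
  have hfl := (single_flag (F := F) hne).2.2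
  constructor
  · rintro ⟨hx, hcomm⟩
    obtain ⟨u, hu, rfl⟩ := mem_UTbar.1 hx
    have hE : ∀ i j : Fin n, i < j →
        (u : Mn) * Matrix.single i j (1 : F) = Matrix.single i j (1 : F) * (u : Mn) := by
      intro i j hij
      have hs := tv_single_mem_UT (F := F) hij 1
      have h1 := hcomm _ (mem_UTbar.2 ⟨_, hs, rfl⟩)
      rw [← QuotientGroup.mk_mul, ← QuotientGroup.mk_mul] at h1
      have h2 := mk_injOn_UT hn ((UT n F).mul_mem hu hs) ((UT n F).mul_mem hs hu) h1
      have h3 := congrArg (fun t : SLn => (t : Mn)) h2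
      simp only [Matrix.SpecialLinearGroup.coe_mul] at h3
      rw [tv_coe (single_flag (ne_of_lt hij)).2.2, tvm_single_eq, one_smul, mul_add, add_mul,
        mul_one, one_mul] at h3
      exact add_left_cancel h3
    have hoff : ∀ k l : Fin n, k ≠ l → ¬ (k = i0 ∧ l = il) → (u : Mn) k l = 0 := by
      intro k l hkl hnot
      by_cases hlil : l = il
      · have hk0 : k ≠ i0 := fun h => hnot ⟨h, hlil⟩
        have hlt : i0 < k := lt_of_le_of_ne (h0 k) (Ne.symm hk0)
        have h1 := congrFun (congrFun (hE i0 k hlt) i0) l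
        rw [mul_single_one_apply, single_one_mul_apply, if_neg (Ne.symm hkl), if_pos rfl] at h1
        exact h1.symm
      · have hlt : l < il := lt_of_le_of_ne (hl l) hlil
        have h1 := congrFun (congrFun (hE l il hlt) k) il
        rw [mul_single_one_apply, single_one_mul_apply, if_pos rfl, if_neg hkl] at h1
        exact h1
    refine ⟨(u : Mn) i0 il, ?_⟩
    congr 1
    apply Subtype.ext
    rw [tv_coe hfl]
    ext k l
    rw [tvm_single_apply]
    by_cases hkl : k = l
    · subst hkl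
      have hno : ¬ (k = i0 ∧ k = il) := by
        rintro ⟨h1, h2⟩
        exact hne (h1.symm.trans h2)
      rw [hu k k le_rfl, if_pos rfl, if_neg hno, add_zero]
    · rw [if_neg hkl, zero_add]
      by_cases hkk : k = i0 ∧ l = il
      · rw [if_pos hkk, hkk.1, hkk.2]
      · rw [if_neg hkk]
        exact hoff k l hkl hkk
  · rintro ⟨c, rfl⟩
    have ht := tv_single_mem_UT (F := F) h0l c
    refine ⟨mem_UTbar.2 ⟨_, ht, rfl⟩, ?_⟩
    intro y hy
    obtain ⟨u, hu, rfl⟩ := mem_UTbar.1 hy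
    rw [← QuotientGroup.mk_mul, ← QuotientGroup.mk_mul]
    congr 1
    apply Subtype.ext
    rw [Matrix.SpecialLinearGroup.coe_mul, Matrix.SpecialLinearGroup.coe_mul, tv_coe hfl,
      tvm_single_eq, add_mul, mul_add, one_mul, mul_one, smul_mul_assoc, mul_smul_comm]
    congr 2
    ext a b
    rw [mul_single_one_apply, single_one_mul_apply, hu il b (hl b), hu a i0 (h0 a)]
    by_cases ha : a = i0
    · by_cases hb : b = il
      · rw [if_pos ha, if_pos hb, if_pos hb.symm, if_pos ha]
      · rw [if_pos ha, if_neg hb, if_neg (Ne.symm hb)]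
    · by_cases hb : b = il
      · rw [if_neg ha, if_pos hb, if_neg ha]
      · rw [if_neg ha, if_neg hb]

/-! ### automorphisms preserve transvections -/

open scoped Pointwise

/-- an automorphism maps the standard central root group to a conjugate of it -/
theorem aut_std [Fintype F] {p f : ℕ} [Fact p.Prime] (hF : Fintype.card F = p ^ f) (hf : 1 ≤ f)
    (hn : 0 < n) {i0 il : Fin n} (h0 : ∀ i, i0 ≤ i) (hl : ∀ i, i ≤ il) (hne : i0 ≠ il)
    (α : MulAut PSLn) :
    ∃ k : PSLn, ∀ c : F, ∃ c' : F,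
      α (QuotientGroup.mk (tv (Pi.single i0 (1 : F)) (Pi.single il (1 : F)) c)) =
        k * QuotientGroup.mk (tv (Pi.single i0 (1 : F)) (Pi.single il (1 : F)) c') * k⁻¹ := by
  set P : Sylow p PSLn := UTsylow hF hf hn with hP
  obtain ⟨k, hk⟩ := MulAction.exists_smul_eq PSLn (α • P) P
  set β : MulAut PSLn := MulAut.conj k * α with hβ
  have hβP : β • (UTbar n F) = UTbar n F := by
    have h1 : ((k • (α • P) : Sylow p PSLn) : Subgroup PSLn) = (P : Subgroup PSLn) := by rw [hk]
    rw [Sylow.coe_subgroup_smul, Sylow.pointwise_smul_def, hP, coe_UTsylow] at h1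
    rw [hβ, mul_smul]
    exact h1
  have hmem : ∀ x : PSLn, β x ∈ UTbar n F ↔ x ∈ UTbar n F := by
    intro x
    have h1 := Subgroup.smul_mem_pointwise_smul_iff (a := β) (S := UTbar n F) (x := x)
    rw [hβP] at h1
    exact h1
  refine ⟨k⁻¹, ?_⟩
  intro c
  set x : PSLn := QuotientGroup.mk (tv (Pi.single i0 (1 : F)) (Pi.single il (1 : F)) c) with hx
  have hxc := (zUT_iff hn h0 hl hne x).2 ⟨c, rfl⟩
  have hβx : β x ∈ UTbar n F ∧ ∀ y ∈ UTbar n F, β x * y = y * β x := by
    refine ⟨(hmem x).2 hxc.1, ?_⟩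
    intro y hy
    have hy' : β⁻¹ y ∈ UTbar n F := by
      rw [← hmem, MulAut.apply_inv_self]
      exact hy
    have h1 := hxc.2 _ hy'
    have h2 := congrArg β h1
    rw [map_mul, map_mul, MulAut.apply_inv_self] at h2
    exact h2
  obtain ⟨c', hc'⟩ := (zUT_iff hn h0 hl hne (β x)).1 hβx
  refine ⟨c', ?_⟩
  rw [← hc', hβ, MulAut.mul_apply, MulAut.conj_apply]
  group

/-- every automorphism of `PSL_n(F)`, `n ≥ 3`, maps transvection groups into transvection groups -/
theorem aut_tv [Fintype F] {p f : ℕ} [Fact p.Prime] (hF : Fintype.card F = p ^ f) (hf : 1 ≤ f)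
    (hn : 3 ≤ n) (α : MulAut PSLn) {u φ : Vn} (hfl : IsFlag u φ) :
    ∃ u' φ' : Vn, IsFlag u' φ' ∧ ∀ c : F, ∃ c' : F,
      α (QuotientGroup.mk (tv u φ c)) = QuotientGroup.mk (tv u' φ' c') := by
  have hn0 : 0 < n := by omega
  set i0 : Fin n := ⟨0, hn0⟩ with hi0
  set il : Fin n := ⟨n - 1, by omega⟩ with hil
  have h0 : ∀ i : Fin n, i0 ≤ i := fun i => Fin.mk_le_of_le_val (Nat.zero_le _)
  have hl : ∀ i : Fin n, i ≤ il := fun i => Fin.le_def.2 (by rw [hil]; simp only; omega)
  have hne : i0 ≠ il := by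
    intro h
    have := congrArg Fin.val h
    rw [hi0, hil] at this
    simp only at this
    omega
  have hstd := single_flag (F := F) hne
  obtain ⟨g, a, b, ha, hb, e, f'⟩ := flagConj_all hn hstd hfl
  obtain ⟨k, hk⟩ := aut_std hF hf hn0 h0 hl hne α
  obtain ⟨h, hh⟩ := QuotientGroup.mk_surjective (α (QuotientGroup.mk g) * k)
  have hinv_mul : ((h⁻¹ : SLn) : Mn) * (h : Mn) = 1 := coe_inv_mul_coe h
  refine ⟨(h : Mn) *ᵥ Pi.single i0 (1 : F), Pi.single il (1 : F) ᵥ* ((h⁻¹ : SLn) : Mn), ⟨?_, ?_, ?_⟩, ?_⟩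
  · intro h1
    have h2 : ((h⁻¹ : SLn) : Mn) *ᵥ ((h : Mn) *ᵥ Pi.single i0 (1 : F)) = Pi.single i0 (1 : F) := by
      rw [mulVec_mulVec, hinv_mul, one_mulVec]
    rw [h1, mulVec_zero] at h2
    exact hstd.1 h2.symm
  · intro h1
    have h2 : (Pi.single il (1 : F) ᵥ* ((h⁻¹ : SLn) : Mn)) ᵥ* (h : Mn) = Pi.single il (1 : F) := by
      rw [vecMul_vecMul, hinv_mul, vecMul_one]
    rw [h1, zero_vecMul] at h2
    exact hstd.2.1 h2.symm
  · rw [conj_flag]
    exact hstd.2.2
  · intro c
    obtain ⟨hψv, hconj⟩ := conj_tv_of_flagConj hstd ha hb e f' ((a * b)⁻¹ * c)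
    rw [mul_inv_cancel_left₀ (mul_ne_zero ha hb)] at hconj
    obtain ⟨c', hc'⟩ := hk ((a * b)⁻¹ * c)
    refine ⟨c', ?_⟩
    rw [← hconj, QuotientGroup.mk_mul, QuotientGroup.mk_mul, map_mul, map_mul, hc',
      ← conj_tv h hstd.2.2, QuotientGroup.mk_mul, QuotientGroup.mk_mul, QuotientGroup.mk_inv,
      QuotientGroup.mk_inv, map_inv, hh]
    group

end Cfsg.Agent.Helper13.AutPSLSylow
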