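import Mathlib
import Cfsg.Prelude.Def_ClassicalGeometry

set_option autoImplicit false

namespace Cfsg.Agent.Helper13

open Matrix

section Frob

variable {F : Type*} [Field F] [Fintype F] {q : ℕ}

theorem exists_char_pow (hF : Fintype.card F = q ^ 2) :
    ∃ (p m : ℕ), p.Prime ∧ CharP F p ∧ q = p ^ m := by
  obtain ⟨p, hc, n, hp, hn⟩ := FiniteField.card' F
  have hq : q ∣ p ^ (n : ℕ) := by
    rw [← hn, hF]; exact Dvd.intro_left (q ^ 1) (by ring)
  obtain ⟨m, -, hm⟩ := (Nat.dvd_prime_pow hp).mp hq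
  exact ⟨p, m, hp, hc, hm⟩

theorem frob_add (hF : Fintype.card F = q ^ 2) (a b : F) : (a + b) ^ q = a ^ q + b ^ q := by
  obtain ⟨p, m, hp, hc, rfl⟩ := exists_char_pow hF
  have := Fact.mk hp
  exact add_pow_char_pow a b p m

theorem frob_sum (hF : Fintype.card F = q ^ 2) {ι : Type*} (s : Finset ι) (f : ι → F) :
    (∑ i ∈ s, f i) ^ q = ∑ i ∈ s, f i ^ q := by
  obtain ⟨p, m, hp, hc, rfl⟩ := exists_char_pow hF
  have := Fact.mk hp
  exact sum_pow_char_pow p m s f

theorem frob_frob (hF : Fintype.card F = q ^ 2) (a : F) : (a ^ q) ^ q = a := by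
  rw [← pow_mul, ← sq, ← hF, FiniteField.pow_card]

theorem q_pos (hF : Fintype.card F = q ^ 2) : 0 < q := by
  rcases Nat.eq_zero_or_pos q with h | h
  · subst h
    have : 0 < Fintype.card F := Fintype.card_pos
    rw [hF] at this
    simp at this
  · exact h

end Frob

section Herm

variable {F : Type*} [Field F] {q n : ℕ}

theorem hermForm_add_left (u u' w : Fin n → F) :
    Cfsg.hermForm n F q (u + u') w = Cfsg.hermForm n F q u w + Cfsg.hermForm n F q u' w := by
  unfold Cfsg.hermForm
  rw [← Finset.sum_add_distrib]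
  apply Finset.sum_congr rfl
  intro i _
  simp only [Pi.add_apply]; ring

theorem hermForm_smul_left (a : F) (u w : Fin n → F) :
    Cfsg.hermForm n F q (a • u) w = a * Cfsg.hermForm n F q u w := by
  unfold Cfsg.hermForm
  rw [Finset.mul_sum]
  apply Finset.sum_congr rfl
  intro i _
  simp only [Pi.smul_apply, smul_eq_mul]; ring

theorem hermForm_smul_right (a : F) (u w : Fin n → F) :
    Cfsg.hermForm n F q u (a • w) = a ^ q * Cfsg.hermForm n F q u w := by
  unfold Cfsg.hermForm
  rw [Finset.mul_sum]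
  apply Finset.sum_congr rfl
  intro i _
  simp only [Pi.smul_apply, smul_eq_mul, mul_pow]; ring

variable [Fintype F]

theorem hermForm_add_right (hF : Fintype.card F = q ^ 2) (u w w' : Fin n → F) :
    Cfsg.hermForm n F q u (w + w') = Cfsg.hermForm n F q u w + Cfsg.hermForm n F q u w' := by
  unfold Cfsg.hermForm
  rw [← Finset.sum_add_distrib]
  apply Finset.sum_congr rfl
  intro i _
  simp only [Pi.add_apply, frob_add hF]; ring

theorem hermForm_conj (hF : Fintype.card F = q ^ 2) (u w : Fin n → F) :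
    (Cfsg.hermForm n F q u w) ^ q = Cfsg.hermForm n F q w u := by
  unfold Cfsg.hermForm
  rw [frob_sum hF]
  apply Finset.sum_congr rfl
  intro i _
  rw [mul_pow, frob_frob hF, mul_comm]

omit [Fintype F] in
theorem unitaryTransvection_mulVec (v : Fin n → F) (c : F) (x : Fin n → F) :
    (Cfsg.unitaryTransvection n q v c) *ᵥ x = x + (c * Cfsg.hermForm n F q x v) • v := by
  unfold Cfsg.unitaryTransvection
  rw [Matrix.add_mulVec, Matrix.one_mulVec, Matrix.smul_mulVec, Matrix.vecMulVec_mulVec,
    op_smul_eq_smul, smul_smul]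
  congr 3
  unfold Cfsg.hermForm dotProduct
  apply Finset.sum_congr rfl
  intro i _
  ring

end Herm

end Cfsg.Agent.Helper13
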