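import Mathlib

set_option autoImplicit false

namespace Cfsg.Agent.Helper13

section

variable {F : Type*} [Field F]

/-- Hilbert 90 for an involution of a field. -/
theorem hilbert90_involution (σ : F →+* F) (hσ : σ ≠ RingHom.id F) (hσ2 : ∀ a : F, σ (σ a) = a)
    (a : F) (ha : a * σ a = 1) : ∃ b : F, b ≠ 0 ∧ a * σ b = b := by
  have hform : ∀ c : F, a * σ (c + a * σ c) = c + a * σ c := by
    intro c
    rw [map_add, map_mul, hσ2]
    linear_combination c * ha
  by_cases h1 : 1 + a * σ 1 = 0
  · -- a = -1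
    obtain ⟨c, hc⟩ : ∃ c, σ c ≠ c := by
      by_contra hcon
      push Not at hcon
      exact hσ (RingHom.ext hcon)
    refine ⟨c + a * σ c, ?_, hform c⟩
    rw [map_one, mul_one] at h1
    have ha' : a = -1 := by linear_combination h1
    rw [ha']
    intro h0
    apply hc
    linear_combination -h0
  · exact ⟨1 + a * σ 1, h1, hform 1⟩

variable [Finite F]

/-- the norm `a ↦ a σ(a)` of an involution of a finite field is onto the fixed field. -/
theorem norm_surj_involution (σ : F →+* F) (hσ : σ ≠ RingHom.id F) (hσ2 : ∀ a : F, σ (σ a) = a)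
    (c : F) (hc : c ≠ 0) (hσc : σ c = c) : ∃ a : F, a * σ a = c := by
  classical
  set σ' : Fˣ →* Fˣ := Units.map (σ : F →* F) with hσ'
  have hσ'val : ∀ u : Fˣ, ((σ' u : Fˣ) : F) = σ (u : F) := fun u => rfl
  set N : Fˣ →* Fˣ := MonoidHom.id Fˣ * σ' with hN
  set ψ : Fˣ →* Fˣ := MonoidHom.id Fˣ / σ' with hψ
  have hNval : ∀ u : Fˣ, ((N u : Fˣ) : F) = (u : F) * σ (u : F) := by
    intro u
    rw [hN, MonoidHom.mul_apply, MonoidHom.id_apply, Units.val_mul, hσ'val]
  have hψval : ∀ u : Fˣ, ((ψ u : Fˣ) : F) = (u : F) / σ (u : F) := by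
    intro u
    rw [hψ, MonoidHom.div_apply, MonoidHom.id_apply, Units.val_div_eq_div_val, hσ'val]
  -- fixed units
  set G₀ : Subgroup Fˣ := ψ.ker with hG₀
  have hG₀mem : ∀ u : Fˣ, u ∈ G₀ ↔ σ (u : F) = (u : F) := by
    intro u
    rw [hG₀, MonoidHom.mem_ker]
    constructor
    · intro h
      have := congrArg Units.val h
      rw [hψval, Units.val_one, div_eq_one_iff_eq] at this
      · exact this.symm
      · rw [← hσ'val]; exact Units.ne_zero _
    · intro h
      apply Units.ext
      rw [hψval, Units.val_one, h, div_self (Units.ne_zero u)]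
  -- ker N = range ψ
  have hker : N.ker = ψ.range := by
    ext u
    rw [MonoidHom.mem_ker, MonoidHom.mem_range]
    constructor
    · intro h
      have h1 : (u : F) * σ (u : F) = 1 := by
        rw [← hNval, h, Units.val_one]
      obtain ⟨b, hb0, hb⟩ := hilbert90_involution σ hσ hσ2 (u : F) h1
      refine ⟨Units.mk0 b hb0, ?_⟩
      apply Units.ext
      rw [hψval, Units.val_mk0]
      have hσb : σ b ≠ 0 := by
        intro h0
        rw [h0, mul_zero] at hb
        exact hb0 hb.symm
      rw [div_eq_iff hσb]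
      exact hb.symm
    · rintro ⟨b, rfl⟩
      apply Units.ext
      rw [hNval, hψval, Units.val_one, map_div₀, hσ2]
      have h1 : (b : F) ≠ 0 := Units.ne_zero b
      have h2 : σ (b : F) ≠ 0 := by rw [← hσ'val]; exact Units.ne_zero _
      field_simp
  -- cardinalities
  have c1 : Nat.card N.ker * Nat.card N.range = Nat.card Fˣ := by
    rw [← Subgroup.index_ker]; exact Subgroup.card_mul_index _
  have c2 : Nat.card ψ.ker * Nat.card ψ.range = Nat.card Fˣ := by
    rw [← Subgroup.index_ker]; exact Subgroup.card_mul_index _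
  rw [hker] at c1
  have hpos : 0 < Nat.card ψ.range := Nat.card_pos
  have c3 : Nat.card N.range = Nat.card G₀ := by
    have : Nat.card ψ.range * Nat.card N.range = Nat.card ψ.range * Nat.card ψ.ker := by
      rw [c1, mul_comm, c2]
    exact Nat.eq_of_mul_eq_mul_left hpos this
  have hle : N.range ≤ G₀ := by
    rintro _ ⟨u, rfl⟩
    rw [hG₀mem, hNval, map_mul, hσ2, mul_comm]
  have heq : N.range = G₀ := Subgroup.eq_of_le_of_card_ge hle (le_of_eq c3.symm)
  have hcmem : Units.mk0 c hc ∈ N.range := by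
    rw [heq, hG₀mem, Units.val_mk0]; exact hσc
  obtain ⟨u, hu⟩ := hcmem
  refine ⟨(u : F), ?_⟩
  rw [← hNval, hu, Units.val_mk0]

end

end Cfsg.Agent.Helper13
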