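import Mathlib

set_option autoImplicit false

namespace Cfsg.Agent.Helper13

universe uV

section

variable {F : Type*} [Field F] {σ : F →+* F}

section oneV

variable {V : Type*} [AddCommGroup V] [Module F V] (B : V →ₛₗ[σ] V →ₗ[F] F)

/-- the hyperplane of vectors `w` with `B x w = 0` -/
def perpOf (x : V) : Submodule F V := LinearMap.ker (B x)

theorem mem_perpOf (x w : V) : w ∈ perpOf B x ↔ B x w = 0 := LinearMap.mem_ker

variable {B}

theorem IsSymm_zero_iff (hS : B.IsSymm) (x y : V) : B x y = 0 ↔ B y x = 0 := hS.eq_iff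

theorem sub_smul_mem_perpOf {x : V} (hx : B x x ≠ 0) (y : V) :
    y - ((B x x)⁻¹ * B x y) • x ∈ perpOf B x := by
  rw [mem_perpOf, map_sub, map_smul, smul_eq_mul, mul_comm (B x x)⁻¹, mul_assoc,
    inv_mul_cancel₀ hx, mul_one, sub_self]

theorem finrank_perpOf [FiniteDimensional F V] {x : V} (hx : B x x ≠ 0) :
    Module.finrank F (perpOf B x) + 1 = Module.finrank F V := by
  have hsurj : Function.Surjective (B x) := by
    intro a
    refine ⟨(a * (B x x)⁻¹) • x, ?_⟩
    rw [map_smul, smul_eq_mul, mul_assoc, inv_mul_cancel₀ hx, mul_one]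
  have h1 := LinearMap.finrank_range_add_finrank_ker (B x)
  rw [LinearMap.range_eq_top.mpr hsurj, finrank_top, Module.finrank_self] at h1
  unfold perpOf
  omega

theorem restrict_perpOf_nondegenerate (hS : B.IsSymm) (hB : B.Nondegenerate) {x : V}
    (hx : B x x ≠ 0) :
    (B.domRestrict₁₂ (perpOf B x) (perpOf B x)).Nondegenerate := by
  have key : ∀ w : perpOf B x, (∀ w' : perpOf B x, B w w' = 0) → w = 0 := by
    intro w hw
    apply Subtype.ext
    apply hB.1
    intro y
    have hy := sub_smul_mem_perpOf hx y
    have e : y = (y - ((B x x)⁻¹ * B x y) • x) + ((B x x)⁻¹ * B x y) • x := by abel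
    rw [e, map_add, map_smul]
    have h1 := hw ⟨_, hy⟩
    simp only at h1
    rw [h1, zero_add, (IsSymm_zero_iff hS _ _).mp ((mem_perpOf B x w).mp w.2), smul_zero]
  constructor
  · intro w hw
    exact key w (fun w' => hw w')
  · intro w hw
    apply key w
    intro w'
    have := hw w'
    rw [LinearMap.domRestrict₁₂_apply] at this
    exact (IsSymm_zero_iff hS _ _).mp this

end oneV

/-- Generic Gram–Schmidt style induction: if every non-degenerate symmetric `σ`-sesquilinear form on
a space of dimension `≥ 2` represents `1`, and on lines represents a `good` value, then there is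
an orthogonal spanning family with all values `1` except the last which is `good`. -/
theorem exists_ortho_family (good : F → Prop)
    (base : ∀ {V : Type uV} [AddCommGroup V] [Module F V] [FiniteDimensional F V]
      (B : V →ₛₗ[σ] V →ₗ[F] F), B.IsSymm → B.Nondegenerate → Module.finrank F V = 1 →
      ∃ v : V, v ≠ 0 ∧ good (B v v))
    (step : ∀ {V : Type uV} [AddCommGroup V] [Module F V] [FiniteDimensional F V]
      (B : V →ₛₗ[σ] V →ₗ[F] F), B.IsSymm → B.Nondegenerate → 2 ≤ Module.finrank F V →
      ∃ v : V, B v v = 1)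
    (n : ℕ) : ∀ {V : Type uV} [AddCommGroup V] [Module F V] [FiniteDimensional F V]
      (B : V →ₛₗ[σ] V →ₗ[F] F), B.IsSymm → B.Nondegenerate → Module.finrank F V = n + 1 →
      ∃ v : Fin (n + 1) → V, (∀ i j, i ≠ j → B (v i) (v j) = 0) ∧
        (∀ i, i ≠ Fin.last n → B (v i) (v i) = 1) ∧ good (B (v (Fin.last n)) (v (Fin.last n))) ∧
        ⊤ ≤ Submodule.span F (Set.range v) := by
  induction n with
  | zero =>
    intro V _ _ _ B hS hB hn
    obtain ⟨v, hv0, hv⟩ := base B hS hB hn
    refine ⟨fun _ => v, ?_, ?_, hv, ?_⟩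
    · intro i j hij
      exact absurd (Fin.ext (by omega)) hij
    · intro i hi
      exact absurd (Fin.ext (by simp)) hi
    · have := (finrank_eq_one_iff_of_nonzero v hv0).mp hn
      rw [← this]
      apply Submodule.span_mono
      rintro _ rfl
      exact ⟨0, rfl⟩
  | succ n ih =>
    intro V _ _ _ B hS hB hn
    obtain ⟨x, hx1⟩ := step B hS hB (by omega)
    have hx : B x x ≠ 0 := by rw [hx1]; exact one_ne_zero
    have hrank : Module.finrank F (perpOf B x) = n + 1 := by
      have := finrank_perpOf hx
      omega
    obtain ⟨v', h1, h2, h3, h4⟩ := ih (B.domRestrict₁₂ (perpOf B x) (perpOf B x))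
      (hS.domRestrict _) (restrict_perpOf_nondegenerate hS hB hx) hrank
    have hxv : ∀ w : perpOf B x, B x w = 0 := fun w => (mem_perpOf B x w).mp w.2
    have hvx : ∀ w : perpOf B x, B w x = 0 := fun w => (IsSymm_zero_iff hS _ _).mp (hxv w)
    refine ⟨Fin.cons x (fun i => (v' i : V)), ?_, ?_, ?_, ?_⟩
    · intro i j
      refine Fin.cases ?_ (fun i => ?_) i <;> refine Fin.cases ?_ (fun j => ?_) j
      · intro h; exact absurd rfl h
      · intro _; simp only [Fin.cons_zero, Fin.cons_succ]; exact hxv _
      · intro _; simp only [Fin.cons_zero, Fin.cons_succ]; exact hvx _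
      · intro hij
        simp only [Fin.cons_succ]
        exact h1 i j (fun e => hij (by rw [e]))
    · intro i
      refine Fin.cases ?_ (fun i => ?_) i
      · intro _; simp only [Fin.cons_zero]; exact hx1
      · intro hi
        simp only [Fin.cons_succ]
        apply h2 i
        intro e
        apply hi
        rw [e]; rfl
    · have : Fin.last (n + 1) = Fin.succ (Fin.last n) := rfl
      rw [this]
      simp only [Fin.cons_succ]
      exact h3
    · set S := Submodule.span F (Set.range (Fin.cons x (fun i => (v' i : V)) : Fin (n + 2) → V))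
      have hxS : x ∈ S := Submodule.subset_span ⟨0, by simp⟩
      have hWS : ∀ w : perpOf B x, (w : V) ∈ S := by
        intro w
        have hw : w ∈ Submodule.span F (Set.range v') := h4 Submodule.mem_top
        have := Submodule.apply_mem_span_image_of_mem_span (perpOf B x).subtype hw
        rw [Submodule.subtype_apply] at this
        refine Submodule.span_mono ?_ this
        rintro _ ⟨_, ⟨i, rfl⟩, rfl⟩
        exact ⟨i.succ, by simp⟩
      intro y _
      have hy := sub_smul_mem_perpOf hx y
      have e : y = (y - ((B x x)⁻¹ * B x y) • x) + ((B x x)⁻¹ * B x y) • x := by abel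
      rw [e]
      exact S.add_mem (hWS ⟨_, hy⟩) (S.smul_mem _ hxS)

end

end Cfsg.Agent.Helper13
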