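import Mathlib
import Cfsg.Agent.Lib.Helper13.OrthoSplit
import Cfsg.Agent.Lib.Helper13.NormSurj
import Cfsg.Agent.S0755

set_option autoImplicit false

namespace Cfsg.Agent.Helper13

open Module Submodule Matrix

section Trace

variable {F : Type*} [Field F]

/-- the trace `a ↦ a + σ a` of an involution is onto the fixed field -/
theorem trace_surj_involution (σ : F →+* F) (hσ : σ ≠ RingHom.id F) (hσ2 : ∀ a : F, σ (σ a) = a)
    (s : F) (hs : σ s = s) : ∃ a : F, a + σ a = s := by
  have hz : ∃ z : F, z + σ z ≠ 0 := by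
    by_cases h2 : (2 : F) = 0
    · obtain ⟨c, hc⟩ : ∃ c, σ c ≠ c := by
        by_contra hcon
        push Not at hcon
        exact hσ (RingHom.ext hcon)
      refine ⟨c, ?_⟩
      intro h0
      apply hc
      have : σ c = -c := by linear_combination h0
      rw [this]
      have h3 : c + c = 0 := by linear_combination c * h2
      linear_combination -h3
    · refine ⟨1, ?_⟩
      rw [map_one]
      intro h
      apply h2
      linear_combination h
  obtain ⟨z, hz⟩ := hz
  have hw : σ (z + σ z) = z + σ z := by rw [map_add, hσ2, add_comm]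
  refine ⟨s * z / (z + σ z), ?_⟩
  rw [map_div₀, map_mul, hs, hw]
  field_simp

end Trace

section Riesz

universe u v

variable {F : Type u} {V : Type v} [Field F] [Finite F] [AddCommGroup V] [Module F V]
  [FiniteDimensional F V] (σ : F →+* F) (hσ : σ ≠ RingHom.id F) (hσ2 : ∀ a : F, σ (σ a) = a)
  (B : V →ₛₗ[σ] V →ₗ[F] F) (hS : B.IsSymm) (hB : B.Nondegenerate)

include hσ hσ2 hS hB

/-- every linear functional is represented by a vector -/
theorem herm_riesz (f : V →ₗ[F] F) : ∃ y : V, ∀ x, B y x = f x := by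
  classical
  obtain ⟨e, he⟩ := Cfsg.Agent.S0755.main σ hσ hσ2 B hS hB
  refine ⟨∑ i, σ (f (e i)) • e i, ?_⟩
  have : B (∑ i, σ (f (e i)) • e i) = f := by
    apply e.ext
    intro j
    rw [map_sum, LinearMap.sum_apply]
    simp only [LinearMap.map_smulₛₗ, LinearMap.smul_apply, smul_eq_mul, hσ2, he]
    simp
  intro x
  rw [this]

/-- separation of a vector from a subspace -/
theorem herm_sep (U : Submodule F V) (r : V) (hr : r ∉ U) :
    ∃ y : V, (∀ u ∈ U, B u y = 0) ∧ B r y = 1 := by
  obtain ⟨f, hfr, hfU⟩ := Submodule.exists_le_ker_of_notMem hr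
  obtain ⟨y₀, hy₀⟩ := herm_riesz σ hσ hσ2 B hS hB f
  have hsw : ∀ x, B x y₀ = σ (f x) := by
    intro x
    rw [← hy₀ x]
    exact (hS.eq y₀ x).symm
  have hc : σ (f r) ≠ 0 := by
    intro h
    apply hfr
    have := congrArg σ h
    rwa [hσ2, map_zero] at this
  refine ⟨(σ (f r))⁻¹ • y₀, ?_, ?_⟩
  · intro u hu
    rw [map_smul, hsw, LinearMap.mem_ker.mp (hfU hu), map_zero, smul_zero]
  · rw [map_smul, hsw, smul_eq_mul, inv_mul_cancel₀ hc]

end Riesz

section Witt

universe u v

variable {F : Type u} {V : Type v} [Field F] [Finite F] [AddCommGroup V] [Module F V]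
  [FiniteDimensional F V] (σ : F →+* F) (hσ : σ ≠ RingHom.id F) (hσ2 : ∀ a : F, σ (σ a) = a)
  (B : V →ₛₗ[σ] V →ₗ[F] F) (hS : B.IsSymm) (hB : B.Nondegenerate)

omit [Finite F] [FiniteDimensional F V] in
include hS in
theorem herm_perp_span {k : ℕ} (x : Fin k → V) (r : V) (h : ∀ a, B (x a) r = 0) :
    ∀ u ∈ span F (Set.range x), B r u = 0 := by
  intro u hu
  have hle : span F (Set.range x) ≤ LinearMap.ker (B r) := by
    rw [Submodule.span_le]
    rintro _ ⟨a, rfl⟩
    rw [SetLike.mem_coe, LinearMap.mem_ker, ← hS.eq (x a) r, h a, map_zero]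
  exact LinearMap.mem_ker.mp (hle hu)

include hσ hσ2 hS hB

theorem herm_prescribe {k : ℕ} (x : Fin k → V) (hx : LinearIndependent F x) (t : Fin k → F) :
    ∃ v : V, ∀ a, B (x a) v = t a := by
  obtain ⟨g, hg⟩ := LinearMap.exists_extend ((Basis.span hx).constr F (fun a => σ (t a)))
  obtain ⟨v, hv⟩ := herm_riesz σ hσ hσ2 B hS hB g
  refine ⟨v, fun a => ?_⟩
  rw [← hS.eq v (x a), hv]
  have h1 : g (x a) = ((Basis.span hx).constr F (fun a => σ (t a))) ((Basis.span hx) a) := by
    rw [← hg]
    simp [Basis.span_apply]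
  rw [h1, Basis.constr_basis, hσ2]

theorem herm_deg_extend {k : ℕ} (x y : Fin k → V) (hx : LinearIndependent F x)
    (hy : LinearIndependent F y) (hG : ∀ a b, B (x a) (x b) = B (y a) (y b))
    (hdet : (Matrix.of fun a b => B (x a) (x b)).det = 0) :
    ∃ v v' : V, v ∉ span F (Set.range x) ∧ v' ∉ span F (Set.range y) ∧
      (∀ a, B (x a) v = B (y a) v') ∧ B v v = B v' v' := by
  classical
  obtain ⟨c, hc0, hc⟩ := Matrix.exists_mulVec_eq_zero_iff.mpr hdet
  have hcx : ∀ a, B (x a) (∑ b, c b • x b) = 0 := by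
    intro a
    have := congrFun hc a
    simp only [Matrix.mulVec, dotProduct, Matrix.of_apply, Pi.zero_apply] at this
    rw [map_sum]
    simp only [map_smul, smul_eq_mul]
    rw [← this]
    exact Finset.sum_congr rfl (fun b _ => mul_comm _ _)
  have hcy : ∀ a, B (y a) (∑ b, c b • y b) = 0 := by
    intro a
    have := congrFun hc a
    simp only [Matrix.mulVec, dotProduct, Matrix.of_apply, Pi.zero_apply] at this
    rw [map_sum]
    simp only [map_smul, smul_eq_mul]
    rw [← this]
    exact Finset.sum_congr rfl (fun b _ => by rw [hG, mul_comm])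
  obtain ⟨b₀, hb₀⟩ := Function.ne_iff.mp hc0
  have hb₀' : σ (c b₀) ≠ 0 := (map_ne_zero σ).mpr hb₀
  have ht : ∑ b, σ (c b) * (Pi.single b₀ (σ (c b₀))⁻¹ : Fin k → F) b = 1 := by
    rw [Finset.sum_eq_single b₀]
    · rw [Pi.single_eq_same, mul_inv_cancel₀ hb₀']
    · intro b _ hb
      rw [Pi.single_eq_of_ne hb, mul_zero]
    · intro h
      exact absurd (Finset.mem_univ _) h
  obtain ⟨v, hv⟩ := herm_prescribe σ hσ hσ2 B hS hB x hx (Pi.single b₀ (σ (c b₀))⁻¹)
  obtain ⟨v₀, hv₀⟩ := herm_prescribe σ hσ hσ2 B hS hB y hy (Pi.single b₀ (σ (c b₀))⁻¹)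
  have hrv : B (∑ b, c b • x b) v = 1 := by
    simp only [map_sum, LinearMap.sum_apply, LinearMap.map_smulₛₗ, LinearMap.smul_apply,
      smul_eq_mul, hv]
    exact ht
  have hrv' : B (∑ b, c b • y b) v₀ = 1 := by
    simp only [map_sum, LinearMap.sum_apply, LinearMap.map_smulₛₗ, LinearMap.smul_apply,
      smul_eq_mul, hv₀]
    exact ht
  have hr'mem : (∑ b, c b • y b) ∈ span F (Set.range y) :=
    Submodule.sum_mem _ (fun b _ => Submodule.smul_mem _ _ (Submodule.subset_span ⟨b, rfl⟩))
  have hr'r' : B (∑ b, c b • y b) (∑ b, c b • y b) = 0 :=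
    herm_perp_span σ B hS y _ hcy _ hr'mem
  obtain ⟨α, hα⟩ := trace_surj_involution σ hσ hσ2 (B v v - B v₀ v₀)
    (by rw [map_sub, hS.eq, hS.eq])
  refine ⟨v, v₀ + α • (∑ b, c b • y b), ?_, ?_, ?_, ?_⟩
  · intro hmem
    have := herm_perp_span σ B hS x _ hcx v hmem
    rw [hrv] at this
    exact one_ne_zero this
  · intro hmem
    have := herm_perp_span σ B hS y _ hcy _ hmem
    rw [map_add, map_smul, hrv', hr'r', smul_zero, add_zero] at this
    exact one_ne_zero this
  · intro a
    rw [map_add, map_smul, hcy a, smul_zero, add_zero, hv, hv₀]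
  · have h1 : B v₀ (∑ b, c b • y b) = 1 := by rw [← hS.eq _ v₀, hrv', map_one]
    simp only [map_add, LinearMap.add_apply, map_smul, LinearMap.map_smulₛₗ, LinearMap.smul_apply,
      smul_eq_mul, hrv', hr'r', h1]
    linear_combination -hα

theorem herm_nd_unit {k : ℕ} (x : Fin k → V)
    (hdet : (Matrix.of fun a b => B (x a) (x b)).det ≠ 0) (hk : k < finrank F V) :
    ∃ v : V, (∀ a, B (x a) v = 0) ∧ B v v = 1 := by
  classical
  have hmem : ∀ w, w ∈ LinearMap.ker (LinearMap.pi fun a => B (x a)) ↔ ∀ a, B (x a) w = 0 := by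
    intro w
    simp [LinearMap.mem_ker, funext_iff]
  have hnt : Nontrivial (LinearMap.ker (LinearMap.pi fun a => B (x a))) := by
    have : LinearMap.ker (LinearMap.pi fun a => B (x a)) ≠ ⊥ :=
      LinearMap.ker_ne_bot_of_finrank_lt
        (by rw [Module.finrank_fintype_fun_eq_card, Fintype.card_fin]; exact hk)
    exact Submodule.nontrivial_iff_ne_bot.mpr this
  have key : ∀ w : LinearMap.ker (LinearMap.pi fun a => B (x a)),
      (∀ w' : LinearMap.ker (LinearMap.pi fun a => B (x a)), B w w' = 0) → w = 0 := by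
    intro w hw
    apply Subtype.ext
    apply hB.1
    intro z
    have hwx : ∀ a, B (w : V) (x a) = 0 := by
      intro a
      rw [← hS.eq (x a) w, (hmem w).mp w.2 a, map_zero]
    set G : Matrix (Fin k) (Fin k) F := Matrix.of fun a b => B (x a) (x b) with hGdef
    set d : Fin k → F := G⁻¹ *ᵥ (fun b => B (x b) z) with hd
    have hGd : G *ᵥ d = fun b => B (x b) z := by
      rw [hd, Matrix.mulVec_mulVec, Matrix.mul_nonsing_inv G (isUnit_iff_ne_zero.mpr hdet),
        Matrix.one_mulVec]
    have hz : z - ∑ a, d a • x a ∈ LinearMap.ker (LinearMap.pi fun a => B (x a)) := by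
      rw [hmem]
      intro b
      have := congrFun hGd b
      simp only [Matrix.mulVec, dotProduct, hGdef, Matrix.of_apply] at this
      rw [map_sub, map_sum]
      simp only [map_smul, smul_eq_mul]
      rw [← this, sub_eq_zero]
      exact Finset.sum_congr rfl (fun a _ => mul_comm _ _)
    have e : z = (z - ∑ a, d a • x a) + ∑ a, d a • x a := by abel
    rw [e, map_add]
    have h1 := hw ⟨_, hz⟩
    simp only at h1
    rw [h1, zero_add, map_sum]
    simp only [map_smul, hwx, smul_zero, Finset.sum_const_zero]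
  have hnd : (B.domRestrict₁₂ (LinearMap.ker (LinearMap.pi fun a => B (x a)))
      (LinearMap.ker (LinearMap.pi fun a => B (x a)))).Nondegenerate := by
    constructor
    · intro w hw
      exact key w (fun w' => hw w')
    · intro w hw
      apply key w
      intro w'
      have := hw w'
      rw [LinearMap.domRestrict₁₂_apply] at this
      exact (IsSymm_zero_iff hS _ _).mp this
  obtain ⟨v, hv⟩ := Cfsg.Agent.S0755.exists_unit_vector σ hσ hσ2 _ (hS.domRestrict _) hnd
  exact ⟨v, (hmem v).mp v.2, by rw [LinearMap.domRestrict₁₂_apply] at hv; exact hv⟩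

theorem herm_extend_one {k : ℕ} (x y : Fin k → V) (hx : LinearIndependent F x)
    (hy : LinearIndependent F y) (hG : ∀ a b, B (x a) (x b) = B (y a) (y b))
    (hk : k < finrank F V) :
    ∃ v v' : V, v ∉ span F (Set.range x) ∧ v' ∉ span F (Set.range y) ∧
      (∀ a, B (x a) v = B (y a) v') ∧ B v v = B v' v' := by
  by_cases hdet : (Matrix.of fun a b => B (x a) (x b)).det = 0
  · exact herm_deg_extend σ hσ hσ2 B hS hB x y hx hy hG hdet
  · have hdet' : (Matrix.of fun a b => B (y a) (y b)).det ≠ 0 := by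
      have : (Matrix.of fun a b => B (y a) (y b)) = (Matrix.of fun a b => B (x a) (x b)) := by
        ext a b
        simp only [Matrix.of_apply]
        exact (hG a b).symm
      rw [this]
      exact hdet
    obtain ⟨v, hv, hvv⟩ := herm_nd_unit σ hσ hσ2 B hS hB x hdet hk
    obtain ⟨v', hv', hvv'⟩ := herm_nd_unit σ hσ hσ2 B hS hB y hdet' hk
    refine ⟨v, v', ?_, ?_, ?_, ?_⟩
    · intro hmem
      have := herm_perp_span σ B hS x v hv v hmem
      rw [hvv] at this
      exact one_ne_zero this
    · intro hmem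
      have := herm_perp_span σ B hS y v' hv' v' hmem
      rw [hvv'] at this
      exact one_ne_zero this
    · intro a
      rw [hv, hv']
    · rw [hvv, hvv']

theorem witt_family (d : ℕ) : ∀ (k : ℕ) (x y : Fin k → V), k + d = finrank F V →
    LinearIndependent F x → LinearIndependent F y →
    (∀ a b, B (x a) (x b) = B (y a) (y b)) →
    ∃ g : V ≃ₗ[F] V, (∀ u v, B (g u) (g v) = B u v) ∧ ∀ a, g (x a) = y a := by
  induction d with
  | zero =>
    intro k x y hk hx hy hG
    rcases Nat.eq_zero_or_pos k with h0 | hpos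
    · subst h0
      have hV : finrank F V = 0 := by omega
      have hsub : Subsingleton V := Module.finrank_zero_iff.mp hV
      exact ⟨LinearEquiv.refl F V, fun u v => rfl, fun a => Fin.elim0 a⟩
    · have hne : Nonempty (Fin k) := ⟨⟨0, hpos⟩⟩
      have hcard : Fintype.card (Fin k) = finrank F V := by rw [Fintype.card_fin]; omega
      set bx := basisOfLinearIndependentOfCardEqFinrank hx hcard with hbx
      set by' := basisOfLinearIndependentOfCardEqFinrank hy hcard with hby
      have hbxa : ∀ a, bx a = x a := by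
        intro a; rw [hbx, coe_basisOfLinearIndependentOfCardEqFinrank]
      have hbya : ∀ a, by' a = y a := by
        intro a; rw [hby, coe_basisOfLinearIndependentOfCardEqFinrank]
      have hga : ∀ a, (bx.equiv by' (Equiv.refl _)) (x a) = y a := by
        intro a
        rw [← hbxa, Basis.equiv_apply, Equiv.refl_apply, hbya]
      refine ⟨bx.equiv by' (Equiv.refl _), ?_, hga⟩
      have hBB : (B.comp (bx.equiv by' (Equiv.refl _)).toLinearMap).compl₂
          (bx.equiv by' (Equiv.refl _)).toLinearMap = B := by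
        apply LinearMap.ext_basis bx bx
        intro a b
        simp only [LinearMap.compl₂_apply, LinearMap.comp_apply, LinearEquiv.coe_coe]
        rw [hbxa, hbxa, hga, hga, hG]
      intro u v
      have := LinearMap.congr_fun₂ hBB u v
      simpa using this
  | succ d ih =>
    intro k x y hk hx hy hG
    obtain ⟨v, v', hv, hv', hvG, hvv⟩ :=
      herm_extend_one σ hσ hσ2 B hS hB x y hx hy hG (by omega)
    have hx' : LinearIndependent F (Fin.snoc x v : Fin (k + 1) → V) :=
      linearIndependent_finSnoc.mpr ⟨hx, hv⟩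
    have hy' : LinearIndependent F (Fin.snoc y v' : Fin (k + 1) → V) :=
      linearIndependent_finSnoc.mpr ⟨hy, hv'⟩
    have hG' : ∀ a b, B ((Fin.snoc x v : Fin (k + 1) → V) a) ((Fin.snoc x v : Fin (k + 1) → V) b)
        = B ((Fin.snoc y v' : Fin (k + 1) → V) a) ((Fin.snoc y v' : Fin (k + 1) → V) b) := by
      intro a b
      refine Fin.lastCases ?_ (fun a => ?_) a <;> refine Fin.lastCases ?_ (fun b => ?_) b
      · simp only [Fin.snoc_last]; exact hvv
      · simp only [Fin.snoc_last, Fin.snoc_castSucc]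
        rw [← hS.eq (x b) v, ← hS.eq (y b) v', hvG]
      · simp only [Fin.snoc_last, Fin.snoc_castSucc]; exact hvG a
      · simp only [Fin.snoc_castSucc]; exact hG a b
    obtain ⟨g, hg, hga⟩ := ih (k + 1) _ _ (by omega) hx' hy' hG'
    refine ⟨g, hg, fun a => ?_⟩
    have := hga (Fin.castSucc a)
    simpa only [Fin.snoc_castSucc] using this

end Witt

end Cfsg.Agent.Helper13
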