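import Mathlib
import Cfsg.Prelude.Def_LieClassical
import Cfsg.Agent.Lib.Helper13.Herm
import Cfsg.Agent.Lib.Helper13.HermWitt
import Cfsg.Agent.Lib.Helper19.HermCount

set_option autoImplicit false

namespace Cfsg.Agent.Helper13

open Module Submodule Matrix

section Torus

variable {F V : Type*} [Field F] [AddCommGroup V] [Module F V] {σ : F →+* F}
  (B : V →ₛₗ[σ] V →ₗ[F] F) (hS : B.IsSymm)

include hS in
/-- the hyperbolic torus element `x ↦ c x`, `y ↦ c' y` is an isometry -/
theorem torus_isometry (x y : V) (c c' : F) (hxx : B x x = 0) (hyy : B y y = 0)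
    (hxy : B x y = 1) (hyx : B y x = 1) (h1 : σ c * c' = 1) (h2 : σ c' * c = 1) (u v : V) :
    B (u + ((c - 1) * B y u) • x + ((c' - 1) * B x u) • y)
      (v + ((c - 1) * B y v) • x + ((c' - 1) * B x v) • y) = B u v := by
  have e1 : B u x = σ (B x u) := (hS.eq x u).symm
  have e2 : B u y = σ (B y u) := (hS.eq y u).symm
  simp only [map_add, LinearMap.add_apply, map_smul, LinearMap.map_smulₛₗ, LinearMap.smul_apply,
    smul_eq_mul, map_mul, map_sub, map_one, hxx, hyy, hxy, hyx, e1, e2]
  linear_combination (B y v * σ (B x u)) * h2 + (B x v * σ (B y u)) * h1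


include hS in
/-- an isotropic non-zero vector has an isotropic partner -/
theorem exists_hyp_partner (hσ : σ ≠ RingHom.id F) (hσ2 : ∀ a : F, σ (σ a) = a)
    (hB : B.Nondegenerate) (x : V) (hx : x ≠ 0) (hxx : B x x = 0) :
    ∃ y : V, B x y = 1 ∧ B y y = 0 := by
  obtain ⟨y₁, hy₁⟩ : ∃ y₁, B x y₁ ≠ 0 := by
    by_contra hcon
    push Not at hcon
    exact hx (hB.1 x hcon)
  have h2 : B x ((B x y₁)⁻¹ • y₁) = 1 := by
    rw [map_smul, smul_eq_mul, inv_mul_cancel₀ hy₁]
  generalize (B x y₁)⁻¹ • y₁ = y₂ at h2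
  have h3 : B y₂ x = 1 := by rw [← hS.eq x y₂, h2, map_one]
  obtain ⟨α, hα⟩ := trace_surj_involution σ hσ hσ2 (-(B y₂ y₂)) (by rw [map_neg, hS.eq])
  refine ⟨y₂ + α • x, ?_, ?_⟩
  · rw [map_add, map_smul, hxx, smul_zero, add_zero, h2]
  · simp only [map_add, LinearMap.add_apply, map_smul, LinearMap.map_smulₛₗ, LinearMap.smul_apply,
      smul_eq_mul, hxx, h2, h3]
    linear_combination hα

end Torus

section Std

variable {F : Type*} [Field F] [Fintype F] {q : ℕ}

/-- the `q`-power map as a ring homomorphism -/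
noncomputable def frobQ (hF : Fintype.card F = q ^ 2) : F →+* F where
  toFun x := x ^ q
  map_one' := one_pow q
  map_mul' x y := mul_pow x y q
  map_zero' := zero_pow (q_pos hF).ne'
  map_add' := frob_add hF

@[simp] theorem frobQ_apply (hF : Fintype.card F = q ^ 2) (x : F) : frobQ hF x = x ^ q := rfl

theorem frobQ_frobQ (hF : Fintype.card F = q ^ 2) (a : F) : frobQ hF (frobQ hF a) = a :=
  frob_frob hF a

theorem frobQ_ne_id (hF : Fintype.card F = q ^ 2) : frobQ hF ≠ RingHom.id F := by
  classical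
  intro h
  have hall : ∀ x : F, x ^ q = x := fun x => by
    have := congrArg (fun f : F →+* F => f x) h
    simpa using this
  have h1 := Cfsg.Agent.Helper19.card_hermFixed_le hF
  have h2 : (Finset.univ.filter (fun y : F => y ≠ 0)).card ≤ (Cfsg.Agent.Helper19.hermFixed F q).card := by
    apply Finset.card_le_card
    intro y hy
    rw [Finset.mem_filter] at hy
    rw [Cfsg.Agent.Helper19.mem_hermFixed]
    exact ⟨hy.2, hall y⟩
  have h3 : (Finset.univ.filter (fun y : F => y ≠ 0)).card = q ^ 2 - 1 := by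
    rw [Finset.filter_ne' Finset.univ (0 : F), Finset.card_erase_of_mem (Finset.mem_univ _),
      Finset.card_univ, hF]
  have hq := Cfsg.Agent.Helper19.herm_two_le hF
  have : q ^ 2 - 1 ≤ q - 1 := by omega
  nlinarith [Nat.sub_add_cancel (by nlinarith : 1 ≤ q ^ 2), Nat.sub_add_cancel (by omega : 1 ≤ q)]

/-- the standard Hermitian form as a sesquilinear map (semilinear in the first variable) -/
noncomputable def stdB (hF : Fintype.card F = q ^ 2) (n : ℕ) :
    (Fin n → F) →ₛₗ[frobQ hF] (Fin n → F) →ₗ[F] F :=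
  LinearMap.mk₂'ₛₗ (frobQ hF) (RingHom.id F) (fun u v => Cfsg.hermForm n F q v u)
    (fun u u' v => hermForm_add_right hF v u u')
    (fun c u v => by rw [hermForm_smul_right]; rfl)
    (fun u v v' => hermForm_add_left v v' u)
    (fun c u v => by rw [hermForm_smul_left]; rfl)

@[simp] theorem stdB_apply (hF : Fintype.card F = q ^ 2) (n : ℕ) (u v : Fin n → F) :
    stdB hF n u v = Cfsg.hermForm n F q v u := rfl

theorem stdB_isSymm (hF : Fintype.card F = q ^ 2) (n : ℕ) : (stdB hF n).IsSymm :=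
  ⟨fun u v => by
    rw [stdB_apply, stdB_apply, frobQ_apply, hermForm_conj hF]⟩

omit [Fintype F] in
theorem hermForm_single_left' (n : ℕ) (i : Fin n) (u : Fin n → F) :
    Cfsg.hermForm n F q (Pi.single i 1) u = (u i) ^ q := by
  unfold Cfsg.hermForm
  rw [Finset.sum_eq_single i]
  · simp
  · intro j _ hj
    simp [hj]
  · simp

theorem stdB_nondeg (hF : Fintype.card F = q ^ 2) (n : ℕ) : (stdB hF n).Nondegenerate := by
  have hq := (q_pos hF).ne'
  constructor
  · intro u hu
    funext i
    have h := hu (Pi.single i 1)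
    rw [stdB_apply, hermForm_single_left'] at h
    exact (pow_eq_zero_iff hq).mp h
  · intro v hv
    funext i
    have h := hv (Pi.single i 1)
    rw [stdB_apply, ← hermForm_conj hF, hermForm_single_left'] at h
    exact (pow_eq_zero_iff hq).mp ((pow_eq_zero_iff hq).mp h)


omit [Fintype F] in
/-- a linear isometry gives an element of `GU` -/
theorem exists_GU_of_isometry {n : ℕ} (g : (Fin n → F) ≃ₗ[F] (Fin n → F))
    (hg : ∀ u v, Cfsg.hermForm n F q (g u) (g v) = Cfsg.hermForm n F q u v) :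
    ∃ A : Matrix.GeneralLinearGroup (Fin n) F, A ∈ Cfsg.GU n F q ∧
      ∀ v, (A : Matrix (Fin n) (Fin n) F) *ᵥ v = g v := by
  refine ⟨⟨LinearMap.toMatrix' g.toLinearMap, LinearMap.toMatrix' g.symm.toLinearMap, ?_, ?_⟩, ?_, ?_⟩
  · rw [← LinearMap.toMatrix'_comp, LinearEquiv.comp_coe, LinearEquiv.symm_trans_self,
      LinearEquiv.refl_toLinearMap, LinearMap.toMatrix'_id]
  · rw [← LinearMap.toMatrix'_comp, LinearEquiv.comp_coe, LinearEquiv.self_trans_symm,
      LinearEquiv.refl_toLinearMap, LinearMap.toMatrix'_id]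
  · intro u v
    change Cfsg.hermForm n F q (LinearMap.toMatrix' g.toLinearMap *ᵥ u)
      (LinearMap.toMatrix' g.toLinearMap *ᵥ v) = _
    rw [LinearMap.toMatrix'_mulVec, LinearMap.toMatrix'_mulVec]
    exact hg u v
  · intro v
    change LinearMap.toMatrix' g.toLinearMap *ᵥ v = _
    rw [LinearMap.toMatrix'_mulVec]
    rfl

/-- Witt for families in `F^n` with the standard Hermitian form -/
theorem exists_GU_frame (hF : Fintype.card F = q ^ 2) {n k : ℕ} (x y : Fin k → (Fin n → F))
    (hx : LinearIndependent F x) (hy : LinearIndependent F y)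
    (hG : ∀ a b, Cfsg.hermForm n F q (x a) (x b) = Cfsg.hermForm n F q (y a) (y b)) :
    ∃ A : Matrix.GeneralLinearGroup (Fin n) F, A ∈ Cfsg.GU n F q ∧
      ∀ a, (A : Matrix (Fin n) (Fin n) F) *ᵥ x a = y a := by
  have hk : k ≤ n := by
    have := hx.fintype_card_le_finrank
    simpa using this
  obtain ⟨g, hg, hga⟩ := witt_family (frobQ hF) (frobQ_ne_id hF) (frobQ_frobQ hF) (stdB hF n)
    (stdB_isSymm hF n) (stdB_nondeg hF n) (n - k) k x y (by simp; omega) hx hy
    (fun a b => by rw [stdB_apply, stdB_apply]; exact hG b a)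
  obtain ⟨A, hA, hAv⟩ := exists_GU_of_isometry g (fun u v => by
    have := hg v u
    rw [stdB_apply, stdB_apply] at this
    exact this)
  exact ⟨A, hA, fun a => by rw [hAv, hga]⟩

end Std

end Cfsg.Agent.Helper13
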