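import Mathlib
import Cfsg.Agent.Lib.Helper13.HermStd
import Cfsg.Agent.Lib.Lead.UnitaryGroupCard

set_option autoImplicit false

namespace Cfsg.Agent.Helper13

open Module Submodule Matrix

section Iso

variable {F : Type*} [Field F] [Fintype F] {q : ℕ} (hF : Fintype.card F = q ^ 2) {n k : ℕ}
  (s y : Fin k → (Fin n → F))

/-- the linear map recording the products with the `s a` and the `y a` -/
noncomputable def pairMap : (Fin n → F) →ₗ[F] (Fin k → F) × (Fin k → F) :=
  LinearMap.prod (LinearMap.pi fun a => stdB hF n (s a)) (LinearMap.pi fun a => stdB hF n (y a))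

theorem pairMap_apply (v : Fin n → F) :
    pairMap hF s y v = (fun a => stdB hF n (s a) v, fun a => stdB hF n (y a) v) := rfl

theorem mem_ker_pairMap (v : Fin n → F) :
    v ∈ LinearMap.ker (pairMap hF s y) ↔
      (∀ a, stdB hF n (s a) v = 0) ∧ ∀ a, stdB hF n (y a) v = 0 := by
  rw [LinearMap.mem_ker, pairMap_apply, Prod.mk_eq_zero, funext_iff, funext_iff]
  rfl

variable (hs : ∀ a b, stdB hF n (s a) (s b) = 0)
  (hy : ∀ a b, stdB hF n (s a) (y b) = if a = b then 1 else 0)

include hy in
theorem stdB_y_s (a b : Fin k) : stdB hF n (y b) (s a) = if a = b then 1 else 0 := by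
  rw [← (stdB_isSymm hF n).eq (s a) (y b), hy]
  split_ifs
  · exact map_one _
  · exact map_zero _

include hs hy in
theorem pairMap_comb (α β : Fin k → F) :
    pairMap hF s y (∑ a, α a • s a + ∑ a, β a • y a) =
      (β, fun b => α b + ∑ a, β a * stdB hF n (y b) (y a)) := by
  classical
  rw [pairMap_apply]
  refine Prod.ext ?_ ?_
  · funext b
    simp only [map_add, map_sum, map_smul, smul_eq_mul, hs, mul_zero, Finset.sum_const_zero,
      zero_add, hy]
    simp
  · funext b
    simp only [map_add, map_sum, map_smul, smul_eq_mul, stdB_y_s hF s y hy]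
    simp

include hs hy in
theorem pairMap_surjective : Function.Surjective (pairMap hF s y) := by
  rintro ⟨t, t'⟩
  refine ⟨∑ a, (t' a - ∑ c, t c * stdB hF n (y a) (y c)) • s a + ∑ a, t a • y a, ?_⟩
  rw [pairMap_comb hF s y hs hy]
  refine Prod.ext rfl ?_
  funext b
  simp

include hs hy in
theorem finrank_ker_pairMap : finrank F (LinearMap.ker (pairMap hF s y)) = n - 2 * k := by
  have h1 := LinearMap.finrank_range_add_finrank_ker (pairMap hF s y)
  rw [LinearMap.range_eq_top.mpr (pairMap_surjective hF s y hs hy), finrank_top,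
    Module.finrank_prod, Module.finrank_fintype_fun_eq_card, Fintype.card_fin,
    Module.finrank_fintype_fun_eq_card, Fintype.card_fin] at h1
  omega


include hs hy in
theorem exists_comb (t t' : Fin k → F) : ∃ α β : Fin k → F,
    pairMap hF s y (∑ a, α a • s a + ∑ a, β a • y a) = (t, t') := by
  refine ⟨fun a => t' a - ∑ c, t c * stdB hF n (y a) (y c), t, ?_⟩
  rw [pairMap_comb hF s y hs hy]
  refine Prod.ext rfl ?_
  funext b
  simp

include hs hy in
theorem kerForm_nondeg :
    ((Cfsg.Agent.Lead.stdHerm hF n).restrict (LinearMap.ker (pairMap hF s y))).Nondeg := by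
  intro u hu
  apply Subtype.ext
  apply Cfsg.Agent.Lead.stdHerm_nondeg hF n
  intro w
  obtain ⟨α, β, hαβ⟩ := exists_comb hF s y hs hy (pairMap hF s y w).1 (pairMap hF s y w).2
  have hmem : w - (∑ a, α a • s a + ∑ a, β a • y a) ∈ LinearMap.ker (pairMap hF s y) := by
    rw [LinearMap.mem_ker, map_sub, hαβ, sub_self]
  have h1 := hu ⟨_, hmem⟩
  rw [Cfsg.Agent.Lead.HermForm.restrict_apply, Cfsg.Agent.Lead.stdHerm_apply, ← stdB_apply hF] at h1
  rw [Cfsg.Agent.Lead.stdHerm_apply, ← stdB_apply hF]
  have hu2 := (mem_ker_pairMap hF s y u).mp u.2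
  have h2 : ∀ a, stdB hF n (u : Fin n → F) (s a) = 0 := by
    intro a
    rw [← (stdB_isSymm hF n).eq (s a) u, hu2.1 a, map_zero]
  have h3 : ∀ a, stdB hF n (u : Fin n → F) (y a) = 0 := by
    intro a
    rw [← (stdB_isSymm hF n).eq (y a) u, hu2.2 a, map_zero]
  have h4 : stdB hF n (u : Fin n → F) (∑ a, α a • s a + ∑ a, β a • y a) = 0 := by
    simp only [map_add, map_sum, map_smul, h2, h3, smul_zero, Finset.sum_const_zero, add_zero]
  have e : w = (w - (∑ a, α a • s a + ∑ a, β a • y a)) + (∑ a, α a • s a + ∑ a, β a • y a) := by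
    abel
  rw [e, map_add, h1, h4, add_zero]


theorem stdB_comb_left (c : Fin k → F) (v : Fin n → F) (hv : ∀ a, stdB hF n (s a) v = 0) :
    stdB hF n (∑ a, c a • s a) v = 0 := by
  simp only [map_sum, LinearMap.sum_apply, LinearMap.map_smulₛₗ, LinearMap.smul_apply, hv,
    smul_zero, Finset.sum_const_zero]

theorem stdB_comb_right (c : Fin k → F) (v : Fin n → F) (hv : ∀ a, stdB hF n (s a) v = 0) :
    stdB hF n v (∑ a, c a • s a) = 0 := by
  have h2 : ∀ a, stdB hF n v (s a) = 0 := by
    intro a
    rw [← (stdB_isSymm hF n).eq (s a) v, hv a, map_zero]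
  simp only [map_sum, map_smul, h2, smul_zero, Finset.sum_const_zero]

include hy in
theorem stdB_y_comb (c : Fin k → F) (b : Fin k) :
    stdB hF n (y b) (∑ a, c a • s a) = c b := by
  classical
  simp only [map_sum, map_smul, stdB_y_s hF s y hy, smul_eq_mul]
  simp

include hs in
theorem stdB_s_comb (c : Fin k → F) (b : Fin k) :
    stdB hF n (s b) (∑ a, c a • s a) = 0 := by
  simp only [map_sum, map_smul, hs, smul_zero, Finset.sum_const_zero]

/-- the isotropic vectors orthogonal to the frame, as pairs -/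
noncomputable def isoEquiv :
    {v : Fin n → F // (∀ a, stdB hF n (s a) v = 0) ∧ stdB hF n v v = 0} ≃
      (Fin k → F) × {u : LinearMap.ker (pairMap hF s y) //
        stdB hF n (u : Fin n → F) (u : Fin n → F) = 0} where
  toFun v := (fun a => stdB hF n (y a) v.1,
    ⟨⟨v.1 - ∑ a, stdB hF n (y a) v.1 • s a, by
      rw [mem_ker_pairMap]
      constructor
      · intro b
        rw [map_sub, v.2.1 b, stdB_s_comb hF s hs, sub_zero]
      · intro b
        rw [map_sub, stdB_y_comb hF s y hy, sub_self]⟩, by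
      simp only [map_sub, LinearMap.sub_apply]
      rw [v.2.2, stdB_comb_right hF s _ _ v.2.1, stdB_comb_left hF s _ _ v.2.1,
        stdB_comb_left hF s _ _ (fun b => stdB_s_comb hF s hs _ b)]
      simp⟩)
  invFun p := ⟨∑ a, p.1 a • s a + (p.2.1 : Fin n → F), by
    have hu := (mem_ker_pairMap hF s y p.2.1).mp p.2.1.2
    constructor
    · intro b
      rw [map_add, stdB_s_comb hF s hs, hu.1 b, add_zero]
    · simp only [map_add, LinearMap.add_apply]
      rw [p.2.2, stdB_comb_right hF s _ _ hu.1, stdB_comb_left hF s _ _ hu.1,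
        stdB_comb_left hF s _ _ (fun b => stdB_s_comb hF s hs _ b)]
      simp⟩
  left_inv v := by
    apply Subtype.ext
    simp
  right_inv p := by
    have hu := (mem_ker_pairMap hF s y p.2.1).mp p.2.1.2
    have h1 : ∀ b, stdB hF n (y b) (∑ a, p.1 a • s a + (p.2.1 : Fin n → F)) = p.1 b := by
      intro b
      rw [map_add, stdB_y_comb hF s y hy, hu.2 b, add_zero]
    refine Prod.ext ?_ ?_
    · funext b
      exact h1 b
    · apply Subtype.ext
      apply Subtype.ext
      simp only [h1]
      abel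

end Iso

section Count

variable {F : Type*} [Field F] [Fintype F] {q : ℕ} (hF : Fintype.card F = q ^ 2) {n k : ℕ}

/-- number of isotropic vectors orthogonal to a totally isotropic frame -/
theorem card_iso_perp (s : Fin k → (Fin n → F)) (hsLI : LinearIndependent F s)
    (hs : ∀ a b, stdB hF n (s a) (s b) = 0) :
    Nat.card {v : Fin n → F // (∀ a, stdB hF n (s a) v = 0) ∧ stdB hF n v v = 0} =
      (q ^ 2) ^ k * Cfsg.Agent.Helper19.hermCount F q (n - 2 * k) 0 := by
  classical
  choose y hy using fun b : Fin k => herm_prescribe (frobQ hF) (frobQ_ne_id hF) (frobQ_frobQ hF)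
    (stdB hF n) (stdB_isSymm hF n) (stdB_nondeg hF n) s hsLI (fun a => if a = b then 1 else 0)
  have hy' : ∀ a b, stdB hF n (s a) (y b) = if a = b then 1 else 0 := fun a b => hy b a
  rw [Nat.card_congr (isoEquiv hF s y hs hy'), Nat.card_prod, Nat.card_fun, Nat.card_eq_fintype_card,
    Nat.card_eq_fintype_card, Fintype.card_fin, hF]
  congr 1
  exact Cfsg.Agent.Lead.card_norm hF (n - 2 * k) _
    ((Cfsg.Agent.Lead.stdHerm hF n).restrict (LinearMap.ker (pairMap hF s y)))
    (kerForm_nondeg hF s y hs hy') (finrank_ker_pairMap hF s y hs hy') 0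


/-- Hermitian totally isotropic frames -/
abbrev HFrame (n : ℕ) (F : Type*) [Field F] (q k : ℕ) : Type _ :=
  {s : Fin k → (Fin n → F) // LinearIndependent F s ∧ ∀ i j, Cfsg.hermForm n F q (s i) (s j) = 0}

/-- the vectors that may be added to a frame -/
abbrev HExt {n : ℕ} {F : Type*} [Field F] {q k : ℕ} (s : HFrame n F q k) : Type _ :=
  {v : Fin n → F // v ∉ span F (Set.range s.1) ∧ (∀ i, Cfsg.hermForm n F q v (s.1 i) = 0) ∧
    Cfsg.hermForm n F q v v = 0}

include hF in
theorem cons_hti (s : HFrame n F q k) (v : HExt s) :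
    ∀ i j : Fin (k + 1), Cfsg.hermForm n F q ((Fin.cons v.1 s.1 : Fin (k + 1) → (Fin n → F)) i)
      ((Fin.cons v.1 s.1 : Fin (k + 1) → (Fin n → F)) j) = 0 := by
  have hq := (q_pos hF).ne'
  intro i j
  refine Fin.cases ?_ (fun i' => ?_) i <;> refine Fin.cases ?_ (fun j' => ?_) j
  · simp only [Fin.cons_zero]; exact v.2.2.2
  · simp only [Fin.cons_zero, Fin.cons_succ]
    exact v.2.2.1 j'
  · simp only [Fin.cons_zero, Fin.cons_succ]
    rw [← hermForm_conj hF, v.2.2.1 i', zero_pow hq]
  · simp only [Fin.cons_succ]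
    exact s.2.2 i' j'

/-- a frame of length `k + 1` is a frame of length `k` with an admissible extra vector -/
noncomputable def hframeEquiv (k : ℕ) : HFrame n F q (k + 1) ≃ Σ s : HFrame n F q k, HExt s where
  toFun s := ⟨⟨Fin.tail s.1, (linearIndependent_finSucc.mp s.2.1).1,
      fun i j => s.2.2 i.succ j.succ⟩,
    ⟨s.1 0, (linearIndependent_finSucc.mp s.2.1).2, fun i => s.2.2 0 i.succ, s.2.2 0 0⟩⟩
  invFun x := ⟨Fin.cons x.2.1 x.1.1, linearIndependent_finCons.mpr ⟨x.1.2.1, x.2.2.1⟩,
    cons_hti hF x.1 x.2⟩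
  left_inv s := by
    apply Subtype.ext
    exact Fin.cons_self_tail s.1
  right_inv := by
    rintro ⟨⟨s, hs⟩, ⟨v, hv⟩⟩
    simp only [Fin.cons_zero, Sigma.mk.inj_iff, Fin.tail_cons, true_and]
    rfl

include hF in
theorem card_HExt (s : HFrame n F q k) :
    Nat.card (HExt s) =
      (q ^ 2) ^ k * Cfsg.Agent.Helper19.hermCount F q (n - 2 * k) 0 - (q ^ 2) ^ k := by
  have hs' : ∀ a b, stdB hF n (s.1 a) (s.1 b) = 0 := fun a b => s.2.2 b a
  set U := span F (Set.range s.1) with hU
  have hUk : finrank F U = k := by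
    rw [hU, finrank_span_eq_card s.2.1, Fintype.card_fin]
  have hsub : (U : Set (Fin n → F)) ⊆
      {v : Fin n → F | (∀ a, stdB hF n (s.1 a) v = 0) ∧ stdB hF n v v = 0} := by
    intro v hv
    obtain ⟨c, rfl⟩ := (Submodule.mem_span_range_iff_exists_fun F).mp hv
    constructor
    · intro a
      exact stdB_s_comb hF s.1 hs' c a
    · exact stdB_comb_left hF s.1 c _ (fun a => stdB_s_comb hF s.1 hs' c a)
  have hset : {v : Fin n → F | v ∉ U ∧ (∀ i, Cfsg.hermForm n F q v (s.1 i) = 0) ∧
      Cfsg.hermForm n F q v v = 0} =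
      {v : Fin n → F | (∀ a, stdB hF n (s.1 a) v = 0) ∧ stdB hF n v v = 0} \ (U : Set (Fin n → F)) := by
    ext v
    simp only [Set.mem_ofPred_eq, Set.mem_sdiff, SetLike.mem_coe, stdB_apply]
    tauto
  have h1 : Nat.card (HExt s) = Set.ncard {v : Fin n → F | v ∉ U ∧
      (∀ i, Cfsg.hermForm n F q v (s.1 i) = 0) ∧ Cfsg.hermForm n F q v v = 0} := rfl
  rw [h1, hset, Set.ncard_sdiff hsub (Set.toFinite _), ← Nat.card_coe_set_eq,
    ← Nat.card_coe_set_eq]
  have h2 : Nat.card ↥(U : Set (Fin n → F)) = (q ^ 2) ^ k := by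
    change Nat.card U = _
    rw [Module.natCard_eq_pow_finrank (K := F) (V := U), hUk, Nat.card_eq_fintype_card, hF]
  rw [h2]
  congr 1
  exact card_iso_perp hF s.1 s.2.1 hs'

include hF in
theorem card_HFrame (k : ℕ) : Nat.card (HFrame n F q k) =
    ∏ i ∈ Finset.range k,
      ((q ^ 2) ^ i * Cfsg.Agent.Helper19.hermCount F q (n - 2 * i) 0 - (q ^ 2) ^ i) := by
  induction k with
  | zero =>
    rw [Finset.range_zero, Finset.prod_empty]
    have : Unique (HFrame n F q 0) :=
      { default := ⟨Fin.elim0, linearIndependent_empty_type, fun i => i.elim0⟩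
        uniq := by
          intro s
          apply Subtype.ext
          funext i
          exact i.elim0 }
    exact Nat.card_unique
  | succ k ih =>
    have : Finite (HFrame n F q k) := inferInstance
    have : Fintype (HFrame n F q k) := Fintype.ofFinite _
    rw [Nat.card_congr (hframeEquiv hF k), Nat.card_sigma, Finset.prod_range_succ, ← ih]
    simp only [card_HExt hF]
    rw [Finset.sum_const, Finset.card_univ, smul_eq_mul, ← Nat.card_eq_fintype_card]

end Count

end Cfsg.Agent.Helper13
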