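import Mathlib
import Cfsg.Prelude.Def_ClassicalGeometry

set_option autoImplicit false

namespace Cfsg.Agent.Helper13

open Matrix

theorem det_one_add_vecMulVec {n : Type*} [Fintype n] [DecidableEq n] {R : Type*} [CommRing R]
    (u v : n → R) : det (1 + vecMulVec u v) = 1 + v ⬝ᵥ u := by
  rw [Matrix.vecMulVec_eq (ι := Unit), Matrix.det_one_add_replicateCol_mul_replicateRow]

theorem vecMulVec_mulVec' {n : Type*} [Fintype n] {R : Type*} [CommRing R]
    (u v w : n → R) : vecMulVec u v *ᵥ w = (v ⬝ᵥ w) • u := by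
  rw [Matrix.vecMulVec_mulVec, op_smul_eq_smul]

theorem polarVec_dotProduct {ι : Type} [Fintype ι] [DecidableEq ι] {F : Type*} [CommRing F]
    (Q : QuadraticForm F (ι → F)) (v x : ι → F) :
    Cfsg.polarVec (⇑Q) v ⬝ᵥ x = QuadraticMap.polar (⇑Q) v x := by
  have h := LinearMap.pi_apply_eq_sum_univ (QuadraticMap.polarBilin Q v) x
  simp only [QuadraticMap.polarBilin_apply_apply] at h
  rw [h]
  unfold Cfsg.polarVec dotProduct
  apply Finset.sum_congr rfl
  intro i _
  rw [smul_eq_mul, mul_comm]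
  congr 1
  beta_reduce
  congr 1
  funext j
  simp [Pi.single_apply, eq_comm]

theorem reflectionMatrix_mulVec {ι : Type} [Fintype ι] [DecidableEq ι] {F : Type*} [Field F]
    (Q : QuadraticForm F (ι → F)) (v x : ι → F) :
    (Cfsg.reflectionMatrix (⇑Q) v) *ᵥ x = x - ((Q v)⁻¹ * QuadraticMap.polar (⇑Q) v x) • v := by
  unfold Cfsg.reflectionMatrix
  rw [Matrix.sub_mulVec, Matrix.one_mulVec, Matrix.smul_mulVec, vecMulVec_mulVec',
    polarVec_dotProduct, smul_smul]

theorem siegelMatrix_mulVec {ι : Type} [Fintype ι] [DecidableEq ι] {F : Type*} [CommRing F]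
    (Q : QuadraticForm F (ι → F)) (u v : ι → F) (c : F) (x : ι → F) :
    (Cfsg.siegelMatrix (⇑Q) u v c) *ᵥ x =
      x + (c * QuadraticMap.polar (⇑Q) u x) • v - (c * QuadraticMap.polar (⇑Q) v x) • u := by
  unfold Cfsg.siegelMatrix
  rw [Matrix.add_mulVec, Matrix.one_mulVec, Matrix.smul_mulVec, Matrix.sub_mulVec,
    vecMulVec_mulVec', vecMulVec_mulVec', polarVec_dotProduct, polarVec_dotProduct,
    smul_sub, add_sub_assoc, smul_smul, smul_smul]

end Cfsg.Agent.Helper13
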