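import Mathlib
import Cfsg.Agent.Lib.Helper13.HermStd
import Cfsg.Agent.Lib.Helper13.QuadMat
import Cfsg.Agent.Lib.Helper13.HermFrames
import Cfsg.Agent.S0779

set_option autoImplicit false

namespace Cfsg.Agent.Helper13

open Module Submodule Matrix
open scoped commutatorElement

section Abstract

variable {F V : Type*} [Field F] [AddCommGroup V] [Module F V] {σ : F →+* F}
  (B : V →ₛₗ[σ] V →ₗ[F] F) (hS : B.IsSymm)

include hS in
/-- the Eichler transformation attached to two orthogonal isotropic vectors is an isometry -/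
theorem eichler_isometry (u w : V) (huu : B u u = 0) (hww : B w w = 0) (huw : B u w = 0)
    (hwu : B w u = 0) (x y : V) :
    B (x + B u x • w - B w x • u) (y + B u y • w - B w y • u) = B x y := by
  have e1 : B x u = σ (B u x) := (hS.eq u x).symm
  have e2 : B x w = σ (B w x) := (hS.eq w x).symm
  simp only [map_add, map_sub, LinearMap.add_apply, LinearMap.sub_apply, map_smul,
    LinearMap.map_smulₛₗ, LinearMap.smul_apply, smul_eq_mul, huu, hww, huw, hwu, e1, e2]
  ring

include hS in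
/-- a quasi-reflection along a unit vector with a multiplier of norm one is an isometry -/
theorem quasirefl_isometry (e : V) (μ : F) (hee : B e e = 1) (hμ : σ μ * μ = 1) (x y : V) :
    B (x + ((μ - 1) * B e x) • e) (y + ((μ - 1) * B e y) • e) = B x y := by
  have e1 : B x e = σ (B e x) := (hS.eq e x).symm
  simp only [map_add, LinearMap.add_apply, map_smul, LinearMap.map_smulₛₗ, LinearMap.smul_apply,
    smul_eq_mul, map_mul, map_sub, map_one, hee, e1]
  linear_combination (σ (B e x) * B e y) * hμ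

end Abstract

section Mat

variable {F : Type*} [Field F] {q n : ℕ}

/-- conjugate vector -/
def conjv (q : ℕ) (v : Fin n → F) : Fin n → F := fun i => v i ^ q

theorem conjv_dot (v w : Fin n → F) : conjv q w ⬝ᵥ v = Cfsg.hermForm n F q v w := by
  unfold conjv Cfsg.hermForm dotProduct
  exact Finset.sum_congr rfl (fun i _ => mul_comm _ _)

/-- rank-one perturbation of the identity `v ↦ v + a h(v, w) x` -/
def M1 (q : ℕ) (a : F) (x w : Fin n → F) : Matrix (Fin n) (Fin n) F :=
  1 + Matrix.vecMulVec (a • x) (conjv q w)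

theorem M1_mulVec (a : F) (x w v : Fin n → F) :
    M1 q a x w *ᵥ v = v + (a * Cfsg.hermForm n F q v w) • x := by
  unfold M1
  rw [Matrix.add_mulVec, Matrix.one_mulVec, vecMulVec_mulVec', conjv_dot, smul_smul, mul_comm]

theorem M1_det (a : F) (x w : Fin n → F) :
    (M1 q a x w).det = 1 + a * Cfsg.hermForm n F q x w := by
  unfold M1
  rw [det_one_add_vecMulVec, dotProduct_smul, conjv_dot, smul_eq_mul]

theorem unitaryTransvection_eq_M1 (v : Fin n → F) (c : F) :
    Cfsg.unitaryTransvection n q v c = M1 q c v v := by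
  unfold Cfsg.unitaryTransvection M1 conjv
  rw [Matrix.smul_vecMulVec]

/-- an element of `SU` from a matrix -/
def mkSU (M : Matrix (Fin n) (Fin n) F) (hdet : M.det = 1)
    (hiso : ∀ u v, Cfsg.hermForm n F q (M *ᵥ u) (M *ᵥ v) = Cfsg.hermForm n F q u v) :
    ↥(Cfsg.SU n F q) :=
  ⟨⟨M, hdet⟩, hiso⟩

theorem mkSU_val (M : Matrix (Fin n) (Fin n) F) (hdet : M.det = 1)
    (hiso : ∀ u v, Cfsg.hermForm n F q (M *ᵥ u) (M *ᵥ v) = Cfsg.hermForm n F q u v) :
    (((mkSU M hdet hiso : ↥(Cfsg.SU n F q)) : Matrix.SpecialLinearGroup (Fin n) F) :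
      Matrix (Fin n) (Fin n) F) = M := rfl

theorem mat_ext {M N : Matrix (Fin n) (Fin n) F} (h : ∀ x, M *ᵥ x = N *ᵥ x) : M = N := by
  apply Matrix.toLin'.injective
  apply LinearMap.ext
  intro x
  rw [Matrix.toLin'_apply, Matrix.toLin'_apply]
  exact h x

theorem SU_ext {g h : ↥(Cfsg.SU n F q)}
    (e : ∀ x, ((g : Matrix.SpecialLinearGroup (Fin n) F) : Matrix (Fin n) (Fin n) F) *ᵥ x =
      ((h : Matrix.SpecialLinearGroup (Fin n) F) : Matrix (Fin n) (Fin n) F) *ᵥ x) : g = h :=
  Subtype.ext (Subtype.ext (mat_ext e))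

theorem SU_mul_mulVec (g h : ↥(Cfsg.SU n F q)) (x : Fin n → F) :
    (((g * h : ↥(Cfsg.SU n F q)) : Matrix.SpecialLinearGroup (Fin n) F) :
      Matrix (Fin n) (Fin n) F) *ᵥ x =
    ((g : Matrix.SpecialLinearGroup (Fin n) F) : Matrix (Fin n) (Fin n) F) *ᵥ
      (((h : Matrix.SpecialLinearGroup (Fin n) F) : Matrix (Fin n) (Fin n) F) *ᵥ x) := by
  rw [Subgroup.coe_mul, Matrix.SpecialLinearGroup.coe_mul, Matrix.mulVec_mulVec]

theorem SU_commutator_eq (g₁ g₂ A : ↥(Cfsg.SU n F q))
    (h : ∀ x, ((g₁ : Matrix.SpecialLinearGroup (Fin n) F) : Matrix (Fin n) (Fin n) F) *ᵥ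
        (((g₂ : Matrix.SpecialLinearGroup (Fin n) F) : Matrix (Fin n) (Fin n) F) *ᵥ x) =
      ((A : Matrix.SpecialLinearGroup (Fin n) F) : Matrix (Fin n) (Fin n) F) *ᵥ
        (((g₂ : Matrix.SpecialLinearGroup (Fin n) F) : Matrix (Fin n) (Fin n) F) *ᵥ
          (((g₁ : Matrix.SpecialLinearGroup (Fin n) F) : Matrix (Fin n) (Fin n) F) *ᵥ x))) :
    ⁅g₁, g₂⁆ = A := by
  have key : g₁ * g₂ = A * g₂ * g₁ := by
    apply SU_ext
    intro x
    rw [SU_mul_mulVec, SU_mul_mulVec, SU_mul_mulVec]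
    exact h x
  rw [commutatorElement_def, key]
  group

end Mat

section SUelts

variable {F : Type*} [Field F] [Fintype F] {q n : ℕ} (hF : Fintype.card F = q ^ 2)

/-- a unitary transvection as an element of `SU` -/
noncomputable def tvSU (u : Fin n → F) (a : F) (huu : Cfsg.hermForm n F q u u = 0)
    (ha : a ^ q + a = 0) : ↥(Cfsg.SU n F q) :=
  mkSU (M1 q a u u) (by rw [M1_det, huu, mul_zero, add_zero]) (fun x y => by
    rw [← unitaryTransvection_eq_M1, Cfsg.Agent.S0779.herm_transvection hF n u huu, ha]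
    ring)

theorem tvSU_mulVec (u : Fin n → F) (a : F) (huu : Cfsg.hermForm n F q u u = 0)
    (ha : a ^ q + a = 0) (x : Fin n → F) :
    (((tvSU hF u a huu ha : ↥(Cfsg.SU n F q)) : Matrix.SpecialLinearGroup (Fin n) F) :
      Matrix (Fin n) (Fin n) F) *ᵥ x = x + (a * stdB hF n u x) • u := by
  unfold tvSU
  rw [mkSU_val, M1_mulVec]
  rfl

/-- the Eichler transformation as a matrix -/
def eichlerMat (q : ℕ) (u w : Fin n → F) : Matrix (Fin n) (Fin n) F :=
  M1 q 1 w u * M1 q (-1) u w

theorem eichlerMat_mulVec (u w : Fin n → F) (huu : stdB hF n u u = 0) (x : Fin n → F) :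
    eichlerMat q u w *ᵥ x = x + stdB hF n u x • w - stdB hF n w x • u := by
  unfold eichlerMat
  rw [← Matrix.mulVec_mulVec, M1_mulVec, M1_mulVec, ← stdB_apply hF, ← stdB_apply hF,
    map_add, map_smul, huu, smul_zero, add_zero]
  simp only [neg_mul, one_mul, neg_smul]
  abel

/-- the Eichler transformation as an element of `SU` -/
noncomputable def eichlerSU (u w : Fin n → F) (huu : stdB hF n u u = 0) (hww : stdB hF n w w = 0)
    (huw : stdB hF n u w = 0) : ↥(Cfsg.SU n F q) :=
  have hwu : stdB hF n w u = 0 := by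
    rw [← (stdB_isSymm hF n).eq u w, huw, map_zero]
  mkSU (eichlerMat q u w) (by
    unfold eichlerMat
    rw [Matrix.det_mul, M1_det, M1_det, ← stdB_apply hF, ← stdB_apply hF, huw, hwu]
    ring) (fun x y => by
    rw [eichlerMat_mulVec hF u w huu, eichlerMat_mulVec hF u w huu, ← stdB_apply hF,
      ← stdB_apply hF]
    exact eichler_isometry (stdB hF n) (stdB_isSymm hF n) u w huu hww huw hwu y x)

theorem eichlerSU_mulVec (u w : Fin n → F) (huu : stdB hF n u u = 0) (hww : stdB hF n w w = 0)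
    (huw : stdB hF n u w = 0) (x : Fin n → F) :
    (((eichlerSU hF u w huu hww huw : ↥(Cfsg.SU n F q)) : Matrix.SpecialLinearGroup (Fin n) F) :
      Matrix (Fin n) (Fin n) F) *ᵥ x = x + stdB hF n u x • w - stdB hF n w x • u := by
  unfold eichlerSU
  rw [mkSU_val, eichlerMat_mulVec hF u w huu]

end SUelts

end Cfsg.Agent.Helper13
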