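import Mathlib
import Cfsg.Agent.Lib.Helper13.HermWitt

set_option autoImplicit false

namespace Cfsg.Agent.Helper13

section Scalar

variable {F : Type*} [Field F] (σ : F →+* F) (hσ : σ ≠ RingHom.id F) (hσ2 : ∀ a : F, σ (σ a) = a)

include hσ2 in
/-- a common first hyperbolic coordinate for two independent second coordinates -/
theorem hyp_exists_common (β β' : F) (hD : σ β * β' - σ β' * β ≠ 0) :
    ∃ X : F, σ X * β + σ β * X = 1 ∧ σ X * β' + σ β' * X = 1 := by
  have hσD : σ (σ β * β' - σ β' * β) = -(σ β * β' - σ β' * β) := by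
    rw [map_sub, map_mul, map_mul, hσ2, hσ2]
    ring
  refine ⟨(β' - β) / (σ β * β' - σ β' * β), ?_, ?_⟩
  · rw [map_div₀, hσD, map_sub]
    field_simp
    ring
  · rw [map_div₀, hσD, map_sub]
    field_simp
    ring

include hσ hσ2 in
/-- a first hyperbolic coordinate for a nonzero second coordinate -/
theorem hyp_exists_coord (ε : F) (hε : ε ≠ 0) : ∃ X : F, σ X * ε + σ ε * X = 1 := by
  obtain ⟨a, ha⟩ := trace_surj_involution σ hσ hσ2 1 (map_one σ)
  have hσε : σ ε ≠ 0 := by
    intro h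
    apply hε
    rw [← hσ2 ε, h, map_zero]
  refine ⟨a / σ ε, ?_⟩
  rw [map_div₀, hσ2]
  field_simp
  linear_combination ha

include hσ hσ2 in
/-- a second coordinate independent of two dependent ones -/
theorem hyp_exists_indep (β β' : F) (hβ : β ≠ 0) (hβ' : β' ≠ 0)
    (hD : σ β * β' - σ β' * β = 0) :
    ∃ ε : F, ε ≠ 0 ∧ σ β * ε - σ ε * β ≠ 0 ∧ σ ε * β' - σ β' * ε ≠ 0 := by
  obtain ⟨η, hη⟩ : ∃ c, σ c ≠ c := by
    by_contra hcon
    push Not at hcon
    exact hσ (RingHom.ext hcon)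
  have hσβ : σ β ≠ 0 := by
    intro h
    apply hβ
    rw [← hσ2 β, h, map_zero]
  have hη0 : η ≠ 0 := by
    rintro rfl
    exact hη (map_zero σ)
  refine ⟨β * η, mul_ne_zero hβ hη0, ?_, ?_⟩
  · rw [map_mul]
    have : σ β * (β * η) - σ β * σ η * β = σ β * β * (η - σ η) := by ring
    rw [this]
    exact mul_ne_zero (mul_ne_zero hσβ hβ) (sub_ne_zero.mpr (Ne.symm hη))
  · rw [map_mul]
    have : σ β * σ η * β' - σ β' * (β * η) = σ β * β' * (σ η - η) := by
      linear_combination η * hD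
    rw [this]
    exact mul_ne_zero (mul_ne_zero hσβ hβ') (sub_ne_zero.mpr hη)

end Scalar

end Cfsg.Agent.Helper13
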