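import Mathlib
import Cfsg.Agent.Lib.Helper13.HermTv
import Cfsg.Agent.Lib.Helper13.SUGenScalar

set_option autoImplicit false
set_option linter.unusedSimpArgs false

namespace Cfsg.Agent.Helper13

open Module Submodule Matrix

section SUGen

variable {F : Type*} [Field F] [Fintype F] {q n : ℕ} (hF : Fintype.card F = q ^ 2)

/-- the action of `SU` on vectors -/
def actv (t : ↥(Cfsg.SU n F q)) (x : Fin n → F) : Fin n → F :=
  ((t : Matrix.SpecialLinearGroup (Fin n) F) : Matrix (Fin n) (Fin n) F) *ᵥ x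

omit [Fintype F] in
theorem actv_one (x : Fin n → F) : actv (1 : ↥(Cfsg.SU n F q)) x = x := by
  unfold actv
  simp

omit [Fintype F] in
theorem actv_mul (s t : ↥(Cfsg.SU n F q)) (x : Fin n → F) : actv (s * t) x = actv s (actv t x) :=
  SU_mul_mulVec s t x

omit [Fintype F] in
theorem actv_inv (t : ↥(Cfsg.SU n F q)) (x y : Fin n → F) (h : actv t x = y) : actv t⁻¹ y = x := by
  rw [← h, ← actv_mul, inv_mul_cancel, actv_one]

omit [Fintype F] in
theorem actv_add (t : ↥(Cfsg.SU n F q)) (x y : Fin n → F) :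
    actv t (x + y) = actv t x + actv t y := Matrix.mulVec_add _ _ _

omit [Fintype F] in
theorem actv_smul (t : ↥(Cfsg.SU n F q)) (c : F) (x : Fin n → F) :
    actv t (c • x) = c • actv t x := Matrix.mulVec_smul _ _ _

theorem actv_iso (t : ↥(Cfsg.SU n F q)) (x y : Fin n → F) :
    stdB hF n (actv t x) (actv t y) = stdB hF n x y := t.2 y x

theorem actv_tvSU (u : Fin n → F) (a : F) (huu : Cfsg.hermForm n F q u u = 0)
    (ha : a ^ q + a = 0) (x : Fin n → F) :
    actv (tvSU hF u a huu ha) x = x + (a * stdB hF n u x) • u := tvSU_mulVec hF u a huu ha x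

/-- the group generated by the unitary transvections with direction in `S` -/
def TG (S : Submodule F (Fin n → F)) : Subgroup ↥(Cfsg.SU n F q) :=
  Subgroup.closure {g | ∃ (u : Fin n → F) (a : F) (huu : Cfsg.hermForm n F q u u = 0)
    (ha : a ^ q + a = 0), u ∈ S ∧ g = tvSU hF u a huu ha}

theorem TG_mono {S S' : Submodule F (Fin n → F)} (h : S ≤ S') : TG hF S ≤ TG hF S' := by
  apply Subgroup.closure_mono
  rintro g ⟨u, a, huu, ha, hu, rfl⟩
  exact ⟨u, a, huu, ha, h hu, rfl⟩

/-- elements of `TG S` fix the vectors orthogonal to `S` -/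
theorem TG_fix (S : Submodule F (Fin n → F)) (e : Fin n → F) (he : ∀ u ∈ S, stdB hF n u e = 0)
    (t : ↥(Cfsg.SU n F q)) (ht : t ∈ TG hF S) : actv t e = e := by
  induction ht using Subgroup.closure_induction with
  | mem g hg =>
    obtain ⟨u, a, huu, ha, hu, rfl⟩ := hg
    rw [actv_tvSU, he u hu, mul_zero, zero_smul, add_zero]
  | one => exact actv_one e
  | mul x y _ _ hx hy => rw [actv_mul, hy, hx]
  | inv x _ hx => exact actv_inv x e e hx

/-- two vectors are connected when an element of `TG S` maps one to the other -/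
def Conn (S : Submodule F (Fin n → F)) (a b : Fin n → F) : Prop :=
  ∃ t ∈ TG hF S, actv t a = b

theorem Conn.refl (S : Submodule F (Fin n → F)) (a : Fin n → F) : Conn hF S a a :=
  ⟨1, Subgroup.one_mem _, actv_one a⟩

variable {hF} in
theorem Conn.symm {S : Submodule F (Fin n → F)} {a b : Fin n → F} (h : Conn hF S a b) :
    Conn hF S b a := by
  obtain ⟨t, ht, hab⟩ := h
  exact ⟨t⁻¹, Subgroup.inv_mem _ ht, actv_inv t a b hab⟩

variable {hF} in
theorem Conn.trans {S : Submodule F (Fin n → F)} {a b c : Fin n → F} (h1 : Conn hF S a b)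
    (h2 : Conn hF S b c) : Conn hF S a c := by
  obtain ⟨t, ht, hab⟩ := h1
  obtain ⟨s, hs, hbc⟩ := h2
  exact ⟨s * t, Subgroup.mul_mem _ hs ht, by rw [actv_mul, hab, hbc]⟩

variable {hF} in
theorem Conn.mono {S S' : Submodule F (Fin n → F)} (h : S ≤ S') {a b : Fin n → F}
    (hc : Conn hF S a b) : Conn hF S' a b := by
  obtain ⟨t, ht, hab⟩ := hc
  exact ⟨t, TG_mono hF h ht, hab⟩

/-- a single transvection moves `a` to `b` when `b - a` is isotropic and not orthogonal to `a` -/
theorem conn_move (S : Submodule F (Fin n → F)) (a b : Fin n → F) (hS : b - a ∈ S)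
    (hnorm : stdB hF n a a = stdB hF n b b) (hww : stdB hF n (b - a) (b - a) = 0)
    (hwa : stdB hF n (b - a) a ≠ 0) : Conn hF S a b := by
  have hq := q_pos hF
  have hsum : stdB hF n a (b - a) + stdB hF n (b - a) a = 0 := by
    have e : b = a + (b - a) := by abel
    have h1 : stdB hF n b b = stdB hF n a a + stdB hF n a (b - a) + stdB hF n (b - a) a +
        stdB hF n (b - a) (b - a) := by
      conv_lhs => rw [e]
      simp only [map_add, LinearMap.add_apply]
      ring
    rw [hww, ← hnorm] at h1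
    linear_combination -h1
  have hσ : frobQ hF (stdB hF n (b - a) a) = -stdB hF n (b - a) a := by
    rw [(stdB_isSymm hF n).eq]
    linear_combination hsum
  have hc : ((stdB hF n (b - a) a)⁻¹) ^ q + (stdB hF n (b - a) a)⁻¹ = 0 := by
    have : ((stdB hF n (b - a) a)⁻¹) ^ q = frobQ hF (stdB hF n (b - a) a)⁻¹ := rfl
    rw [this, map_inv₀, hσ]
    field_simp
    ring
  have hww' : Cfsg.hermForm n F q (b - a) (b - a) = 0 := hww
  refine ⟨tvSU hF (b - a) (stdB hF n (b - a) a)⁻¹ hww' hc, ?_, ?_⟩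
  · exact Subgroup.subset_closure ⟨b - a, _, hww', hc, hS, rfl⟩
  · rw [actv_tvSU, inv_mul_cancel₀ hwa, one_smul]
    abel

/-- orthonormal families -/
def ON {k : ℕ} (x : Fin k → (Fin n → F)) : Prop :=
  ∀ i j, stdB hF n (x i) (x j) = if i = j then 1 else 0

/-- the orthogonal complement of a family -/
def perpS {k : ℕ} (x : Fin k → (Fin n → F)) : Submodule F (Fin n → F) where
  carrier := {v | ∀ i, stdB hF n (x i) v = 0}
  add_mem' := by
    intro a b ha hb i
    rw [map_add, ha i, hb i, add_zero]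
  zero_mem' := by
    intro i
    rw [map_zero]
  smul_mem' := by
    intro c a ha i
    rw [map_smul, ha i, smul_zero]

theorem mem_perpS {k : ℕ} (x : Fin k → (Fin n → F)) (v : Fin n → F) :
    v ∈ perpS hF x ↔ ∀ i, stdB hF n (x i) v = 0 := Iff.rfl

theorem stdB_swap_zero (x y : Fin n → F) (h : stdB hF n x y = 0) : stdB hF n y x = 0 := by
  rw [← (stdB_isSymm hF n).eq x y, h, map_zero]

variable {hF}

theorem ON.gram_det {k : ℕ} {x : Fin k → (Fin n → F)} (h : ON hF x) :
    (Matrix.of fun a b => stdB hF n (x a) (x b)).det ≠ 0 := by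
  have : (Matrix.of fun a b => stdB hF n (x a) (x b)) = 1 := by
    ext a b
    rw [Matrix.of_apply, h a b, Matrix.one_apply]
  rw [this, Matrix.det_one]
  exact one_ne_zero

theorem ON.li {k : ℕ} {x : Fin k → (Fin n → F)} (h : ON hF x) : LinearIndependent F x := by
  classical
  rw [Fintype.linearIndependent_iff]
  intro c hc i
  have h1 := congrArg (stdB hF n (x i)) hc
  rw [map_sum, map_zero] at h1
  simp only [map_smul, smul_eq_mul, h i, mul_ite, mul_one, mul_zero, Finset.sum_ite_eq,
    Finset.mem_univ, if_true] at h1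
  exact h1

theorem ON.card_le {k : ℕ} {x : Fin k → (Fin n → F)} (h : ON hF x) : k ≤ n := by
  have := h.li.fintype_card_le_finrank
  rwa [Fintype.card_fin, Module.finrank_fin_fun] at this

theorem ON.exists_unit {k : ℕ} {x : Fin k → (Fin n → F)} (h : ON hF x) (hk : k < n) :
    ∃ v : Fin n → F, v ∈ perpS hF x ∧ stdB hF n v v = 1 :=
  herm_nd_unit (frobQ hF) (frobQ_ne_id hF) (frobQ_frobQ hF) (stdB hF n) (stdB_isSymm hF n)
    (stdB_nondeg hF n) x h.gram_det (by rw [Module.finrank_fin_fun]; exact hk)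

theorem ON.snoc {k : ℕ} {x : Fin k → (Fin n → F)} (h : ON hF x) (v : Fin n → F)
    (hv : stdB hF n v v = 1) (hp : v ∈ perpS hF x) :
    ON hF (Fin.snoc (α := fun _ => Fin n → F) x v) := by
  intro i j
  refine Fin.lastCases ?_ (fun i => ?_) i <;> refine Fin.lastCases ?_ (fun j => ?_) j
  · simp [hv]
  · simp only [Fin.snoc_last, Fin.snoc_castSucc]
    rw [stdB_swap_zero hF _ _ (hp j), if_neg]
    exact (Fin.castSucc_lt_last j).ne'
  · simp only [Fin.snoc_last, Fin.snoc_castSucc]
    rw [hp i, if_neg]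
    exact (Fin.castSucc_lt_last i).ne
  · simp only [Fin.snoc_castSucc, h i j, Fin.castSucc_inj]

theorem perpS_snoc {k : ℕ} (x : Fin k → (Fin n → F)) (v w : Fin n → F) :
    w ∈ perpS hF (Fin.snoc (α := fun _ => Fin n → F) x v) ↔
      w ∈ perpS hF x ∧ stdB hF n v w = 0 := by
  constructor
  · intro h
    refine ⟨fun i => ?_, ?_⟩
    · have := h (Fin.castSucc i)
      rwa [Fin.snoc_castSucc] at this
    · have := h (Fin.last k)
      rwa [Fin.snoc_last] at this
  · rintro ⟨h1, h2⟩ i
    refine Fin.lastCases ?_ (fun i => ?_) i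
    · rw [Fin.snoc_last]; exact h2
    · rw [Fin.snoc_castSucc]; exact h1 i

theorem perpS_snoc_le {k : ℕ} (x : Fin k → (Fin n → F)) (v : Fin n → F) :
    perpS hF (Fin.snoc (α := fun _ => Fin n → F) x v) ≤ perpS hF x :=
  fun _ hw => ((perpS_snoc x v _).mp hw).1

theorem ON.span_top {x : Fin n → (Fin n → F)} (h : ON hF x) :
    Submodule.span F (Set.range x) = ⊤ :=
  h.li.span_eq_top_of_card_eq_finrank' (by rw [Fintype.card_fin, Module.finrank_fin_fun])

theorem ON.perp_eq_zero {x : Fin n → (Fin n → F)} (h : ON hF x) (v : Fin n → F)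
    (hv : v ∈ perpS hF x) : v = 0 := by
  apply (stdB_nondeg hF n).1 v
  intro u
  have hu : u ∈ Submodule.span F (Set.range x) := by rw [h.span_top]; trivial
  exact herm_perp_span (frobQ hF) (stdB hF n) (stdB_isSymm hF n) x v hv u hu

variable (hF)

section Plane

variable (S : Submodule F (Fin n → F)) (u v : Fin n → F) (hu : u ∈ S) (hv : v ∈ S)
  (huu : stdB hF n u u = 0) (hvv : stdB hF n v v = 0) (huv : stdB hF n u v = 1)

include huu hvv huv in
theorem hyp_form (α β α' β' : F) :
    stdB hF n (α • u + β • v) (α' • u + β' • v) =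
      frobQ hF α * β' + frobQ hF β * α' := by
  have hvu : stdB hF n v u = 1 := by
    rw [← (stdB_isSymm hF n).eq u v, huv, map_one]
  simp only [map_add, LinearMap.add_apply, map_smul, LinearMap.map_smulₛₗ, LinearMap.smul_apply,
    smul_eq_mul, huu, hvv, huv, hvu]
  ring

include hu huu hvv huv in
/-- a horizontal move in hyperbolic coordinates -/
theorem hyp_hmove (α α' β : F) (h1 : frobQ hF α * β + frobQ hF β * α = 1)
    (h2 : frobQ hF α' * β + frobQ hF β * α' = 1) :
    Conn hF S (α • u + β • v) (α' • u + β • v) := by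
  by_cases hαα : α' = α
  · rw [hαα]
    exact Conn.refl hF S _
  have hβ : β ≠ 0 := by
    rintro rfl
    rw [mul_zero, map_zero, zero_mul, add_zero] at h1
    exact zero_ne_one h1
  have hd : α' • u + β • v - (α • u + β • v) = (α' - α) • u := by module
  apply conn_move
  · rw [hd]
    exact S.smul_mem _ hu
  · rw [hyp_form hF u v huu hvv huv, hyp_form hF u v huu hvv huv, h1, h2]
  · rw [hd]
    simp only [map_smul, LinearMap.map_smulₛₗ, LinearMap.smul_apply, smul_eq_mul, huu, mul_zero]
  · rw [hd]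
    have : stdB hF n ((α' - α) • u) (α • u + β • v) = frobQ hF (α' - α) * β := by
      simp only [map_add, map_smul, LinearMap.map_smulₛₗ, LinearMap.smul_apply, smul_eq_mul, huu,
        huv, mul_zero, mul_one, zero_add]
      ring
    rw [this]
    apply mul_ne_zero _ hβ
    intro h
    apply hαα
    have h3 : frobQ hF (frobQ hF (α' - α)) = 0 := by rw [h, map_zero]
    rw [frobQ_frobQ] at h3
    exact sub_eq_zero.mp h3

include hv huu hvv huv in
/-- a vertical move in hyperbolic coordinates -/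
theorem hyp_vmove (α β β' : F) (h1 : frobQ hF α * β + frobQ hF β * α = 1)
    (h2 : frobQ hF α * β' + frobQ hF β' * α = 1) :
    Conn hF S (α • u + β • v) (α • u + β' • v) := by
  have hvu : stdB hF n v u = 1 := by
    rw [← (stdB_isSymm hF n).eq u v, huv, map_one]
  have := hyp_hmove hF S v u hv hvv huu hvu β β' α (by rw [← h1]; ring) (by rw [← h2]; ring)
  rwa [add_comm (β • v), add_comm (β' • v)] at this

include hu hv huu hvv huv in
theorem hyp_conn_indep (α β α' β' : F) (h1 : frobQ hF α * β + frobQ hF β * α = 1)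
    (h2 : frobQ hF α' * β' + frobQ hF β' * α' = 1)
    (hD : frobQ hF β * β' - frobQ hF β' * β ≠ 0) :
    Conn hF S (α • u + β • v) (α' • u + β' • v) := by
  obtain ⟨X, hX1, hX2⟩ := hyp_exists_common (frobQ hF) (frobQ_frobQ hF) β β' hD
  exact ((hyp_hmove hF S u v hu huu hvv huv α X β h1 hX1).trans
    (hyp_vmove hF S u v hv huu hvv huv X β β' hX1 hX2)).trans
    (hyp_hmove hF S u v hu huu hvv huv X α' β' hX2 h2)

include hu hv huu hvv huv in
/-- `TG S` is transitive on the unit vectors of a hyperbolic plane in `S` -/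
theorem hyp_conn (α β α' β' : F) (h1 : frobQ hF α * β + frobQ hF β * α = 1)
    (h2 : frobQ hF α' * β' + frobQ hF β' * α' = 1) :
    Conn hF S (α • u + β • v) (α' • u + β' • v) := by
  by_cases hD : frobQ hF β * β' - frobQ hF β' * β = 0
  · have hβ : β ≠ 0 := by
      rintro rfl
      rw [mul_zero, map_zero, zero_mul, add_zero] at h1
      exact zero_ne_one h1
    have hβ' : β' ≠ 0 := by
      rintro rfl
      rw [mul_zero, map_zero, zero_mul, add_zero] at h2
      exact zero_ne_one h2
    obtain ⟨ε, hε, hD1, hD2⟩ := hyp_exists_indep (frobQ hF) (frobQ_ne_id hF) (frobQ_frobQ hF)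
      β β' hβ hβ' hD
    obtain ⟨X, hX⟩ := hyp_exists_coord (frobQ hF) (frobQ_ne_id hF) (frobQ_frobQ hF) ε hε
    exact (hyp_conn_indep hF S u v hu hv huu hvv huv α β X ε h1 hX hD1).trans
      (hyp_conn_indep hF S u v hu hv huu hvv huv X ε α' β' hX h2 hD2)
  · exact hyp_conn_indep hF S u v hu hv huu hvv huv α β α' β' h1 h2 hD

end Plane

/-- two unit vectors spanning a nondegenerate plane are connected -/
theorem plane_conn (S : Submodule F (Fin n → F)) (a b : Fin n → F) (ha : a ∈ S) (hb : b ∈ S)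
    (haa : stdB hF n a a = 1) (hbb : stdB hF n b b = 1)
    (hN : stdB hF n a b * frobQ hF (stdB hF n a b) ≠ 1) : Conn hF S a b := by
  have hσ := frobQ_ne_id hF
  have hσ2 := frobQ_frobQ hF
  have hba : stdB hF n b a = frobQ hF (stdB hF n a b) := ((stdB_isSymm hF n).eq a b).symm
  obtain ⟨l, hl⟩ : ∃ l, l = stdB hF n a b := ⟨_, rfl⟩
  rw [← hl] at hN hba
  have hd : 1 - l * frobQ hF l ≠ 0 := by
    intro h
    apply hN
    linear_combination -h
  have hσd : frobQ hF (1 - l * frobQ hF l)⁻¹ = (1 - l * frobQ hF l)⁻¹ := by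
    rw [map_inv₀, map_sub, map_mul, hσ2, map_one, mul_comm]
  obtain ⟨ρ, hρ⟩ := norm_surj_involution (frobQ hF) hσ hσ2 _ (inv_ne_zero hd) hσd
  have hρ0 : ρ ≠ 0 := by
    rintro rfl
    rw [zero_mul] at hρ
    exact inv_ne_zero hd hρ.symm
  obtain ⟨ζ, hζ⟩ := norm_surj_involution (frobQ hF) hσ hσ2 (-1) (neg_ne_zero.mpr one_ne_zero)
    (by rw [map_neg, map_one])
  have hζ0 : ζ ≠ 0 := by
    rintro rfl
    rw [zero_mul] at hζ
    exact (neg_ne_zero.mpr one_ne_zero) hζ.symm
  obtain ⟨θ, hθ⟩ := trace_surj_involution (frobQ hF) hσ hσ2 (-1) (by rw [map_neg, map_one])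
  -- the orthonormal pair `a, f`
  obtain ⟨f, hf⟩ : ∃ f, f = ρ • (b - l • a) := ⟨_, rfl⟩
  have hfS : f ∈ S := by
    rw [hf]
    exact S.smul_mem _ (S.sub_mem hb (S.smul_mem _ ha))
  have haf : stdB hF n a f = 0 := by
    rw [hf]
    simp only [map_smul, map_sub, smul_eq_mul, haa, ← hl]
    ring
  have hfa : stdB hF n f a = 0 := stdB_swap_zero hF _ _ haf
  have hff : stdB hF n f f = 1 := by
    rw [hf]
    simp only [map_smul, map_sub, LinearMap.map_smulₛₗ, LinearMap.smul_apply, LinearMap.sub_apply,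
      smul_eq_mul, haa, hbb, hba, ← hl]
    have : ρ * frobQ hF ρ * (1 - l * frobQ hF l) = 1 := by
      rw [hρ]
      exact inv_mul_cancel₀ hd
    linear_combination this
  -- the hyperbolic pair `u, v`
  obtain ⟨u, hu⟩ : ∃ u, u = a + ζ • f := ⟨_, rfl⟩
  obtain ⟨v, hv⟩ : ∃ v, v = a + θ • u := ⟨_, rfl⟩
  have huS : u ∈ S := by
    rw [hu]
    exact S.add_mem ha (S.smul_mem _ hfS)
  have hvS : v ∈ S := by
    rw [hv]
    exact S.add_mem ha (S.smul_mem _ huS)
  have huu : stdB hF n u u = 0 := by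
    rw [hu]
    simp only [map_add, LinearMap.add_apply, map_smul, LinearMap.map_smulₛₗ, LinearMap.smul_apply,
      smul_eq_mul, haa, haf, hfa, hff]
    linear_combination hζ
  have hau : stdB hF n a u = 1 := by
    rw [hu]
    simp only [map_add, map_smul, smul_eq_mul, haa, haf]
    ring
  have hua : stdB hF n u a = 1 := by
    rw [← (stdB_isSymm hF n).eq a u, hau, map_one]
  have huv : stdB hF n u v = 1 := by
    rw [hv]
    simp only [map_add, map_smul, smul_eq_mul, hua, huu]
    ring
  have hvv : stdB hF n v v = 0 := by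
    rw [hv]
    simp only [map_add, LinearMap.add_apply, map_smul, LinearMap.map_smulₛₗ, LinearMap.smul_apply,
      smul_eq_mul, haa, hau, hua, huu]
    linear_combination hθ
  -- coordinates
  have ea : a = (-θ) • u + (1 : F) • v := by
    rw [hv]
    module
  obtain ⟨κ, hκ⟩ : ∃ κ, κ = ρ⁻¹ * ζ⁻¹ := ⟨_, rfl⟩
  have hκ1 : κ * ζ * ρ = 1 := by
    rw [hκ]
    field_simp
  have eb : b = (κ - (l - κ) * θ) • u + (l - κ) • v := by
    rw [hv, hu, hf]
    linear_combination (norm := module) (-hκ1) • (b - l • a)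
  have h1 : frobQ hF (-θ) * 1 + frobQ hF 1 * (-θ) = 1 := by
    rw [map_neg, map_one]
    linear_combination -hθ
  have h2 : frobQ hF (κ - (l - κ) * θ) * (l - κ) + frobQ hF (l - κ) * (κ - (l - κ) * θ) = 1 := by
    rw [← hyp_form hF u v huu hvv huv, ← eb, hbb]
  rw [ea, eb]
  exact hyp_conn hF S u v huS hvS huu hvv huv _ _ _ _ h1 h2

theorem exists_norm_ne (hq : 3 ≤ q) :
    ∃ s : F, s * frobQ hF s ≠ 0 ∧ s * frobQ hF s ≠ 1 := by
  classical
  by_contra hcon
  push Not at hcon
  have hsub : (Finset.univ : Finset F) ⊆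
      insert 0 (Finset.univ.filter (fun x : F => x ^ (q + 1) = 1)) := by
    intro s _
    by_cases hs : s = 0
    · rw [hs]
      exact Finset.mem_insert_self _ _
    · apply Finset.mem_insert_of_mem
      rw [Finset.mem_filter]
      refine ⟨Finset.mem_univ _, ?_⟩
      have := hcon s (by
        rw [frobQ_apply]
        exact mul_ne_zero hs (pow_ne_zero _ hs))
      rw [frobQ_apply] at this
      rw [pow_succ']
      exact this
  have h1 := Finset.card_le_card hsub
  rw [Finset.card_univ, hF] at h1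
  have h2 := (Finset.card_insert_le (0 : F) (Finset.univ.filter (fun x : F => x ^ (q + 1) = 1))).trans
    (Nat.succ_le_succ (Cfsg.Agent.Helper19.card_norm_fiber_le (q := q) (1 : F)))
  nlinarith

theorem conn_via (S : Submodule F (Fin n → F)) (a b c : Fin n → F) (ha : a ∈ S) (hb : b ∈ S)
    (hc : c ∈ S) (haa : stdB hF n a a = 1) (hbb : stdB hF n b b = 1) (hcc : stdB hF n c c = 1)
    (hac : stdB hF n a c = 0)
    (hcb : stdB hF n c b * frobQ hF (stdB hF n c b) ≠ 1) : Conn hF S a b := by
  refine (plane_conn hF S a c ha hc haa hcc ?_).trans (plane_conn hF S c b hc hb hcc hbb hcb)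
  rw [hac, zero_mul]
  exact zero_ne_one

include hF in
theorem two_eq_zero_of_q (hq : q = 2) : (2 : F) = 0 := by
  have h4 : ((Fintype.card F : ℕ) : F) = 0 := FiniteField.cast_card_eq_zero F
  rw [hF, hq] at h4
  have h5 : (2 : F) * 2 = 0 := by
    have : ((2 ^ 2 : ℕ) : F) = 2 * 2 := by norm_num
    rw [← this]
    exact h4
  exact mul_self_eq_zero.mp h5

/-- `TG` of the orthogonal complement of an orthonormal family is transitive on its unit
vectors -/
theorem conn_units {k : ℕ} (e : Fin k → (Fin n → F)) (hON : ON hF e) (m : ℕ) (hkm : k + m = n)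
    (hm : 2 ≤ m) (hq : 3 ≤ q ∨ m ≠ 3) (a b : Fin n → F) (ha : a ∈ perpS hF e)
    (hb : b ∈ perpS hF e) (haa : stdB hF n a a = 1) (hbb : stdB hF n b b = 1) :
    Conn hF (perpS hF e) a b := by
  have hσ := frobQ_ne_id hF
  have hσ2 := frobQ_frobQ hF
  have hba : stdB hF n b a = frobQ hF (stdB hF n a b) := ((stdB_isSymm hF n).eq a b).symm
  obtain ⟨l, hl⟩ : ∃ l, l = stdB hF n a b := ⟨_, rfl⟩
  rw [← hl] at hba
  by_cases hN : l * frobQ hF l = 1
  swap
  · apply plane_conn hF _ a b ha hb haa hbb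
    rw [← hl]
    exact hN
  -- it suffices to find a suitable intermediate unit vector
  suffices hc : ∃ c, c ∈ perpS hF e ∧ stdB hF n c c = 1 ∧ stdB hF n a c = 0 ∧
      stdB hF n c (b - l • a) * frobQ hF (stdB hF n c (b - l • a)) ≠ 1 by
    obtain ⟨c, hcW, hcc, hac, hcb⟩ := hc
    apply conn_via hF _ a b c ha hb hcW haa hbb hcc hac
    have : stdB hF n c b = stdB hF n c (b - l • a) := by
      rw [map_sub, map_smul, stdB_swap_zero hF _ _ hac, smul_zero, sub_zero]
    rw [this]
    exact hcb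
  obtain ⟨b', hb'⟩ : ∃ b', b' = b - l • a := ⟨_, rfl⟩
  rw [← hb']
  have hON1 := hON.snoc a haa ha
  have hb'W : b' ∈ perpS hF (Fin.snoc (α := fun _ => Fin n → F) e a) := by
    rw [perpS_snoc]
    constructor
    · rw [hb']
      exact (perpS hF e).sub_mem hb ((perpS hF e).smul_mem _ ha)
    · rw [hb', map_sub, map_smul, haa, ← hl, smul_eq_mul, mul_one, sub_self]
  have hb'b' : stdB hF n b' b' = 0 := by
    rw [hb']
    simp only [map_sub, map_smul, LinearMap.sub_apply, LinearMap.map_smulₛₗ, LinearMap.smul_apply,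
      smul_eq_mul, haa, hbb, hba, ← hl]
    linear_combination -hN
  obtain ⟨z1, hz1W, hz1⟩ := hON1.exists_unit (by omega)
  have hz1W' := (perpS_snoc e a z1).mp hz1W
  by_cases hN1 : stdB hF n z1 b' * frobQ hF (stdB hF n z1 b') = 1
  swap
  · exact ⟨z1, hz1W'.1, hz1, hz1W'.2, hN1⟩
  obtain ⟨μ, hμ⟩ : ∃ μ, μ = stdB hF n z1 b' := ⟨_, rfl⟩
  rw [← hμ] at hN1
  have hb'z1 : stdB hF n b' z1 = frobQ hF μ := by
    rw [hμ]
    exact ((stdB_isSymm hF n).eq z1 b').symm
  obtain ⟨b'', hb''⟩ : ∃ b'', b'' = b' - μ • z1 := ⟨_, rfl⟩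
  have hb''W : b'' ∈ perpS hF (Fin.snoc (α := fun _ => Fin n → F) e a) := by
    rw [hb'']
    exact (perpS hF _).sub_mem hb'W ((perpS hF _).smul_mem _ hz1W)
  have hz1b'' : stdB hF n z1 b'' = 0 := by
    rw [hb'', map_sub, map_smul, hz1, ← hμ, smul_eq_mul, mul_one, sub_self]
  have hb''z1 : stdB hF n b'' z1 = 0 := stdB_swap_zero hF _ _ hz1b''
  have hb''b'' : stdB hF n b'' b'' = -1 := by
    rw [hb'']
    simp only [map_sub, map_smul, LinearMap.sub_apply, LinearMap.map_smulₛₗ, LinearMap.smul_apply,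
      smul_eq_mul, hb'b', hz1, hb'z1, ← hμ]
    linear_combination -hN1
  have hb''b' : stdB hF n b'' b' = -1 := by
    rw [hb'']
    simp only [map_sub, map_smul, LinearMap.sub_apply, LinearMap.map_smulₛₗ, LinearMap.smul_apply,
      smul_eq_mul, hb'b', ← hμ]
    linear_combination -hN1
  have hb''W' := (perpS_snoc e a b'').mp hb''W
  by_cases hq3 : 3 ≤ q
  · -- a unit vector in the span of `z1` and `b''`
    obtain ⟨s, hs0, hs1⟩ := exists_norm_ne hF hq3
    have hs : s ≠ 0 := by
      rintro rfl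
      exact hs0 (zero_mul _)
    have hσs : frobQ hF s ≠ 0 := by
      intro h
      exact hs0 (by rw [h, mul_zero])
    obtain ⟨θ, hθ⟩ := trace_surj_involution (frobQ hF) hσ hσ2 (1 + s * frobQ hF s)
      (by rw [map_add, map_one, map_mul, hσ2, mul_comm])
    obtain ⟨t, ht⟩ : ∃ t, t * frobQ hF s = θ := ⟨θ / frobQ hF s, div_mul_cancel₀ _ hσs⟩
    have ht' : frobQ hF t * s = frobQ hF θ := by
      rw [← ht, map_mul, hσ2]
    refine ⟨(t * μ) • z1 + (t - s) • b'', ?_, ?_, ?_, ?_⟩
    · exact (perpS hF e).add_mem ((perpS hF e).smul_mem _ hz1W'.1)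
        ((perpS hF e).smul_mem _ hb''W'.1)
    · simp only [map_add, map_smul, LinearMap.add_apply, LinearMap.map_smulₛₗ,
        LinearMap.smul_apply, smul_eq_mul, hz1, hz1b'', hb''z1, hb''b'', map_mul, map_sub]
      linear_combination (t * frobQ hF t) * hN1 + ht + ht' + hθ
    · rw [map_add, map_smul, map_smul, hz1W'.2, hb''W'.2, smul_zero, smul_zero, add_zero]
    · have : stdB hF n ((t * μ) • z1 + (t - s) • b'') b' = frobQ hF s := by
        simp only [map_add, LinearMap.add_apply, LinearMap.map_smulₛₗ,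
          LinearMap.smul_apply, smul_eq_mul, hb''b', ← hμ, map_mul, map_sub]
        linear_combination (frobQ hF t) * hN1
      rw [this, hσ2, mul_comm]
      exact hs1
  · -- `q = 2`
    have hq2 : q = 2 := by
      have := Cfsg.Agent.Helper19.herm_two_le hF
      omega
    have h2 : (2 : F) = 0 := two_eq_zero_of_q hF hq2
    have hb''1 : stdB hF n b'' b'' = 1 := by
      rw [hb''b'']
      linear_combination -h2
    have hON2 := hON1.snoc z1 hz1 hz1W
    have hb''W2 : b'' ∈ perpS hF (Fin.snoc (α := fun _ => Fin n → F)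
        (Fin.snoc (α := fun _ => Fin n → F) e a) z1) := by
      rw [perpS_snoc]
      exact ⟨hb''W, hz1b''⟩
    have hON3 := hON2.snoc b'' hb''1 hb''W2
    have hle := hON3.card_le
    have hm3 : m ≠ 3 := by
      rcases hq with h | h
      · exact absurd h hq3
      · exact h
    obtain ⟨z2, hz2W, hz2⟩ := hON3.exists_unit (by omega)
    rw [perpS_snoc, perpS_snoc, perpS_snoc] at hz2W
    obtain ⟨⟨⟨h1, h2'⟩, h3⟩, h4⟩ := hz2W
    refine ⟨z2, h1, hz2, h2', ?_⟩
    have : stdB hF n z2 b' = 0 := by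
      have e1 : b' = b'' + μ • z1 := by
        rw [hb'']
        abel
      rw [e1, map_add, map_smul, stdB_swap_zero hF _ _ h4, stdB_swap_zero hF _ _ h3, smul_zero,
        add_zero]
    rw [this, zero_mul]
    exact zero_ne_one

/-- for `q = 2` the transvection with coefficient one -/
theorem tv1_mem (hq : q = 2) (S : Submodule F (Fin n → F)) (w : Fin n → F) (hw : w ∈ S)
    (hww : stdB hF n w w = 0) :
    ∃ t ∈ TG hF S, ∀ z, actv t z = z + stdB hF n w z • w := by
  have h2 : (2 : F) = 0 := two_eq_zero_of_q hF hq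
  have h1q : (1 : F) ^ q + 1 = 0 := by
    rw [one_pow]
    linear_combination h2
  have hww' : Cfsg.hermForm n F q w w = 0 := hww
  refine ⟨tvSU hF w 1 hww' h1q, Subgroup.subset_closure ⟨w, 1, hww', h1q, hw, rfl⟩, fun z => ?_⟩
  rw [actv_tvSU, one_mul]

/-- the four-cycle of swaps: an element of `TG S` fixing the unit vector `d` and moving the unit
vector `a` to `a'`, where `a, a'` are orthogonal to `d` and `B a a' = 1` (`q = 2`) -/
theorem cyc4 (hq : q = 2) (S : Submodule F (Fin n → F)) (d a a' : Fin n → F) (hd : d ∈ S)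
    (ha : a ∈ S) (ha' : a' ∈ S) (hdd : stdB hF n d d = 1) (haa : stdB hF n a a = 1)
    (ha'a' : stdB hF n a' a' = 1) (hda : stdB hF n d a = 0) (hda' : stdB hF n d a' = 0)
    (haa' : stdB hF n a a' = 1) :
    ∃ t ∈ TG hF S, actv t d = d ∧ actv t a = a' := by
  have h2 : (2 : F) = 0 := two_eq_zero_of_q hF hq
  have had : stdB hF n a d = 0 := stdB_swap_zero hF _ _ hda
  have ha'd : stdB hF n a' d = 0 := stdB_swap_zero hF _ _ hda'
  have ha'a : stdB hF n a' a = 1 := by
    rw [← (stdB_isSymm hF n).eq a a', haa', map_one]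
  obtain ⟨β, hβ⟩ : ∃ c, frobQ hF c ≠ c := by
    by_contra hcon
    push Not at hcon
    exact frobQ_ne_id hF (RingHom.ext hcon)
  have hβ0 : β ≠ 0 := by
    rintro rfl
    exact hβ (map_zero _)
  have hβ1 : β ≠ 1 := by
    rintro rfl
    exact hβ (map_one _)
  have hβ3 : β ^ 3 = 1 := by
    have := FiniteField.pow_card_sub_one_eq_one β hβ0
    rw [hF, hq] at this
    exact this
  have hβ2 : β ^ 2 + β + 1 = 0 := by
    have h : (β - 1) * (β ^ 2 + β + 1) = 0 := by linear_combination hβ3
    rcases mul_eq_zero.mp h with h | h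
    · exact absurd (sub_eq_zero.mp h) hβ1
    · exact h
  obtain ⟨γ, hγ⟩ : ∃ γ, γ = β + 1 := ⟨_, rfl⟩
  have h1 : β + γ = 1 := by
    rw [hγ]
    linear_combination β * h2
  have h3 : β * γ = 1 := by
    rw [hγ]
    linear_combination hβ2 - h2
  have hσβ : frobQ hF β = γ := by
    rw [frobQ_apply, hq, hγ]
    linear_combination hβ2 - (β + 1) * h2
  have hσγ : frobQ hF γ = β := by
    rw [hγ, map_add, map_one, hσβ, hγ]
    linear_combination h2
  obtain ⟨t₁, ht₁, e₁⟩ := tv1_mem hF hq S (d + a) (S.add_mem hd ha) (by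
    simp only [map_add, LinearMap.add_apply, hdd, haa, hda, had]
    linear_combination h2)
  obtain ⟨t₂, ht₂, e₂⟩ := tv1_mem hF hq S (a + γ • d) (S.add_mem ha (S.smul_mem _ hd)) (by
    simp only [map_add, map_smul, LinearMap.add_apply, LinearMap.map_smulₛₗ, LinearMap.smul_apply,
      smul_eq_mul, hdd, haa, hda, had, hσγ]
    grind)
  obtain ⟨t₃, ht₃, e₃⟩ := tv1_mem hF hq S (γ • d + (β • a' + γ • a))
    (S.add_mem (S.smul_mem _ hd) (S.add_mem (S.smul_mem _ ha') (S.smul_mem _ ha))) (by
    simp only [map_add, map_smul, LinearMap.add_apply, LinearMap.map_smulₛₗ, LinearMap.smul_apply,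
      smul_eq_mul, hdd, haa, ha'a', hda, had, hda', ha'd, haa', ha'a, hσγ, hσβ]
    grind)
  obtain ⟨t₄, ht₄, e₄⟩ := tv1_mem hF hq S ((β • a' + γ • a) + d)
    (S.add_mem (S.add_mem (S.smul_mem _ ha') (S.smul_mem _ ha)) hd) (by
    simp only [map_add, map_smul, LinearMap.add_apply, LinearMap.map_smulₛₗ, LinearMap.smul_apply,
      smul_eq_mul, hdd, haa, ha'a', hda, had, hda', ha'd, haa', ha'a, hσγ, hσβ]
    grind)
  refine ⟨t₄ * t₃ * t₂ * t₁, Subgroup.mul_mem _ (Subgroup.mul_mem _ (Subgroup.mul_mem _ ht₄ ht₃)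
    ht₂) ht₁, ?_, ?_⟩
  · have s1 : actv t₁ d = a := by
      rw [e₁]
      simp only [map_add, map_smul, LinearMap.add_apply, LinearMap.map_smulₛₗ,
        LinearMap.smul_apply, smul_eq_mul, hdd, haa, ha'a', hda, had, hda', ha'd, haa', ha'a, hσγ,
        hσβ]
      match_scalars <;> grind
    have s2 : actv t₂ a = γ • d := by
      rw [e₂]
      simp only [map_add, map_smul, LinearMap.add_apply, LinearMap.map_smulₛₗ,
        LinearMap.smul_apply, smul_eq_mul, hdd, haa, ha'a', hda, had, hda', ha'd, haa', ha'a, hσγ,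
        hσβ]
      match_scalars <;> grind
    have s3 : actv t₃ (γ • d) = β • a' + γ • a := by
      rw [e₃]
      simp only [map_add, map_smul, LinearMap.add_apply, LinearMap.map_smulₛₗ,
        LinearMap.smul_apply, smul_eq_mul, hdd, haa, ha'a', hda, had, hda', ha'd, haa', ha'a, hσγ,
        hσβ]
      match_scalars <;> grind
    have s4 : actv t₄ (β • a' + γ • a) = d := by
      rw [e₄]
      simp only [map_add, map_smul, LinearMap.add_apply, LinearMap.map_smulₛₗ,
        LinearMap.smul_apply, smul_eq_mul, hdd, haa, ha'a', hda, had, hda', ha'd, haa', ha'a, hσγ,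
        hσβ]
      match_scalars <;> grind
    rw [actv_mul, actv_mul, actv_mul, s1, s2, s3, s4]
  · have r1 : actv t₁ a = d := by
      rw [e₁]
      simp only [map_add, map_smul, LinearMap.add_apply, LinearMap.map_smulₛₗ,
        LinearMap.smul_apply, smul_eq_mul, hdd, haa, ha'a', hda, had, hda', ha'd, haa', ha'a, hσγ,
        hσβ]
      match_scalars <;> grind
    have r2 : actv t₂ d = β • a := by
      rw [e₂]
      simp only [map_add, map_smul, LinearMap.add_apply, LinearMap.map_smulₛₗ,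
        LinearMap.smul_apply, smul_eq_mul, hdd, haa, ha'a', hda, had, hda', ha'd, haa', ha'a, hσγ,
        hσβ]
      match_scalars <;> grind
    have r3 : actv t₃ (β • a) = β • a + d + β • (β • a' + γ • a) := by
      rw [e₃]
      simp only [map_add, map_smul, LinearMap.add_apply, LinearMap.map_smulₛₗ,
        LinearMap.smul_apply, smul_eq_mul, hdd, haa, ha'a', hda, had, hda', ha'd, haa', ha'a, hσγ,
        hσβ]
      match_scalars <;> grind
    have r4 : actv t₄ (β • a + d + β • (β • a' + γ • a)) = a' := by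
      rw [e₄]
      simp only [map_add, map_smul, LinearMap.add_apply, LinearMap.map_smulₛₗ,
        LinearMap.smul_apply, smul_eq_mul, hdd, haa, ha'a', hda, had, hda', ha'd, haa', ha'a, hσγ,
        hσβ]
      match_scalars <;> grind
    rw [actv_mul, actv_mul, actv_mul, r1, r2, r3, r4]

/-- isometries fixing an orthonormal family preserve its orthogonal complement -/
theorem actv_mem_perpS {k : ℕ} (e : Fin k → (Fin n → F)) (g : ↥(Cfsg.SU n F q))
    (hg : ∀ i, actv g (e i) = e i) (x : Fin n → F) (hx : x ∈ perpS hF e) :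
    actv g x ∈ perpS hF e := by
  intro i
  have := actv_iso hF g (e i) x
  rw [hg i] at this
  rw [this]
  exact hx i

/-- the vectors of an orthonormal family are fixed by `TG` of its orthogonal complement -/
theorem TG_fix_ON {k : ℕ} (e : Fin k → (Fin n → F)) (t : ↥(Cfsg.SU n F q))
    (ht : t ∈ TG hF (perpS hF e)) (i : Fin k) : actv t (e i) = e i :=
  TG_fix hF (perpS hF e) (e i) (fun u hu => stdB_swap_zero hF _ _ (hu i)) t ht

/-- an element of `SU` fixing an orthonormal family of `n - 1` vectors is trivial -/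
theorem fix_ON_eq_one {k : ℕ} (e : Fin k → (Fin n → F)) (hON : ON hF e) (hk : k + 1 = n)
    (g : ↥(Cfsg.SU n F q)) (hg : ∀ i, actv g (e i) = e i) : g = 1 := by
  subst hk
  obtain ⟨e', he'W, he'⟩ := hON.exists_unit (Nat.lt_succ_self k)
  have hON' := hON.snoc e' he' he'W
  obtain ⟨y, hy⟩ : ∃ y, y = actv g e' := ⟨_, rfl⟩
  have hyW : y ∈ perpS hF e := by
    rw [hy]
    exact actv_mem_perpS hF e g hg e' he'W
  obtain ⟨l, hl⟩ : ∃ l, l = stdB hF (k + 1) e' y := ⟨_, rfl⟩
  have hyl : y = l • e' := by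
    have h0 : y - l • e' = 0 := by
      apply hON'.perp_eq_zero
      rw [perpS_snoc]
      constructor
      · exact (perpS hF e).sub_mem hyW ((perpS hF e).smul_mem _ he'W)
      · rw [map_sub, map_smul, he', ← hl, smul_eq_mul, mul_one, sub_self]
    exact sub_eq_zero.mp h0
  -- compare `g` with a rank one perturbation of the identity
  have hspan := hON'.span_top
  have key : ∀ x, ((g : Matrix.SpecialLinearGroup (Fin (k + 1)) F) :
      Matrix (Fin (k + 1)) (Fin (k + 1)) F) *ᵥ x = M1 q (l - 1) e' e' *ᵥ x := by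
    intro x
    have hEq : Set.EqOn (Matrix.mulVecLin ((g : Matrix.SpecialLinearGroup (Fin (k + 1)) F) :
        Matrix (Fin (k + 1)) (Fin (k + 1)) F)) (Matrix.mulVecLin (M1 q (l - 1) e' e'))
        (Set.range (Fin.snoc (α := fun _ => Fin (k + 1) → F) e e')) := by
      rintro _ ⟨i, rfl⟩
      rw [Matrix.mulVecLin_apply, Matrix.mulVecLin_apply, M1_mulVec]
      refine Fin.lastCases ?_ (fun i => ?_) i
      · rw [Fin.snoc_last]
        have h1 : Cfsg.hermForm (k + 1) F q e' e' = 1 := he'
        rw [h1, mul_one]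
        change actv g e' = _
        rw [← hy, hyl]
        module
      · rw [Fin.snoc_castSucc]
        have h1 : Cfsg.hermForm (k + 1) F q (e i) e' = 0 := stdB_swap_zero hF _ _ (he'W i)
        rw [h1, mul_zero, zero_smul, add_zero]
        exact hg i
    exact LinearMap.congr_fun (LinearMap.ext_on hspan hEq) x
  have hM : ((g : Matrix.SpecialLinearGroup (Fin (k + 1)) F) :
      Matrix (Fin (k + 1)) (Fin (k + 1)) F) = M1 q (l - 1) e' e' := mat_ext key
  have hdet : (M1 q (l - 1) e' e').det = 1 := by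
    rw [← hM]
    exact (g : Matrix.SpecialLinearGroup (Fin (k + 1)) F).2
  rw [M1_det] at hdet
  have h1 : Cfsg.hermForm (k + 1) F q e' e' = 1 := he'
  rw [h1, mul_one] at hdet
  have hl1 : l - 1 = 0 := by linear_combination hdet
  apply SU_ext
  intro x
  rw [key x, M1_mulVec, hl1, zero_mul, zero_smul, add_zero]
  simp

/-- for `q = 2`, in the orthogonal complement `W` of an orthonormal family with `dim W ≥ 4`,
`TG W` is transitive on orthonormal pairs with the same first vector -/
theorem conn_pair_q2 (hq : q = 2) {k : ℕ} (e : Fin k → (Fin n → F)) (hON : ON hF e)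
    (hk : k + 4 ≤ n) (e' f f' : Fin n → F) (he'W : e' ∈ perpS hF e) (he' : stdB hF n e' e' = 1)
    (hfW : f ∈ perpS hF (Fin.snoc (α := fun _ => Fin n → F) e e'))
    (hf'W : f' ∈ perpS hF (Fin.snoc (α := fun _ => Fin n → F) e e'))
    (hff : stdB hF n f f = 1) (hf'f' : stdB hF n f' f' = 1) :
    ∃ t ∈ TG hF (perpS hF e), actv t e' = e' ∧ actv t f' = f := by
  have hON1 := hON.snoc e' he' he'W
  have hmono := TG_mono hF (perpS_snoc_le (hF := hF) e e')
  have hfix : ∀ t ∈ TG hF (perpS hF (Fin.snoc (α := fun _ => Fin n → F) e e')),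
      actv t e' = e' := by
    intro t ht
    have := TG_fix_ON hF _ t ht (Fin.last k)
    rwa [Fin.snoc_last] at this
  have hfW' := (perpS_snoc e e' f).mp hfW
  have hf'W' := (perpS_snoc e e' f').mp hf'W
  by_cases hx : stdB hF n f f' = 0
  · obtain ⟨t, ht, htf⟩ := plane_conn hF _ f' f hf'W hfW hf'f' hff (by
      rw [stdB_swap_zero hF _ _ hx, zero_mul]
      exact zero_ne_one)
    exact ⟨t, hmono ht, hfix t ht, htf⟩
  · obtain ⟨x, hx1⟩ : ∃ x, x = stdB hF n f f' := ⟨_, rfl⟩
    rw [← hx1] at hx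
    have hx3 : x ^ 3 = 1 := by
      have := FiniteField.pow_card_sub_one_eq_one x hx
      rw [hF, hq] at this
      exact this
    have hσx : frobQ hF x = x ^ 2 := by rw [frobQ_apply, hq]
    have hσxi : frobQ hF x⁻¹ = x := by
      rw [map_inv₀, hσx]
      field_simp
      exact hx3.symm
    obtain ⟨f'', hf''⟩ : ∃ f'', f'' = x⁻¹ • f' := ⟨_, rfl⟩
    have hf''W : f'' ∈ perpS hF (Fin.snoc (α := fun _ => Fin n → F) e e') := by
      rw [hf'']
      exact (perpS hF _).smul_mem _ hf'W
    have hf''W' := (perpS_snoc e e' f'').mp hf''W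
    have hf''f'' : stdB hF n f'' f'' = 1 := by
      rw [hf'']
      simp only [map_smul, LinearMap.map_smulₛₗ, LinearMap.smul_apply, smul_eq_mul, hf'f', hσxi]
      field_simp
    have hff'' : stdB hF n f f'' = 1 := by
      rw [hf'', map_smul, ← hx1, smul_eq_mul]
      exact inv_mul_cancel₀ hx
    obtain ⟨t1, ht1, h1e, h1f⟩ := cyc4 hF hq (perpS hF e) e' f f'' he'W hfW'.1 hf''W'.1 he' hff
      hf''f'' hfW'.2 hf''W'.2 hff''
    have hON2 := hON1.snoc f' hf'f' hf'W
    obtain ⟨d, hdW, hdd⟩ := hON2.exists_unit (by omega)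
    rw [perpS_snoc] at hdW
    obtain ⟨t3, ht3, h3f⟩ := conn_via hF _ f' f'' d hf'W hf''W hdW.1 hf'f' hf''f'' hdd hdW.2 (by
      rw [hf'', map_smul, stdB_swap_zero hF _ _ hdW.2, smul_zero, zero_mul]
      exact zero_ne_one)
    refine ⟨t1⁻¹ * t3, Subgroup.mul_mem _ (Subgroup.inv_mem _ ht1) (hmono ht3), ?_, ?_⟩
    · rw [actv_mul, hfix t3 ht3]
      exact actv_inv t1 e' e' h1e
    · rw [actv_mul, h3f]
      exact actv_inv t1 f f'' h1f

/-- an element of `SU` fixing an orthonormal family lies in `TG` of the orthogonal complement -/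
theorem mem_TG_of_fix : ∀ (m : ℕ), 1 ≤ m → (3 ≤ q ∨ m ≠ 3) → ∀ (k : ℕ) (e : Fin k → (Fin n → F)),
    ON hF e → k + m = n → ∀ g : ↥(Cfsg.SU n F q), (∀ i, actv g (e i) = e i) →
    g ∈ TG hF (perpS hF e) := by
  intro m
  induction m using Nat.strong_induction_on with
  | _ m ih =>
    intro hm1 hqm k e hON hkm g hg
    by_cases hm : m = 1
    · subst hm
      rw [fix_ON_eq_one hF e hON hkm g hg]
      exact Subgroup.one_mem _
    have hm2 : 2 ≤ m := by omega
    obtain ⟨e', he'W, he'⟩ := hON.exists_unit (by omega)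
    have hON1 := hON.snoc e' he' he'W
    have hyW := actv_mem_perpS hF e g hg e' he'W
    have hyy : stdB hF n (actv g e') (actv g e') = 1 := by rw [actv_iso, he']
    obtain ⟨t, ht, hty⟩ := conn_units hF e hON m hkm hm2 hqm (actv g e') e' hyW he'W hyy he'
    have hg1 : ∀ i, actv (t * g) (Fin.snoc (α := fun _ => Fin n → F) e e' i) =
        Fin.snoc (α := fun _ => Fin n → F) e e' i := by
      intro i
      refine Fin.lastCases ?_ (fun i => ?_) i
      · rw [Fin.snoc_last, actv_mul, hty]
      · rw [Fin.snoc_castSucc, actv_mul, hg i, TG_fix_ON hF e t ht i]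
    have hmono := TG_mono hF (perpS_snoc_le (hF := hF) e e')
    suffices h : t * g ∈ TG hF (perpS hF e) by
      have : g = t⁻¹ * (t * g) := by group
      rw [this]
      exact Subgroup.mul_mem _ (Subgroup.inv_mem _ ht) h
    by_cases hsp : 3 ≤ q ∨ m - 1 ≠ 3
    · exact hmono (ih (m - 1) (by omega) (by omega) hsp (k + 1) _ hON1 (by omega) (t * g) hg1)
    · -- `q = 2` and `m = 4`
      have hq2 : q = 2 := by
        have := Cfsg.Agent.Helper19.herm_two_le hF
        omega
      have hm4 : m = 4 := by omega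
      obtain ⟨f, hfW, hff⟩ := hON1.exists_unit (by omega)
      have hf'W := actv_mem_perpS hF _ (t * g) hg1 f hfW
      have hf'f' : stdB hF n (actv (t * g) f) (actv (t * g) f) = 1 := by rw [actv_iso, hff]
      obtain ⟨t2, ht2, h2e, h2f⟩ := conn_pair_q2 hF hq2 e hON (by omega) e' f (actv (t * g) f)
        he'W he' hfW hf'W hff hf'f'
      have hON2 := hON1.snoc f hff hfW
      have hg2 : ∀ i, actv (t2 * (t * g)) (Fin.snoc (α := fun _ => Fin n → F)
          (Fin.snoc (α := fun _ => Fin n → F) e e') f i) =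
          Fin.snoc (α := fun _ => Fin n → F) (Fin.snoc (α := fun _ => Fin n → F) e e') f i := by
        intro i
        refine Fin.lastCases ?_ (fun i => ?_) i
        · rw [Fin.snoc_last, actv_mul, h2f]
        · rw [Fin.snoc_castSucc, actv_mul, hg1 i]
          refine Fin.lastCases ?_ (fun i => ?_) i
          · rw [Fin.snoc_last, h2e]
          · rw [Fin.snoc_castSucc, TG_fix_ON hF e t2 ht2 i]
      have h2 := ih 2 (by omega) (by omega) (Or.inr (by omega)) (k + 1 + 1) _ hON2 (by omega)
        (t2 * (t * g)) hg2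
      have hmono2 := TG_mono hF ((perpS_snoc_le (hF := hF)
        (Fin.snoc (α := fun _ => Fin n → F) e e') f).trans (perpS_snoc_le (hF := hF) e e'))
      have : t * g = t2⁻¹ * (t2 * (t * g)) := by group
      rw [this]
      exact Subgroup.mul_mem _ (Subgroup.inv_mem _ ht2) (hmono2 h2)

/-- `SU_n(q)` is generated by the unitary transvections -/
theorem TG_top (hn : 3 ≤ n) (h32 : ¬(n = 3 ∧ q = 2)) :
    TG hF (⊤ : Submodule F (Fin n → F)) = ⊤ := by
  rw [eq_top_iff]
  intro g _
  have hq := Cfsg.Agent.Helper19.herm_two_le hF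
  have h := mem_TG_of_fix hF n (by omega) (by omega) 0 (fun i => i.elim0) (fun i => i.elim0)
    (by omega) g (fun i => i.elim0)
  exact TG_mono hF le_top h

end SUGen

end Cfsg.Agent.Helper13
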