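import Mathlib
import Cfsg.Prelude.Def_ClassicalGeometry

set_option autoImplicit false

namespace Cfsg.Agent.Helper13

open Matrix

section SympForm

variable {R : Type*} [CommRing R] {m : ℕ}

theorem sympForm_add_left (u u' v : Fin m ⊕ Fin m → R) :
    Cfsg.sympForm m R (u + u') v = Cfsg.sympForm m R u v + Cfsg.sympForm m R u' v := by
  unfold Cfsg.sympForm; rw [add_dotProduct]

theorem sympForm_add_right (u v v' : Fin m ⊕ Fin m → R) :
    Cfsg.sympForm m R u (v + v') = Cfsg.sympForm m R u v + Cfsg.sympForm m R u v' := by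
  unfold Cfsg.sympForm; rw [Matrix.mulVec_add, dotProduct_add]

theorem sympForm_smul_left (a : R) (u v : Fin m ⊕ Fin m → R) :
    Cfsg.sympForm m R (a • u) v = a * Cfsg.sympForm m R u v := by
  unfold Cfsg.sympForm; rw [smul_dotProduct, smul_eq_mul]

theorem sympForm_smul_right (a : R) (u v : Fin m ⊕ Fin m → R) :
    Cfsg.sympForm m R u (a • v) = a * Cfsg.sympForm m R u v := by
  unfold Cfsg.sympForm; rw [Matrix.mulVec_smul, dotProduct_smul, smul_eq_mul]

theorem sympForm_self (u : Fin m ⊕ Fin m → R) : Cfsg.sympForm m R u u = 0 := by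
  unfold Cfsg.sympForm
  simp only [dotProduct, Matrix.J, Matrix.mulVec, Fintype.sum_sum_type, Matrix.fromBlocks_apply₁₁,
    Matrix.fromBlocks_apply₁₂, Matrix.fromBlocks_apply₂₁, Matrix.fromBlocks_apply₂₂,
    Matrix.zero_apply, zero_mul, Finset.sum_const_zero, zero_add, add_zero, Matrix.neg_apply,
    Matrix.one_apply, neg_mul, ite_mul, one_mul, Finset.sum_neg_distrib, Finset.sum_ite_eq,
    Finset.mem_univ, if_true, mul_neg]
  rw [neg_add_eq_zero]
  apply Finset.sum_congr rfl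
  intro i _
  ring

theorem sympForm_neg_left (u v : Fin m ⊕ Fin m → R) :
    Cfsg.sympForm m R (-u) v = - Cfsg.sympForm m R u v := by
  unfold Cfsg.sympForm; rw [neg_dotProduct]

theorem sympForm_neg_right (u v : Fin m ⊕ Fin m → R) :
    Cfsg.sympForm m R u (-v) = - Cfsg.sympForm m R u v := by
  unfold Cfsg.sympForm; rw [Matrix.mulVec_neg, dotProduct_neg]

theorem sympForm_sub_left (u u' v : Fin m ⊕ Fin m → R) :
    Cfsg.sympForm m R (u - u') v = Cfsg.sympForm m R u v - Cfsg.sympForm m R u' v := by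
  rw [sub_eq_add_neg, sympForm_add_left, sympForm_neg_left, ← sub_eq_add_neg]

theorem sympForm_sub_right (u v v' : Fin m ⊕ Fin m → R) :
    Cfsg.sympForm m R u (v - v') = Cfsg.sympForm m R u v - Cfsg.sympForm m R u v' := by
  rw [sub_eq_add_neg, sympForm_add_right, sympForm_neg_right, ← sub_eq_add_neg]

theorem sympForm_zero_left (v : Fin m ⊕ Fin m → R) : Cfsg.sympForm m R 0 v = 0 := by
  unfold Cfsg.sympForm; rw [zero_dotProduct]

theorem sympForm_zero_right (u : Fin m ⊕ Fin m → R) : Cfsg.sympForm m R u 0 = 0 := by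
  unfold Cfsg.sympForm; rw [Matrix.mulVec_zero, dotProduct_zero]

theorem sympForm_swap (u v : Fin m ⊕ Fin m → R) :
    Cfsg.sympForm m R u v = - Cfsg.sympForm m R v u := by
  have h := sympForm_self (u + v)
  rw [sympForm_add_left, sympForm_add_right, sympForm_add_right, sympForm_self, sympForm_self,
    zero_add, add_zero] at h
  linear_combination h

theorem sympForm_mulVec {A : Matrix (Fin m ⊕ Fin m) (Fin m ⊕ Fin m) R}
    (hA : A ∈ Matrix.symplecticGroup (Fin m) R) (u v : Fin m ⊕ Fin m → R) :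
    Cfsg.sympForm m R (A *ᵥ u) (A *ᵥ v) = Cfsg.sympForm m R u v := by
  unfold Cfsg.sympForm
  have hA' : Aᵀ * Matrix.J (Fin m) R * A = Matrix.J (Fin m) R := SymplecticGroup.mem_iff'.mp hA
  rw [Matrix.mulVec_mulVec, ← Matrix.vecMul_transpose, Matrix.dotProduct_mulVec,
    Matrix.vecMul_vecMul, ← Matrix.dotProduct_mulVec, ← Matrix.mul_assoc, hA']

theorem sympTransvection_mulVec (w : Fin m ⊕ Fin m → R) (c : R) (x : Fin m ⊕ Fin m → R) :
    Cfsg.sympTransvection m w c *ᵥ x = x + (c * Cfsg.sympForm m R x w) • w := by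
  unfold Cfsg.sympTransvection Cfsg.sympForm
  rw [Matrix.add_mulVec, Matrix.one_mulVec, Matrix.smul_mulVec, Matrix.vecMulVec_mulVec,
    op_smul_eq_smul, smul_smul, dotProduct_comm]

theorem sympTransvection_mem (w : Fin m ⊕ Fin m → R) (c : R) :
    Cfsg.sympTransvection m w c ∈ Matrix.symplecticGroup (Fin m) R := by
  rw [SymplecticGroup.mem_iff]
  unfold Cfsg.sympTransvection
  have h0 : w ⬝ᵥ (Matrix.J (Fin m) R *ᵥ w) = 0 := sympForm_self w
  have hJJ : Matrix.J (Fin m) R *ᵥ (Matrix.J (Fin m) R *ᵥ w) = -w := by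
    rw [Matrix.mulVec_mulVec, Matrix.J_squared, Matrix.neg_mulVec, Matrix.one_mulVec]
  have hJvJ : (Matrix.J (Fin m) R *ᵥ w) ᵥ* Matrix.J (Fin m) R = w := by
    rw [← Matrix.mulVec_transpose, Matrix.mulVec_mulVec, Matrix.J_transpose, Matrix.neg_mul,
      Matrix.J_squared, neg_neg, Matrix.one_mulVec]
  have h1 : vecMulVec w (Matrix.J (Fin m) R *ᵥ w) * Matrix.J (Fin m) R = vecMulVec w w := by
    rw [Matrix.vecMulVec_mul, hJvJ]
  have h2 : Matrix.J (Fin m) R * vecMulVec (Matrix.J (Fin m) R *ᵥ w) w = - vecMulVec w w := by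
    rw [Matrix.mul_vecMulVec, hJJ, Matrix.neg_vecMulVec]
  have h3 : vecMulVec w w * vecMulVec (Matrix.J (Fin m) R *ᵥ w) w = 0 := by
    rw [Matrix.vecMulVec_mul_vecMulVec, h0, zero_smul, Matrix.vecMulVec_zero]
  rw [Matrix.transpose_add, Matrix.transpose_one, Matrix.transpose_smul,
    Matrix.transpose_vecMulVec, Matrix.add_mul, Matrix.one_mul, Matrix.smul_mul, h1,
    Matrix.mul_add, Matrix.mul_one, Matrix.add_mul, Matrix.mul_smul, h2, Matrix.smul_mul,
    Matrix.mul_smul, h3]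
  simp

end SympForm

end Cfsg.Agent.Helper13

namespace Cfsg.Agent.Helper13

open Matrix

section Trans

variable {F : Type*} [Field F] {m : ℕ}

/-- the transvection `T_w(c)` as an element of the symplectic group -/
def sympT (w : Fin m ⊕ Fin m → F) (c : F) : Matrix.symplecticGroup (Fin m) F :=
  ⟨Cfsg.sympTransvection m w c, sympTransvection_mem w c⟩

/-- subgroup generated by the transvections with vector in `W` -/
def transvGroup (W : Submodule F (Fin m ⊕ Fin m → F)) :
    Subgroup (Matrix.symplecticGroup (Fin m) F) :=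
  Subgroup.closure {A | ∃ w ∈ W, ∃ c : F,
    (A : Matrix (Fin m ⊕ Fin m) (Fin m ⊕ Fin m) F) = Cfsg.sympTransvection m w c}

theorem sympT_mem_transvGroup (W : Submodule F (Fin m ⊕ Fin m → F)) {w : Fin m ⊕ Fin m → F}
    (hw : w ∈ W) (c : F) : sympT w c ∈ transvGroup W :=
  Subgroup.subset_closure ⟨w, hw, c, rfl⟩

theorem inv_mulVec_mulVec (A : Matrix.symplecticGroup (Fin m) F) (x : Fin m ⊕ Fin m → F) :
    (A⁻¹).val *ᵥ (A.val *ᵥ x) = x := by
  rw [Matrix.mulVec_mulVec, ← Submonoid.coe_mul, inv_mul_cancel, Submonoid.coe_one,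
    Matrix.one_mulVec]

theorem mulVec_inv_mulVec (A : Matrix.symplecticGroup (Fin m) F) (x : Fin m ⊕ Fin m → F) :
    A.val *ᵥ ((A⁻¹).val *ᵥ x) = x := by
  rw [Matrix.mulVec_mulVec, ← Submonoid.coe_mul, mul_inv_cancel, Submonoid.coe_one,
    Matrix.one_mulVec]

theorem transvGroup_sub_mem (W : Submodule F (Fin m ⊕ Fin m → F))
    {A : Matrix.symplecticGroup (Fin m) F} (hA : A ∈ transvGroup W) :
    ∀ x, A.val *ᵥ x - x ∈ W := by
  induction hA using Subgroup.closure_induction with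
  | mem A hA =>
    obtain ⟨w, hw, c, hAw⟩ := hA
    intro x
    rw [hAw, sympTransvection_mulVec, add_sub_cancel_left]
    exact W.smul_mem _ hw
  | one => intro x; simp
  | mul A B _ _ ihA ihB =>
    intro x
    rw [Submonoid.coe_mul, ← Matrix.mulVec_mulVec]
    have : A.val *ᵥ (B.val *ᵥ x) - x = (A.val *ᵥ (B.val *ᵥ x) - B.val *ᵥ x) + (B.val *ᵥ x - x) := by
      abel
    rw [this]
    exact W.add_mem (ihA _) (ihB _)
  | inv A _ ihA =>
    intro x
    have h := ihA ((A⁻¹).val *ᵥ x)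
    rw [mulVec_inv_mulVec] at h
    have : (A⁻¹).val *ᵥ x - x = -(x - (A⁻¹).val *ᵥ x) := by abel
    rw [this]
    exact W.neg_mem h

theorem transvGroup_fix (W : Submodule F (Fin m ⊕ Fin m → F))
    {A : Matrix.symplecticGroup (Fin m) F} (hA : A ∈ transvGroup W) :
    ∀ z, (∀ w ∈ W, Cfsg.sympForm m F z w = 0) → A.val *ᵥ z = z := by
  induction hA using Subgroup.closure_induction with
  | mem A hA =>
    obtain ⟨w, hw, c, hAw⟩ := hA
    intro z hz
    rw [hAw, sympTransvection_mulVec, hz w hw, mul_zero, zero_smul, add_zero]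
  | one => intro z _; simp
  | mul A B _ _ ihA ihB =>
    intro z hz
    rw [Submonoid.coe_mul, ← Matrix.mulVec_mulVec, ihB z hz, ihA z hz]
  | inv A _ ihA =>
    intro z hz
    have h := ihA z hz
    have h2 := inv_mulVec_mulVec A z
    rw [h] at h2
    exact h2

theorem transvGroup_mono {W W' : Submodule F (Fin m ⊕ Fin m → F)} (h : W ≤ W') :
    transvGroup W ≤ transvGroup W' := by
  apply Subgroup.closure_mono
  rintro A ⟨w, hw, c, hA⟩
  exact ⟨w, h hw, c, hA⟩

/-- one transvection moving `x` to `y` when `f(x,y) ≠ 0` -/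
theorem exists_transv_of_ne (W : Submodule F (Fin m ⊕ Fin m → F))
    {x y : Fin m ⊕ Fin m → F} (hx : x ∈ W) (hy : y ∈ W) (hxy : Cfsg.sympForm m F x y ≠ 0) :
    ∃ A ∈ transvGroup W, A.val *ᵥ x = y ∧
      ∀ z, Cfsg.sympForm m F z (y - x) = 0 → A.val *ᵥ z = z := by
  refine ⟨sympT (y - x) (Cfsg.sympForm m F x y)⁻¹,
    sympT_mem_transvGroup W (W.sub_mem hy hx) _, ?_, ?_⟩
  · change Cfsg.sympTransvection m (y - x) _ *ᵥ x = y
    rw [sympTransvection_mulVec, sympForm_sub_right, sympForm_self, sub_zero,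
      inv_mul_cancel₀ hxy, one_smul]
    abel
  · intro z hz
    change Cfsg.sympTransvection m (y - x) _ *ᵥ z = z
    rw [sympTransvection_mulVec, hz, mul_zero, zero_smul, add_zero]

/-- relative transitivity on hyperbolic pairs -/
theorem transvGroup_pairs (W : Submodule F (Fin m ⊕ Fin m → F))
    {u v u' v' : Fin m ⊕ Fin m → F} (hu : u ∈ W) (hv : v ∈ W) (hu' : u' ∈ W) (hv' : v' ∈ W)
    (h : Cfsg.sympForm m F u v = 1) (h' : Cfsg.sympForm m F u' v' = 1) :
    ∃ A ∈ transvGroup W, A.val *ᵥ u = u' ∧ A.val *ᵥ v = v' := by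
  -- Step A: move u to u'
  have stepA : ∃ A ∈ transvGroup W, A.val *ᵥ u = u' := by
    by_cases h0 : Cfsg.sympForm m F u u' = 0
    · -- find an intermediate vector
      have hw : ∃ w ∈ W, Cfsg.sympForm m F u w ≠ 0 ∧ Cfsg.sympForm m F w u' ≠ 0 := by
        by_cases h1 : Cfsg.sympForm m F u' v = 0
        · by_cases h2 : Cfsg.sympForm m F u v' = 0
          · refine ⟨v + v', W.add_mem hv hv', ?_, ?_⟩
            · rw [sympForm_add_right, h, h2, add_zero]; exact one_ne_zero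
            · rw [sympForm_add_left, sympForm_swap v u', h1, sympForm_swap v' u', h']
              simp
          · refine ⟨v', hv', h2, ?_⟩
            rw [sympForm_swap, h']; simp
        · refine ⟨v, hv, by rw [h]; exact one_ne_zero, ?_⟩
          rw [sympForm_swap]; exact neg_ne_zero.mpr h1
      obtain ⟨w, hwW, hw1, hw2⟩ := hw
      obtain ⟨A₁, hA₁, hA₁u, -⟩ := exists_transv_of_ne W hu hwW hw1
      obtain ⟨A₂, hA₂, hA₂w, -⟩ := exists_transv_of_ne W hwW hu' hw2
      refine ⟨A₂ * A₁, (transvGroup W).mul_mem hA₂ hA₁, ?_⟩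
      rw [Submonoid.coe_mul, ← Matrix.mulVec_mulVec, hA₁u, hA₂w]
    · obtain ⟨A, hA, hAu, -⟩ := exists_transv_of_ne W hu hu' h0
      exact ⟨A, hA, hAu⟩
  obtain ⟨A, hA, hAu⟩ := stepA
  set v₁ := A.val *ᵥ v with hv₁
  have hv₁W : v₁ ∈ W := by
    have := transvGroup_sub_mem W hA v
    have h2 : v₁ = (A.val *ᵥ v - v) + v := by rw [hv₁]; abel
    rw [h2]
    exact W.add_mem this hv
  have huv₁ : Cfsg.sympForm m F u' v₁ = 1 := by
    rw [← hAu, hv₁, sympForm_mulVec A.2, h]
  -- Step B: fix u', move v₁ to v'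
  have stepB : ∃ B ∈ transvGroup W, B.val *ᵥ u' = u' ∧ B.val *ᵥ v₁ = v' := by
    by_cases h0 : Cfsg.sympForm m F v₁ v' = 0
    · -- via w = v₁ + u'
      have hwW : v₁ + u' ∈ W := W.add_mem hv₁W hu'
      have hw1 : Cfsg.sympForm m F v₁ (v₁ + u') ≠ 0 := by
        rw [sympForm_add_right, sympForm_self, zero_add, sympForm_swap, huv₁]; simp
      have hw2 : Cfsg.sympForm m F (v₁ + u') v' ≠ 0 := by
        rw [sympForm_add_left, h0, h', zero_add]; exact one_ne_zero
      obtain ⟨B₁, hB₁, hB₁v, hB₁fix⟩ := exists_transv_of_ne W hv₁W hwW hw1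
      obtain ⟨B₂, hB₂, hB₂w, hB₂fix⟩ := exists_transv_of_ne W hwW hv' hw2
      refine ⟨B₂ * B₁, (transvGroup W).mul_mem hB₂ hB₁, ?_, ?_⟩
      · rw [Submonoid.coe_mul, ← Matrix.mulVec_mulVec, hB₁fix u', hB₂fix u']
        · rw [sympForm_sub_right, sympForm_add_right, h', huv₁, sympForm_self]; ring
        · rw [add_sub_cancel_left, sympForm_self]
      · rw [Submonoid.coe_mul, ← Matrix.mulVec_mulVec, hB₁v, hB₂w]
    · obtain ⟨B, hB, hBv, hBfix⟩ := exists_transv_of_ne W hv₁W hv' h0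
      refine ⟨B, hB, hBfix u' ?_, hBv⟩
      rw [sympForm_sub_right, h', huv₁, sub_self]
  obtain ⟨B, hB, hBu, hBv⟩ := stepB
  refine ⟨B * A, (transvGroup W).mul_mem hB hA, ?_, ?_⟩
  · rw [Submonoid.coe_mul, ← Matrix.mulVec_mulVec, hAu, hBu]
  · rw [Submonoid.coe_mul, ← Matrix.mulVec_mulVec, ← hv₁, hBv]

theorem transvGroup_top_eq :
    transvGroup (⊤ : Submodule F (Fin m ⊕ Fin m → F)) =
      Subgroup.closure {A : Matrix.symplecticGroup (Fin m) F |
        ∃ (w : Fin m ⊕ Fin m → F) (c : F),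
          (A : Matrix (Fin m ⊕ Fin m) (Fin m ⊕ Fin m) F) = Cfsg.sympTransvection m w c} := by
  unfold transvGroup
  congr 1
  ext A
  simp

end Trans

end Cfsg.Agent.Helper13
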