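import Mathlib
import Cfsg.Prelude.Def_ClassicalGeometry
import Cfsg.Agent.Lib.Helper13.Symp

set_option autoImplicit false

namespace Cfsg.Agent.Helper13

open Matrix

section Geom

variable {F : Type*} [Field F] {m : ℕ}

theorem sympForm_single_inl' (x : Fin m ⊕ Fin m → F) (i : Fin m) :
    Cfsg.sympForm m F x (Pi.single (Sum.inl i) 1) = x (Sum.inr i) := by
  unfold Cfsg.sympForm
  rw [Matrix.mulVec_single_one]
  simp only [dotProduct, Fintype.sum_sum_type, Matrix.col_apply, Matrix.J, Matrix.fromBlocks_apply₁₁,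
    Matrix.fromBlocks_apply₂₁, Matrix.zero_apply, mul_zero, Finset.sum_const_zero, zero_add,
    Matrix.one_apply, mul_ite, mul_one, Finset.sum_ite_eq', Finset.mem_univ, if_true]

theorem sympForm_single_inr' (x : Fin m ⊕ Fin m → F) (i : Fin m) :
    Cfsg.sympForm m F x (Pi.single (Sum.inr i) 1) = - x (Sum.inl i) := by
  unfold Cfsg.sympForm
  rw [Matrix.mulVec_single_one]
  simp only [dotProduct, Fintype.sum_sum_type, Matrix.col_apply, Matrix.J, Matrix.fromBlocks_apply₁₂,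
    Matrix.fromBlocks_apply₂₂, Matrix.zero_apply, mul_zero, Finset.sum_const_zero, add_zero,
    Matrix.neg_apply, Matrix.one_apply, mul_neg, mul_ite, mul_one, Finset.sum_neg_distrib,
    Finset.sum_ite_eq', Finset.mem_univ, if_true]

/-- every nonzero vector has a hyperbolic partner -/
theorem exists_partner {u : Fin m ⊕ Fin m → F} (hu : u ≠ 0) :
    ∃ v, Cfsg.sympForm m F u v = 1 := by
  have : ∃ k, u k ≠ 0 := by
    by_contra h
    push Not at h
    exact hu (funext h)
  obtain ⟨k, hk⟩ := this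
  rcases k with i | i
  · refine ⟨(-(u (Sum.inl i))⁻¹) • Pi.single (Sum.inr i) 1, ?_⟩
    rw [sympForm_smul_right, sympForm_single_inr']
    field_simp
  · refine ⟨((u (Sum.inr i))⁻¹) • Pi.single (Sum.inl i) 1, ?_⟩
    rw [sympForm_smul_right, sympForm_single_inl']
    field_simp

/-- two independent vectors are separated by the form -/
theorem exists_sep {u w : Fin m ⊕ Fin m → F} (hw : w ≠ 0) (huw : ∀ a : F, u ≠ a • w) :
    ∃ z, Cfsg.sympForm m F u z = 1 ∧ Cfsg.sympForm m F w z = 0 := by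
  obtain ⟨v, hv⟩ := exists_partner hw
  have hu' : u - Cfsg.sympForm m F u v • w ≠ 0 := by
    intro h
    exact huw _ (sub_eq_zero.mp h)
  obtain ⟨t, ht⟩ := exists_partner hu'
  refine ⟨t - Cfsg.sympForm m F w t • v, ?_, ?_⟩
  · rw [sympForm_sub_left, sympForm_smul_left] at ht
    rw [sympForm_sub_right, sympForm_smul_right]
    linear_combination ht
  · rw [sympForm_sub_right, sympForm_smul_right, hv, mul_one, sub_self]

/-- the stabilizer of `u` is transitive (projectively) on the vectors not orthogonal to `u` -/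
theorem exists_symp_fix_nonorth {u w w' : Fin m ⊕ Fin m → F}
    (h : Cfsg.sympForm m F u w ≠ 0) (h' : Cfsg.sympForm m F u w' ≠ 0) :
    ∃ A : Matrix.symplecticGroup (Fin m) F, A.val *ᵥ u = u ∧
      ∃ c : F, c ≠ 0 ∧ A.val *ᵥ w = c • w' := by
  have h1 : Cfsg.sympForm m F u ((Cfsg.sympForm m F u w)⁻¹ • w) = 1 := by
    rw [sympForm_smul_right, inv_mul_cancel₀ h]
  have h2 : Cfsg.sympForm m F u ((Cfsg.sympForm m F u w')⁻¹ • w') = 1 := by
    rw [sympForm_smul_right, inv_mul_cancel₀ h']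
  obtain ⟨A, -, hAu, hAw⟩ := transvGroup_pairs (⊤ : Submodule F (Fin m ⊕ Fin m → F))
    (Submodule.mem_top) (Submodule.mem_top) (Submodule.mem_top) (Submodule.mem_top) h1 h2
  refine ⟨A, hAu, Cfsg.sympForm m F u w * (Cfsg.sympForm m F u w')⁻¹,
    mul_ne_zero h (inv_ne_zero h'), ?_⟩
  rw [Matrix.mulVec_smul] at hAw
  have := congrArg (fun x => Cfsg.sympForm m F u w • x) hAw
  simp only [smul_smul] at this
  rw [mul_inv_cancel₀ h, one_smul] at this
  exact this

/-- the subspace orthogonal to two given vectors -/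
def perp2 (u v : Fin m ⊕ Fin m → F) : Submodule F (Fin m ⊕ Fin m → F) where
  carrier := {x | Cfsg.sympForm m F x u = 0 ∧ Cfsg.sympForm m F x v = 0}
  add_mem' := by
    rintro a b ⟨ha1, ha2⟩ ⟨hb1, hb2⟩
    exact ⟨by rw [sympForm_add_left, ha1, hb1, add_zero],
      by rw [sympForm_add_left, ha2, hb2, add_zero]⟩
  zero_mem' := ⟨sympForm_zero_left _, sympForm_zero_left _⟩
  smul_mem' := by
    rintro c a ⟨ha1, ha2⟩
    exact ⟨by rw [sympForm_smul_left, ha1, mul_zero], by rw [sympForm_smul_left, ha2, mul_zero]⟩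

theorem mem_perp2 {u v x : Fin m ⊕ Fin m → F} :
    x ∈ perp2 u v ↔ Cfsg.sympForm m F x u = 0 ∧ Cfsg.sympForm m F x v = 0 := Iff.rfl

/-- partner inside the orthogonal of a hyperbolic pair -/
theorem exists_partner_perp2 {u v w : Fin m ⊕ Fin m → F} (huv : Cfsg.sympForm m F u v = 1)
    (hw : w ∈ perp2 u v) (hw0 : w ≠ 0) :
    ∃ t ∈ perp2 u v, Cfsg.sympForm m F w t = 1 := by
  obtain ⟨t₀, ht₀⟩ := exists_partner hw0
  obtain ⟨hw1, hw2⟩ := hw
  have hvu : Cfsg.sympForm m F v u = -1 := by rw [sympForm_swap, huv]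
  refine ⟨t₀ + Cfsg.sympForm m F v t₀ • u - Cfsg.sympForm m F u t₀ • v, ⟨?_, ?_⟩, ?_⟩
  · rw [sympForm_sub_left, sympForm_add_left, sympForm_smul_left, sympForm_smul_left,
      sympForm_self, hvu, sympForm_swap t₀ u]
    ring
  · rw [sympForm_sub_left, sympForm_add_left, sympForm_smul_left, sympForm_smul_left,
      sympForm_self, huv, sympForm_swap t₀ v]
    ring
  · rw [sympForm_sub_right, sympForm_add_right, sympForm_smul_right, sympForm_smul_right,
      hw1, hw2, ht₀]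
    ring

/-- the stabilizer of `u` is transitive on the vectors orthogonal to and independent of `u` -/
theorem exists_symp_fix_orth {u w w' : Fin m ⊕ Fin m → F}
    (hw0 : w ≠ 0) (hw0' : w' ≠ 0)
    (hind : ∀ a : F, u ≠ a • w) (hind' : ∀ a : F, u ≠ a • w')
    (h : Cfsg.sympForm m F u w = 0) (h' : Cfsg.sympForm m F u w' = 0) :
    ∃ A : Matrix.symplecticGroup (Fin m) F, A.val *ᵥ u = u ∧ A.val *ᵥ w = w' := by
  obtain ⟨v, hv1, hv2⟩ := exists_sep hw0 hind
  obtain ⟨v', hv1', hv2'⟩ := exists_sep hw0' hind'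
  obtain ⟨A₁, -, hA₁u, hA₁v⟩ := transvGroup_pairs (⊤ : Submodule F (Fin m ⊕ Fin m → F))
    (Submodule.mem_top) (Submodule.mem_top) (Submodule.mem_top) (Submodule.mem_top) hv1 hv1'
  set w₁ := A₁.val *ᵥ w with hw₁
  have hw₁0 : w₁ ≠ 0 := by
    intro h0
    have := inv_mulVec_mulVec A₁ w
    rw [← hw₁, h0, Matrix.mulVec_zero] at this
    exact hw0 this.symm
  have hw₁W : w₁ ∈ perp2 u v' := by
    constructor
    · rw [sympForm_swap, ← hA₁u, hw₁, sympForm_mulVec A₁.2, h, neg_zero]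
    · rw [← hA₁v, hw₁, sympForm_mulVec A₁.2, hv2]
  have hw'W : w' ∈ perp2 u v' := by
    constructor
    · rw [sympForm_swap, h', neg_zero]
    · exact hv2'
  obtain ⟨t₁, ht₁W, ht₁⟩ := exists_partner_perp2 hv1' hw₁W hw₁0
  obtain ⟨t', ht'W, ht'⟩ := exists_partner_perp2 hv1' hw'W hw0'
  obtain ⟨B, hB, hBw, -⟩ := transvGroup_pairs (perp2 u v') hw₁W ht₁W hw'W ht'W ht₁ ht'
  have hBu : B.val *ᵥ u = u := by
    apply transvGroup_fix _ hB
    intro x hx
    rw [sympForm_swap, hx.1, neg_zero]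
  refine ⟨B * A₁, ?_, ?_⟩
  · rw [Submonoid.coe_mul, ← Matrix.mulVec_mulVec, hA₁u, hBu]
  · rw [Submonoid.coe_mul, ← Matrix.mulVec_mulVec, ← hw₁, hBw]

/-- transitivity on nonzero vectors -/
theorem exists_symp_map {u u' : Fin m ⊕ Fin m → F} (hu : u ≠ 0) (hu' : u' ≠ 0) :
    ∃ A : Matrix.symplecticGroup (Fin m) F, A.val *ᵥ u = u' := by
  obtain ⟨v, hv⟩ := exists_partner hu
  obtain ⟨v', hv'⟩ := exists_partner hu'
  obtain ⟨A, -, hA, -⟩ := transvGroup_pairs (⊤ : Submodule F (Fin m ⊕ Fin m → F))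
    (Submodule.mem_top) (Submodule.mem_top) (Submodule.mem_top) (Submodule.mem_top) hv hv'
  exact ⟨A, hA⟩

/-- a symplectic matrix as an element of `Cfsg.spGL` -/
noncomputable def toSpGL (A : Matrix.symplecticGroup (Fin m) F) : Cfsg.spGL m F :=
  ⟨Matrix.GeneralLinearGroup.mk'' A.val (SymplecticGroup.symplectic_det A.2),
    fun u v => sympForm_mulVec A.2 u v⟩

theorem toSpGL_val (A : Matrix.symplecticGroup (Fin m) F) :
    ((toSpGL A : Cfsg.spGL m F) : Matrix.GeneralLinearGroup (Fin m ⊕ Fin m) F).val = A.val := rfl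

end Geom

end Cfsg.Agent.Helper13
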