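import Mathlib
import Cfsg.Agent.Lib.Helper87.PsuA
import Cfsg.Agent.Lib.Helper87.PsuB0

/-!
# General endgame for generation of `SU_n(q)` (helper13, for S2282)

If a subgroup `Hs` contains the full unipotent radical `Q_e = {E(e,w,a)}` of the stabiliser of an
isotropic vector `e` and an element moving `e` off `e^⊥`, then `Hs = ⊤`.
-/

set_option autoImplicit false
set_option quotPrecheck false
set_option linter.unusedSectionVars false
set_option linter.unusedVariables false

namespace Cfsg.Agent.Helper13.SUOEnd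

open Matrix Cfsg Cfsg.Agent.Helper13 Cfsg.Agent.Helper87.PsuA Cfsg.Agent.Helper87.PsuB0

variable {F : Type*} [Field F] [Fintype F] {q n : ℕ}

local notation "V" => Fin n → F
local notation "G" => ↥(Cfsg.SU n F q)
local notation "H" => Cfsg.hermForm n F q

variable (hF : Fintype.card F = q ^ 2)

/-- `u` is a full centre for `Hs`: isotropic, and all Eichler elements along `u` lie in `Hs` -/
def FC (Hs : Subgroup G) (u : V) : Prop :=
  H u u = 0 ∧ ∀ (w : V) (a : F), H u w = 0 → a + a ^ q + H w w = 0 → eich hF u w a ∈ Hs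

theorem FC_conj {Hs : Subgroup G} {u : V} (h : FC hF Hs u) {k : G} (hk : k ∈ Hs) :
    FC hF Hs (actv k u) := by
  refine ⟨by rw [H_actv]; exact h.1, fun w a hw ha => ?_⟩
  have hw' : H u (actv k⁻¹ w) = 0 := by rw [H_actv_inv']; exact hw
  have ha' : a + a ^ q + H (actv k⁻¹ w) (actv k⁻¹ w) = 0 := by rw [H_actv]; exact ha
  have h1 := eich_conj hF h.1 hw' ha' k
  rw [actv_actv_inv] at h1
  rw [← h1]
  exact Hs.mul_mem (Hs.mul_mem hk (h.2 _ _ hw' ha')) (Hs.inv_mem hk)

theorem FC_smul {Hs : Subgroup G} {u : V} (h : FC hF Hs u) {c : F} (hc : c ≠ 0) :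
    FC hF Hs (c • u) := by
  refine ⟨by rw [hermForm_smul_left, hermForm_smul_right, h.1, mul_zero, mul_zero],
    fun w a hw ha => ?_⟩
  have huw : H u w = 0 := by
    rw [hermForm_smul_left] at hw
    exact (mul_eq_zero.1 hw).resolve_left hc
  have h3 : H u ((c ^ q) • w) = 0 := by rw [hermForm_smul_right, huw, mul_zero]
  have h4 : c * c ^ q * a + (c * c ^ q * a) ^ q + H ((c ^ q) • w) ((c ^ q) • w) = 0 := by
    rw [hermForm_smul_left, hermForm_smul_right, mul_pow, mul_pow, frob_frob hF]
    linear_combination (c * c ^ q) * ha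
  rw [eich_smul hF h.1 huw ha]
  exact h.2 _ _ h3 h4

/-- `Q_u` is transitive on the isotropic points off `u^⊥` -/
theorem FC_move {Hs : Subgroup G} {u : V} (h : FC hF Hs u) (v v' : V) (hv : H v v = 0)
    (hv' : H v' v' = 0) (hvu : H v u ≠ 0) (hv'u : H v' u ≠ 0) :
    ∃ k ∈ Hs, ∃ c : F, c ≠ 0 ∧ actv k v = c • v' := by
  set s : F := H v u with hs
  set c : F := s / H v' u with hc
  have hc0 : c ≠ 0 := div_ne_zero hvu hv'u
  have hsq : s ^ q ≠ 0 := pow_ne_zero q hvu
  set v2 : V := c • v' with hv2
  have h1 : H v2 u = s := by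
    rw [hv2, hermForm_smul_left, hc, div_mul_cancel₀ _ hv'u]
  have h2 : H v2 v2 = 0 := by
    rw [hv2, hermForm_smul_left, hermForm_smul_right, hv', mul_zero, mul_zero]
  have h3 : H u v2 = s ^ q := by rw [← hermForm_conj hF, h1]
  have h4 : H u v = s ^ q := by rw [← hermForm_conj hF]
  set w : V := s⁻¹ • (v2 - v) with hw
  have huw : H u w = 0 := by
    rw [hw, hermForm_smul_right, H_sub_right hF, h3, h4, sub_self, mul_zero]
  set X : F := H v v2 with hX
  have hY : H v2 v = X ^ q := by rw [hX, hermForm_conj hF]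
  have hvw : H v w = (s ^ q)⁻¹ * X := by
    rw [hw, hermForm_smul_right, H_sub_right hF, hv, sub_zero, inv_pow]
  have hwv : H w v = s⁻¹ * X ^ q := by
    rw [hw, hermForm_smul_left, H_sub_left hF, hv, sub_zero, hY]
  have hww : H w w = s⁻¹ * ((s ^ q)⁻¹ * (-(X ^ q) - X)) := by
    rw [hw, hermForm_smul_left, hermForm_smul_right, H_sub_left hF, H_sub_right hF,
      H_sub_right hF, h2, hv, hY, inv_pow]
    ring
  set a : F := H v w / s with ha
  have haq : a ^ q = H w v / s ^ q := by rw [ha, div_pow, hermForm_conj hF]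
  have hcond : a + a ^ q + H w w = 0 := by
    rw [haq, ha, hvw, hwv, hww]
    field_simp
    ring
  refine ⟨eich hF u w a, h.2 w a huw hcond, c, hc0, ?_⟩
  rw [eich_act hF h.1 huw hcond]
  have e1 : H v u • w = v2 - v := by
    rw [hw, smul_smul, mul_inv_cancel₀ hvu, one_smul]
  have e2 : a * H v u = H v w := by rw [ha, div_mul_cancel₀ _ hvu]
  rw [e1, e2]
  abel

theorem FC_step {Hs : Subgroup G} {u v : V} (hu : FC hF Hs u) (hv : FC hF Hs v)
    (hvu : H v u ≠ 0) (x : V) (hx : H x x = 0) (hxu : H x u ≠ 0) : FC hF Hs x := by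
  obtain ⟨k, hk, c, hc, hkv⟩ := FC_move hF hu v x hv.1 hx hvu hxu
  have h1 : FC hF Hs (c • x) := by
    rw [← hkv]
    exact FC_conj hF hv hk
  have h2 := FC_smul hF h1 (inv_ne_zero hc)
  rwa [smul_smul, inv_mul_cancel₀ hc, one_smul] at h2

include hF in
theorem exists_not_perp (x : V) (hx : x ≠ 0) : ∃ z : V, H z x ≠ 0 := by
  classical
  obtain ⟨i, hi⟩ : ∃ i, x i ≠ 0 := by
    by_contra hcon
    push Not at hcon
    exact hx (funext hcon)
  refine ⟨Pi.single i 1, ?_⟩
  rw [← hermForm_conj hF]
  apply pow_ne_zero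
  unfold Cfsg.hermForm
  rw [Finset.sum_eq_single i]
  · simpa using hi
  · intro j _ hji
    rw [Pi.single_eq_of_ne hji, frob_zero hF, mul_zero]
  · intro h
    exact absurd (Finset.mem_univ i) h

theorem FC_all {Hs : Subgroup G} {e e' : V} (he : FC hF Hs e) (he' : FC hF Hs e')
    (hs : H e' e ≠ 0) (x : V) (hx0 : x ≠ 0) (hx : H x x = 0) : FC hF Hs x := by
  have hs' : H e e' ≠ 0 := by
    rw [← hermForm_conj hF]
    exact pow_ne_zero q hs
  by_cases h1 : H x e = 0
  · by_cases h2 : H x e' = 0
    · obtain ⟨z, hz⟩ := exists_not_perp hF x hx0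
      set s : F := H e' e with hsdef
      have hee' : H e e' = s ^ q := by rw [← hermForm_conj hF]
      have hex : H e x = 0 := H_symm_zero hF h1
      have he'x : H e' x = 0 := H_symm_zero hF h2
      set α : F := H z e' / s ^ q with hα
      set β : F := H z e / s with hβ
      set z' : V := z - α • e - β • e' with hz'
      have hsq : s ^ q ≠ 0 := pow_ne_zero q hs
      have hz'e : H z' e = 0 := by
        rw [hz', H_sub_left hF, H_sub_left hF, hermForm_smul_left, hermForm_smul_left, he.1,
          ← hsdef, hβ, div_mul_cancel₀ _ hs]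
        ring
      have hz'e' : H z' e' = 0 := by
        rw [hz', H_sub_left hF, H_sub_left hF, hermForm_smul_left, hermForm_smul_left, he'.1,
          hee', hα, div_mul_cancel₀ _ hsq]
        ring
      have hz'x : H z' x ≠ 0 := by
        rw [hz', H_sub_left hF, H_sub_left hF, hermForm_smul_left, hermForm_smul_left, hex, he'x]
        simpa using hz
      have hxz' : H x z' ≠ 0 := by
        rw [← hermForm_conj hF]
        exact pow_ne_zero q hz'x
      have hez' : H e z' = 0 := H_symm_zero hF hz'e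
      have he'z' : H e' z' = 0 := H_symm_zero hF hz'e'
      have hfix : (-(H z' z')) ^ q = -(H z' z') := by
        rw [frob_neg hF, hermForm_conj hF]
      obtain ⟨a0, ha0⟩ := exists_trace hF (-(H z' z')) hfix
      set τ : F := a0 / s ^ q with hτ
      set y : V := e' + z' + τ • e with hy
      have hτs : τ * s ^ q = a0 := by rw [hτ, div_mul_cancel₀ _ hsq]
      have hye : H y e = s := by
        rw [hy, hermForm_add_left, hermForm_add_left, hermForm_smul_left, he.1, hz'e]
        ring
      have hyy : H y y = 0 := by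
        rw [hy]
        simp only [hermForm_add_left, hermForm_add_right hF, hermForm_smul_left,
          hermForm_smul_right, he.1, he'.1, hz'e, hz'e', hez', he'z', hee']
        rw [← hsdef]
        have : τ ^ q * s = a0 ^ q := by
          rw [← hτs, mul_pow, frob_frob hF]
        linear_combination ha0 + hτs + this
      have hFCy : FC hF Hs y := FC_step hF he he' hs y hyy (by rw [hye]; exact hs)
      have hey : H e y ≠ 0 := by
        rw [← hermForm_conj hF, hye]
        exact hsq
      have hxy : H x y ≠ 0 := by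
        rw [hy, hermForm_add_right hF, hermForm_add_right hF, hermForm_smul_right, h1, h2]
        simpa using hxz'
      exact FC_step hF hFCy he hey x hx hxy
    · exact FC_step hF he' he hs' x hx h2
  · exact FC_step hF he he' hs x hx h1

/-- **General endgame**: `Q_e ≤ Hs` and an element of `Hs` moving `e` off `e^⊥` give `Hs = ⊤`. -/
theorem top_of_Qe (hn : 3 ≤ n) (h32 : ¬(n = 3 ∧ q = 2)) (Hs : Subgroup G) (e : V)
    (hee : H e e = 0)
    (hQ : ∀ (w : V) (a : F), H e w = 0 → a + a ^ q + H w w = 0 → eich hF e w a ∈ Hs)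
    (g : G) (hg : g ∈ Hs) (hge : H (actv g e) e ≠ 0) : Hs = ⊤ := by
  have he : FC hF Hs e := ⟨hee, hQ⟩
  have he' : FC hF Hs (actv g e) := FC_conj hF he hg
  rw [eq_top_iff, ← TG_top hF hn h32]
  unfold TG
  rw [Subgroup.closure_le]
  rintro t ⟨u, a, huu, ha, -, rfl⟩
  rw [tvSU_eq_eich hF u a huu ha]
  have hcond : a + a ^ q + H (0 : V) 0 = 0 := by
    rw [H_zero_left hF, add_zero, add_comm]
    exact ha
  by_cases hu0 : u = 0
  · have : eich hF u 0 a = 1 := by
      apply G_ext
      intro x
      rw [eich_act hF huu (H_zero_right hF u) hcond, actv_one, hu0]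
      simp
    rw [SetLike.mem_coe, this]
    exact Hs.one_mem
  · exact (FC_all hF he he' hge u hu0 huu).2 0 a (H_zero_right hF u) hcond

end Cfsg.Agent.Helper13.SUOEnd
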