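import Mathlib
import Cfsg.Agent.Lib.Helper87.PsuA
import Cfsg.Agent.Lib.Helper87.PsuB0

/-!
# `Q_e ≤ Hs` from "every `w ⊥ e` occurs" (helper13, for S2282)

If for every `w ⊥ e` SOME Eichler element `E(e,w,a)` lies in `Hs`, then ALL of them do: the
commutators fill the centre `{E(e,0,κ) : κ + κ^q = 0}`.
-/

set_option autoImplicit false
set_option quotPrecheck false
set_option linter.unusedSectionVars false
set_option linter.unusedVariables false

namespace Cfsg.Agent.Helper13.SUOQA

open Matrix Cfsg Cfsg.Agent.Helper13 Cfsg.Agent.Helper87.PsuA Cfsg.Agent.Helper87.PsuB0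

variable {F : Type*} [Field F] [Fintype F] {q n : ℕ}

local notation "V" => Fin n → F
local notation "G" => ↥(Cfsg.SU n F q)
local notation "H" => Cfsg.hermForm n F q

variable (hF : Fintype.card F = q ^ 2)

/-- two Eichler elements along `e` with the same `w` differ by a central one -/
theorem eich_change {e w : V} {a a0 : F} (hee : H e e = 0) (hw : H e w = 0)
    (ha : a + a ^ q + H w w = 0) (ha0 : a0 + a0 ^ q + H w w = 0) :
    (a - a0) + (a - a0) ^ q + H (0 : V) 0 = 0 ∧
      eich hF e w a = eich hF e 0 (a - a0) * eich hF e w a0 := by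
  have h1 : (a - a0) + (a - a0) ^ q + H (0 : V) 0 = 0 := by
    rw [H_zero_left hF, frob_sub hF]
    linear_combination ha - ha0
  refine ⟨h1, ?_⟩
  rw [eich_mul hF hee (H_zero_right hF e) h1 hw ha0, zero_add, H_zero_right hF]
  congr 1
  ring

/-- the centre of `Q_e` lies in `Hs` -/
theorem centre_mem (Hs : Subgroup G) {e d : V} (hee : H e e = 0) (hed : H e d = 0)
    (hdd : H d d ≠ 0)
    (hA : ∀ w : V, H e w = 0 → ∃ a : F, a + a ^ q + H w w = 0 ∧ eich hF e w a ∈ Hs)
    (κ : F) (hκ : κ + κ ^ q = 0) : eich hF e 0 κ ∈ Hs := by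
  set t : F := H d d with ht
  have htq : t ^ q = t := by rw [ht, hermForm_conj hF]
  obtain ⟨θ, hθ⟩ := exists_trace hF (1 : F) (one_pow q)
  set c : F := -(θ * κ) / t with hc
  have hct : c * t = -(θ * κ) := by rw [hc, div_mul_cancel₀ _ hdd]
  have hκq : κ ^ q = -κ := by linear_combination hκ
  have hctq : c ^ q * t = θ ^ q * κ := by
    have : (c * t) ^ q = (-(θ * κ)) ^ q := by rw [hct]
    rw [mul_pow, htq, frob_neg hF, mul_pow, hκq] at this
    linear_combination this
  have hκ' : κ = c ^ q * t - c * t := by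
    rw [hctq, hct]
    linear_combination -κ * hθ
  have hecd : H e (c • d) = 0 := by rw [hermForm_smul_right, hed, mul_zero]
  obtain ⟨a1, h1, m1⟩ := hA d hed
  obtain ⟨a2, h2, m2⟩ := hA (c • d) hecd
  have hκ0 : κ + κ ^ q + H (0 : V) 0 = 0 := by rw [H_zero_left hF, add_zero, hκ]
  have e1 := eich_mul hF hee hed h1 hecd h2
  have e2 := eich_mul hF hee hecd h2 hed h1
  have hsum : H e (c • d + d) = 0 := by rw [hermForm_add_right hF, hecd, hed, add_zero]
  have hcond : (a2 + a1 - H d (c • d)) + (a2 + a1 - H d (c • d)) ^ q +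
      H (c • d + d) (c • d + d) = 0 := by
    rw [frob_sub hF, frob_add hF, hermForm_conj hF, hermForm_add_left, hermForm_add_right hF,
      hermForm_add_right hF]
    linear_combination h1 + h2
  have e3 := eich_mul hF hee (H_zero_right hF e) hκ0 hsum hcond
  have key : eich hF e d a1 * eich hF e (c • d) a2 =
      eich hF e 0 κ * (eich hF e (c • d) a2 * eich hF e d a1) := by
    rw [e1, e2, e3, zero_add, add_comm d (c • d), H_zero_right hF, hermForm_smul_left,
      hermForm_smul_right]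
    congr 1
    rw [hκ', ← ht]
    ring
  have : eich hF e 0 κ = eich hF e d a1 * eich hF e (c • d) a2 *
      (eich hF e (c • d) a2 * eich hF e d a1)⁻¹ := by
    rw [key, mul_inv_cancel_right]
  rw [this]
  exact Hs.mul_mem (Hs.mul_mem m1 m2) (Hs.inv_mem (Hs.mul_mem m2 m1))

/-- **`Q_e ≤ Hs`** as soon as every `w ⊥ e` occurs -/
theorem Q_of_A (Hs : Subgroup G) {e d : V} (hee : H e e = 0) (hed : H e d = 0)
    (hdd : H d d ≠ 0)
    (hA : ∀ w : V, H e w = 0 → ∃ a : F, a + a ^ q + H w w = 0 ∧ eich hF e w a ∈ Hs) :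
    ∀ (w : V) (a : F), H e w = 0 → a + a ^ q + H w w = 0 → eich hF e w a ∈ Hs := by
  intro w a hw ha
  obtain ⟨a0, ha0, m0⟩ := hA w hw
  obtain ⟨h1, h2⟩ := eich_change hF hee hw ha ha0
  rw [h2]
  have hκ : (a - a0) + (a - a0) ^ q = 0 := by
    rw [H_zero_left hF, add_zero] at h1
    exact h1
  exact Hs.mul_mem (centre_mem hF Hs hee hed hdd hA _ hκ) m0

end Cfsg.Agent.Helper13.SUOQA
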