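import Mathlib
import Cfsg.Agent.Lib.Helper87.PsuA
import Cfsg.Agent.Lib.Helper87.PsuB0
import Cfsg.Agent.Lib.Helper13.SUOQA
import Cfsg.Agent.Lib.Helper13.SUOEnd

/-!
# The set `A = {w ⊥ e : some E(e,w,a) ∈ Hs}` (helper13, for S2282)

`A` is an additive subgroup of `e^⊥`, contains `F e` , is stable under every element of `Hs` fixing
the point `⟨e⟩` (twisted by the multiplier), and `A = e^⊥` gives `Q_e ≤ Hs`.
-/

set_option autoImplicit false
set_option quotPrecheck false
set_option linter.unusedSectionVars false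
set_option linter.unusedVariables false

namespace Cfsg.Agent.Helper13.SUOA

open Matrix Cfsg Cfsg.Agent.Helper13 Cfsg.Agent.Helper87.PsuA Cfsg.Agent.Helper87.PsuB0

variable {F : Type*} [Field F] [Fintype F] {q n : ℕ}

local notation "V" => Fin n → F
local notation "G" => ↥(Cfsg.SU n F q)
local notation "H" => Cfsg.hermForm n F q

variable (hF : Fintype.card F = q ^ 2)

/-- the set of `w ⊥ e` such that some Eichler element `E(e,w,a)` lies in `Hs` -/
def A (Hs : Subgroup G) (e : V) : Set V :=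
  {w | H e w = 0 ∧ ∃ a : F, a + a ^ q + H w w = 0 ∧ eich hF e w a ∈ Hs}

theorem A_zero (Hs : Subgroup G) {e : V} (hee : H e e = 0) : (0 : V) ∈ A hF Hs e := by
  refine ⟨H_zero_right hF e, 0, ?_, ?_⟩
  · rw [H_zero_left hF, frob_zero hF]; ring
  · rw [eich_one hF hee]; exact Hs.one_mem

theorem A_add (Hs : Subgroup G) {e w w' : V} (hee : H e e = 0) (hw : w ∈ A hF Hs e)
    (hw' : w' ∈ A hF Hs e) : w + w' ∈ A hF Hs e := by
  obtain ⟨h1, a, ha, m⟩ := hw
  obtain ⟨h1', a', ha', m'⟩ := hw'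
  have e1 := eich_mul hF hee h1 ha h1' ha'
  refine ⟨by rw [hermForm_add_right hF, h1, h1', add_zero], a + a' - H w' w, ?_, ?_⟩
  · rw [frob_sub hF, frob_add hF, hermForm_conj hF, hermForm_add_left, hermForm_add_right hF,
      hermForm_add_right hF]
    linear_combination ha + ha'
  · rw [← e1]; exact Hs.mul_mem m m'

theorem A_neg (Hs : Subgroup G) {e w : V} (hee : H e e = 0) (hw : w ∈ A hF Hs e) :
    -w ∈ A hF Hs e := by
  obtain ⟨h1, a, ha, m⟩ := hw
  refine ⟨by rw [H_neg_right hF, h1, neg_zero], a ^ q, ?_, ?_⟩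
  · rw [frob_frob hF, H_neg_left hF, H_neg_right hF]
    linear_combination ha
  · rw [← eich_inv hF hee h1 ha]; exact Hs.inv_mem m

theorem A_sub (Hs : Subgroup G) {e w w' : V} (hee : H e e = 0) (hw : w ∈ A hF Hs e)
    (hw' : w' ∈ A hF Hs e) : w - w' ∈ A hF Hs e := by
  rw [sub_eq_add_neg]
  exact A_add hF Hs hee hw (A_neg hF Hs hee hw')

/-- `A` as an additive subgroup -/
def AS (Hs : Subgroup G) {e : V} (hee : H e e = 0) : AddSubgroup V where
  carrier := A hF Hs e
  zero_mem' := A_zero hF Hs hee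
  add_mem' := fun ha hb => A_add hF Hs hee ha hb
  neg_mem' := fun ha => A_neg hF Hs hee ha

theorem mem_AS (Hs : Subgroup G) {e : V} (hee : H e e = 0) (w : V) :
    w ∈ AS hF Hs hee ↔ w ∈ A hF Hs e := Iff.rfl

/-- changing `w` by a multiple of `e` -/
theorem A_add_smul (Hs : Subgroup G) {e w : V} (hee : H e e = 0) (hw : w ∈ A hF Hs e) (c : F) :
    w + c • e ∈ A hF Hs e := by
  obtain ⟨h1, a, ha, m⟩ := hw
  have hwe : H w e = 0 := H_symm_zero hF h1
  refine ⟨by rw [hermForm_add_right hF, hermForm_smul_right, hee, h1, mul_zero, add_zero],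
    a - c + c ^ q, ?_, ?_⟩
  · rw [hermForm_add_left, hermForm_add_right hF, hermForm_add_right hF, hermForm_smul_left,
      hermForm_smul_left, hermForm_smul_right, hermForm_smul_right, hee, h1, hwe, frob_add hF,
      frob_sub hF, frob_frob hF]
    linear_combination ha
  · have h3 : (a - c + c ^ q) + (a - c + c ^ q) ^ q + H w w = 0 := by
      rw [frob_add hF, frob_sub hF, frob_frob hF]
      linear_combination ha
    rw [eich_add_smul hF hee h1 h3]
    have : a - c + c ^ q + c - c ^ q = a := by ring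
    rw [this]
    exact m

theorem smul_e_mem (Hs : Subgroup G) {e : V} (hee : H e e = 0) (c : F) : c • e ∈ A hF Hs e := by
  have := A_add_smul hF Hs hee (A_zero hF Hs hee) c
  rwa [zero_add] at this

/-- an element of `Hs` fixing `e` stabilises `A` -/
theorem A_act (Hs : Subgroup G) {e w : V} (hee : H e e = 0) (hw : w ∈ A hF Hs e) {X : G}
    (hX : X ∈ Hs) (hXe : actv X e = e) : actv X w ∈ A hF Hs e := by
  obtain ⟨h1, a, ha, m⟩ := hw
  have e1 := eich_conj hF hee h1 ha X
  rw [hXe] at e1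
  refine ⟨?_, a, by rw [H_actv]; exact ha, ?_⟩
  · have : H (actv X e) (actv X w) = 0 := by rw [H_actv]; exact h1
    rwa [hXe] at this
  · rw [← e1]
    exact Hs.mul_mem (Hs.mul_mem hX m) (Hs.inv_mem hX)

/-- an element of `Hs` mapping `e` to `c • e` sends `A` to `(c^q)⁻¹ A` -/
theorem A_act_smul (Hs : Subgroup G) {e w : V} (hee : H e e = 0) (hw : w ∈ A hF Hs e) {X : G}
    (hX : X ∈ Hs) {c : F} (hc : c ≠ 0) (hXe : actv X e = c • e) :
    (c ^ q) • actv X w ∈ A hF Hs e := by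
  obtain ⟨h1, a, ha, m⟩ := hw
  have e1 := eich_conj hF hee h1 ha X
  have h2 : H e (actv X w) = 0 := by
    have : H (actv X e) (actv X w) = 0 := by rw [H_actv]; exact h1
    rw [hXe, hermForm_smul_left] at this
    exact (mul_eq_zero.1 this).resolve_left hc
  have ha2 : a + a ^ q + H (actv X w) (actv X w) = 0 := by rw [H_actv]; exact ha
  rw [hXe, eich_smul hF hee h2 ha2] at e1
  refine ⟨by rw [hermForm_smul_right, h2, mul_zero], c * c ^ q * a, ?_, ?_⟩
  · rw [hermForm_smul_left, hermForm_smul_right, mul_pow, mul_pow, frob_frob hF]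
    linear_combination (c * c ^ q) * ha2
  · rw [← e1]
    exact Hs.mul_mem (Hs.mul_mem hX m) (Hs.inv_mem hX)

/-- the commutator step: `X ∈ Hs` fixing `e`, `w ∈ A` give `X w - w ∈ A` -/
theorem A_comm (Hs : Subgroup G) {e w : V} (hee : H e e = 0) (hw : w ∈ A hF Hs e) {X : G}
    (hX : X ∈ Hs) (hXe : actv X e = e) : actv X w - w ∈ A hF Hs e :=
  A_sub hF Hs hee (A_act hF Hs hee hw hX hXe) hw

/-- `A = e^⊥` gives `Q_e ≤ Hs` -/
theorem Q_of_A_top (Hs : Subgroup G) {e d : V} (hee : H e e = 0) (hed : H e d = 0)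
    (hdd : H d d ≠ 0) (hA : ∀ w : V, H e w = 0 → w ∈ A hF Hs e) :
    ∀ (w : V) (a : F), H e w = 0 → a + a ^ q + H w w = 0 → eich hF e w a ∈ Hs :=
  Cfsg.Agent.Helper13.SUOQA.Q_of_A hF Hs hee hed hdd (fun w hw => (hA w hw).2)

/-- **assembled endgame**: `A = e^⊥` and an element of `Hs` moving `e` off `e^⊥` give `Hs = ⊤` -/
theorem top_of_A (hn : 3 ≤ n) (h32 : ¬(n = 3 ∧ q = 2)) (Hs : Subgroup G) {e d : V}
    (hee : H e e = 0) (hed : H e d = 0) (hdd : H d d ≠ 0)
    (hA : ∀ w : V, H e w = 0 → w ∈ A hF Hs e) (g : G) (hg : g ∈ Hs)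
    (hge : H (actv g e) e ≠ 0) : Hs = ⊤ :=
  Cfsg.Agent.Helper13.SUOEnd.top_of_Qe hF hn h32 Hs e hee
    (Q_of_A_top hF Hs hee hed hdd hA) g hg hge

end Cfsg.Agent.Helper13.SUOA
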