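import Mathlib
import Cfsg.Agent.Lib.Helper87.PsuA
import Cfsg.Agent.Lib.Helper87.PsuB0
import Cfsg.Agent.Lib.Helper13.SUOA

/-!
# Abstract core for S2282 (design: helper20 #8366; written by helper13)

`Hs ≤ SU_n(q)` containing `u`, `l`, one central transvection along `e0`, with the hypotheses below,
is the whole group.
-/

set_option autoImplicit false
set_option quotPrecheck false
set_option linter.unusedSectionVars false
set_option linter.unusedVariables false

namespace Cfsg.Agent.Helper13.SUOCore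

open Matrix Cfsg Cfsg.Agent.Helper13 Cfsg.Agent.Helper87.PsuA Cfsg.Agent.Helper87.PsuB0
  Cfsg.Agent.Helper13.SUOA

variable {F : Type*} [Field F] [Fintype F] {q n : ℕ}

local notation "V" => Fin n → F
local notation "G" => ↥(Cfsg.SU n F q)
local notation "H" => Cfsg.hermForm n F q

variable (hF : Fintype.card F = q ^ 2)

/-- (a) the transvection along any `Hs`-image of `e0` -/
theorem tv_image (Hs : Subgroup G) {e0 : V} (hee : H e0 e0 = 0) {κ : F} (hκ : κ + κ ^ q = 0)
    (hseed : eich hF e0 0 κ ∈ Hs) {t : G} (ht : t ∈ Hs) : eich hF (actv t e0) 0 κ ∈ Hs := by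
  have hκ0 : κ + κ ^ q + H (0 : V) 0 = 0 := by rw [H_zero_left hF, add_zero, hκ]
  have h1 := eich_conj hF hee (H_zero_right hF e0) hκ0 t
  rw [actv_zero] at h1
  rw [← h1]
  exact Hs.mul_mem (Hs.mul_mem ht hseed) (Hs.inv_mem ht)

/-- action of a central transvection -/
theorem tv_act {v : V} (hvv : H v v = 0) {κ : F} (hκ : κ + κ ^ q = 0) (y : V) :
    actv (eich hF v 0 κ) y = y + (κ * H y v) • v := by
  have hκ0 : κ + κ ^ q + H (0 : V) 0 = 0 := by rw [H_zero_left hF, add_zero, hκ]
  rw [eich_act hF hvv (H_zero_right hF v) hκ0, H_zero_right hF]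
  module

/-- (b) the seed identity -/
theorem seed_eq {e0 x : V} (hee : H e0 e0 = 0) (hxx : H x x = 0) (hxe : H x e0 = 0) {κ s : F}
    (hκ : κ + κ ^ q = 0) :
    eich hF (x + s • e0) 0 κ * (eich hF x 0 κ)⁻¹ =
      eich hF e0 ((κ * s ^ q) • x) (κ * s * s ^ q) := by
  have hex : H e0 x = 0 := H_symm_zero hF hxe
  have hκq : κ ^ q = -κ := by linear_combination hκ
  have hκ0 : κ + κ ^ q + H (0 : V) 0 = 0 := by rw [H_zero_left hF, add_zero, hκ]
  have hnκ : (-κ) + (-κ) ^ q = 0 := by rw [frob_neg hF]; linear_combination -hκ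
  have h1 : H (x + s • e0) (x + s • e0) = 0 := by
    rw [hermForm_add_left, hermForm_add_right hF, hermForm_add_right hF, hermForm_smul_left,
      hermForm_smul_left, hermForm_smul_right, hermForm_smul_right, hee, hxx, hxe, hex]
    ring
  have hinv : (eich hF x 0 κ)⁻¹ = eich hF x 0 (-κ) := by
    rw [eich_inv hF hxx (H_zero_right hF x) hκ0, neg_zero, hκq]
  have hw : H e0 ((κ * s ^ q) • x) = 0 := by rw [hermForm_smul_right, hex, mul_zero]
  have ha : κ * s * s ^ q + (κ * s * s ^ q) ^ q + H ((κ * s ^ q) • x) ((κ * s ^ q) • x) = 0 := by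
    rw [hermForm_smul_left, hermForm_smul_right, hxx, mul_pow, mul_pow, frob_frob hF, hκq]
    ring
  rw [hinv]
  apply G_ext
  intro y
  rw [actv_mul, tv_act hF hxx hnκ, tv_act hF h1 hκ, eich_act hF hee hw ha]
  simp only [hermForm_add_left, hermForm_add_right hF, hermForm_smul_left, hermForm_smul_right,
    hxx, hxe, mul_pow, frob_frob hF, hκq]
  module

/-- (c) the step -/
theorem step (Hs : Subgroup G) {e0 : V} (hee : H e0 e0 = 0) {κ : F} (hκ : κ + κ ^ q = 0)
    (hseed : eich hF e0 0 κ ∈ Hs) {t : G} (ht : t ∈ Hs) (hye : H (actv t e0) e0 = 0) {w : V}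
    (hw : w ∈ A hF Hs e0) : (κ * H w (actv t e0)) • actv t e0 ∈ A hF Hs e0 := by
  have hyy : H (actv t e0) (actv t e0) = 0 := by rw [H_actv]; exact hee
  have hX := tv_image hF Hs hee hκ hseed ht
  have hXe : actv (eich hF (actv t e0) 0 κ) e0 = e0 := by
    rw [tv_act hF hyy hκ, H_symm_zero hF hye, mul_zero, zero_smul, add_zero]
  have := A_comm hF Hs hee hw hX hXe
  rwa [tv_act hF hyy hκ, add_sub_cancel_left] at this

/-- **the abstract core** -/
theorem core_top (hn : 3 ≤ n) (h32 : ¬(n = 3 ∧ q = 2)) (Hs : Subgroup G) (e0 d : V) (u l : G)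
    (hu : u ∈ Hs) (hl : l ∈ Hs) (hee : H e0 e0 = 0) (hed : H e0 d = 0) (hdd : H d d ≠ 0)
    (κ : F) (hκ0 : κ ≠ 0) (hκ : κ + κ ^ q = 0) (hseed : eich hF e0 0 κ ∈ Hs)
    (hue : actv u e0 = e0) (hx : H (actv l e0) e0 = 0) (s : F) (hs : s ≠ 0)
    (hux : actv u (actv l e0) = actv l e0 + s • e0) (hp : H (actv l⁻¹ e0) e0 = 0)
    (hgam : H (actv l e0) (actv l⁻¹ e0) ≠ 0)
    (hom : ∀ S : AddSubgroup F, (∃ a ∈ S, a ≠ 0) →
      (∀ a ∈ S, κ * H (actv u (actv l⁻¹ e0)) (actv l⁻¹ e0) * a ∈ S) → S = ⊤)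
    (hcyc : ∀ W : Submodule F V, actv l⁻¹ e0 ∈ W → (∀ w ∈ W, actv u w ∈ W) →
      ∀ w, H e0 w = 0 → w ∈ W) : Hs = ⊤ := by
  set x : V := actv l e0 with hxdef
  set p : V := actv l⁻¹ e0 with hpdef
  have hxx : H x x = 0 := by rw [hxdef, H_actv]; exact hee
  have hli : l⁻¹ ∈ Hs := Hs.inv_mem hl
  -- (b) the seed
  have hT1 : eich hF (x + s • e0) 0 κ ∈ Hs := by
    have := tv_image hF Hs hee hκ hseed (Hs.mul_mem hu hl)
    rwa [actv_mul, ← hxdef, hux] at this
  have hT2 : eich hF x 0 κ ∈ Hs := tv_image hF Hs hee hκ hseed hl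
  have hseedA : (κ * s ^ q) • x ∈ A hF Hs e0 := by
    refine ⟨by rw [hermForm_smul_right, H_symm_zero hF hx, mul_zero], κ * s * s ^ q, ?_, ?_⟩
    · have hκq : κ ^ q = -κ := by linear_combination hκ
      rw [hermForm_smul_left, hermForm_smul_right, hxx, mul_pow, mul_pow, frob_frob hF, hκq]
      ring
    · rw [← seed_eq hF hee hxx hx hκ]
      exact Hs.mul_mem hT1 (Hs.inv_mem hT2)
  -- (d)
  have hd : (κ * H ((κ * s ^ q) • x) p) • p ∈ A hF Hs e0 := step hF Hs hee hκ hseed hli hp hseedA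
  -- (e)
  let S : AddSubgroup F :=
    { carrier := {a | a • p ∈ A hF Hs e0}
      zero_mem' := by
        show (0 : F) • p ∈ A hF Hs e0
        rw [zero_smul]; exact A_zero hF Hs hee
      add_mem' := by
        intro a b ha hb
        show (a + b) • p ∈ A hF Hs e0
        rw [add_smul]; exact A_add hF Hs hee ha hb
      neg_mem' := by
        intro a ha
        show (-a) • p ∈ A hF Hs e0
        rw [neg_smul]; exact A_neg hF Hs hee ha }
  have hS : S = ⊤ := by
    apply hom S
    · refine ⟨κ * H ((κ * s ^ q) • x) p, hd, ?_⟩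
      rw [hermForm_smul_left]
      exact mul_ne_zero hκ0 (mul_ne_zero (mul_ne_zero hκ0 (pow_ne_zero q hs)) hgam)
    · intro a ha
      have h1 : actv u (a • p) ∈ A hF Hs e0 := A_act hF Hs hee ha hu hue
      have h2 := step hF Hs hee hκ hseed hli hp h1
      rw [actv_smul, hermForm_smul_left] at h2
      show (κ * H (actv u p) p * a) • p ∈ A hF Hs e0
      have : κ * H (actv u p) p * a = κ * (a * H (actv u p) p) := by ring
      rw [this]
      exact h2
  -- (f)
  let W : Submodule F V :=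
    { carrier := {w | ∀ a : F, a • w ∈ A hF Hs e0}
      zero_mem' := by
        intro a
        rw [smul_zero]; exact A_zero hF Hs hee
      add_mem' := by
        intro v w hv hw a
        rw [smul_add]; exact A_add hF Hs hee (hv a) (hw a)
      smul_mem' := by
        intro c w hw a
        rw [smul_smul]; exact hw (a * c) }
  have hpW : p ∈ W := by
    intro a
    have : a ∈ S := by rw [hS]; trivial
    exact this
  have huW : ∀ w ∈ W, actv u w ∈ W := by
    intro w hw a
    rw [← actv_smul]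
    exact A_act hF Hs hee (hw a) hu hue
  have hA : ∀ w : V, H e0 w = 0 → w ∈ A hF Hs e0 := by
    intro w hw
    have := hcyc W hpW huW w hw 1
    rwa [one_smul] at this
  -- (g)
  have hout : H (actv (l * l) e0) e0 ≠ 0 := by
    rw [actv_mul, ← H_actv_inv']
    exact hgam
  exact top_of_A hF hn h32 Hs hee hed hdd hA (l * l) (Hs.mul_mem hl hl) hout

end Cfsg.Agent.Helper13.SUOCore
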