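import Mathlib
import Cfsg.Agent.Lib.Helper13.SUGen

set_option autoImplicit false
set_option linter.unusedSimpArgs false

namespace Cfsg.Agent.Helper13

open Module Submodule Matrix
open scoped LinearAlgebra.Projectivization

section SUPrim

variable {F : Type*} [Field F] [Fintype F] {q n : ℕ} (hF : Fintype.card F = q ^ 2)

/-- Witt's theorem inside `SU`, when there is a unit vector orthogonal to the target family -/
theorem exists_SU_frame {k : ℕ} (x y : Fin k → (Fin n → F)) (hx : LinearIndependent F x)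
    (hy : LinearIndependent F y)
    (hG : ∀ a b, stdB hF n (x a) (x b) = stdB hF n (y a) (y b)) (e : Fin n → F)
    (he : stdB hF n e e = 1) (hey : ∀ a, stdB hF n e (y a) = 0) :
    ∃ g : ↥(Cfsg.SU n F q), ∀ a, actv g (x a) = y a := by
  obtain ⟨A, hA, hAx⟩ := exists_GU_frame hF x y hx hy (fun a b => hG b a)
  have hdetA := Cfsg.Agent.Lead.GU_det_pow hF A hA
  obtain ⟨δ, hδ⟩ : ∃ δ, δ = Matrix.det (A : Matrix (Fin n) (Fin n) F) := ⟨_, rfl⟩
  rw [← hδ] at hdetA
  have hδ0 : δ ≠ 0 := by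
    rintro rfl
    rw [zero_pow (by omega)] at hdetA
    exact zero_ne_one hdetA
  have hμ : frobQ hF δ⁻¹ * δ⁻¹ = 1 := by
    rw [frobQ_apply, ← pow_succ, inv_pow, hdetA, inv_one]
  have hee : Cfsg.hermForm n F q e e = 1 := he
  have hCiso : ∀ u v, Cfsg.hermForm n F q (M1 q (δ⁻¹ - 1) e e *ᵥ u) (M1 q (δ⁻¹ - 1) e e *ᵥ v) =
      Cfsg.hermForm n F q u v := by
    intro u v
    rw [M1_mulVec, M1_mulVec]
    exact quasirefl_isometry (stdB hF n) (stdB_isSymm hF n) e δ⁻¹ he hμ v u
  refine ⟨mkSU (M1 q (δ⁻¹ - 1) e e * (A : Matrix (Fin n) (Fin n) F)) ?_ ?_, fun a => ?_⟩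
  · rw [Matrix.det_mul, M1_det, hee, ← hδ]
    field_simp
    ring
  · intro u v
    rw [← Matrix.mulVec_mulVec, ← Matrix.mulVec_mulVec, hCiso]
    exact hA u v
  · unfold actv
    rw [mkSU_val, ← Matrix.mulVec_mulVec, hAx, M1_mulVec]
    have : Cfsg.hermForm n F q (y a) e = 0 := hey a
    rw [this, mul_zero, zero_smul, add_zero]

theorem hyp_linearIndependent (x y : Fin n → F) (hxx : stdB hF n x x = 0)
    (hxy : stdB hF n x y = 1) : LinearIndependent F ![x, y] := by
  have hyx : stdB hF n y x = 1 := by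
    rw [← (stdB_isSymm hF n).eq x y, hxy, map_one]
  rw [LinearIndependent.pair_iff]
  intro s t h
  have h1 := congrArg (stdB hF n x) h
  rw [map_add, map_smul, map_smul, hxx, hxy, map_zero, smul_zero, zero_add, smul_eq_mul,
    mul_one] at h1
  rw [h1, zero_smul, add_zero] at h
  have h2 := congrArg (stdB hF n y) h
  rw [map_smul, hyx, map_zero, smul_eq_mul, mul_one] at h2
  exact ⟨h2, h1⟩

/-- `SU` is transitive on hyperbolic pairs (`n ≥ 3`) -/
theorem exists_SU_hyp (hn : 3 ≤ n) (x y x' y' : Fin n → F) (hxx : stdB hF n x x = 0)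
    (hyy : stdB hF n y y = 0) (hxy : stdB hF n x y = 1) (hx'x' : stdB hF n x' x' = 0)
    (hy'y' : stdB hF n y' y' = 0) (hx'y' : stdB hF n x' y' = 1) :
    ∃ g : ↥(Cfsg.SU n F q), actv g x = x' ∧ actv g y = y' := by
  have hyx : stdB hF n y x = 1 := by
    rw [← (stdB_isSymm hF n).eq x y, hxy, map_one]
  have hy'x' : stdB hF n y' x' = 1 := by
    rw [← (stdB_isSymm hF n).eq x' y', hx'y', map_one]
  obtain ⟨e, hey, hee⟩ := herm_nd_unit (frobQ hF) (frobQ_ne_id hF) (frobQ_frobQ hF) (stdB hF n)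
    (stdB_isSymm hF n) (stdB_nondeg hF n) ![x', y'] (by
      rw [Matrix.det_fin_two]
      simp only [Matrix.of_apply, Matrix.cons_val_zero, Matrix.cons_val_one, hx'x', hy'y', hx'y',
        hy'x']
      norm_num) (by rw [Module.finrank_fin_fun]; omega)
  obtain ⟨g, hg⟩ := exists_SU_frame hF ![x, y] ![x', y']
    (hyp_linearIndependent hF x y hxx hxy) (hyp_linearIndependent hF x' y' hx'x' hx'y') (by
      intro a b
      fin_cases a <;> fin_cases b <;> simp [hxx, hyy, hxy, hyx, hx'x', hy'y', hx'y', hy'x'])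
    e hee (by
      intro a
      apply stdB_swap_zero
      exact hey a)
  exact ⟨g, hg 0, hg 1⟩

include hF in
/-- a non-zero element of trace zero -/
theorem exists_trace_zero : ∃ a : F, a ≠ 0 ∧ a ^ q + a = 0 := by
  obtain ⟨c, hc⟩ : ∃ c, frobQ hF c ≠ c := by
    by_contra hcon
    push Not at hcon
    exact frobQ_ne_id hF (RingHom.ext hcon)
  refine ⟨c - frobQ hF c, sub_ne_zero.mpr (Ne.symm hc), ?_⟩
  have : (c - frobQ hF c) ^ q = frobQ hF (c - frobQ hF c) := rfl
  rw [this, map_sub, frobQ_frobQ]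
  ring

theorem su_exists_partner (x : Fin n → F) (hx : x ≠ 0) (hxx : stdB hF n x x = 0) :
    ∃ y, stdB hF n x y = 1 ∧ stdB hF n y y = 0 :=
  exists_hyp_partner (stdB hF n) (stdB_isSymm hF n) (frobQ_ne_id hF) (frobQ_frobQ hF)
    (stdB_nondeg hF n) x hx hxx

/-- two isotropic vectors have a common isotropic non-neighbour -/
theorem exists_common_iso (u w : Fin n → F) (hu : u ≠ 0) (hw : w ≠ 0) (huu : stdB hF n u u = 0)
    (hww : stdB hF n w w = 0) :
    ∃ x, stdB hF n x x = 0 ∧ stdB hF n u x ≠ 0 ∧ stdB hF n w x ≠ 0 := by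
  obtain ⟨y, huy, hyy⟩ := su_exists_partner hF u hu huu
  by_cases h1 : stdB hF n w y = 0
  swap
  · exact ⟨y, hyy, by rw [huy]; exact one_ne_zero, h1⟩
  obtain ⟨y', hwy', hy'y'⟩ := su_exists_partner hF w hw hww
  by_cases h3 : stdB hF n u y' = 0
  swap
  · exact ⟨y', hy'y', h3, by rw [hwy']; exact one_ne_zero⟩
  have hy'y : stdB hF n y' y = frobQ hF (stdB hF n y y') := ((stdB_isSymm hF n).eq y y').symm
  obtain ⟨l, hl0, hl⟩ : ∃ l : F, l ≠ 0 ∧ l * stdB hF n y y' + frobQ hF (l * stdB hF n y y') = 0 := by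
    by_cases h4 : stdB hF n y y' = 0
    · refine ⟨1, one_ne_zero, ?_⟩
      rw [h4, mul_zero, map_zero, add_zero]
    · obtain ⟨a, ha0, ha⟩ := exists_trace_zero hF
      refine ⟨a / stdB hF n y y', div_ne_zero ha0 h4, ?_⟩
      rw [div_mul_cancel₀ _ h4, frobQ_apply]
      linear_combination ha
  refine ⟨y + l • y', ?_, ?_, ?_⟩
  · simp only [map_add, map_smul, LinearMap.add_apply, LinearMap.map_smulₛₗ, LinearMap.smul_apply,
      smul_eq_mul, hyy, hy'y', hy'y]
    rw [map_mul] at hl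
    linear_combination hl
  · rw [map_add, map_smul, huy, h3, smul_zero, add_zero]
    exact one_ne_zero
  · rw [map_add, map_smul, h1, hwy', zero_add, smul_eq_mul, mul_one]
    exact hl0

/-- the stabilizer of an isotropic point is transitive on the isotropic points not orthogonal
to it -/
theorem exists_SU_nonorth (hn : 3 ≤ n) (x y z : Fin n → F) (hxx : stdB hF n x x = 0)
    (hyy : stdB hF n y y = 0) (hzz : stdB hF n z z = 0) (hxy : stdB hF n x y ≠ 0)
    (hxz : stdB hF n x z ≠ 0) :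
    ∃ (g : ↥(Cfsg.SU n F q)) (c : F), c ≠ 0 ∧ actv g x = x ∧ actv g y = c • z := by
  obtain ⟨g, hgx, hgy⟩ := exists_SU_hyp hF hn x ((stdB hF n x y)⁻¹ • y) x ((stdB hF n x z)⁻¹ • z)
    hxx (by simp only [map_smul, LinearMap.map_smulₛₗ, LinearMap.smul_apply, hyy, smul_zero])
    (by rw [map_smul, smul_eq_mul, inv_mul_cancel₀ hxy]) hxx
    (by simp only [map_smul, LinearMap.map_smulₛₗ, LinearMap.smul_apply, hzz, smul_zero])
    (by rw [map_smul, smul_eq_mul, inv_mul_cancel₀ hxz])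
  refine ⟨g, stdB hF n x y * (stdB hF n x z)⁻¹, mul_ne_zero hxy (inv_ne_zero hxz), hgx, ?_⟩
  rw [actv_smul] at hgy
  have : actv g y = stdB hF n x y • ((stdB hF n x y)⁻¹ • actv g y) := by
    rw [smul_smul, mul_inv_cancel₀ hxy, one_smul]
  rw [this, hgy, smul_smul]

/-- `SU` is transitive on the isotropic points -/
theorem exists_SU_iso (hn : 3 ≤ n) (x z : Fin n → F) (hx : x ≠ 0) (hz : z ≠ 0)
    (hxx : stdB hF n x x = 0) (hzz : stdB hF n z z = 0) :
    ∃ g : ↥(Cfsg.SU n F q), actv g x = z := by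
  obtain ⟨y, hxy, hyy⟩ := su_exists_partner hF x hx hxx
  obtain ⟨w, hzw, hww⟩ := su_exists_partner hF z hz hzz
  obtain ⟨g, hg, -⟩ := exists_SU_hyp hF hn x y z w hxx hyy hxy hzz hww hzw
  exact ⟨g, hg⟩

/-- two orthogonal isotropic points: an element of `SU` fixing the second and moving the first
to a non-orthogonal one -/
theorem exists_SU_orth (x y : Fin n → F) (hxx : stdB hF n x x = 0)
    (hxy : stdB hF n x y = 0) (hli : LinearIndependent F ![x, y]) :
    ∃ g : ↥(Cfsg.SU n F q), actv g y = y ∧ stdB hF n x (actv g x) ≠ 0 := by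
  obtain ⟨x', hx'⟩ := herm_prescribe (frobQ hF) (frobQ_ne_id hF) (frobQ_frobQ hF) (stdB hF n)
    (stdB_isSymm hF n) (stdB_nondeg hF n) ![x, y] hli ![1, 0]
  have h1 : stdB hF n x x' = 1 := hx' 0
  have h2 : stdB hF n y x' = 0 := hx' 1
  have h1' : stdB hF n x' x = 1 := by
    rw [← (stdB_isSymm hF n).eq x x', h1, map_one]
  obtain ⟨α, hα⟩ := trace_surj_involution (frobQ hF) (frobQ_ne_id hF) (frobQ_frobQ hF)
    (-(stdB hF n x' x')) (by rw [map_neg, (stdB_isSymm hF n).eq])
  obtain ⟨w, hw⟩ : ∃ w, w = x' + α • x := ⟨_, rfl⟩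
  have hww : stdB hF n w w = 0 := by
    rw [hw]
    simp only [map_add, LinearMap.add_apply, map_smul, LinearMap.map_smulₛₗ, LinearMap.smul_apply,
      smul_eq_mul, hxx, h1, h1']
    linear_combination hα
  have hxw : stdB hF n x w = 1 := by
    rw [hw, map_add, map_smul, hxx, h1, smul_zero, add_zero]
  have hwx : stdB hF n w x = 1 := by
    rw [← (stdB_isSymm hF n).eq x w, hxw, map_one]
  have hyw : stdB hF n y w = 0 := by
    rw [hw, map_add, map_smul, h2, stdB_swap_zero hF _ _ hxy, smul_zero, add_zero]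
  have hwy : stdB hF n w y = 0 := stdB_swap_zero hF _ _ hyw
  obtain ⟨a, ha0, ha⟩ := exists_trace_zero hF
  have hww' : Cfsg.hermForm n F q w w = 0 := hww
  refine ⟨tvSU hF w a hww' ha, ?_, ?_⟩
  · rw [actv_tvSU, hwy, mul_zero, zero_smul, add_zero]
  · rw [actv_tvSU, map_add, map_smul, hxx, hwx, hxw, mul_one, smul_eq_mul, mul_one, zero_add]
    exact ha0

theorem rep_iso_iff (v : Fin n → F) (hv : v ≠ 0) :
    stdB hF n (Projectivization.mk F v hv).rep (Projectivization.mk F v hv).rep = 0 ↔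
      stdB hF n v v = 0 := by
  obtain ⟨a, ha⟩ := Projectivization.exists_smul_eq_mk_rep F v hv
  rw [← ha, Units.smul_def]
  simp only [map_smul, LinearMap.map_smulₛₗ, LinearMap.smul_apply, smul_eq_mul]
  have h1 : (a : F) ≠ 0 := a.ne_zero
  have h2 : frobQ hF (a : F) ≠ 0 := by
    intro h
    apply h1
    rw [← frobQ_frobQ hF (a : F), h, map_zero]
  constructor
  · intro h
    rcases mul_eq_zero.mp h with h | h
    · exact absurd h h1
    · rcases mul_eq_zero.mp h with h | h
      · exact absurd h h2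
      · exact h
  · intro h
    rw [h, mul_zero, mul_zero]

omit [Fintype F] in
theorem su_smul_mk (g : ↥(Cfsg.SU n F q)) (v : Fin n → F) (hv : v ≠ 0) (hgv : actv g v ≠ 0) :
    g • Projectivization.mk F v hv = Projectivization.mk F (actv g v) hgv := rfl

omit [Fintype F] in
theorem actv_ne_zero (g : ↥(Cfsg.SU n F q)) (v : Fin n → F) (hv : v ≠ 0) : actv g v ≠ 0 := by
  intro h0
  apply hv
  have := actv_inv g v _ h0
  rw [← this]
  unfold actv
  rw [Matrix.mulVec_zero]

/-- the isotropic points of projective space -/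
def isoPts : SubMulAction ↥(Cfsg.SU n F q) (ℙ F (Fin n → F)) where
  carrier := {p | stdB hF n p.rep p.rep = 0}
  smul_mem' := by
    intro g p hp
    induction p using Projectivization.ind with
    | h v hv =>
      have hp' : stdB hF n (Projectivization.mk F v hv).rep (Projectivization.mk F v hv).rep = 0 :=
        hp
      rw [rep_iso_iff] at hp'
      rw [su_smul_mk g v hv (actv_ne_zero g v hv)]
      change stdB hF n (Projectivization.mk F (actv g v) _).rep
        (Projectivization.mk F (actv g v) _).rep = 0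
      rw [rep_iso_iff, actv_iso]
      exact hp'

/-- the isotropic point spanned by an isotropic vector -/
def mkPt (v : Fin n → F) (hv : v ≠ 0) (hvv : stdB hF n v v = 0) : ↥(isoPts hF (n := n)) :=
  ⟨Projectivization.mk F v hv, (rep_iso_iff hF v hv).mpr hvv⟩

theorem smul_mkPt (g : ↥(Cfsg.SU n F q)) (v : Fin n → F) (hv : v ≠ 0)
    (hvv : stdB hF n v v = 0) :
    g • mkPt hF v hv hvv = mkPt hF (actv g v) (actv_ne_zero g v hv)
      (by rw [actv_iso]; exact hvv) := rfl

theorem mkPt_eq_iff (v w : Fin n → F) (hv : v ≠ 0) (hw : w ≠ 0) (hvv : stdB hF n v v = 0)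
    (hww : stdB hF n w w = 0) : mkPt hF v hv hvv = mkPt hF w hw hww ↔ ∃ a : F, a • w = v := by
  constructor
  · intro h
    have := congrArg Subtype.val h
    exact (Projectivization.mk_eq_mk_iff' F v w hv hw).mp this
  · intro h
    exact Subtype.ext ((Projectivization.mk_eq_mk_iff' F v w hv hw).mpr h)

theorem exists_mkPt (p : ↥(isoPts hF (n := n))) :
    ∃ (v : Fin n → F) (hv : v ≠ 0) (hvv : stdB hF n v v = 0), p = mkPt hF v hv hvv := by
  obtain ⟨p, hp⟩ := p
  induction p using Projectivization.ind with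
  | h v hv =>
    have hp' : stdB hF n (Projectivization.mk F v hv).rep (Projectivization.mk F v hv).rep = 0 := hp
    exact ⟨v, hv, (rep_iso_iff hF v hv).mp hp', rfl⟩

theorem su_pretransitive (hn : 3 ≤ n) :
    MulAction.IsPretransitive ↥(Cfsg.SU n F q) ↥(isoPts hF (n := n)) := by
  constructor
  intro p p'
  obtain ⟨v, hv, hvv, rfl⟩ := exists_mkPt hF p
  obtain ⟨w, hw, hww, rfl⟩ := exists_mkPt hF p'
  obtain ⟨g, hg⟩ := exists_SU_iso hF hn v w hv hw hvv hww
  refine ⟨g, ?_⟩
  rw [smul_mkPt, mkPt_eq_iff]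
  exact ⟨1, by rw [one_smul, hg]⟩

theorem su_block_nonorth (hn : 3 ≤ n) {B : Set ↥(isoPts hF (n := n))}
    (hB : MulAction.IsBlock ↥(Cfsg.SU n F q) B) (x y z : Fin n → F) (hx : x ≠ 0) (hy : y ≠ 0)
    (hz : z ≠ 0) (hxx : stdB hF n x x = 0) (hyy : stdB hF n y y = 0) (hzz : stdB hF n z z = 0)
    (hxB : mkPt hF x hx hxx ∈ B) (hyB : mkPt hF y hy hyy ∈ B) (hxy : stdB hF n x y ≠ 0)
    (hxz : stdB hF n x z ≠ 0) : mkPt hF z hz hzz ∈ B := by
  obtain ⟨g, c, hc, hgx, hgy⟩ := exists_SU_nonorth hF hn x y z hxx hyy hzz hxy hxz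
  rw [MulAction.isBlock_iff_smul_eq_of_mem] at hB
  have h1 : g • mkPt hF x hx hxx = mkPt hF x hx hxx := by
    rw [smul_mkPt, mkPt_eq_iff]
    exact ⟨1, by rw [one_smul, hgx]⟩
  have h2 : g • mkPt hF y hy hyy = mkPt hF z hz hzz := by
    rw [smul_mkPt, mkPt_eq_iff]
    exact ⟨c, hgy.symm⟩
  have h3 := hB (g := g) hxB (by rw [h1]; exact hxB)
  rw [← h3, ← h2]
  exact Set.smul_mem_smul_set hyB

/-- `SU_n(q)` acts primitively on the isotropic points, `n ≥ 3` -/
theorem su_preprimitive (hn : 3 ≤ n) :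
    MulAction.IsPreprimitive ↥(Cfsg.SU n F q) ↥(isoPts hF (n := n)) := by
  have : MulAction.IsPretransitive ↥(Cfsg.SU n F q) ↥(isoPts hF (n := n)) :=
    su_pretransitive hF hn
  apply MulAction.IsPreprimitive.mk
  intro B hB
  rcases B.subsingleton_or_nontrivial with h | h
  · left
    exact h
  · right
    obtain ⟨a, ha, b, hb, hab⟩ := h
    obtain ⟨x, hx, hxx, rfl⟩ := exists_mkPt hF a
    obtain ⟨y, hy, hyy, rfl⟩ := exists_mkPt hF b
    have key : ∃ (x' y' : Fin n → F) (hx' : x' ≠ 0) (hy' : y' ≠ 0) (hx'x' : stdB hF n x' x' = 0)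
        (hy'y' : stdB hF n y' y' = 0), mkPt hF x' hx' hx'x' ∈ B ∧ mkPt hF y' hy' hy'y' ∈ B ∧
          stdB hF n x' y' ≠ 0 := by
      by_cases hxy : stdB hF n x y = 0
      · have hli : LinearIndependent F ![x, y] := by
          rw [LinearIndependent.pair_iff' hx]
          intro c hc
          apply hab
          symm
          rw [mkPt_eq_iff]
          exact ⟨c, hc⟩
        obtain ⟨g, hgy, hgx⟩ := exists_SU_orth hF x y hxx hxy hli
        have hB' := (MulAction.isBlock_iff_smul_eq_of_mem.mp hB) (g := g) hb (by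
          have : g • mkPt hF y hy hyy = mkPt hF y hy hyy := by
            rw [smul_mkPt, mkPt_eq_iff]
            exact ⟨1, by rw [one_smul, hgy]⟩
          rw [this]
          exact hb)
        have hgxB : g • mkPt hF x hx hxx ∈ B := by
          rw [← hB']
          exact Set.smul_mem_smul_set ha
        rw [smul_mkPt] at hgxB
        exact ⟨x, actv g x, hx, _, hxx, _, ha, hgxB, hgx⟩
      · exact ⟨x, y, hx, hy, hxx, hyy, ha, hb, hxy⟩
    obtain ⟨x', y', hx', hy', hx'x', hy'y', hx'B, hy'B, hx'y'⟩ := key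
    rw [← Set.top_eq_univ, eq_top_iff]
    intro c _
    obtain ⟨z, hz, hzz, rfl⟩ := exists_mkPt hF c
    by_cases hxz : stdB hF n x' z = 0
    · obtain ⟨t, htt, ht1, ht2⟩ := exists_common_iso hF x' z hx' hz hx'x' hzz
      have ht : t ≠ 0 := by
        rintro rfl
        rw [map_zero] at ht1
        exact ht1 rfl
      have htB : mkPt hF t ht htt ∈ B :=
        su_block_nonorth hF hn hB x' y' t hx' hy' ht hx'x' hy'y' htt hx'B hy'B hx'y' ht1
      refine su_block_nonorth hF hn hB t x' z ht hx' hz htt hx'x' hzz htB hx'B ?_ ?_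
      · intro h0
        exact ht1 (stdB_swap_zero hF _ _ h0)
      · intro h0
        exact ht2 (stdB_swap_zero hF _ _ h0)
    · exact su_block_nonorth hF hn hB x' y' z hx' hy' hz hx'x' hy'y' hzz hx'B hy'B hx'y' hxz

end SUPrim

end Cfsg.Agent.Helper13
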