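import Mathlib
import Cfsg.Prelude.Def_LieTypeDatum

/-!
# Automorphisms of `PSL_n(F)` induced by `GL_n(F)`

`PhiL : GL (Fin n) F →* MulAut (PSL_n F)` (conjugation), its kernel (the scalars, `n ≥ 2`), its range
(`Cfsg.inndiagPSL n F`), and the interaction with the inverse-transpose automorphism:
`ι * PhiL g = PhiL (g⁻ᵀ) * ι`.
-/

set_option autoImplicit false
set_option linter.unusedSectionVars false
set_option linter.unusedSimpArgs false

namespace Cfsg.Agent.Helper13.PSLAut

open Matrix

variable {F : Type*} [Field F] {n : ℕ}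

/-- conjugation by `g ∈ GL_n` as an automorphism of `SL_n` -/
def conjSL (g : GL (Fin n) F) :
    Matrix.SpecialLinearGroup (Fin n) F ≃* Matrix.SpecialLinearGroup (Fin n) F where
  toFun s := ⟨(g : Matrix (Fin n) (Fin n) F) * (s : Matrix (Fin n) (Fin n) F) *
      ((g⁻¹ : GL (Fin n) F) : Matrix (Fin n) (Fin n) F), by
    rw [Matrix.det_mul, Matrix.det_mul, s.2, mul_one, ← Matrix.det_mul, ← Units.val_mul,
      mul_inv_cancel, Units.val_one, Matrix.det_one]⟩
  invFun s := ⟨((g⁻¹ : GL (Fin n) F) : Matrix (Fin n) (Fin n) F) *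
      (s : Matrix (Fin n) (Fin n) F) * (g : Matrix (Fin n) (Fin n) F), by
    rw [Matrix.det_mul, Matrix.det_mul, s.2, mul_one, ← Matrix.det_mul, ← Units.val_mul,
      inv_mul_cancel, Units.val_one, Matrix.det_one]⟩
  left_inv s := by
    apply Subtype.ext
    show ((g⁻¹ : GL (Fin n) F) : Matrix (Fin n) (Fin n) F) *
      ((g : Matrix (Fin n) (Fin n) F) * (s : Matrix (Fin n) (Fin n) F) *
        ((g⁻¹ : GL (Fin n) F) : Matrix (Fin n) (Fin n) F)) * (g : Matrix (Fin n) (Fin n) F) = s
    have h1 : ((g⁻¹ : GL (Fin n) F) : Matrix (Fin n) (Fin n) F) * (g : Matrix (Fin n) (Fin n) F)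
        = 1 := by rw [← Units.val_mul, inv_mul_cancel, Units.val_one]
    calc _ = (((g⁻¹ : GL (Fin n) F) : Matrix (Fin n) (Fin n) F) * (g : Matrix (Fin n) (Fin n) F)) *
          (s : Matrix (Fin n) (Fin n) F) *
          (((g⁻¹ : GL (Fin n) F) : Matrix (Fin n) (Fin n) F) * (g : Matrix (Fin n) (Fin n) F)) := by
          simp only [Matrix.mul_assoc]
      _ = s := by rw [h1, Matrix.one_mul, Matrix.mul_one]
  right_inv s := by
    apply Subtype.ext
    show (g : Matrix (Fin n) (Fin n) F) *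
      (((g⁻¹ : GL (Fin n) F) : Matrix (Fin n) (Fin n) F) * (s : Matrix (Fin n) (Fin n) F) *
        (g : Matrix (Fin n) (Fin n) F)) * ((g⁻¹ : GL (Fin n) F) : Matrix (Fin n) (Fin n) F) = s
    have h1 : (g : Matrix (Fin n) (Fin n) F) * ((g⁻¹ : GL (Fin n) F) : Matrix (Fin n) (Fin n) F)
        = 1 := by rw [← Units.val_mul, mul_inv_cancel, Units.val_one]
    calc _ = ((g : Matrix (Fin n) (Fin n) F) * ((g⁻¹ : GL (Fin n) F) : Matrix (Fin n) (Fin n) F)) *
          (s : Matrix (Fin n) (Fin n) F) *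
          ((g : Matrix (Fin n) (Fin n) F) * ((g⁻¹ : GL (Fin n) F) : Matrix (Fin n) (Fin n) F)) := by
          simp only [Matrix.mul_assoc]
      _ = s := by rw [h1, Matrix.one_mul, Matrix.mul_one]
  map_mul' s t := by
    apply Subtype.ext
    show (g : Matrix (Fin n) (Fin n) F) * ((s * t : Matrix.SpecialLinearGroup (Fin n) F) :
        Matrix (Fin n) (Fin n) F) * ((g⁻¹ : GL (Fin n) F) : Matrix (Fin n) (Fin n) F) =
      ((g : Matrix (Fin n) (Fin n) F) * (s : Matrix (Fin n) (Fin n) F) *
        ((g⁻¹ : GL (Fin n) F) : Matrix (Fin n) (Fin n) F)) *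
      ((g : Matrix (Fin n) (Fin n) F) * (t : Matrix (Fin n) (Fin n) F) *
        ((g⁻¹ : GL (Fin n) F) : Matrix (Fin n) (Fin n) F))
    have h1 : ((g⁻¹ : GL (Fin n) F) : Matrix (Fin n) (Fin n) F) * (g : Matrix (Fin n) (Fin n) F)
        = 1 := by rw [← Units.val_mul, inv_mul_cancel, Units.val_one]
    rw [Matrix.SpecialLinearGroup.coe_mul]
    calc _ = (g : Matrix (Fin n) (Fin n) F) * (s : Matrix (Fin n) (Fin n) F) * 1 *
          (t : Matrix (Fin n) (Fin n) F) * ((g⁻¹ : GL (Fin n) F) : Matrix (Fin n) (Fin n) F) := by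
          rw [Matrix.mul_one]; simp only [Matrix.mul_assoc]
      _ = _ := by rw [← h1]; simp only [Matrix.mul_assoc]

theorem conjSL_coe (g : GL (Fin n) F) (s : Matrix.SpecialLinearGroup (Fin n) F) :
    ((conjSL g s : Matrix.SpecialLinearGroup (Fin n) F) : Matrix (Fin n) (Fin n) F) =
      (g : Matrix (Fin n) (Fin n) F) * (s : Matrix (Fin n) (Fin n) F) *
        ((g⁻¹ : GL (Fin n) F) : Matrix (Fin n) (Fin n) F) := rfl

theorem conjSL_center (g : GL (Fin n) F) :
    (Subgroup.center (Matrix.SpecialLinearGroup (Fin n) F)).map (conjSL g).toMonoidHom =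
      Subgroup.center (Matrix.SpecialLinearGroup (Fin n) F) :=
  (Subgroup.characteristic_iff_map_eq.1
    (inferInstance : (Subgroup.center (Matrix.SpecialLinearGroup (Fin n) F)).Characteristic))
    (conjSL g)

/-- the automorphism of `PSL_n` induced by conjugation by `g` -/
noncomputable def phiFun (g : GL (Fin n) F) :
    Matrix.ProjectiveSpecialLinearGroup (Fin n) F ≃* Matrix.ProjectiveSpecialLinearGroup (Fin n) F :=
  QuotientGroup.congr (Subgroup.center (Matrix.SpecialLinearGroup (Fin n) F))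
    (Subgroup.center (Matrix.SpecialLinearGroup (Fin n) F)) (conjSL g) (conjSL_center g)

theorem phiFun_mk (g : GL (Fin n) F) (s : Matrix.SpecialLinearGroup (Fin n) F) :
    phiFun g (QuotientGroup.mk s) = QuotientGroup.mk (conjSL g s) := rfl

theorem conjSL_mul (g h : GL (Fin n) F) (s : Matrix.SpecialLinearGroup (Fin n) F) :
    conjSL (g * h) s = conjSL g (conjSL h s) := by
  apply Subtype.ext
  rw [conjSL_coe, conjSL_coe, conjSL_coe, _root_.mul_inv_rev, Units.val_mul, Units.val_mul]
  simp only [Matrix.mul_assoc]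

theorem conjSL_one (s : Matrix.SpecialLinearGroup (Fin n) F) : conjSL (1 : GL (Fin n) F) s = s := by
  apply Subtype.ext
  rw [conjSL_coe, inv_one, Units.val_one, Matrix.one_mul, Matrix.mul_one]

/-- The homomorphism `GL_n(F) → Aut(PSL_n(F))`. -/
noncomputable def PhiL : GL (Fin n) F →* MulAut (Matrix.ProjectiveSpecialLinearGroup (Fin n) F) where
  toFun g := phiFun g
  map_one' := by
    apply MulEquiv.ext
    intro x
    induction x using QuotientGroup.induction_on with
    | H s => rw [phiFun_mk, conjSL_one]; rfl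
  map_mul' g h := by
    apply MulEquiv.ext
    intro x
    induction x using QuotientGroup.induction_on with
    | H s => rw [phiFun_mk, conjSL_mul, MulAut.mul_apply, phiFun_mk, phiFun_mk]

theorem PhiL_mk (g : GL (Fin n) F) (s : Matrix.SpecialLinearGroup (Fin n) F) :
    PhiL g (QuotientGroup.mk s) = QuotientGroup.mk (conjSL g s) := rfl

/-- `β` is induced by conjugation by `g` iff `β = PhiL g` -/
theorem induced_iff (g : GL (Fin n) F)
    (β : Matrix.ProjectiveSpecialLinearGroup (Fin n) F ≃* Matrix.ProjectiveSpecialLinearGroup (Fin n) F) :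
    (∀ s s' : Matrix.SpecialLinearGroup (Fin n) F,
      (s' : Matrix (Fin n) (Fin n) F) =
        ((g : GL (Fin n) F) : Matrix (Fin n) (Fin n) F) * (s : Matrix (Fin n) (Fin n) F) *
          ((g⁻¹ : GL (Fin n) F) : Matrix (Fin n) (Fin n) F) →
      β (QuotientGroup.mk s) = QuotientGroup.mk s') ↔ β = PhiL g := by
  constructor
  · intro h
    apply MulEquiv.ext
    intro x
    induction x using QuotientGroup.induction_on with
    | H s =>
      rw [PhiL_mk]
      exact h s (conjSL g s) (conjSL_coe g s)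
  · rintro rfl s s' hs'
    rw [PhiL_mk]
    congr 1
    apply Subtype.ext
    rw [conjSL_coe, hs']

theorem innerDiagonal_iff
    (β : Matrix.ProjectiveSpecialLinearGroup (Fin n) F ≃* Matrix.ProjectiveSpecialLinearGroup (Fin n) F) :
    Cfsg.IsInnerDiagonalAutPSL β ↔ ∃ g : GL (Fin n) F, β = PhiL g := by
  constructor
  · rintro ⟨g, hg⟩
    exact ⟨g, (induced_iff g β).1 hg⟩
  · rintro ⟨g, hg⟩
    exact ⟨g, (induced_iff g β).2 hg⟩

theorem inndiagPSL_eq_range : Cfsg.inndiagPSL n F = (PhiL (F := F) (n := n)).range := by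
  have hset : {β : MulAut (Matrix.ProjectiveSpecialLinearGroup (Fin n) F) |
      Cfsg.IsInnerDiagonalAutPSL β} =
      (((PhiL (F := F) (n := n)).range : Subgroup (MulAut (Matrix.ProjectiveSpecialLinearGroup (Fin n) F))) :
        Set (MulAut (Matrix.ProjectiveSpecialLinearGroup (Fin n) F))) := by
    ext β
    constructor
    · intro h
      obtain ⟨g, hg⟩ := (innerDiagonal_iff β).1 h
      exact ⟨g, hg.symm⟩
    · rintro ⟨g, rfl⟩
      exact (innerDiagonal_iff _).2 ⟨g, rfl⟩
  unfold Cfsg.inndiagPSL Cfsg.autSubgroupOf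
  rw [hset, Subgroup.closure_eq]


/-! ### The kernel of `PhiL` -/

theorem coe_mul_inv (g : GL (Fin n) F) :
    (g : Matrix (Fin n) (Fin n) F) * ((g⁻¹ : GL (Fin n) F) : Matrix (Fin n) (Fin n) F) = 1 := by
  rw [← Units.val_mul, mul_inv_cancel, Units.val_one]

theorem coe_inv_mul (g : GL (Fin n) F) :
    ((g⁻¹ : GL (Fin n) F) : Matrix (Fin n) (Fin n) F) * (g : Matrix (Fin n) (Fin n) F) = 1 := by
  rw [← Units.val_mul, inv_mul_cancel, Units.val_one]

/-- a matrix `G` with `G T G⁻¹ = r T` for the transvection `T = 1 + E_ij` commutes with `E_ij` -/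
theorem commute_single_of_conj {G G' : Matrix (Fin n) (Fin n) F} (h1 : G * G' = 1) (h2 : G' * G = 1)
    {i j : Fin n} (hij : i ≠ j) {r : F}
    (h : G * (1 + Matrix.single i j (1 : F)) * G' = r • (1 + Matrix.single i j (1 : F))) :
    Commute (Matrix.single i j (1 : F)) G := by
  have hE2 : Matrix.single i j (1 : F) * Matrix.single i j (1 : F) = 0 :=
    Matrix.single_mul_single_of_ne (c := (1 : F)) i j i (Ne.symm hij) (1 : F)
  have key : G * Matrix.single i j (1 : F) * G' =
      (r - 1) • (1 : Matrix (Fin n) (Fin n) F) + r • Matrix.single i j (1 : F) := by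
    have : G * (1 + Matrix.single i j (1 : F)) * G' = 1 + G * Matrix.single i j (1 : F) * G' := by
      rw [Matrix.mul_add, Matrix.add_mul, Matrix.mul_one, h1]
    rw [this] at h
    have h' : G * Matrix.single i j (1 : F) * G' = r • (1 + Matrix.single i j (1 : F)) - 1 := by
      rw [← h]; abel
    rw [h', smul_add, sub_smul, one_smul]; abel
  have hsq : (G * Matrix.single i j (1 : F) * G') * (G * Matrix.single i j (1 : F) * G') = 0 := by
    calc _ = G * (Matrix.single i j (1 : F) * (G' * G) * Matrix.single i j (1 : F)) * G' := by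
          simp only [Matrix.mul_assoc]
      _ = 0 := by rw [h2, Matrix.mul_one, hE2, Matrix.mul_zero, Matrix.zero_mul]
  rw [key] at hsq
  have hjj := congrFun (congrFun hsq j) j
  have hr : r = 1 := by
    have hrow : ∀ k, ((r - 1) • (1 : Matrix (Fin n) (Fin n) F) + r • Matrix.single i j (1 : F)) j k =
        if j = k then (r - 1) else 0 := by
      intro k
      simp [Matrix.single, Matrix.one_apply, hij]
    rw [Matrix.mul_apply] at hjj
    simp only [hrow] at hjj
    simp at hjj
    rcases hjj with hjj | hjj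
    · exact sub_eq_zero.1 hjj
    · simp [Matrix.single, hij] at hjj
      exact sub_eq_zero.1 hjj
  rw [hr, one_smul] at h
  have h3 : G * (1 + Matrix.single i j (1 : F)) = (1 + Matrix.single i j (1 : F)) * G := by
    calc G * (1 + Matrix.single i j (1 : F)) = G * (1 + Matrix.single i j (1 : F)) * (G' * G) := by
          rw [h2, Matrix.mul_one]
      _ = (G * (1 + Matrix.single i j (1 : F)) * G') * G := by simp only [Matrix.mul_assoc]
      _ = _ := by rw [h]
  rw [Matrix.mul_add, Matrix.add_mul, Matrix.mul_one, Matrix.one_mul] at h3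
  exact (add_left_cancel h3).symm

theorem PhiL_eq_one_iff (hn : 0 < n) (g : GL (Fin n) F) :
    PhiL g = 1 ↔ g ∈ Cfsg.Geo.scalars (Fin n) F := by
  constructor
  · intro hg
    have hconj : ∀ s : Matrix.SpecialLinearGroup (Fin n) F, ∃ r : F,
        (g : Matrix (Fin n) (Fin n) F) * (s : Matrix (Fin n) (Fin n) F) *
          ((g⁻¹ : GL (Fin n) F) : Matrix (Fin n) (Fin n) F) = r • (s : Matrix (Fin n) (Fin n) F) := by
      intro s
      have h1 : PhiL g (QuotientGroup.mk s) = QuotientGroup.mk s := by rw [hg]; rfl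
      rw [PhiL_mk] at h1
      have h2 := (QuotientGroup.eq.1 h1.symm)
      obtain ⟨r, -, hr⟩ := Matrix.SpecialLinearGroup.mem_center_iff.1 h2
      refine ⟨r, ?_⟩
      have h3 : conjSL g s = s * (s⁻¹ * conjSL g s) := by group
      calc (g : Matrix (Fin n) (Fin n) F) * (s : Matrix (Fin n) (Fin n) F) *
            ((g⁻¹ : GL (Fin n) F) : Matrix (Fin n) (Fin n) F)
          = ((conjSL g s : Matrix.SpecialLinearGroup (Fin n) F) : Matrix (Fin n) (Fin n) F) :=
            (conjSL_coe g s).symm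
        _ = ((s * (s⁻¹ * conjSL g s) : Matrix.SpecialLinearGroup (Fin n) F) :
              Matrix (Fin n) (Fin n) F) :=
            congrArg (fun x : Matrix.SpecialLinearGroup (Fin n) F =>
              (x : Matrix (Fin n) (Fin n) F)) h3
        _ = (s : Matrix (Fin n) (Fin n) F) *
              ((s⁻¹ * conjSL g s : Matrix.SpecialLinearGroup (Fin n) F) :
                Matrix (Fin n) (Fin n) F) := Matrix.SpecialLinearGroup.coe_mul _ _
        _ = (s : Matrix (Fin n) (Fin n) F) * Matrix.scalar (Fin n) r := by rw [hr]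
        _ = r • (s : Matrix (Fin n) (Fin n) F) := by
            rw [Matrix.scalar_apply, Matrix.smul_eq_mul_diagonal]
    have hcomm : Pairwise fun i j : Fin n => Commute (Matrix.single i j (1 : F))
        (g : Matrix (Fin n) (Fin n) F) := by
      intro i j hij
      obtain ⟨r, hr⟩ := hconj ⟨Matrix.transvection i j (1 : F), Matrix.det_transvection_of_ne i j hij 1⟩
      exact commute_single_of_conj (coe_mul_inv g) (coe_inv_mul g) hij hr
    obtain ⟨c, hc⟩ := Matrix.mem_range_scalar_of_commute_single hcomm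
    have hc0 : c ≠ 0 := by
      rintro rfl
      have h1 := coe_mul_inv g
      rw [← hc, map_zero, Matrix.zero_mul] at h1
      have h2 := congrFun (congrFun h1 ⟨0, hn⟩) ⟨0, hn⟩
      simp at h2
    rw [Cfsg.Geo.mem_scalars_iff]
    refine ⟨Units.mk0 c hc0, ?_⟩
    rw [← hc]
    simp [Matrix.smul_one_eq_diagonal]
  · intro hg
    obtain ⟨c, hc⟩ := (Cfsg.Geo.mem_scalars_iff g).1 hg
    apply MulEquiv.ext
    intro x
    induction x using QuotientGroup.induction_on with
    | H s =>
      rw [PhiL_mk]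
      show _ = QuotientGroup.mk s
      congr 1
      apply Subtype.ext
      rw [conjSL_coe]
      have h1 : (g : Matrix (Fin n) (Fin n) F) * (s : Matrix (Fin n) (Fin n) F) =
          (s : Matrix (Fin n) (Fin n) F) * (g : Matrix (Fin n) (Fin n) F) := by
        rw [hc]; simp
      rw [h1, Matrix.mul_assoc, coe_mul_inv, Matrix.mul_one]


theorem PhiL_eq_iff (hn : 0 < n) (g h : GL (Fin n) F) :
    PhiL g = PhiL h ↔ g⁻¹ * h ∈ Cfsg.Geo.scalars (Fin n) F := by
  rw [← PhiL_eq_one_iff hn, map_mul, map_inv, inv_mul_eq_one]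

/-! ### The inverse-transpose automorphism -/

/-- `g⁻ᵀ` as an element of `GL` -/
def invT (g : GL (Fin n) F) : GL (Fin n) F :=
  ⟨(((g⁻¹ : GL (Fin n) F) : Matrix (Fin n) (Fin n) F))ᵀ, ((g : Matrix (Fin n) (Fin n) F))ᵀ,
    by rw [← Matrix.transpose_mul, coe_mul_inv, Matrix.transpose_one],
    by rw [← Matrix.transpose_mul, coe_inv_mul, Matrix.transpose_one]⟩

theorem invT_coe (g : GL (Fin n) F) :
    ((invT g : GL (Fin n) F) : Matrix (Fin n) (Fin n) F) =
      (((g⁻¹ : GL (Fin n) F) : Matrix (Fin n) (Fin n) F))ᵀ := rfl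

theorem invT_inv_coe (g : GL (Fin n) F) :
    (((invT g)⁻¹ : GL (Fin n) F) : Matrix (Fin n) (Fin n) F) =
      ((g : Matrix (Fin n) (Fin n) F))ᵀ := rfl

/-- `s⁻ᵀ` as an element of `SL` -/
def sInvT (s : Matrix.SpecialLinearGroup (Fin n) F) : Matrix.SpecialLinearGroup (Fin n) F :=
  ⟨(((s⁻¹ : Matrix.SpecialLinearGroup (Fin n) F) : Matrix (Fin n) (Fin n) F))ᵀ, by
    rw [Matrix.det_transpose]; exact (s⁻¹).2⟩

theorem sInvT_coe (s : Matrix.SpecialLinearGroup (Fin n) F) :
    ((sInvT s : Matrix.SpecialLinearGroup (Fin n) F) : Matrix (Fin n) (Fin n) F) =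
      (((s⁻¹ : Matrix.SpecialLinearGroup (Fin n) F) : Matrix (Fin n) (Fin n) F))ᵀ := rfl

theorem invTranspose_mk {ι : MulAut (Matrix.ProjectiveSpecialLinearGroup (Fin n) F)}
    (hι : Cfsg.IsInverseTransposeAutPSL ι) (s : Matrix.SpecialLinearGroup (Fin n) F) :
    ι (QuotientGroup.mk s) = QuotientGroup.mk (sInvT s) :=
  hι s (sInvT s) rfl

theorem sInvT_conjSL (g : GL (Fin n) F) (s : Matrix.SpecialLinearGroup (Fin n) F) :
    sInvT (conjSL g s) = conjSL (invT g) (sInvT s) := by
  apply Subtype.ext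
  rw [sInvT_coe, conjSL_coe, invT_coe, invT_inv_coe, sInvT_coe, ← map_inv, conjSL_coe,
    Matrix.transpose_mul, Matrix.transpose_mul, Matrix.mul_assoc]

theorem invTranspose_mul_PhiL {ι : MulAut (Matrix.ProjectiveSpecialLinearGroup (Fin n) F)}
    (hι : Cfsg.IsInverseTransposeAutPSL ι) (g : GL (Fin n) F) :
    ι * PhiL g = PhiL (invT g) * ι := by
  apply MulEquiv.ext
  intro x
  induction x using QuotientGroup.induction_on with
  | H s =>
    rw [MulAut.mul_apply, MulAut.mul_apply, PhiL_mk, invTranspose_mk hι, invTranspose_mk hι,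
      PhiL_mk, sInvT_conjSL]

/-- `PhiL g` commutes with the inverse-transpose automorphism iff `gᵀ g` is a scalar matrix -/
theorem PhiL_mem_centralizer_iff (hn : 0 < n)
    {ι : MulAut (Matrix.ProjectiveSpecialLinearGroup (Fin n) F)}
    (hι : Cfsg.IsInverseTransposeAutPSL ι) (g : GL (Fin n) F) :
    PhiL g ∈ Subgroup.centralizer {ι} ↔
      ∃ c : Fˣ, ((g : Matrix (Fin n) (Fin n) F))ᵀ * (g : Matrix (Fin n) (Fin n) F) =
        (c : F) • (1 : Matrix (Fin n) (Fin n) F) := by
  rw [Subgroup.mem_centralizer_iff]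
  have h1 : (∀ h ∈ ({ι} : Set (MulAut (Matrix.ProjectiveSpecialLinearGroup (Fin n) F))),
      h * PhiL g = PhiL g * h) ↔ ι * PhiL g = PhiL g * ι := by
    constructor
    · intro h; exact h ι rfl
    · intro h k hk; rw [Set.mem_singleton_iff.1 hk]; exact h
  rw [h1, invTranspose_mul_PhiL hι, mul_left_inj, PhiL_eq_iff hn, Cfsg.Geo.mem_scalars_iff]
  have h2 : (((invT g)⁻¹ * g : GL (Fin n) F) : Matrix (Fin n) (Fin n) F) =
      ((g : Matrix (Fin n) (Fin n) F))ᵀ * (g : Matrix (Fin n) (Fin n) F) := by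
    rw [Units.val_mul, invT_inv_coe]
  rw [h2]

end Cfsg.Agent.Helper13.PSLAut
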