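import Mathlib
import Cfsg.Agent.Lib.Helper13.PSLAut

/-!
# Graph automorphisms `PhiL A * ι` of `PSL_n(F)`

`gam A = PhiL A * iotaAut`: orders, conjugacy under `Inndiag`, centralizers.
-/

set_option autoImplicit false
set_option linter.unusedSectionVars false
set_option linter.unusedSimpArgs false
set_option linter.unusedVariables false

namespace Cfsg.Agent.Helper13.GraphAutPSL

open Matrix Cfsg.Agent.Helper13.PSLAut

variable {F : Type*} [Field F] {n : ℕ}

local notation "SLn" => Matrix.SpecialLinearGroup (Fin n) F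
local notation "PSLn" => Matrix.ProjectiveSpecialLinearGroup (Fin n) F
local notation "Mn" => Matrix (Fin n) (Fin n) F

theorem sInvT_mul (s t : SLn) : sInvT (s * t) = sInvT s * sInvT t := by
  apply Subtype.ext
  rw [Matrix.SpecialLinearGroup.coe_mul, sInvT_coe, sInvT_coe, sInvT_coe, _root_.mul_inv_rev,
    Matrix.SpecialLinearGroup.coe_mul, Matrix.transpose_mul]

theorem sInvT_sInvT (s : SLn) : sInvT (sInvT s) = s := by
  have h1 : sInvT s * sInvT (s⁻¹) = 1 := by rw [← sInvT_mul, mul_inv_cancel]; apply Subtype.ext; simp [sInvT_coe]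
  have h2 : (sInvT s)⁻¹ = sInvT (s⁻¹) := inv_eq_of_mul_eq_one_right h1
  apply Subtype.ext
  rw [sInvT_coe, h2, sInvT_coe, inv_inv, Matrix.transpose_transpose]

/-- inverse-transpose as an automorphism of `SL` -/
def sInvTEquiv : SLn ≃* SLn where
  toFun := sInvT
  invFun := sInvT
  left_inv := sInvT_sInvT
  right_inv := sInvT_sInvT
  map_mul' := sInvT_mul

/-- the inverse-transpose automorphism of `PSL` -/
noncomputable def iotaAut : MulAut PSLn :=
  QuotientGroup.congr (Subgroup.center SLn) (Subgroup.center SLn) sInvTEquiv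
    (Subgroup.characteristic_iff_map_eq.mp Subgroup.centerCharacteristic sInvTEquiv)

theorem iotaAut_mk (s : SLn) : iotaAut (QuotientGroup.mk s : PSLn) = QuotientGroup.mk (sInvT s) := rfl

theorem iotaAut_isInvT : Cfsg.IsInverseTransposeAutPSL (iotaAut (F := F) (n := n)) := by
  intro s s' hs'
  rw [iotaAut_mk]
  congr 1
  apply Subtype.ext
  rw [hs', sInvT_coe]

theorem eq_iotaAut {ι : MulAut PSLn} (hι : Cfsg.IsInverseTransposeAutPSL ι) : ι = iotaAut := by
  apply MulEquiv.ext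
  intro x
  induction x using QuotientGroup.induction_on with
  | H s => rw [invTranspose_mk hι, iotaAut_mk]

theorem iotaAut_mul_self : (iotaAut (F := F) (n := n)) * iotaAut = 1 := by
  apply MulEquiv.ext
  intro x
  induction x using QuotientGroup.induction_on with
  | H s => rw [MulAut.mul_apply, iotaAut_mk, iotaAut_mk, sInvT_sInvT]; rfl

theorem iotaAut_mul_PhiL (g : GL (Fin n) F) : iotaAut * PhiL g = PhiL (invT g) * iotaAut :=
  invTranspose_mul_PhiL iotaAut_isInvT g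

/-! ### `invT` is an involutive automorphism of `GL` -/

theorem invT_mul (g h : GL (Fin n) F) : invT (g * h) = invT g * invT h := by
  apply Units.ext
  rw [Units.val_mul, invT_coe, invT_coe, invT_coe, _root_.mul_inv_rev, Units.val_mul, Matrix.transpose_mul]

theorem invT_one : invT (1 : GL (Fin n) F) = 1 := by
  apply Units.ext
  rw [invT_coe, inv_one, Units.val_one, Matrix.transpose_one]

/-- inverse transpose as a homomorphism -/
def invTHom : GL (Fin n) F →* GL (Fin n) F where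
  toFun := invT
  map_one' := invT_one
  map_mul' := invT_mul

theorem invT_inv (g : GL (Fin n) F) : invT g⁻¹ = (invT g)⁻¹ := map_inv invTHom g

theorem invT_invT (g : GL (Fin n) F) : invT (invT g) = g := by
  apply Units.ext
  rw [invT_coe, invT_inv_coe, Matrix.transpose_transpose]

/-- transpose of `g`, as an element of `GL` -/
theorem invT_inv_val (g : GL (Fin n) F) : ((invT g⁻¹ : GL (Fin n) F) : Mn) = (g : Mn)ᵀ := by
  rw [invT_coe, inv_inv]

theorem invT_mem_scalars_iff (g : GL (Fin n) F) :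
    invT g ∈ Cfsg.Geo.scalars (Fin n) F ↔ g ∈ Cfsg.Geo.scalars (Fin n) F := by
  have key : ∀ g : GL (Fin n) F, g ∈ Cfsg.Geo.scalars (Fin n) F →
      invT g ∈ Cfsg.Geo.scalars (Fin n) F := by
    intro g hg
    have hg' := (Cfsg.Geo.scalars (Fin n) F).inv_mem hg
    obtain ⟨c, hc⟩ := (Cfsg.Geo.mem_scalars_iff _).1 hg'
    rw [Cfsg.Geo.mem_scalars_iff]
    refine ⟨c, ?_⟩
    rw [invT_coe, hc, Matrix.transpose_smul, Matrix.transpose_one]
  constructor
  · intro h
    have := key _ h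
    rwa [invT_invT] at this
  · exact key g

/-! ### The automorphisms `gam A` -/

/-- the graph automorphism `PhiL A * ι` -/
noncomputable def gam (A : GL (Fin n) F) : MulAut PSLn := PhiL A * iotaAut

theorem isGraph_iff (γ : MulAut PSLn) :
    Cfsg.IsGraphAutClassPSL γ ↔ 3 ≤ n ∧ ∃ A : GL (Fin n) F, γ = gam A := by
  unfold Cfsg.IsGraphAutClassPSL
  constructor
  · rintro ⟨h3, δ, γ', hδ, hγ', rfl⟩
    obtain ⟨A, rfl⟩ := (innerDiagonal_iff δ).1 hδ
    refine ⟨h3, A, ?_⟩
    rw [eq_iotaAut hγ']; rfl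
  · rintro ⟨h3, A, rfl⟩
    exact ⟨h3, PhiL A, iotaAut, (innerDiagonal_iff _).2 ⟨A, rfl⟩, iotaAut_isInvT, rfl⟩

theorem gam_mul_self (A : GL (Fin n) F) : gam A * gam A = PhiL (A * invT A) := by
  unfold gam
  calc PhiL A * iotaAut * (PhiL A * iotaAut) = PhiL A * (iotaAut * PhiL A) * iotaAut := by group
    _ = PhiL A * (PhiL (invT A) * iotaAut) * iotaAut := by rw [iotaAut_mul_PhiL]
    _ = PhiL A * PhiL (invT A) * (iotaAut * iotaAut) := by group
    _ = PhiL (A * invT A) := by rw [iotaAut_mul_self, mul_one, map_mul]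

theorem conj_gam (h A : GL (Fin n) F) :
    PhiL h * gam A * (PhiL h)⁻¹ = gam (h * A * invT h⁻¹) := by
  unfold gam
  calc PhiL h * (PhiL A * iotaAut) * (PhiL h)⁻¹ = PhiL h * PhiL A * (iotaAut * PhiL h⁻¹) := by
        rw [map_inv]; group
    _ = PhiL h * PhiL A * (PhiL (invT h⁻¹) * iotaAut) := by rw [iotaAut_mul_PhiL]
    _ = PhiL (h * A * invT h⁻¹) * iotaAut := by rw [map_mul, map_mul]; group

theorem gam_eq_gam_iff (hn : 0 < n) (A B : GL (Fin n) F) :
    gam A = gam B ↔ A⁻¹ * B ∈ Cfsg.Geo.scalars (Fin n) F := by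
  unfold gam
  rw [mul_left_inj, PhiL_eq_iff hn]

theorem gam_eq_gam_iff' (hn : 0 < n) (N X : GL (Fin n) F) :
    gam X = gam N ↔ ∃ c : Fˣ, (X : Mn) = (c : F) • (N : Mn) := by
  rw [eq_comm, gam_eq_gam_iff hn, Cfsg.Geo.mem_scalars_iff]
  constructor
  · rintro ⟨c, hc⟩
    refine ⟨c, ?_⟩
    have h1 : (X : Mn) = (N : Mn) * ((N⁻¹ * X : GL (Fin n) F) : Mn) := by
      rw [← Units.val_mul, mul_inv_cancel_left]
    rw [h1, hc, Matrix.mul_smul, Matrix.mul_one]
  · rintro ⟨c, hc⟩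
    refine ⟨c, ?_⟩
    rw [Units.val_mul, hc, Matrix.mul_smul, coe_inv_mul]

theorem isConj_gam_iff (hn : 0 < n) (A B : GL (Fin n) F) :
    Cfsg.IsConjUnder (Cfsg.inndiagPSL n F) (gam A) (gam B) ↔
      ∃ (h : GL (Fin n) F) (c : Fˣ), (h : Mn) * (A : Mn) * (h : Mn)ᵀ = (c : F) • (B : Mn) := by
  unfold Cfsg.IsConjUnder
  constructor
  · rintro ⟨x, hx, hy⟩
    rw [inndiagPSL_eq_range] at hx
    obtain ⟨h, rfl⟩ := hx
    rw [conj_gam, eq_comm, gam_eq_gam_iff' hn] at hy
    obtain ⟨c, hc⟩ := hy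
    refine ⟨h, c, ?_⟩
    rw [← hc, Units.val_mul, Units.val_mul, invT_inv_val]
  · rintro ⟨h, c, hc⟩
    refine ⟨PhiL h, ?_, ?_⟩
    · rw [inndiagPSL_eq_range]; exact ⟨h, rfl⟩
    · rw [conj_gam, eq_comm, gam_eq_gam_iff' hn]
      refine ⟨c, ?_⟩
      rw [← hc, Units.val_mul, Units.val_mul, invT_inv_val]

theorem gam_sq_eq_one_iff (hn : 0 < n) (A : GL (Fin n) F) :
    gam A * gam A = 1 ↔ ∃ c : Fˣ, (A : Mn) = (c : F) • (A : Mn)ᵀ := by
  rw [gam_mul_self, PhiL_eq_one_iff hn, Cfsg.Geo.mem_scalars_iff]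
  have h1 : ((A⁻¹ : GL (Fin n) F) : Mn)ᵀ * (A : Mn)ᵀ = 1 := by
    rw [← Matrix.transpose_mul, coe_mul_inv, Matrix.transpose_one]
  constructor
  · rintro ⟨c, hc⟩
    refine ⟨c, ?_⟩
    rw [Units.val_mul, invT_coe] at hc
    calc (A : Mn) = (A : Mn) * (((A⁻¹ : GL (Fin n) F) : Mn)ᵀ * (A : Mn)ᵀ) := by
          rw [h1, Matrix.mul_one]
      _ = ((A : Mn) * ((A⁻¹ : GL (Fin n) F) : Mn)ᵀ) * (A : Mn)ᵀ := by rw [Matrix.mul_assoc]
      _ = (c : F) • (A : Mn)ᵀ := by rw [hc, Matrix.smul_mul, Matrix.one_mul]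
  · rintro ⟨c, hc⟩
    refine ⟨c, ?_⟩
    rw [Units.val_mul, invT_coe]
    have h2 : (A : Mn)ᵀ * ((A⁻¹ : GL (Fin n) F) : Mn)ᵀ = 1 := by
      rw [← Matrix.transpose_mul, coe_inv_mul, Matrix.transpose_one]
    calc (A : Mn) * ((A⁻¹ : GL (Fin n) F) : Mn)ᵀ
        = ((c : F) • (A : Mn)ᵀ) * ((A⁻¹ : GL (Fin n) F) : Mn)ᵀ := by rw [← hc]
      _ = (c : F) • 1 := by rw [Matrix.smul_mul, h2]

theorem sym_or_skew (hn : 0 < n) (A : GL (Fin n) F) (c : F) (hc : (A : Mn) = c • (A : Mn)ᵀ) :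
    (A : Mn)ᵀ = (A : Mn) ∨ (A : Mn)ᵀ = -(A : Mn) := by
  have hne : ∃ i j, (A : Mn) i j ≠ 0 := by
    by_contra h
    push Not at h
    have h0 : (A : Mn) = 0 := by ext i j; exact h i j
    have h1 := coe_mul_inv A
    rw [h0, Matrix.zero_mul] at h1
    have h2 := congrFun (congrFun h1 ⟨0, hn⟩) ⟨0, hn⟩
    simp at h2
  obtain ⟨i, j, hij⟩ := hne
  have e1 : (A : Mn) i j = c * (A : Mn) j i := by
    have := congrFun (congrFun hc i) j
    rwa [Matrix.smul_apply, Matrix.transpose_apply, smul_eq_mul] at this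
  have e2 : (A : Mn) j i = c * (A : Mn) i j := by
    have := congrFun (congrFun hc j) i
    rwa [Matrix.smul_apply, Matrix.transpose_apply, smul_eq_mul] at this
  have e3 : (c - 1) * (c + 1) * (A : Mn) i j = 0 := by
    linear_combination (-1 : F) * e1 - c * e2
  rcases mul_eq_zero.mp e3 with e4 | e4
  · rcases mul_eq_zero.mp e4 with e5 | e5
    · left
      have hc1 : c = 1 := by linear_combination e5
      rw [hc1, one_smul] at hc
      exact hc.symm
    · right
      have hc1 : c = -1 := by linear_combination e5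
      rw [hc1, neg_smul, one_smul] at hc
      rw [eq_comm, neg_eq_iff_eq_neg]
      exact hc
  · exact absurd e4 hij

/-! ### `ι` is not inner-diagonal for `n ≥ 3` -/

theorem transv_rel {B : GL (Fin n) F} (hB : iotaAut = PhiL B) {i j : Fin n} (hij : i ≠ j) :
    ∃ r : F, (1 + Matrix.single j i (-1 : F)) * (B : Mn) =
      r • ((B : Mn) * (1 + Matrix.single i j (1 : F))) := by
  set s : SLn := ⟨Matrix.transvection i j (1 : F), Matrix.det_transvection_of_ne i j hij 1⟩ with hs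
  set t : SLn := ⟨Matrix.transvection i j (-1 : F), Matrix.det_transvection_of_ne i j hij (-1)⟩
    with ht
  have hst : s * t = 1 := by
    apply Subtype.ext
    rw [Matrix.SpecialLinearGroup.coe_mul]
    show Matrix.transvection i j (1 : F) * Matrix.transvection i j (-1 : F) = 1
    rw [Matrix.transvection_mul_transvection_same i j hij, add_neg_cancel,
      Matrix.transvection_zero]
  have hsinv : s⁻¹ = t := inv_eq_of_mul_eq_one_right hst
  have h1 : iotaAut (QuotientGroup.mk s : PSLn) = PhiL B (QuotientGroup.mk s) := by rw [hB]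
  rw [iotaAut_mk, PhiL_mk] at h1
  have h2 := QuotientGroup.eq.1 h1.symm
  obtain ⟨r, -, hr⟩ := Matrix.SpecialLinearGroup.mem_center_iff.1 h2
  refine ⟨r, ?_⟩
  have h3 : sInvT s = conjSL B s * ((conjSL B s)⁻¹ * sInvT s) := by group
  have h4 : ((sInvT s : SLn) : Mn) = r • ((B : Mn) * (s : Mn) * ((B⁻¹ : GL (Fin n) F) : Mn)) := by
    calc ((sInvT s : SLn) : Mn) = ((conjSL B s * ((conjSL B s)⁻¹ * sInvT s) : SLn) : Mn) :=
          congrArg (fun x : SLn => (x : Mn)) h3
      _ = ((conjSL B s : SLn) : Mn) * (((conjSL B s)⁻¹ * sInvT s : SLn) : Mn) :=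
          Matrix.SpecialLinearGroup.coe_mul _ _
      _ = ((conjSL B s : SLn) : Mn) * Matrix.scalar (Fin n) r := by rw [hr]
      _ = r • ((conjSL B s : SLn) : Mn) := by
          rw [Matrix.scalar_apply, Matrix.smul_eq_mul_diagonal]
      _ = _ := by rw [conjSL_coe]
  have h5 : ((sInvT s : SLn) : Mn) = 1 + Matrix.single j i (-1 : F) := by
    rw [sInvT_coe, hsinv]
    show (Matrix.transvection i j (-1 : F))ᵀ = _
    rw [Matrix.transvection, Matrix.transpose_add, Matrix.transpose_one, Matrix.transpose_single]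
  rw [← h5, h4, Matrix.smul_mul, Matrix.mul_assoc, coe_inv_mul, Matrix.mul_one]
  rfl

theorem row_zero_of_rel {B : Mn} {i j : Fin n} (hij : i ≠ j) {r : F}
    (h : (1 + Matrix.single j i (-1 : F)) * B = r • (B * (1 + Matrix.single i j (1 : F))))
    (b : Fin n) (hb : b ≠ j) : B i b = 0 := by
  have hent : ∀ a c : Fin n, B a c - (if a = j then B i c else 0) =
      r * (B a c + (if c = j then B a i else 0)) := by
    intro a c
    have := congrFun (congrFun h a) c
    rw [Matrix.add_mul, Matrix.one_mul, Matrix.smul_apply, Matrix.mul_add, Matrix.mul_one,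
      Matrix.add_apply, Matrix.add_apply, smul_eq_mul] at this
    have e1 : (Matrix.single j i (-1 : F) * B) a c = -(if a = j then B i c else 0) := by
      rw [Matrix.mul_apply]
      simp only [Matrix.single_apply]
      by_cases haj : a = j
      · simp [haj]
      · simp [haj, Ne.symm haj]
    have e2 : (B * Matrix.single i j (1 : F)) a c = (if c = j then B a i else 0) := by
      rw [Matrix.mul_apply]
      simp only [Matrix.single_apply]
      by_cases hcj : c = j
      · simp [hcj]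
      · simp [hcj, Ne.symm hcj]
    rw [e1, e2] at this
    linear_combination this
  by_cases hr : r = 1
  · have := hent j b
    rw [if_pos rfl, if_neg hb, hr] at this
    linear_combination -this
  · have := hent i b
    rw [if_neg hij, if_neg hb] at this
    have h3 : (1 - r) * B i b = 0 := by linear_combination this
    rcases mul_eq_zero.mp h3 with h4 | h4
    · exact absurd (by linear_combination -h4) hr
    · exact h4

theorem iotaAut_ne_PhiL (hn : 3 ≤ n) (B : GL (Fin n) F) : iotaAut ≠ PhiL B := by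
  intro hB
  set i : Fin n := ⟨0, by omega⟩ with hi
  set j : Fin n := ⟨1, by omega⟩ with hj
  set j' : Fin n := ⟨2, by omega⟩ with hj'
  have hij : i ≠ j := by rw [hi, hj]; intro h; simp [Fin.ext_iff] at h
  have hij' : i ≠ j' := by rw [hi, hj']; intro h; simp [Fin.ext_iff] at h
  have hjj' : j ≠ j' := by rw [hj, hj']; intro h; simp [Fin.ext_iff] at h
  obtain ⟨r, hr⟩ := transv_rel hB hij
  obtain ⟨r', hr'⟩ := transv_rel hB hij'
  have hrow : ∀ b, (B : Mn) i b = 0 := by
    intro b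
    by_cases hb : b = j
    · exact row_zero_of_rel hij' hr' b (by rw [hb]; exact hjj')
    · exact row_zero_of_rel hij hr b hb
  have h1 := congrFun (congrFun (coe_mul_inv B) i) i
  rw [Matrix.mul_apply] at h1
  simp only [hrow, zero_mul, Finset.sum_const_zero, Matrix.one_apply_eq] at h1
  exact zero_ne_one h1

theorem gam_ne_one (hn : 3 ≤ n) (A : GL (Fin n) F) : gam A ≠ 1 := by
  intro h
  unfold gam at h
  have h1 : iotaAut = PhiL A⁻¹ := by
    rw [map_inv]
    exact (eq_inv_of_mul_eq_one_right h)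
  exact iotaAut_ne_PhiL hn _ h1

theorem orderOf_gam (hn : 3 ≤ n) (A : GL (Fin n) F)
    (hA : (A : Mn)ᵀ = (A : Mn) ∨ (A : Mn)ᵀ = -(A : Mn)) : orderOf (gam A) = 2 := by
  have h1 : gam A * gam A = 1 := by
    rw [gam_sq_eq_one_iff (by omega)]
    rcases hA with h | h
    · exact ⟨1, by rw [h, Units.val_one, one_smul]⟩
    · exact ⟨-1, by rw [h, Units.val_neg, Units.val_one, neg_smul, one_smul, neg_neg]⟩
  exact orderOf_eq_prime (by rw [pow_two]; exact h1) (gam_ne_one hn A)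

/-! ### Centralizers -/

theorem mem_centralizer_gam_iff (hn : 0 < n) (N g : GL (Fin n) F) :
    PhiL g ∈ Subgroup.centralizer {gam N} ↔
      ∃ c : Fˣ, (g : Mn) * (N : Mn) * (g : Mn)ᵀ = (c : F) • (N : Mn) := by
  rw [Subgroup.mem_centralizer_iff]
  have h1 : (∀ h ∈ ({gam N} : Set (MulAut PSLn)), h * PhiL g = PhiL g * h) ↔
      PhiL g * gam N * (PhiL g)⁻¹ = gam N := by
    rw [mul_inv_eq_iff_eq_mul]
    constructor
    · intro h; exact (h (gam N) rfl).symm
    · intro h k hk; rw [Set.mem_singleton_iff.1 hk]; exact h.symm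
  rw [h1, conj_gam, gam_eq_gam_iff' hn]
  have h2 : ((g * N * invT g⁻¹ : GL (Fin n) F) : Mn) = (g : Mn) * (N : Mn) * (g : Mn)ᵀ := by
    rw [Units.val_mul, Units.val_mul, invT_inv_val]
  rw [h2]

/-- the centralizer of `gam N` in `Inndiag` is the image of the similarity group of the bilinear
form with matrix `N`, modulo scalars -/
theorem cent_gam_equiv (hn : 0 < n) (N : GL (Fin n) F) (S : Subgroup (GL (Fin n) F))
    (hS : ∀ k : GL (Fin n) F, k ∈ S ↔
      ∃ c : Fˣ, (k : Mn)ᵀ * (N : Mn) * (k : Mn) = (c : F) • (N : Mn)) :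
    Nonempty (↥(Cfsg.inndiagPSL n F ⊓ Subgroup.centralizer {gam N}) ≃* Cfsg.projQuot S) := by
  let ψ : ↥S →* MulAut PSLn := ((PhiL (F := F) (n := n)).comp invTHom).comp S.subtype
  have hψ : ∀ k : ↥S, ψ k = PhiL (invT (k : GL (Fin n) F)) := fun k => rfl
  have hcond : ∀ g : GL (Fin n) F,
      (∃ c : Fˣ, (g : Mn) * (N : Mn) * (g : Mn)ᵀ = (c : F) • (N : Mn)) ↔ invT g ∈ S := by
    intro g
    rw [hS]
    have e1 : ((invT g : GL (Fin n) F) : Mn)ᵀ = ((g⁻¹ : GL (Fin n) F) : Mn) := by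
      rw [invT_coe, Matrix.transpose_transpose]
    have hgi : ((g⁻¹ : GL (Fin n) F) : Mn) * (g : Mn) = 1 := coe_inv_mul g
    have hgi' : (g : Mn)ᵀ * ((g⁻¹ : GL (Fin n) F) : Mn)ᵀ = 1 := by
      rw [← Matrix.transpose_mul, hgi, Matrix.transpose_one]
    have hig : (g : Mn) * ((g⁻¹ : GL (Fin n) F) : Mn) = 1 := coe_mul_inv g
    have hig' : ((g⁻¹ : GL (Fin n) F) : Mn)ᵀ * (g : Mn)ᵀ = 1 := by
      rw [← Matrix.transpose_mul, hig, Matrix.transpose_one]
    rw [e1, invT_coe]
    constructor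
    · rintro ⟨c, hc⟩
      refine ⟨c⁻¹, ?_⟩
      have h3 : ((g⁻¹ : GL (Fin n) F) : Mn) * ((g : Mn) * (N : Mn) * (g : Mn)ᵀ) *
          ((g⁻¹ : GL (Fin n) F) : Mn)ᵀ = (N : Mn) := by
        calc ((g⁻¹ : GL (Fin n) F) : Mn) * ((g : Mn) * (N : Mn) * (g : Mn)ᵀ) *
              ((g⁻¹ : GL (Fin n) F) : Mn)ᵀ
            = (((g⁻¹ : GL (Fin n) F) : Mn) * (g : Mn)) * (N : Mn) *
                ((g : Mn)ᵀ * ((g⁻¹ : GL (Fin n) F) : Mn)ᵀ) := by simp only [Matrix.mul_assoc]
          _ = (N : Mn) := by rw [hgi, hgi', Matrix.one_mul, Matrix.mul_one]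
      rw [hc, Matrix.mul_smul, Matrix.smul_mul] at h3
      rw [Units.val_inv_eq_inv_val]
      conv_rhs => rw [← h3]
      rw [smul_smul, inv_mul_cancel₀ c.ne_zero, one_smul]
    · rintro ⟨c, hc⟩
      refine ⟨c⁻¹, ?_⟩
      have h3 : (g : Mn) * (((g⁻¹ : GL (Fin n) F) : Mn) * (N : Mn) *
          ((g⁻¹ : GL (Fin n) F) : Mn)ᵀ) * (g : Mn)ᵀ = (N : Mn) := by
        calc (g : Mn) * (((g⁻¹ : GL (Fin n) F) : Mn) * (N : Mn) *
              ((g⁻¹ : GL (Fin n) F) : Mn)ᵀ) * (g : Mn)ᵀ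
            = ((g : Mn) * ((g⁻¹ : GL (Fin n) F) : Mn)) * (N : Mn) *
                (((g⁻¹ : GL (Fin n) F) : Mn)ᵀ * (g : Mn)ᵀ) := by simp only [Matrix.mul_assoc]
          _ = (N : Mn) := by rw [hig, hig', Matrix.one_mul, Matrix.mul_one]
      rw [hc, Matrix.mul_smul, Matrix.smul_mul] at h3
      rw [Units.val_inv_eq_inv_val]
      conv_rhs => rw [← h3]
      rw [smul_smul, inv_mul_cancel₀ c.ne_zero, one_smul]
  have hrange : ψ.range = Cfsg.inndiagPSL n F ⊓ Subgroup.centralizer {gam N} := by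
    ext x
    constructor
    · rintro ⟨⟨k, hk⟩, rfl⟩
      rw [hψ]
      refine ⟨?_, ?_⟩
      · rw [inndiagPSL_eq_range]
        exact ⟨invT k, rfl⟩
      · show PhiL (invT k) ∈ Subgroup.centralizer {gam N}
        rw [mem_centralizer_gam_iff hn, hcond, invT_invT]
        exact hk
    · rintro ⟨h1, h3⟩
      rw [inndiagPSL_eq_range] at h1
      obtain ⟨g, rfl⟩ := h1
      have h3' : PhiL g ∈ Subgroup.centralizer {gam N} := h3
      rw [mem_centralizer_gam_iff hn, hcond] at h3'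
      refine ⟨⟨invT g, h3'⟩, ?_⟩
      rw [hψ]
      show PhiL (invT (invT g)) = PhiL g
      rw [invT_invT]
  have hker : ψ.ker = (Cfsg.Geo.scalars (Fin n) F).subgroupOf S := by
    ext ⟨k, hk⟩
    rw [MonoidHom.mem_ker, Subgroup.mem_subgroupOf, hψ]
    show PhiL (invT k) = 1 ↔ k ∈ Cfsg.Geo.scalars (Fin n) F
    rw [PhiL_eq_one_iff hn, invT_mem_scalars_iff]
  have e1 : ↥S ⧸ ψ.ker ≃* ψ.range := QuotientGroup.quotientKerEquivRange ψ
  have e2 : ↥S ⧸ ψ.ker ≃* ↥S ⧸ (Cfsg.Geo.scalars (Fin n) F).subgroupOf S :=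
    QuotientGroup.quotientMulEquivOfEq hker
  have e3 : ψ.range ≃* ↥(Cfsg.inndiagPSL n F ⊓ Subgroup.centralizer {gam N}) :=
    MulEquiv.subgroupCongr hrange
  exact ⟨(e3.symm.trans e1.symm).trans e2⟩

end Cfsg.Agent.Helper13.GraphAutPSL
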