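import Mathlib
import Cfsg.Agent.Lib.Helper13.AutPSLSylow
import Cfsg.Agent.Lib.Helper13.PSLAut
import Cfsg.Agent.Lib.Helper13.GraphAutPSL

/-!
# Automorphisms of `PSL_n(F)`, `n ≥ 3`: reduction to automorphisms fixing every root group

Root elements `xb i j t`, the combinatorial "type" lemma (rows have a common centre and columns a
common axis, or dually), and the frame normalisation: after composing with the inverse-transpose
automorphism (if necessary) and an inner-diagonal automorphism, an automorphism maps every root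
group `X_ij` to itself.
-/

set_option autoImplicit false
set_option linter.unusedSectionVars false
set_option linter.unusedSimpArgs false
set_option linter.unusedVariables false

namespace Cfsg.Agent.Helper13.AutPSLType

open Matrix Cfsg.Agent.Helper13.AutPSLTv Cfsg.Agent.Helper13.AutPSLSylow
  Cfsg.Agent.Helper13.PSLAut Cfsg.Agent.Helper13.GraphAutPSL

/-! ### an abstract combinatorial lemma -/

section Combinatorics

variable {ι X Y : Type*} (E1 : X → X → Prop) (E2 : Y → Y → Prop) (a : ι → ι → X) (b : ι → ι → Y)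

/-- hypotheses of the type lemma -/
structure TLHyp : Prop where
  symm1 : ∀ x y, E1 x y → E1 y x
  trans1 : ∀ x y z, E1 x y → E1 y z → E1 x z
  symm2 : ∀ x y, E2 x y → E2 y x
  trans2 : ∀ x y z, E2 x y → E2 y z → E2 x z
  r1 : ∀ i j k, i ≠ j → i ≠ k → j ≠ k → E1 (a i j) (a i k) ∨ E2 (b i j) (b i k)
  r2 : ∀ i j k, i ≠ k → j ≠ k → i ≠ j → E1 (a i k) (a j k) ∨ E2 (b i k) (b j k)
  r3 : ∀ i j k l, i ≠ j → k ≠ l → i ≠ k → j ≠ l → ¬ E1 (a i j) (a k l) ∧ ¬ E2 (b i j) (b k l)

variable {E1 E2 a b}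

theorem TLHyp.swap (H : TLHyp E1 E2 a b) : TLHyp E2 E1 b a where
  symm1 := H.symm2
  trans1 := H.trans2
  symm2 := H.symm1
  trans2 := H.trans1
  r1 := fun i j k h1 h2 h3 => (H.r1 i j k h1 h2 h3).symm
  r2 := fun i j k h1 h2 h3 => (H.r2 i j k h1 h2 h3).symm
  r3 := fun i j k l h1 h2 h3 h4 => (H.r3 i j k l h1 h2 h3 h4).symm

theorem TLHyp.p1 (H : TLHyp E1 E2 a b) {i j k : ι} (hij : i ≠ j) (hik : i ≠ k) (hjk : j ≠ k)
    (hc : E1 (a i j) (a i k)) : E2 (b i k) (b j k) := by
  rcases H.r2 i j k hik hjk hij with h | h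
  · exfalso
    have h1 := H.trans1 _ _ _ hc h
    exact (H.r3 i j j k hij hjk hij hjk).1 h1
  · exact h

theorem TLHyp.p2 (H : TLHyp E1 E2 a b) {i j k : ι} (hij : i ≠ j) (hik : i ≠ k) (hjk : j ≠ k)
    (hd : E2 (b i k) (b j k)) : E1 (a j k) (a j i) := by
  rcases H.r1 j k i hjk hij.symm hik.symm with h | h
  · exact h
  · exfalso
    have h1 := H.trans2 _ _ _ hd h
    exact (H.r3 i k j i hik hij.symm hij hik.symm).2 h1

theorem TLHyp.rot (H : TLHyp E1 E2 a b) {i j k : ι} (hij : i ≠ j) (hik : i ≠ k) (hjk : j ≠ k)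
    (hc : E1 (a i j) (a i k)) : E1 (a j k) (a j i) :=
  H.p2 hij hik hjk (H.p1 hij hik hjk hc)

theorem TLHyp.ext (H : TLHyp E1 E2 a b) {i j k l : ι} (hij : i ≠ j) (hik : i ≠ k) (hjk : j ≠ k)
    (hli : l ≠ i) (hlj : l ≠ j) (hc : E1 (a i j) (a i k)) : E1 (a i j) (a i l) := by
  by_cases hlk : l = k
  · rw [hlk]
    exact hc
  · have h1 : E1 (a j k) (a j i) := H.rot hij hik hjk hc
    have h2 : E1 (a k i) (a k j) := H.rot hjk hij.symm hik.symm h1
    have h3 : E2 (b k j) (b i j) := H.p1 hik.symm hjk.symm hij h2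
    rcases H.r1 i j l hij hli.symm hlj.symm with h | h
    · exact h
    · exfalso
      have h4 := H.trans2 _ _ _ h3 h
      exact (H.r3 k j i l hjk.symm hli.symm hik.symm hlj.symm).2 h4

theorem TLHyp.main (H : TLHyp E1 E2 a b) {i0 j0 k0 : ι} (h01 : i0 ≠ j0) (h02 : i0 ≠ k0)
    (h12 : j0 ≠ k0) (hseed : E1 (a i0 j0) (a i0 k0)) :
    (∀ i j k, i ≠ j → i ≠ k → j ≠ k → E1 (a i j) (a i k)) ∧
      (∀ i j k, i ≠ k → j ≠ k → i ≠ j → E2 (b i k) (b j k)) := by
  -- `E x y` : every third index gives a centre-type triple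
  have hE0 : ∀ l, l ≠ i0 → l ≠ j0 → E1 (a i0 j0) (a i0 l) := fun l hl1 hl2 =>
    H.ext h01 h02 h12 hl1 hl2 hseed
  have Eswap : ∀ i j, i ≠ j → (∀ l, l ≠ i → l ≠ j → E1 (a i j) (a i l)) →
      (∀ l, l ≠ j → l ≠ i → E1 (a j i) (a j l)) := by
    intro i j hij hE l hlj hli
    have h := hE l hli hlj
    have h2 := H.rot hij hli.symm hlj.symm h
    exact H.symm1 _ _ h2
  have Emove : ∀ i j k, i ≠ j → i ≠ k → j ≠ k → (∀ l, l ≠ i → l ≠ j → E1 (a i j) (a i l)) →
      (∀ l, l ≠ i → l ≠ k → E1 (a i k) (a i l)) := by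
    intro i j k hij hik hjk hE l hli hlk
    have h := hE k hik.symm hjk.symm
    have h2 := H.symm1 _ _ h
    exact H.ext hik hij hjk.symm hli hlk h2
  have stepA : ∀ x, x ≠ i0 → (∀ l, l ≠ i0 → l ≠ x → E1 (a i0 x) (a i0 l)) := by
    intro x hx
    by_cases hxj : x = j0
    · rw [hxj]
      exact hE0
    · exact Emove i0 j0 x h01 hx.symm (Ne.symm hxj) hE0
  have stepB : ∀ x y, x ≠ y → (∀ l, l ≠ x → l ≠ y → E1 (a x y) (a x l)) := by
    intro x y hxy
    by_cases hx : x = i0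
    · rw [hx]
      exact stepA y (by rw [← hx]; exact hxy.symm)
    · have h1 := Eswap i0 x (Ne.symm hx) (stepA x hx)
      by_cases hy : y = i0
      · rw [hy]
        exact h1
      · exact Emove x i0 y hx hxy (Ne.symm hy) h1
  have hC : ∀ i j k, i ≠ j → i ≠ k → j ≠ k → E1 (a i j) (a i k) := fun i j k hij hik hjk =>
    stepB i j hij k hik.symm hjk.symm
  exact ⟨hC, fun i j k hik hjk hij => H.p1 hij hik hjk (hC i j k hij hik hjk)⟩

end Combinatorics

variable {n : ℕ} {F : Type*} [Field F]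

local notation "SLn" => Matrix.SpecialLinearGroup (Fin n) F
local notation "PSLn" => Matrix.ProjectiveSpecialLinearGroup (Fin n) F
local notation "Mn" => Matrix (Fin n) (Fin n) F
local notation "Vn" => Fin n → F

/-! ### root elements -/

/-- the image in `PSL_n` of `1 + t E_ij` -/
noncomputable def xb (i j : Fin n) (t : F) : PSLn :=
  QuotientGroup.mk (tv (Pi.single i (1 : F)) (Pi.single j (1 : F)) t)

theorem xb_add {i j : Fin n} (hij : i ≠ j) (s t : F) : xb i j (s + t) = xb i j s * xb i j t := by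
  unfold xb
  rw [← QuotientGroup.mk_mul, tv_mul (single_flag hij).2.2]

theorem xb_zero (i j : Fin n) : xb i j (0 : F) = 1 := by
  unfold xb
  rw [tv_zero]
  rfl

theorem xb_inj (hn : 0 < n) {i j : Fin n} (hij : i ≠ j) {s t : F} (h : xb i j s = xb i j t) :
    s = t :=
  tv_param_eq_of_mk_eq hn (single_flag hij) h

theorem xb_neg {i j : Fin n} (hij : i ≠ j) (t : F) : xb i j (-t) = (xb i j t)⁻¹ := by
  unfold xb
  rw [← QuotientGroup.mk_inv, tv_inv (single_flag hij).2.2]

theorem xb_ne_one (hn : 0 < n) {i j : Fin n} (hij : i ≠ j) {t : F} (ht : t ≠ 0) :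
    xb i j t ≠ 1 := by
  intro h
  rw [← xb_zero i j] at h
  exact ht (xb_inj hn hij h)

theorem comm_identity {R : Type*} [Ring R] {X Y : R} (hXX : X * X = 0) (hYY : Y * Y = 0)
    (hYX : Y * X = 0) : (1 + X) * (1 + Y) * (1 - X) * (1 - Y) = 1 + X * Y := by
  have e1 : (1 + X) * (1 + Y) = 1 + X + Y + X * Y := by noncomm_ring
  have e2 : (1 + X + Y + X * Y) * (1 - X) = 1 + Y + X * Y - X * X - Y * X - X * (Y * X) := by
    noncomm_ring
  have e3 : (1 + Y + X * Y) * (1 - Y) = 1 + X * Y - Y * Y - X * (Y * Y) := by noncomm_ring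
  rw [e1, e2, hXX, hYX, mul_zero, sub_zero, sub_zero, sub_zero, e3, hYY, mul_zero, sub_zero,
    sub_zero]

theorem xb_comm {i j k : Fin n} (hij : i ≠ j) (hjk : j ≠ k) (hik : i ≠ k) (a b : F) :
    xb i j a * xb j k b * (xb i j a)⁻¹ * (xb j k b)⁻¹ = xb i k (a * b) := by
  unfold xb
  rw [← QuotientGroup.mk_inv, ← QuotientGroup.mk_inv, ← QuotientGroup.mk_mul,
    ← QuotientGroup.mk_mul, ← QuotientGroup.mk_mul, tv_inv (single_flag hij).2.2,
    tv_inv (single_flag hjk).2.2]
  congr 1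
  apply Subtype.ext
  rw [Matrix.SpecialLinearGroup.coe_mul, Matrix.SpecialLinearGroup.coe_mul,
    Matrix.SpecialLinearGroup.coe_mul, tv_coe (single_flag hij).2.2, tv_coe (single_flag hjk).2.2,
    tv_coe (single_flag hij).2.2, tv_coe (single_flag hjk).2.2, tv_coe (single_flag hik).2.2,
    tvm_single_eq, tvm_single_eq, tvm_single_eq, tvm_single_eq, tvm_single_eq]
  have hXX : (a • Matrix.single i j (1 : F)) * (a • Matrix.single i j (1 : F)) = 0 := by
    rw [smul_mul_smul_comm, Matrix.single_mul_single_of_ne _ _ _ _ (Ne.symm hij), smul_zero]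
  have hYY : (b • Matrix.single j k (1 : F)) * (b • Matrix.single j k (1 : F)) = 0 := by
    rw [smul_mul_smul_comm, Matrix.single_mul_single_of_ne _ _ _ _ (Ne.symm hjk), smul_zero]
  have hYX : (b • Matrix.single j k (1 : F)) * (a • Matrix.single i j (1 : F)) = 0 := by
    rw [smul_mul_smul_comm, Matrix.single_mul_single_of_ne _ _ _ _ (Ne.symm hik), smul_zero]
  rw [neg_smul, neg_smul, ← sub_eq_add_neg, ← sub_eq_add_neg, comm_identity hXX hYY hYX,
    smul_mul_smul_comm, Matrix.single_mul_single_same, mul_one]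

theorem xb_ne_comm (hn : 0 < n) {i j k : Fin n} (hij : i ≠ j) (hjk : j ≠ k) (hik : i ≠ k) :
    xb i j (1 : F) * xb j k 1 ≠ xb j k 1 * xb i j 1 := by
  intro h
  have h1 := xb_comm hij hjk hik (1 : F) 1
  rw [h, mul_assoc (xb j k (1 : F)), mul_inv_cancel, mul_one, mul_inv_cancel, mul_one] at h1
  exact xb_ne_one hn hik one_ne_zero h1.symm

theorem PhiL_mk_tv (g : GL (Fin n) F) {u φ : Vn} (h : φ ⬝ᵥ u = 0) (c : F) :
    PhiL g (QuotientGroup.mk (tv u φ c)) =
      QuotientGroup.mk (tv ((g : Mn) *ᵥ u) (φ ᵥ* ((g⁻¹ : GL (Fin n) F) : Mn)) c) := by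
  have h' : (φ ᵥ* ((g⁻¹ : GL (Fin n) F) : Mn)) ⬝ᵥ ((g : Mn) *ᵥ u) = 0 := by
    rw [dotProduct_mulVec, vecMul_vecMul, PSLAut.coe_inv_mul, vecMul_one]
    exact h
  rw [PhiL_mk]
  congr 1
  apply Subtype.ext
  rw [conjSL_coe, tv_coe h, tv_coe h', mul_tvm_mul u φ c (PSLAut.coe_mul_inv g)]

theorem iotaAut_xb {i j : Fin n} (hij : i ≠ j) (t : F) :
    iotaAut (xb i j t) = xb j i (-t) := by
  unfold xb
  rw [iotaAut_mk]
  congr 1
  apply Subtype.ext
  rw [sInvT_coe, tv_inv (single_flag hij).2.2, tv_coe (single_flag hij).2.2,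
    tv_coe (single_flag hij.symm).2.2]
  unfold tvm
  rw [transpose_add, transpose_one, transpose_smul, transpose_vecMulVec]

theorem par_single {i k : Fin n} (h : Par (Pi.single i (1 : F) : Vn) (Pi.single k (1 : F))) :
    i = k := by
  obtain ⟨a, ha, he⟩ := h
  have h1 := congrFun he k
  rw [Pi.single_eq_same, Pi.smul_apply, smul_eq_mul] at h1
  by_contra hik
  rw [Pi.single_eq_of_ne (Ne.symm hik), mul_zero] at h1
  exact one_ne_zero h1

/-! ### invariance of transvections under automorphisms -/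

section Aut

variable [Fintype F] {p f : ℕ} [Fact p.Prime]

theorem isTvE_map (hF : Fintype.card F = p ^ f) (hf : 1 ≤ f) (hn : 3 ≤ n) (α : MulAut PSLn)
    {x : PSLn} (hx : IsTvE x) : IsTvE (α x) := by
  obtain ⟨u, φ, hfl, c, rfl⟩ := hx
  obtain ⟨u', φ', hfl', h⟩ := aut_tv hF hf hn α hfl
  obtain ⟨c', hc'⟩ := h c
  exact ⟨u', φ', hfl', c', hc'⟩

theorem isTvE_map_iff (hF : Fintype.card F = p ^ f) (hf : 1 ≤ f) (hn : 3 ≤ n) (α : MulAut PSLn)
    {x : PSLn} : IsTvE (α x) ↔ IsTvE x := by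
  constructor
  · intro h
    have h1 := isTvE_map hF hf hn α⁻¹ h
    rwa [MulAut.inv_apply_self] at h1
  · exact isTvE_map hF hf hn α

end Aut

/-! ### root data, types and frames -/

/-- root data of an automorphism: flags receiving the root groups -/
def RootData (β : MulAut PSLn) (v φ : Fin n → Fin n → Vn) : Prop :=
  ∀ i j, i ≠ j → IsFlag (v i j) (φ i j) ∧
    ∀ t : F, ∃ t' : F, β (xb i j t) = QuotientGroup.mk (tv (v i j) (φ i j) t')

/-- `β` maps `X_ij` into the transvection group with centre `w i` and axis `ψ j` -/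
def Framed (β : MulAut PSLn) (w ψ : Fin n → Vn) : Prop :=
  ∀ i j, i ≠ j → IsFlag (w i) (ψ j) ∧
    ∀ t : F, ∃ t' : F, β (xb i j t) = QuotientGroup.mk (tv (w i) (ψ j) t')

/-- `β` maps every root group into itself -/
def RootFixing (β : MulAut PSLn) : Prop :=
  ∀ i j, i ≠ j → ∀ t : F, ∃ t' : F, β (xb i j t) = xb i j t'

theorem param_ne_zero (hn0 : 0 < n) (β : MulAut PSLn) {i j : Fin n} (hij : i ≠ j) {u χ : Vn}
    {t t' : F} (ht : t ≠ 0) (h : β (xb i j t) = QuotientGroup.mk (tv u χ t')) : t' ≠ 0 := by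
  rintro rfl
  rw [tv_zero, QuotientGroup.mk_one] at h
  have h1 : xb i j t = 1 := by
    have h2 : β (xb i j t) = β 1 := by rw [h, map_one]
    exact β.injective h2
  exact xb_ne_one hn0 hij ht h1

theorem exists_two_others (hn : 3 ≤ n) (j : Fin n) : ∃ i k : Fin n, i ≠ j ∧ j ≠ k ∧ i ≠ k := by
  by_cases h0 : (j : ℕ) = 0
  · refine ⟨⟨1, by omega⟩, ⟨2, by omega⟩, ?_, ?_, ?_⟩
    · intro h; have := congrArg Fin.val h; simp only at this; omega
    · intro h; have := congrArg Fin.val h; simp only at this; omega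
    · intro h; have := congrArg Fin.val h; simp only at this; omega
  · by_cases h1 : (j : ℕ) = 1
    · refine ⟨⟨0, by omega⟩, ⟨2, by omega⟩, ?_, ?_, ?_⟩
      · intro h; have := congrArg Fin.val h; simp only at this; omega
      · intro h; have := congrArg Fin.val h; simp only at this; omega
      · intro h; have := congrArg Fin.val h; simp only at this; omega
    · refine ⟨⟨0, by omega⟩, ⟨1, by omega⟩, ?_, ?_, ?_⟩
      · intro h; have := congrArg Fin.val h; simp only at this; omega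
      · intro h; have := congrArg Fin.val h; simp only at this; omega
      · intro h; have := congrArg Fin.val h; simp only at this; omega

section Main

variable [Fintype F] {p f : ℕ} [Fact p.Prime]

theorem exists_rootData (hF : Fintype.card F = p ^ f) (hf : 1 ≤ f) (hn : 3 ≤ n)
    (β : MulAut PSLn) : ∃ v φ : Fin n → Fin n → Vn, RootData β v φ := by
  have h : ∀ i j : Fin n, ∃ vv φφ : Vn, i ≠ j → (IsFlag vv φφ ∧
      ∀ t : F, ∃ t' : F, β (xb i j t) = QuotientGroup.mk (tv vv φφ t')) := by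
    intro i j
    by_cases hij : i = j
    · exact ⟨0, 0, fun h => absurd hij h⟩
    · obtain ⟨u', φ', hfl, h⟩ := aut_tv hF hf hn β (single_flag (F := F) hij)
      exact ⟨u', φ', fun _ => ⟨hfl, h⟩⟩
  choose v φ hvφ using h
  exact ⟨v, φ, fun i j hij => hvφ i j hij⟩

theorem RootData.tlhyp (hF : Fintype.card F = p ^ f) (hf : 1 ≤ f) (hn : 3 ≤ n)
    {β : MulAut PSLn} {v φ : Fin n → Fin n → Vn} (hd : RootData β v φ) :
    TLHyp (Par (n := n) (F := F)) (Par (n := n) (F := F)) v φ where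
  symm1 := fun _ _ h => h.symm
  trans1 := fun _ _ _ h h' => h.trans h'
  symm2 := fun _ _ h => h.symm
  trans2 := fun _ _ _ h h' => h.trans h'
  r1 := by
    intro i j k hij hik hjk
    have hn0 : 0 < n := by omega
    obtain ⟨a, ha⟩ := (hd i j hij).2 1
    obtain ⟨b, hb⟩ := (hd i k hik).2 1
    have ha0 := param_ne_zero hn0 β hij one_ne_zero ha
    have hb0 := param_ne_zero hn0 β hik one_ne_zero hb
    have h1 : IsTvE (xb i j (1 : F) * xb i k 1) :=
      isTvE_mul_of_center (single_flag hij) (single_flag hik) 1 1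
    have h2 := isTvE_map hF hf hn β h1
    rw [map_mul, ha, hb] at h2
    exact rgen hn (hd i j hij).1 (hd i k hik).1 ha0 hb0 h2
  r2 := by
    intro i j k hik hjk hij
    have hn0 : 0 < n := by omega
    obtain ⟨a, ha⟩ := (hd i k hik).2 1
    obtain ⟨b, hb⟩ := (hd j k hjk).2 1
    have ha0 := param_ne_zero hn0 β hik one_ne_zero ha
    have hb0 := param_ne_zero hn0 β hjk one_ne_zero hb
    have h1 : IsTvE (xb i k (1 : F) * xb j k 1) :=
      isTvE_mul_of_axis (single_flag hik) (single_flag hjk) 1 1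
    have h2 := isTvE_map hF hf hn β h1
    rw [map_mul, ha, hb] at h2
    exact rgen hn (hd i k hik).1 (hd j k hjk).1 ha0 hb0 h2
  r3 := by
    intro i j k l hij hkl hik hjl
    obtain ⟨a, ha⟩ := (hd i j hij).2 1
    obtain ⟨b, hb⟩ := (hd k l hkl).2 1
    have key : ¬ IsTvE ((QuotientGroup.mk (tv (v i j) (φ i j) a) : PSLn) *
        QuotientGroup.mk (tv (v k l) (φ k l) b)) := by
      intro h
      rw [← ha, ← hb, ← map_mul] at h
      have h2 : IsTvE (xb i j (1 : F) * xb k l 1) := (isTvE_map_iff hF hf hn β).1 h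
      rcases rgen hn (single_flag hij) (single_flag hkl) one_ne_zero one_ne_zero h2 with h3 | h3
      · exact hik (par_single h3)
      · exact hjl (par_single h3)
    exact ⟨fun hp => key (isTvE_mul_of_par_center (hd i j hij).1 (hd k l hkl).1 hp a b),
      fun hp => key (isTvE_mul_of_par_axis (hd i j hij).1 (hd k l hkl).1 hp a b)⟩

theorem framed_of_typeC (hn : 3 ≤ n) {β : MulAut PSLn} {v φ : Fin n → Fin n → Vn}
    (hd : RootData β v φ)
    (hC1 : ∀ i j k, i ≠ j → i ≠ k → j ≠ k → Par (v i j) (v i k))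
    (hC2 : ∀ i j k, i ≠ k → j ≠ k → i ≠ j → Par (φ i k) (φ j k)) :
    ∃ w ψ : Fin n → Vn, Framed β w ψ := by
  set i0 : Fin n := ⟨0, by omega⟩ with hi0
  set i1 : Fin n := ⟨1, by omega⟩ with hi1
  have h01 : i0 ≠ i1 := by
    intro h
    have := congrArg Fin.val h
    rw [hi0, hi1] at this
    simp only at this
    omega
  let s : Fin n → Fin n := fun i => if i = i0 then i1 else i0
  have hs : ∀ i, s i ≠ i := by
    intro i
    by_cases h : i = i0
    · simp only [s, if_pos h]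
      rw [h]
      exact h01.symm
    · simp only [s, if_neg h]
      exact Ne.symm h
  refine ⟨fun i => v i (s i), fun j => φ (s j) j, ?_⟩
  intro i j hij
  have hw : Par (v i (s i)) (v i j) := by
    by_cases h : s i = j
    · rw [h]
      exact Par.refl _
    · exact hC1 i (s i) j (hs i).symm hij h
  have hψ : Par (φ (s j) j) (φ i j) := by
    by_cases h : s j = i
    · rw [h]
      exact Par.refl _
    · exact hC2 (s j) i j (hs j) hij h
  obtain ⟨a, ha, hva⟩ := hw
  obtain ⟨b, hb, hφb⟩ := hψ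
  have hfl := (hd i j hij).1
  have h0 : φ (s j) j ⬝ᵥ v i (s i) = 0 := by
    have h1 := hfl.2.2
    rw [hva, hφb, smul_dotProduct, dotProduct_smul, smul_eq_mul, smul_eq_mul] at h1
    rcases mul_eq_zero.1 h1 with h | h
    · exact absurd h hb
    · rcases mul_eq_zero.1 h with h' | h'
      · exact absurd h' ha
      · exact h'
  refine ⟨⟨(hd i (s i) (hs i).symm).1.1, (hd (s j) j (hs j)).1.2.1, h0⟩, ?_⟩
  intro t
  obtain ⟨t', ht'⟩ := (hd i j hij).2 t
  refine ⟨a * b * t', ?_⟩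
  rw [ht', hva, hφb, tv_smul_smul h0]

theorem exists_rootFixing_of_framed (hn : 3 ≤ n) {β : MulAut PSLn} {w ψ : Fin n → Vn}
    (hfr : Framed β w ψ) : ∃ g : GL (Fin n) F, RootFixing ((PhiL g)⁻¹ * β) := by
  have hn0 : 0 < n := by omega
  have hd : ∀ j, ψ j ⬝ᵥ w j ≠ 0 := by
    intro j h0
    obtain ⟨i, k, hij, hjk, hik⟩ := exists_two_others hn j
    obtain ⟨a, ha⟩ := (hfr i j hij).2 1
    obtain ⟨b, hb⟩ := (hfr j k hjk).2 1
    have hcomm : tv (w i) (ψ j) a * tv (w j) (ψ k) b = tv (w j) (ψ k) b * tv (w i) (ψ j) a :=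
      tv_commute (hfr i j hij).1.2.2 (hfr j k hjk).1.2.2 h0 (hfr i k hik).1.2.2 a b
    have h1 : β (xb i j 1 * xb j k 1) = β (xb j k 1 * xb i j 1) := by
      rw [map_mul, map_mul, ha, hb, ← QuotientGroup.mk_mul, ← QuotientGroup.mk_mul, hcomm]
    exact xb_ne_comm hn0 hij hjk hik (β.injective h1)
  let W : Mn := Matrix.of fun k i => w i k
  let Ψ : Mn := Matrix.of fun j k => ψ j k
  have hΨW : Ψ * W = Matrix.diagonal (fun j => ψ j ⬝ᵥ w j) := by
    ext j i
    rw [Matrix.mul_apply, Matrix.diagonal_apply]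
    by_cases hji : j = i
    · subst hji
      rw [if_pos rfl]
      rfl
    · rw [if_neg hji]
      exact (hfr i j (Ne.symm hji)).1.2.2
  have hdetW : W.det ≠ 0 := by
    intro h
    have h1 := congrArg Matrix.det hΨW
    rw [Matrix.det_mul, h, mul_zero, Matrix.det_diagonal] at h1
    exact (Finset.prod_ne_zero_iff.2 (fun j _ => hd j)) h1.symm
  set g : GL (Fin n) F := Matrix.GeneralLinearGroup.mkOfDetNeZero W hdetW with hg
  have hgW : (g : Mn) = W := rfl
  refine ⟨g, ?_⟩
  intro i j hij t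
  obtain ⟨t', ht'⟩ := (hfr i j hij).2 t
  refine ⟨(ψ j ⬝ᵥ w j) * t', ?_⟩
  have hwi : w i = (g : Mn) *ᵥ Pi.single i (1 : F) := by
    rw [hgW, Matrix.mulVec_single_one]
    rfl
  have h1 : ((g⁻¹ : GL (Fin n) F) : Mn) *ᵥ w i = Pi.single i (1 : F) := by
    rw [hwi, mulVec_mulVec, PSLAut.coe_inv_mul, one_mulVec]
  have h2 : ψ j ᵥ* (g : Mn) = (ψ j ⬝ᵥ w j) • Pi.single j (1 : F) := by
    ext i'
    rw [hgW, Pi.smul_apply, smul_eq_mul]
    by_cases hi' : i' = j
    · subst hi'
      rw [Pi.single_eq_same, mul_one]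
      rfl
    · rw [Pi.single_eq_of_ne hi', mul_zero]
      exact (hfr i' j hi').1.2.2
  rw [MulAut.mul_apply, ← map_inv, ht', PhiL_mk_tv g⁻¹ (hfr i j hij).1.2.2, inv_inv, h1, h2,
    tv_smul_right (single_flag hij).2.2]
  rfl

end Main

end Cfsg.Agent.Helper13.AutPSLType
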