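import Mathlib
import Cfsg.Agent.Lib.Helper13.AutPSLType
import Cfsg.Agent.Lib.Helper5.SL

/-!
# Automorphisms of `PSL_n(F)` fixing every root group are diagonal-by-field (`n ≥ 3`)

`phiAut σ` is the standard field automorphism.  If `β` maps every root group `X_ij` into itself
then `β = PhiL (dg d) * phiAut σ` for a diagonal matrix `dg d` and a field automorphism `σ`.
Combined with `AutPSLType` this gives `Aut(PSL_n(F))` for `n ≥ 3` (`aut_psl_ge_three`).
-/

set_option autoImplicit false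
set_option linter.unusedSectionVars false
set_option linter.unusedSimpArgs false
set_option linter.unusedVariables false

namespace Cfsg.Agent.Helper13.AutPSLField

open Matrix Cfsg.Agent.Helper13.AutPSLTv Cfsg.Agent.Helper13.AutPSLSylow
  Cfsg.Agent.Helper13.PSLAut Cfsg.Agent.Helper13.GraphAutPSL Cfsg.Agent.Helper13.AutPSLType

variable {n : ℕ} {F : Type*} [Field F]

local notation "SLn" => Matrix.SpecialLinearGroup (Fin n) F
local notation "PSLn" => Matrix.ProjectiveSpecialLinearGroup (Fin n) F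
local notation "Mn" => Matrix (Fin n) (Fin n) F
local notation "Vn" => Fin n → F

/-! ### the standard field automorphisms -/

/-- entrywise application of a field automorphism, as an automorphism of `SL_n` -/
def slMapEquiv (σ : F ≃+* F) : SLn ≃* SLn where
  toFun := Matrix.SpecialLinearGroup.map (σ : F →+* F)
  invFun := Matrix.SpecialLinearGroup.map (σ.symm : F →+* F)
  left_inv s := by
    apply Subtype.ext
    rw [Matrix.SpecialLinearGroup.map_apply_coe, Matrix.SpecialLinearGroup.map_apply_coe]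
    ext i j
    simp
  right_inv s := by
    apply Subtype.ext
    rw [Matrix.SpecialLinearGroup.map_apply_coe, Matrix.SpecialLinearGroup.map_apply_coe]
    ext i j
    simp
  map_mul' := map_mul _

theorem slMapEquiv_coe (σ : F ≃+* F) (s : SLn) :
    ((slMapEquiv σ s : SLn) : Mn) = (s : Mn).map σ := by
  show ((Matrix.SpecialLinearGroup.map (σ : F →+* F) s : SLn) : Mn) = _
  rw [Matrix.SpecialLinearGroup.map_apply_coe]
  rfl

/-- the standard field automorphism of `PSL_n` -/
noncomputable def phiAut (σ : F ≃+* F) : MulAut PSLn :=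
  QuotientGroup.congr (Subgroup.center SLn) (Subgroup.center SLn) (slMapEquiv σ)
    (Subgroup.characteristic_iff_map_eq.mp Subgroup.centerCharacteristic (slMapEquiv σ))

theorem phiAut_mk (σ : F ≃+* F) (s : SLn) :
    phiAut σ (QuotientGroup.mk s : PSLn) = QuotientGroup.mk (slMapEquiv σ s) := rfl

theorem phiAut_isStd (σ : F ≃+* F) : Cfsg.IsStdFieldAutPSL σ (phiAut (n := n) σ) := by
  intro s s' hs'
  rw [phiAut_mk]
  congr 1
  apply Subtype.ext
  rw [hs', slMapEquiv_coe]

theorem eq_phiAut {σ : F ≃+* F} {φ : MulAut PSLn} (h : Cfsg.IsStdFieldAutPSL σ φ) :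
    φ = phiAut σ := by
  apply MulEquiv.ext
  intro x
  induction x using QuotientGroup.induction_on with
  | H s =>
    rw [phiAut_mk]
    exact h s (slMapEquiv σ s) (slMapEquiv_coe σ s)

theorem phiAut_xb (σ : F ≃+* F) {i j : Fin n} (hij : i ≠ j) (t : F) :
    phiAut σ (xb i j t) = xb i j (σ t) := by
  unfold xb
  rw [phiAut_mk]
  congr 1
  apply Subtype.ext
  rw [slMapEquiv_coe, tv_coe (single_flag hij).2.2, tv_coe (single_flag hij).2.2]
  ext a b
  rw [Matrix.map_apply, tvm_single_apply, tvm_single_apply, map_add]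
  congr 1
  · by_cases hab : a = b
    · rw [if_pos hab, map_one]
    · rw [if_neg hab, map_zero]
  · by_cases hab : a = i ∧ b = j
    · rw [if_pos hab, if_pos hab]
    · rw [if_neg hab, if_neg hab, map_zero]

/-! ### diagonal matrices -/

/-- the diagonal matrix of `d` in `GL_n` -/
def dg (d : Fin n → Fˣ) : GL (Fin n) F :=
  ⟨Matrix.diagonal (fun i => (d i : F)), Matrix.diagonal (fun i => ((d i)⁻¹ : Fˣ)), by
    rw [Matrix.diagonal_mul_diagonal]
    simp, by
    rw [Matrix.diagonal_mul_diagonal]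
    simp⟩

theorem dg_coe (d : Fin n → Fˣ) : ((dg d : GL (Fin n) F) : Mn) = Matrix.diagonal (fun i => (d i : F)) :=
  rfl

theorem dg_inv_coe (d : Fin n → Fˣ) :
    (((dg d)⁻¹ : GL (Fin n) F) : Mn) = Matrix.diagonal (fun i => (((d i)⁻¹ : Fˣ) : F)) := rfl

theorem single_eq_smul (i : Fin n) (c : F) : (Pi.single i c : Vn) = c • Pi.single i (1 : F) := by
  ext k
  rw [Pi.smul_apply, smul_eq_mul]
  by_cases hk : k = i
  · subst hk
    rw [Pi.single_eq_same, Pi.single_eq_same, mul_one]
  · rw [Pi.single_eq_of_ne hk, Pi.single_eq_of_ne hk, mul_zero]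

theorem PhiL_dg_xb (d : Fin n → Fˣ) {i j : Fin n} (hij : i ≠ j) (t : F) :
    PhiL (dg d) (xb i j t) = xb i j ((d i : F) * (((d j)⁻¹ : Fˣ) : F) * t) := by
  unfold xb
  rw [PhiL_mk_tv _ (single_flag hij).2.2, dg_coe, dg_inv_coe, Matrix.diagonal_mulVec_single,
    Matrix.single_vecMul_diagonal, mul_one, one_mul, single_eq_smul i, single_eq_smul j,
    tv_smul_smul (single_flag hij).2.2]

theorem PhiL_dg_inv_xb (d : Fin n → Fˣ) {i j : Fin n} (hij : i ≠ j) (t : F) :
    (PhiL (dg d))⁻¹ (xb i j t) = xb i j ((((d i)⁻¹ : Fˣ) : F) * (d j : F) * t) := by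
  rw [MulAut.inv_apply, MulEquiv.symm_apply_eq, PhiL_dg_xb d hij]
  congr 1
  have h1 : (d i : F) * (((d i)⁻¹ : Fˣ) : F) = 1 := by rw [← Units.val_mul, mul_inv_cancel, Units.val_one]
  have h2 : (((d j)⁻¹ : Fˣ) : F) * (d j : F) = 1 := by rw [← Units.val_mul, inv_mul_cancel, Units.val_one]
  calc t = ((d i : F) * (((d i)⁻¹ : Fˣ) : F)) * ((((d j)⁻¹ : Fˣ) : F) * (d j : F)) * t := by
        rw [h1, h2, one_mul, one_mul]
    _ = _ := by ring

/-! ### generation -/

theorem tv_single_eq_transvection {i j : Fin n} (hij : i ≠ j) (c : F) :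
    tv (Pi.single i (1 : F)) (Pi.single j (1 : F)) c =
      Matrix.SpecialLinearGroup.transvection hij c := by
  apply Subtype.ext
  rw [tv_coe (single_flag hij).2.2, tvm_single]
  rfl

theorem mulAut_ext_of_xb (hn : 2 ≤ n) {β₁ β₂ : MulAut PSLn}
    (h : ∀ i j : Fin n, i ≠ j → ∀ t : F, β₁ (xb i j t) = β₂ (xb i j t)) : β₁ = β₂ := by
  have : Nontrivial (Fin n) := Fin.nontrivial_iff_two_le.2 hn
  apply MulEquiv.ext
  intro x
  induction x using QuotientGroup.induction_on with
  | H s =>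
    refine Cfsg.Agent.Helper5.transvection_induction
      (fun s : SLn => β₁ (QuotientGroup.mk s) = β₂ (QuotientGroup.mk s)) ?_ ?_ s
    · intro i j hij c
      have := h i j hij c
      unfold xb at this
      rw [tv_single_eq_transvection hij] at this
      exact this
    · intro A B hA hB
      show β₁ (QuotientGroup.mk (A * B)) = β₂ (QuotientGroup.mk (A * B))
      rw [QuotientGroup.mk_mul, map_mul, map_mul, hA, hB]

/-! ### the parameter maps of a root-fixing automorphism -/

open Classical in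
/-- the map `ψ_ij` with `β (x_ij t) = x_ij (ψ_ij t)` -/
noncomputable def psi {β : MulAut PSLn} (hβ : RootFixing β) (i j : Fin n) (t : F) : F :=
  if h : i ≠ j then Classical.choose (hβ i j h t) else 0

theorem psi_spec {β : MulAut PSLn} (hβ : RootFixing β) {i j : Fin n} (hij : i ≠ j) (t : F) :
    β (xb i j t) = xb i j (psi hβ i j t) := by
  unfold psi
  rw [dif_pos hij]
  exact Classical.choose_spec (hβ i j hij t)

theorem psi_add (hn0 : 0 < n) {β : MulAut PSLn} (hβ : RootFixing β) {i j : Fin n} (hij : i ≠ j)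
    (s t : F) : psi hβ i j (s + t) = psi hβ i j s + psi hβ i j t := by
  apply xb_inj hn0 hij
  rw [← psi_spec hβ hij, xb_add hij, map_mul, psi_spec hβ hij, psi_spec hβ hij, ← xb_add hij]

theorem psi_zero (hn0 : 0 < n) {β : MulAut PSLn} (hβ : RootFixing β) {i j : Fin n} (hij : i ≠ j) :
    psi hβ i j 0 = 0 := by
  apply xb_inj hn0 hij
  rw [← psi_spec hβ hij, xb_zero, map_one]

theorem psi_injective (hn0 : 0 < n) {β : MulAut PSLn} (hβ : RootFixing β) {i j : Fin n}
    (hij : i ≠ j) : Function.Injective (psi hβ i j) := by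
  intro s t h
  have h1 : β (xb i j s) = β (xb i j t) := by rw [psi_spec hβ hij, psi_spec hβ hij, h]
  exact xb_inj hn0 hij (β.injective h1)

theorem psi_comm (hn0 : 0 < n) {β : MulAut PSLn} (hβ : RootFixing β) {i j k : Fin n}
    (hij : i ≠ j) (hjk : j ≠ k) (hik : i ≠ k) (a b : F) :
    psi hβ i k (a * b) = psi hβ i j a * psi hβ j k b := by
  apply xb_inj hn0 hik
  rw [← psi_spec hβ hik, ← xb_comm hij hjk hik, map_mul, map_mul, map_mul, map_inv, map_inv,
    psi_spec hβ hij, psi_spec hβ hjk, xb_comm hij hjk hik]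

theorem exists_field_of_normalized [Finite F] (hn : 3 ≤ n) {β : MulAut PSLn} (hβ : RootFixing β)
    {i0 : Fin n} (hnorm : ∀ i, i ≠ i0 → β (xb i i0 (1 : F)) = xb i i0 1) :
    ∃ σ : F ≃+* F, ∀ i j : Fin n, i ≠ j → ∀ t : F, β (xb i j t) = xb i j (σ t) := by
  have hn0 : 0 < n := by omega
  have h1 : ∀ i, i ≠ i0 → psi hβ i i0 1 = 1 := fun i hi =>
    xb_inj hn0 hi (by rw [← psi_spec hβ hi, hnorm i hi])
  have e1 : ∀ i j, i ≠ i0 → j ≠ i0 → i ≠ j → ∀ a, psi hβ i j a = psi hβ i i0 a := by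
    intro i j hi hj hij a
    have h := psi_comm hn0 hβ hij hj hi a 1
    rw [mul_one, h1 j hj, mul_one] at h
    exact h.symm
  have e2 : ∀ i j, i ≠ i0 → j ≠ i0 → i ≠ j → ∀ b, psi hβ i i0 b = psi hβ j i0 b := by
    intro i j hi hj hij b
    have h := psi_comm hn0 hβ hij hj hi 1 b
    rw [one_mul, e1 i j hi hj hij 1, h1 i hi, one_mul] at h
    exact h
  obtain ⟨i1, i2, h10, h02, h12⟩ := exists_two_others hn i0
  set σf : F → F := psi hβ i1 i0 with hσf
  have hσ0 : ∀ i, i ≠ i0 → ∀ b, psi hβ i i0 b = σf b := by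
    intro i hi b
    by_cases h : i = i1
    · rw [h]
    · exact e2 i i1 hi h10 h b
  have hmul : ∀ a b, σf (a * b) = σf a * σf b := by
    intro a b
    have h := psi_comm hn0 hβ h12 h02.symm h10 a b
    rw [e1 i1 i2 h10 h02.symm h12 a, hσ0 i2 h02.symm b] at h
    exact h
  have e4 : ∀ i j, i ≠ i0 → j ≠ i0 → i ≠ j → ∀ a, psi hβ i j a = σf a := fun i j hi hj hij a => by
    rw [e1 i j hi hj hij a, hσ0 i hi a]
  have e5 : ∀ k, k ≠ i0 → ∀ b, psi hβ i0 k b = σf b := by
    intro k hk b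
    obtain ⟨i, hi0, hik⟩ : ∃ i, i ≠ i0 ∧ i ≠ k := by
      by_cases h : i1 = k
      · exact ⟨i2, h02.symm, by rw [← h]; exact h12.symm⟩
      · exact ⟨i1, h10, h⟩
    have h := psi_comm hn0 hβ hi0 hk.symm hik 1 b
    rw [one_mul, h1 i hi0, one_mul, e4 i k hi0 hk hik b] at h
    exact h.symm
  have hall : ∀ i j, i ≠ j → ∀ t, psi hβ i j t = σf t := by
    intro i j hij t
    by_cases hj : j = i0
    · subst hj
      exact hσ0 i hij t
    · by_cases hi : i = i0
      · subst hi
        exact e5 j hj t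
      · exact e4 i j hi hj hij t
  let σh : F →+* F :=
    { toFun := σf
      map_one' := h1 i1 h10
      map_mul' := hmul
      map_zero' := psi_zero hn0 hβ h10
      map_add' := psi_add hn0 hβ h10 }
  have hinj : Function.Injective σh := psi_injective hn0 hβ h10
  have hbij : Function.Bijective σh := ⟨hinj, Finite.injective_iff_surjective.1 hinj⟩
  refine ⟨RingEquiv.ofBijective σh hbij, ?_⟩
  intro i j hij t
  rw [psi_spec hβ hij, hall i j hij t]
  rfl

theorem rootFixing_eq [Finite F] (hn : 3 ≤ n) {β : MulAut PSLn} (hβ : RootFixing β) :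
    ∃ (d : Fin n → Fˣ) (σ : F ≃+* F), β = PhiL (dg d) * phiAut σ := by
  have hn0 : 0 < n := by omega
  set i0 : Fin n := ⟨0, hn0⟩ with hi0
  have hc : ∀ i, i ≠ i0 → psi hβ i i0 1 ≠ 0 := by
    intro i hi h
    rw [← psi_zero hn0 hβ hi] at h
    exact one_ne_zero (psi_injective hn0 hβ hi h)
  classical
  let d : Fin n → Fˣ := fun i => if h : i = i0 then 1 else Units.mk0 (psi hβ i i0 1) (hc i h)
  have hd0 : d i0 = 1 := by simp only [d, dif_pos rfl]
  have hdi : ∀ i, i ≠ i0 → ((d i : Fˣ) : F) = psi hβ i i0 1 := by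
    intro i hi
    simp only [d, dif_neg hi, Units.val_mk0]
  set β' : MulAut PSLn := (PhiL (dg d))⁻¹ * β with hβ'
  have hfix : RootFixing β' := by
    intro i j hij t
    refine ⟨(((d i)⁻¹ : Fˣ) : F) * (d j : F) * psi hβ i j t, ?_⟩
    rw [hβ', MulAut.mul_apply, psi_spec hβ hij, PhiL_dg_inv_xb d hij]
  have hnorm : ∀ i, i ≠ i0 → β' (xb i i0 (1 : F)) = xb i i0 1 := by
    intro i hi
    rw [hβ', MulAut.mul_apply, psi_spec hβ hi, PhiL_dg_inv_xb d hi, hd0, Units.val_one, mul_one,
      ← hdi i hi, ← Units.val_mul, inv_mul_cancel, Units.val_one]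
  obtain ⟨σ, hσ⟩ := exists_field_of_normalized hn hfix hnorm
  refine ⟨d, σ, ?_⟩
  have h2 : β' = phiAut σ := by
    apply mulAut_ext_of_xb (by omega)
    intro i j hij t
    rw [hσ i j hij t, phiAut_xb σ hij]
  rw [← h2, hβ', mul_inv_cancel_left]

/-! ### the automorphism group of `PSL_n(F)`, `n ≥ 3` -/

theorem aut_psl_ge_three [Fintype F] {p f : ℕ} [Fact p.Prime] (hF : Fintype.card F = p ^ f)
    (hf : 1 ≤ f) (hn : 3 ≤ n) (α : MulAut PSLn) :
    ∃ (g : GL (Fin n) F) (σ : F ≃+* F),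
      α = PhiL g * phiAut σ ∨ α = PhiL g * phiAut σ * iotaAut := by
  obtain ⟨v, φ, hd⟩ := exists_rootData hF hf hn α
  have H := hd.tlhyp hF hf hn
  set i0 : Fin n := ⟨0, by omega⟩ with hi0
  set i1 : Fin n := ⟨1, by omega⟩ with hi1
  set i2 : Fin n := ⟨2, by omega⟩ with hi2
  have h01 : i0 ≠ i1 := by
    intro h; have := congrArg Fin.val h; rw [hi0, hi1] at this; simp only at this; omega
  have h02 : i0 ≠ i2 := by
    intro h; have := congrArg Fin.val h; rw [hi0, hi2] at this; simp only at this; omega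
  have h12 : i1 ≠ i2 := by
    intro h; have := congrArg Fin.val h; rw [hi1, hi2] at this; simp only at this; omega
  rcases H.r1 i0 i1 i2 h01 h02 h12 with hseed | hseed
  · obtain ⟨hC1, hC2⟩ := H.main h01 h02 h12 hseed
    obtain ⟨w, ψ, hfr⟩ := framed_of_typeC hn hd hC1 hC2
    obtain ⟨g, hg⟩ := exists_rootFixing_of_framed hn hfr
    obtain ⟨d, σ, hdσ⟩ := rootFixing_eq hn hg
    refine ⟨g * dg d, σ, Or.inl ?_⟩
    rw [map_mul, mul_assoc, ← hdσ, mul_inv_cancel_left]
  · obtain ⟨hA1, hA2⟩ := H.swap.main h01 h02 h12 hseed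
    have hd' : RootData (α * iotaAut) (fun i j => v j i) (fun i j => φ j i) := by
      intro i j hij
      refine ⟨(hd j i hij.symm).1, ?_⟩
      intro t
      obtain ⟨t', ht'⟩ := (hd j i hij.symm).2 (-t)
      exact ⟨t', by rw [MulAut.mul_apply, iotaAut_xb hij, ht']⟩
    have hC1' : ∀ i j k : Fin n, i ≠ j → i ≠ k → j ≠ k → Par (v j i) (v k i) :=
      fun i j k hij hik hjk => hA2 j k i hij.symm hik.symm hjk
    have hC2' : ∀ i j k : Fin n, i ≠ k → j ≠ k → i ≠ j → Par (φ k i) (φ k j) :=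
      fun i j k hik hjk hij => hA1 k i j hik.symm hjk.symm hij
    obtain ⟨w, ψ, hfr⟩ := framed_of_typeC hn hd' hC1' hC2'
    obtain ⟨g, hg⟩ := exists_rootFixing_of_framed hn hfr
    obtain ⟨d, σ, hdσ⟩ := rootFixing_eq hn hg
    refine ⟨g * dg d, σ, Or.inr ?_⟩
    have h1 : α * iotaAut = PhiL (g * dg d) * phiAut σ := by
      rw [map_mul, mul_assoc, ← hdσ, mul_inv_cancel_left]
    rw [← h1, mul_assoc, iotaAut_mul_self, mul_one]

end Cfsg.Agent.Helper13.AutPSLField
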