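import Mathlib
import Cfsg.Prelude.Def_LieTypeDatum

/-!
# Transport of `PGO(Q)` along a linear isometry, and the similarity group of the dot form
-/

set_option autoImplicit false
set_option linter.unusedSectionVars false
set_option linter.unusedSimpArgs false

namespace Cfsg.Agent.Helper13.PGOCongr

open Matrix

variable {F : Type*} [Field F]
variable {ι₁ ι₂ : Type} [Fintype ι₁] [DecidableEq ι₁] [Fintype ι₂] [DecidableEq ι₂]

/-- `g ↦ B g A` for mutually inverse rectangular matrices `A`, `B` -/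
def conjEquiv (A : Matrix ι₁ ι₂ F) (B : Matrix ι₂ ι₁ F) (hAB : A * B = 1) (hBA : B * A = 1) :
    GL ι₁ F ≃* GL ι₂ F where
  toFun g := ⟨B * (g : Matrix ι₁ ι₁ F) * A, B * ((g⁻¹ : GL ι₁ F) : Matrix ι₁ ι₁ F) * A, by
      calc B * (g : Matrix ι₁ ι₁ F) * A * (B * ((g⁻¹ : GL ι₁ F) : Matrix ι₁ ι₁ F) * A)
          = B * ((g : Matrix ι₁ ι₁ F) * (A * B) * ((g⁻¹ : GL ι₁ F) : Matrix ι₁ ι₁ F)) * A := by
            simp only [Matrix.mul_assoc]
        _ = 1 := by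
            rw [hAB, Matrix.mul_one, ← Units.val_mul, mul_inv_cancel, Units.val_one, Matrix.mul_one,
              hBA], by
      calc B * ((g⁻¹ : GL ι₁ F) : Matrix ι₁ ι₁ F) * A * (B * (g : Matrix ι₁ ι₁ F) * A)
          = B * (((g⁻¹ : GL ι₁ F) : Matrix ι₁ ι₁ F) * (A * B) * (g : Matrix ι₁ ι₁ F)) * A := by
            simp only [Matrix.mul_assoc]
        _ = 1 := by
            rw [hAB, Matrix.mul_one, ← Units.val_mul, inv_mul_cancel, Units.val_one, Matrix.mul_one,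
              hBA]⟩
  invFun g := ⟨A * (g : Matrix ι₂ ι₂ F) * B, A * ((g⁻¹ : GL ι₂ F) : Matrix ι₂ ι₂ F) * B, by
      calc A * (g : Matrix ι₂ ι₂ F) * B * (A * ((g⁻¹ : GL ι₂ F) : Matrix ι₂ ι₂ F) * B)
          = A * ((g : Matrix ι₂ ι₂ F) * (B * A) * ((g⁻¹ : GL ι₂ F) : Matrix ι₂ ι₂ F)) * B := by
            simp only [Matrix.mul_assoc]
        _ = 1 := by
            rw [hBA, Matrix.mul_one, ← Units.val_mul, mul_inv_cancel, Units.val_one, Matrix.mul_one,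
              hAB], by
      calc A * ((g⁻¹ : GL ι₂ F) : Matrix ι₂ ι₂ F) * B * (A * (g : Matrix ι₂ ι₂ F) * B)
          = A * (((g⁻¹ : GL ι₂ F) : Matrix ι₂ ι₂ F) * (B * A) * (g : Matrix ι₂ ι₂ F)) * B := by
            simp only [Matrix.mul_assoc]
        _ = 1 := by
            rw [hBA, Matrix.mul_one, ← Units.val_mul, inv_mul_cancel, Units.val_one, Matrix.mul_one,
              hAB]⟩
  left_inv g := by
    apply Units.ext
    show A * (B * (g : Matrix ι₁ ι₁ F) * A) * B = g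
    calc A * (B * (g : Matrix ι₁ ι₁ F) * A) * B = (A * B) * (g : Matrix ι₁ ι₁ F) * (A * B) := by
          simp only [Matrix.mul_assoc]
      _ = g := by rw [hAB, Matrix.one_mul, Matrix.mul_one]
  right_inv g := by
    apply Units.ext
    show B * (A * (g : Matrix ι₂ ι₂ F) * B) * A = g
    calc B * (A * (g : Matrix ι₂ ι₂ F) * B) * A = (B * A) * (g : Matrix ι₂ ι₂ F) * (B * A) := by
          simp only [Matrix.mul_assoc]
      _ = g := by rw [hBA, Matrix.one_mul, Matrix.mul_one]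
  map_mul' g h := by
    apply Units.ext
    show B * ((g * h : GL ι₁ F) : Matrix ι₁ ι₁ F) * A =
      (B * (g : Matrix ι₁ ι₁ F) * A) * (B * (h : Matrix ι₁ ι₁ F) * A)
    rw [Units.val_mul]
    calc B * ((g : Matrix ι₁ ι₁ F) * (h : Matrix ι₁ ι₁ F)) * A
        = B * ((g : Matrix ι₁ ι₁ F) * 1 * (h : Matrix ι₁ ι₁ F)) * A := by rw [Matrix.mul_one]
      _ = _ := by rw [← hAB]; simp only [Matrix.mul_assoc]

theorem conjEquiv_coe (A : Matrix ι₁ ι₂ F) (B : Matrix ι₂ ι₁ F) (hAB : A * B = 1) (hBA : B * A = 1)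
    (g : GL ι₁ F) :
    ((conjEquiv A B hAB hBA g : GL ι₂ F) : Matrix ι₂ ι₂ F) = B * (g : Matrix ι₁ ι₁ F) * A := rfl

theorem conjEquiv_symm_coe (A : Matrix ι₁ ι₂ F) (B : Matrix ι₂ ι₁ F) (hAB : A * B = 1)
    (hBA : B * A = 1) (g : GL ι₂ F) :
    (((conjEquiv A B hAB hBA).symm g : GL ι₁ F) : Matrix ι₁ ι₁ F) = A * (g : Matrix ι₂ ι₂ F) * B := rfl

theorem conjEquiv_mem_scalars (A : Matrix ι₁ ι₂ F) (B : Matrix ι₂ ι₁ F) (hAB : A * B = 1)
    (hBA : B * A = 1) (g : GL ι₁ F) :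
    conjEquiv A B hAB hBA g ∈ Cfsg.Geo.scalars ι₂ F ↔ g ∈ Cfsg.Geo.scalars ι₁ F := by
  rw [Cfsg.Geo.mem_scalars_iff, Cfsg.Geo.mem_scalars_iff]
  constructor
  · rintro ⟨c, hc⟩
    refine ⟨c, ?_⟩
    rw [conjEquiv_coe] at hc
    calc (g : Matrix ι₁ ι₁ F) = (A * B) * (g : Matrix ι₁ ι₁ F) * (A * B) := by
          rw [hAB, Matrix.one_mul, Matrix.mul_one]
      _ = A * (B * (g : Matrix ι₁ ι₁ F) * A) * B := by simp only [Matrix.mul_assoc]
      _ = (c : F) • (1 : Matrix ι₁ ι₁ F) := by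
          rw [hc, Matrix.mul_smul, Matrix.mul_one, Matrix.smul_mul, hAB]
  · rintro ⟨c, hc⟩
    refine ⟨c, ?_⟩
    rw [conjEquiv_coe, hc, Matrix.mul_smul, Matrix.mul_one, Matrix.smul_mul, hBA]

/-- transport of the similarity group -/
theorem conjEquiv_mem_sim (A : Matrix ι₁ ι₂ F) (B : Matrix ι₂ ι₁ F) (hAB : A * B = 1)
    (hBA : B * A = 1) (Q₁ : (ι₁ → F) → F) (Q₂ : (ι₂ → F) → F) (hQ : ∀ v, Q₁ (A *ᵥ v) = Q₂ v)
    (g : GL ι₁ F) :
    conjEquiv A B hAB hBA g ∈ Cfsg.Geo.quadSimilarityGroup (F := F) Q₂ ↔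
      g ∈ Cfsg.Geo.quadSimilarityGroup (F := F) Q₁ := by
  have hQ' : ∀ w, Q₂ (B *ᵥ w) = Q₁ w := by
    intro w
    rw [← hQ, Matrix.mulVec_mulVec, hAB, Matrix.one_mulVec]
  constructor
  · rintro ⟨c, hc⟩
    refine ⟨c, fun w => ?_⟩
    have h := hc (B *ᵥ w)
    rw [conjEquiv_coe, hQ' w, ← hQ] at h
    rw [← h]
    congr 1
    simp only [Matrix.mulVec_mulVec]
    congr 1
    calc (g : Matrix ι₁ ι₁ F) = (A * B) * (g : Matrix ι₁ ι₁ F) * (A * B) := by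
          rw [hAB, Matrix.one_mul, Matrix.mul_one]
      _ = _ := by simp only [Matrix.mul_assoc]
  · rintro ⟨c, hc⟩
    refine ⟨c, fun v => ?_⟩
    have h := hc (A *ᵥ v)
    rw [hQ v, ← hQ' ((g : Matrix ι₁ ι₁ F) *ᵥ (A *ᵥ v))] at h
    rw [← h, conjEquiv_coe]
    congr 1
    simp only [Matrix.mulVec_mulVec, Matrix.mul_assoc]

/-- **Transport of `PGO`.** -/
theorem pgo_congr_of_matrix (A : Matrix ι₁ ι₂ F) (B : Matrix ι₂ ι₁ F) (hAB : A * B = 1)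
    (hBA : B * A = 1) (Q₁ : (ι₁ → F) → F) (Q₂ : (ι₂ → F) → F) (hQ : ∀ v, Q₁ (A *ᵥ v) = Q₂ v) :
    Nonempty (Cfsg.PGO F Q₁ ≃* Cfsg.PGO F Q₂) := by
  let E := conjEquiv A B hAB hBA
  let e' : ↥(Cfsg.Geo.quadSimilarityGroup (F := F) Q₁) ≃* ↥(Cfsg.Geo.quadSimilarityGroup (F := F) Q₂) :=
    { toFun := fun g => ⟨E g.1, (conjEquiv_mem_sim A B hAB hBA Q₁ Q₂ hQ g.1).2 g.2⟩
      invFun := fun g => ⟨E.symm g.1, by
        have := (conjEquiv_mem_sim A B hAB hBA Q₁ Q₂ hQ (E.symm g.1))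
        rw [MulEquiv.apply_symm_apply] at this
        exact this.1 g.2⟩
      left_inv := fun g => by apply Subtype.ext; simp
      right_inv := fun g => by apply Subtype.ext; simp
      map_mul' := fun g h => by apply Subtype.ext; simp }
  refine ⟨QuotientGroup.congr _ _ e' ?_⟩
  ext ⟨x, hx⟩
  rw [Subgroup.mem_map, Subgroup.mem_subgroupOf]
  constructor
  · rintro ⟨y, hy, hyx⟩
    rw [Subgroup.mem_subgroupOf] at hy
    have h1 : E y.1 = x := congrArg Subtype.val hyx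
    show x ∈ Cfsg.Geo.scalars ι₂ F
    rw [← h1]
    exact (conjEquiv_mem_scalars A B hAB hBA y.1).2 hy
  · intro hxs
    have hxs' : x ∈ Cfsg.Geo.scalars ι₂ F := hxs
    refine ⟨e'.symm ⟨x, hx⟩, ?_, by simp⟩
    rw [Subgroup.mem_subgroupOf]
    show E.symm x ∈ Cfsg.Geo.scalars ι₁ F
    rw [← conjEquiv_mem_scalars A B hAB hBA, MulEquiv.apply_symm_apply]
    exact hxs'

/-- transport along a linear equivalence -/
theorem pgo_congr (e : (ι₂ → F) ≃ₗ[F] (ι₁ → F)) (Q₁ : (ι₁ → F) → F) (Q₂ : (ι₂ → F) → F)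
    (hQ : ∀ v, Q₁ (e v) = Q₂ v) : Nonempty (Cfsg.PGO F Q₁ ≃* Cfsg.PGO F Q₂) := by
  refine pgo_congr_of_matrix (LinearMap.toMatrix' (e : (ι₂ → F) →ₗ[F] (ι₁ → F)))
    (LinearMap.toMatrix' (e.symm : (ι₁ → F) →ₗ[F] (ι₂ → F))) ?_ ?_ Q₁ Q₂ ?_
  · rw [← LinearMap.toMatrix'_comp]
    have : ((e : (ι₂ → F) →ₗ[F] (ι₁ → F)).comp (e.symm : (ι₁ → F) →ₗ[F] (ι₂ → F))) = LinearMap.id := by
      ext x; simp
    rw [this, LinearMap.toMatrix'_id]
  · rw [← LinearMap.toMatrix'_comp]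
    have : ((e.symm : (ι₁ → F) →ₗ[F] (ι₂ → F)).comp (e : (ι₂ → F) →ₗ[F] (ι₁ → F))) = LinearMap.id := by
      ext x; simp
    rw [this, LinearMap.toMatrix'_id]
  · intro v
    rw [LinearMap.toMatrix'_mulVec]
    exact hQ v

end Cfsg.Agent.Helper13.PGOCongr
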