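import Mathlib
import Cfsg.Agent.Lib.Helper13.PGOCongr

/-!
# The dot form `Σ xᵢ²` over a finite field of odd order

* `mem_sim_dot_iff`: similarities of the dot form are the `g` with `gᵀ g` scalar.
* `QIso`: linear isometry of forms on coordinate spaces; the dot form on `K ⊕ K` is isometric to
  the plus form when `-1` is a square (`dot_iso_plus_of_sq`), the dot form on
  `(K ⊕ K) ⊕ (K ⊕ K)` is always isometric to the plus form (`dot_iso_plus_four`).
-/

set_option autoImplicit false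
set_option linter.unusedSectionVars false
set_option linter.unusedSimpArgs false

namespace Cfsg.Agent.Helper13.DotForm

open Matrix

variable {F : Type*} [Field F]

/-- the sum of squares -/
def dotQ (κ : Type) [Fintype κ] (x : κ → F) : F := ∑ k, x k * x k

/-- the hyperbolic form `Σ x_k y_k` on `K ⊕ K` -/
def plusQ (K : Type) [Fintype K] (v : K ⊕ K → F) : F := ∑ k, v (Sum.inl k) * v (Sum.inr k)

theorem dotQ_eq_dotProduct {κ : Type} [Fintype κ] (x : κ → F) : dotQ κ x = x ⬝ᵥ x := rfl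

section Sim

variable {κ : Type} [Fintype κ] [DecidableEq κ]

theorem mem_sim_dot_iff (h2 : (2 : F) ≠ 0) (g : GL κ F) :
    g ∈ Cfsg.Geo.quadSimilarityGroup (F := F) (dotQ (F := F) κ) ↔
      ∃ c : Fˣ, ((g : Matrix κ κ F))ᵀ * (g : Matrix κ κ F) = (c : F) • (1 : Matrix κ κ F) := by
  constructor
  · rintro ⟨c, hc⟩
    refine ⟨c, ?_⟩
    have key : ∀ v w : κ → F, ((g : Matrix κ κ F) *ᵥ v) ⬝ᵥ ((g : Matrix κ κ F) *ᵥ w) =
        (c : F) * (v ⬝ᵥ w) := by
      intro v w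
      have h1 := hc (v + w)
      have h3 := hc v
      have h4 := hc w
      simp only [dotQ_eq_dotProduct] at h1 h3 h4
      rw [Matrix.mulVec_add, add_dotProduct, dotProduct_add, dotProduct_add, add_dotProduct,
        dotProduct_add, dotProduct_add, h3, h4,
        dotProduct_comm ((g : Matrix κ κ F) *ᵥ w) ((g : Matrix κ κ F) *ᵥ v),
        dotProduct_comm w v] at h1
      have h5 : (2 : F) * (((g : Matrix κ κ F) *ᵥ v) ⬝ᵥ ((g : Matrix κ κ F) *ᵥ w)) =
          2 * ((c : F) * (v ⬝ᵥ w)) := by linear_combination h1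
      exact mul_left_cancel₀ h2 h5
    ext i j
    have h := key (Pi.single i 1) (Pi.single j 1)
    rw [Matrix.mulVec_single_one, Matrix.mulVec_single_one] at h
    rw [Matrix.mul_apply]
    simp only [Matrix.transpose_apply]
    have h6 : ∑ k, (g : Matrix κ κ F) k i * (g : Matrix κ κ F) k j =
        (fun k => (g : Matrix κ κ F) k i) ⬝ᵥ (fun k => (g : Matrix κ κ F) k j) := rfl
    rw [h6]
    have h7 : (fun k => (g : Matrix κ κ F) k i) = (g : Matrix κ κ F).col i := rfl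
    have h8 : (fun k => (g : Matrix κ κ F) k j) = (g : Matrix κ κ F).col j := rfl
    rw [h7, h8, h]
    simp [Matrix.one_apply, Pi.single_apply, eq_comm]
  · rintro ⟨c, hc⟩
    refine ⟨c, fun v => ?_⟩
    rw [dotQ_eq_dotProduct, dotQ_eq_dotProduct, Matrix.dotProduct_mulVec, ← Matrix.mulVec_transpose,
      Matrix.mulVec_mulVec, hc, Matrix.smul_mulVec, Matrix.one_mulVec, smul_dotProduct, smul_eq_mul]

end Sim

/-! ### Isometries of forms on coordinate spaces -/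

/-- `Q₁` on `ι₁ → F` and `Q₂` on `ι₂ → F` are linearly isometric -/
def QIso {ι₁ ι₂ : Type} (Q₁ : (ι₁ → F) → F) (Q₂ : (ι₂ → F) → F) : Prop :=
  ∃ e : (ι₂ → F) ≃ₗ[F] (ι₁ → F), ∀ v, Q₁ (e v) = Q₂ v

theorem QIso.trans {ι₁ ι₂ ι₃ : Type} {Q₁ : (ι₁ → F) → F} {Q₂ : (ι₂ → F) → F} {Q₃ : (ι₃ → F) → F}
    (h12 : QIso Q₁ Q₂) (h23 : QIso Q₂ Q₃) : QIso Q₁ Q₃ := by
  obtain ⟨e12, h12⟩ := h12
  obtain ⟨e23, h23⟩ := h23
  exact ⟨e23.trans e12, fun v => by rw [LinearEquiv.trans_apply, h12, h23]⟩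

theorem QIso.symm {ι₁ ι₂ : Type} {Q₁ : (ι₁ → F) → F} {Q₂ : (ι₂ → F) → F}
    (h : QIso Q₁ Q₂) : QIso Q₂ Q₁ := by
  obtain ⟨e, he⟩ := h
  exact ⟨e.symm, fun v => by rw [← he, LinearEquiv.apply_symm_apply]⟩

theorem QIso.pgo {ι₁ ι₂ : Type} [Fintype ι₁] [DecidableEq ι₁] [Fintype ι₂] [DecidableEq ι₂]
    {Q₁ : (ι₁ → F) → F} {Q₂ : (ι₂ → F) → F} (h : QIso Q₁ Q₂) :
    Nonempty (Cfsg.PGO F Q₁ ≃* Cfsg.PGO F Q₂) := by
  obtain ⟨e, he⟩ := h
  exact PGOCongr.pgo_congr e Q₁ Q₂ he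

/-- reindexing the dot form -/
theorem dot_reindex {κ₁ κ₂ : Type} [Fintype κ₁] [Fintype κ₂] (σ : κ₁ ≃ κ₂) :
    QIso (dotQ (F := F) κ₁) (dotQ (F := F) κ₂) := by
  refine ⟨LinearEquiv.funCongrLeft F F σ, fun v => ?_⟩
  unfold dotQ
  exact Equiv.sum_comp σ (fun k => v k * v k)

/-- reindexing the plus form -/
theorem plus_reindex {K₁ K₂ : Type} [Fintype K₁] [Fintype K₂] (τ : K₁ ≃ K₂) :
    QIso (plusQ (F := F) K₁) (plusQ (F := F) K₂) := by
  refine ⟨LinearEquiv.funCongrLeft F F (Equiv.sumCongr τ τ), fun v => ?_⟩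
  unfold plusQ
  exact Equiv.sum_comp τ (fun k => v (Sum.inl k) * v (Sum.inr k))

/-- an injective linear isometry between coordinate spaces of the same dimension -/
theorem QIso.of_injective {ι₁ ι₂ : Type} [Fintype ι₁] [Fintype ι₂]
    (hcard : Fintype.card ι₂ = Fintype.card ι₁)
    {Q₁ : (ι₁ → F) → F} {Q₂ : (ι₂ → F) → F} (φ : (ι₂ → F) →ₗ[F] (ι₁ → F))
    (hinj : Function.Injective φ) (hφ : ∀ v, Q₁ (φ v) = Q₂ v) : QIso Q₁ Q₂ := by
  have hfin : Module.finrank F (ι₂ → F) = Module.finrank F (ι₁ → F) := by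
    rw [Module.finrank_fintype_fun_eq_card, Module.finrank_fintype_fun_eq_card, hcard]
  refine ⟨LinearMap.linearEquivOfInjective φ hinj hfin, fun v => ?_⟩
  rw [LinearMap.linearEquivOfInjective_apply]
  exact hφ v

/-- injectivity of an isometry out of a nondegenerate form -/
theorem injective_of_isometry {ι₁ ι₂ : Type}
    {Q₁ : (ι₁ → F) → F} {Q₂ : (ι₂ → F) → F} (φ : (ι₂ → F) →ₗ[F] (ι₁ → F))
    (hφ : ∀ v, Q₁ (φ v) = Q₂ v) (h0 : Q₂ 0 = 0)
    (hnd : ∀ v : ι₂ → F, v ≠ 0 → ∃ w, Q₂ (v + w) ≠ Q₂ v + Q₂ w) : Function.Injective φ := by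
  rw [injective_iff_map_eq_zero]
  intro v hv
  by_contra hne
  obtain ⟨w, hw⟩ := hnd v hne
  apply hw
  have h1 : Q₂ v = 0 := by rw [← hφ, hv, ← map_zero φ, hφ, h0]
  rw [← hφ (v + w), map_add, hv, zero_add, hφ, h1, zero_add]

theorem dotQ_zero (κ : Type) [Fintype κ] : dotQ (F := F) κ 0 = 0 := by
  simp [dotQ]

theorem dotQ_nondeg {κ : Type} [Fintype κ] [DecidableEq κ] (h2 : (2 : F) ≠ 0) (v : κ → F)
    (hv : v ≠ 0) : ∃ w, dotQ κ (v + w) ≠ dotQ κ v + dotQ κ w := by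
  have hex : ∃ j, v j ≠ 0 := by
    by_contra h
    push Not at h
    exact hv (funext h)
  obtain ⟨j, hj⟩ := hex
  refine ⟨Pi.single j 1, fun h => ?_⟩
  simp only [dotQ_eq_dotProduct] at h
  rw [add_dotProduct, dotProduct_add, dotProduct_add, dotProduct_single, single_dotProduct] at h
  have h3 : (2 : F) * v j = 0 := by linear_combination h
  rcases mul_eq_zero.mp h3 with h4 | h4
  · exact h2 h4
  · exact hj h4

/-- a linear isometry out of the dot form into a form on a space of the same dimension is an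
isomorphism -/
theorem QIso.of_dot_isometry {κ ι₂ : Type} [Fintype κ] [DecidableEq κ] [Fintype ι₂]
    (h2 : (2 : F) ≠ 0) (hcard : Fintype.card κ = Fintype.card ι₂)
    {Q₂ : (ι₂ → F) → F} (φ : (κ → F) →ₗ[F] (ι₂ → F))
    (hφ : ∀ x, Q₂ (φ x) = dotQ κ x) : QIso (dotQ (F := F) κ) Q₂ := by
  have hinj : Function.Injective φ :=
    injective_of_isometry (Q₁ := Q₂) (Q₂ := dotQ (F := F) κ) φ hφ (dotQ_zero κ) (dotQ_nondeg h2)
  exact (QIso.of_injective hcard φ hinj hφ).symm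

/-- the map `(x, y) ↦ (x + i y, x - i y)` -/
def sqMap (i : F) (K : Type) : (K ⊕ K → F) →ₗ[F] (K ⊕ K → F) where
  toFun x := Sum.elim (fun k => x (Sum.inl k) + i * x (Sum.inr k))
    (fun k => x (Sum.inl k) - i * x (Sum.inr k))
  map_add' x y := by
    funext j
    rcases j with k | k
    · simp only [Sum.elim_inl, Pi.add_apply]; ring
    · simp only [Sum.elim_inr, Pi.add_apply]; ring
  map_smul' c x := by
    funext j
    rcases j with k | k
    · simp only [Sum.elim_inl, Pi.smul_apply, smul_eq_mul, RingHom.id_apply]; ring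
    · simp only [Sum.elim_inr, Pi.smul_apply, smul_eq_mul, RingHom.id_apply]; ring

theorem dot_iso_plus_sq (h2 : (2 : F) ≠ 0) (i : F) (hi : i * i = -1) (K : Type) [Fintype K]
    [DecidableEq K] : QIso (dotQ (F := F) (K ⊕ K)) (plusQ (F := F) K) := by
  refine QIso.of_dot_isometry h2 rfl (sqMap i K) (fun x => ?_)
  unfold plusQ dotQ sqMap
  rw [Fintype.sum_sum_type, ← Finset.sum_add_distrib]
  refine Finset.sum_congr rfl (fun k _ => ?_)
  simp only [LinearMap.coe_mk, AddHom.coe_mk, Sum.elim_inl, Sum.elim_inr]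
  linear_combination (-(x (Sum.inr k) * x (Sum.inr k))) * hi

/-- the map `(x₁, x₂, x₃, x₄) ↦ (x₁ + (a x₃ - b x₄), x₂ + (b x₃ + a x₄); x₁ - …, x₂ - …)` -/
def fourMap (a b : F) (K : Type) : ((K ⊕ K) ⊕ (K ⊕ K) → F) →ₗ[F] ((K ⊕ K) ⊕ (K ⊕ K) → F) where
  toFun x := Sum.elim
    (Sum.elim
      (fun k => x (Sum.inl (Sum.inl k)) + (a * x (Sum.inr (Sum.inl k)) - b * x (Sum.inr (Sum.inr k))))
      (fun k => x (Sum.inl (Sum.inr k)) + (b * x (Sum.inr (Sum.inl k)) + a * x (Sum.inr (Sum.inr k)))))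
    (Sum.elim
      (fun k => x (Sum.inl (Sum.inl k)) - (a * x (Sum.inr (Sum.inl k)) - b * x (Sum.inr (Sum.inr k))))
      (fun k => x (Sum.inl (Sum.inr k)) - (b * x (Sum.inr (Sum.inl k)) + a * x (Sum.inr (Sum.inr k)))))
  map_add' x y := by
    funext j
    rcases j with (k | k) | (k | k)
    · simp only [Sum.elim_inl, Pi.add_apply]; ring
    · simp only [Sum.elim_inl, Sum.elim_inr, Pi.add_apply]; ring
    · simp only [Sum.elim_inl, Sum.elim_inr, Pi.add_apply]; ring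
    · simp only [Sum.elim_inr, Pi.add_apply]; ring
  map_smul' c x := by
    funext j
    rcases j with (k | k) | (k | k)
    · simp only [Sum.elim_inl, Pi.smul_apply, smul_eq_mul, RingHom.id_apply]; ring
    · simp only [Sum.elim_inl, Sum.elim_inr, Pi.smul_apply, smul_eq_mul, RingHom.id_apply]; ring
    · simp only [Sum.elim_inl, Sum.elim_inr, Pi.smul_apply, smul_eq_mul, RingHom.id_apply]; ring
    · simp only [Sum.elim_inr, Pi.smul_apply, smul_eq_mul, RingHom.id_apply]; ring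

theorem dot_iso_plus_four (h2 : (2 : F) ≠ 0) (a b : F) (hab : a * a + b * b = -1) (K : Type)
    [Fintype K] [DecidableEq K] :
    QIso (dotQ (F := F) ((K ⊕ K) ⊕ (K ⊕ K))) (plusQ (F := F) (K ⊕ K)) := by
  refine QIso.of_dot_isometry h2 rfl (fourMap a b K) (fun x => ?_)
  unfold plusQ dotQ fourMap
  rw [Fintype.sum_sum_type, Fintype.sum_sum_type, Fintype.sum_sum_type, Fintype.sum_sum_type,
    ← Finset.sum_add_distrib, ← Finset.sum_add_distrib, ← Finset.sum_add_distrib,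
    ← Finset.sum_add_distrib]
  refine Finset.sum_congr rfl (fun k _ => ?_)
  simp only [LinearMap.coe_mk, AddHom.coe_mk, Sum.elim_inl, Sum.elim_inr]
  linear_combination (-(x (Sum.inr (Sum.inl k)) * x (Sum.inr (Sum.inl k)) +
    x (Sum.inr (Sum.inr k)) * x (Sum.inr (Sum.inr k)))) * hab

/-- the form `Σ x_k y_k + z₁² + z₂²` -/
def minusQ (K : Type) [Fintype K] (v : (K ⊕ K) ⊕ Fin 2 → F) : F :=
  (∑ k, v (Sum.inl (Sum.inl k)) * v (Sum.inl (Sum.inr k))) +
    (v (Sum.inr 0) ^ 2 + 0 * v (Sum.inr 0) * v (Sum.inr 1) + 1 * v (Sum.inr 1) ^ 2)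

theorem quadFormMinus_eq (m : ℕ) : Cfsg.quadFormMinus m F 0 1 = minusQ (F := F) (Fin m) := rfl

theorem quadFormPlus_eq (m : ℕ) : Cfsg.quadFormPlus m F = plusQ (F := F) (Fin m) := rfl

theorem dot_iso_minus {κ K : Type} [Fintype κ] [Fintype K]
    (h : QIso (dotQ (F := F) κ) (plusQ (F := F) K)) :
    QIso (dotQ (F := F) (κ ⊕ Fin 2)) (minusQ (F := F) K) := by
  obtain ⟨e, he⟩ := h
  refine ⟨(LinearEquiv.sumArrowLequivProdArrow (K ⊕ K) (Fin 2) F F).trans
    ((LinearEquiv.prodCongr e (LinearEquiv.refl F (Fin 2 → F))).trans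
      (LinearEquiv.sumArrowLequivProdArrow κ (Fin 2) F F).symm), fun v => ?_⟩
  have h1 := he (fun j => v (Sum.inl j))
  unfold dotQ plusQ at h1
  unfold dotQ minusQ
  rw [Fintype.sum_sum_type, ← h1, Fin.sum_univ_two]
  simp only [LinearEquiv.trans_apply, LinearEquiv.sumArrowLequivProdArrow_apply_fst,
    LinearEquiv.sumArrowLequivProdArrow_apply_snd, LinearEquiv.prodCongr_apply,
    LinearEquiv.refl_apply, LinearEquiv.sumArrowLequivProdArrow_symm_apply_inl,
    LinearEquiv.sumArrowLequivProdArrow_symm_apply_inr]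
  have h3 : ((LinearEquiv.sumArrowLequivProdArrow (K ⊕ K) (Fin 2) F F) v).1 =
      fun j => v (Sum.inl j) := rfl
  rw [h3]
  ring

end Cfsg.Agent.Helper13.DotForm
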