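import Mathlib

/-! EXT (E2), helper43's mini server for S5515: a group with a centreless self-centralising normal
subgroup `N ≅ L` embeds in `Aut L`, with `N` going onto the inner automorphisms. -/

set_option autoImplicit false

namespace Cfsg.Agent.Helper13.EXT

theorem embed_aut {G : Type*} [Group G] {L : Type*} [Group L] (N : Subgroup G) [N.Normal]
    (e : ↥N ≃* L) (hZ : Subgroup.center L = ⊥) (hC : Subgroup.centralizer (N : Set G) ≤ N) :
    ∃ φ : G →* MulAut L, Function.Injective φ ∧
      N.map φ = (MulAut.conj : L →* MulAut L).range := by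
  let φ : G →* MulAut L := (MulAut.congr e).toMonoidHom.comp (MulAut.conjNormal (H := N))
  have hφ : ∀ (g : G) (l : L), φ g l = e (MulAut.conjNormal g (e.symm l)) := fun g l => rfl
  have hφN : ∀ n : ↥N, φ (n : G) = MulAut.conj (e n) := by
    intro n
    apply MulEquiv.ext
    intro l
    rw [hφ, MulAut.conj_apply]
    have h1 : MulAut.conjNormal (n : G) (e.symm l) = n * e.symm l * n⁻¹ := by
      apply Subtype.ext
      rw [MulAut.conjNormal_apply]
      simp
    rw [h1, map_mul, map_mul, map_inv, MulEquiv.apply_symm_apply]
  refine ⟨φ, ?_, ?_⟩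
  · rw [injective_iff_map_eq_one]
    intro g hg
    -- `g` centralises `N`
    have hcent : ∀ n : ↥N, g * (n : G) * g⁻¹ = n := by
      intro n
      have h1 := hφ g (e n)
      rw [hg, MulAut.one_apply, MulEquiv.symm_apply_apply] at h1
      have h2 : MulAut.conjNormal g n = n := e.injective h1.symm
      have h3 := congrArg Subtype.val h2
      rwa [MulAut.conjNormal_apply] at h3
    have hgN : g ∈ N := by
      apply hC
      rw [Subgroup.mem_centralizer_iff]
      intro n hn
      have := hcent ⟨n, hn⟩
      simp only at this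
      calc n * g = (g * n * g⁻¹) * g := by rw [this]
        _ = g * n := by group
    -- `e g` is central
    have hcen : e ⟨g, hgN⟩ ∈ Subgroup.center L := by
      rw [Subgroup.mem_center_iff]
      intro l
      obtain ⟨n, rfl⟩ := e.surjective l
      rw [← map_mul, ← map_mul]
      congr 1
      apply Subtype.ext
      have := hcent n
      show (n : G) * g = g * n
      calc (n : G) * g = (g * n * g⁻¹) * g := by rw [this]
        _ = g * n := by group
    rw [hZ, Subgroup.mem_bot] at hcen
    have h4 : (⟨g, hgN⟩ : ↥N) = 1 := e.injective (by rw [hcen, map_one])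
    exact congrArg Subtype.val h4
  · ext β
    constructor
    · rintro ⟨n, hn, rfl⟩
      exact ⟨e ⟨n, hn⟩, (hφN ⟨n, hn⟩).symm⟩
    · rintro ⟨l, rfl⟩
      refine ⟨(e.symm l : G), (e.symm l).2, ?_⟩
      rw [hφN, MulEquiv.apply_symm_apply]

end Cfsg.Agent.Helper13.EXT
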