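import Mathlib

/-! EXT (E3), helper43's mini server for S5515: two subgroups containing a normal subgroup `I`
with conjugate images modulo `I` are isomorphic. -/

set_option autoImplicit false

namespace Cfsg.Agent.Helper13.EXT

theorem iso_of_conj_mod {A : Type*} [Group A] (I : Subgroup A) [I.Normal] (X₁ X₂ : Subgroup A)
    (hI₁ : I ≤ X₁) (hI₂ : I ≤ X₂) (t : A ⧸ I)
    (h : X₂.map (QuotientGroup.mk' I) =
      (X₁.map (QuotientGroup.mk' I)).map (MulAut.conj t).toMonoidHom) :
    Nonempty (↥X₁ ≃* ↥X₂) := by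
  obtain ⟨a, rfl⟩ := QuotientGroup.mk_surjective t
  have hmk : ∀ u v : A, (QuotientGroup.mk' I u = QuotientGroup.mk' I v) ↔ u⁻¹ * v ∈ I := by
    intro u v
    exact QuotientGroup.eq
  have key : X₂ = X₁.map (MulAut.conj a).toMonoidHom := by
    apply le_antisymm
    · intro y hy
      have h1 : QuotientGroup.mk' I y ∈ X₂.map (QuotientGroup.mk' I) :=
        Subgroup.mem_map_of_mem _ hy
      rw [h] at h1
      obtain ⟨_, ⟨x, hx, rfl⟩, hxy⟩ := h1
      have h2 : QuotientGroup.mk' I (a * x * a⁻¹) = QuotientGroup.mk' I y := by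
        rw [← hxy]
        simp [MulAut.conj_apply]
      have h3 : (a * x * a⁻¹)⁻¹ * y ∈ I := (hmk _ _).1 h2
      refine ⟨x * (a⁻¹ * ((a * x * a⁻¹)⁻¹ * y) * a), ?_, ?_⟩
      · apply X₁.mul_mem hx
        apply hI₁
        have := (inferInstance : I.Normal).conj_mem _ h3 a⁻¹
        simpa using this
      · simp only [MulEquiv.coe_toMonoidHom, MulAut.conj_apply]
        group
    · rintro _ ⟨x, hx, rfl⟩
      have h1 : QuotientGroup.mk' I (a * x * a⁻¹) ∈
          (X₁.map (QuotientGroup.mk' I)).map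
            (MulAut.conj (QuotientGroup.mk a : A ⧸ I)).toMonoidHom := by
        refine ⟨QuotientGroup.mk' I x, Subgroup.mem_map_of_mem _ hx, ?_⟩
        simp [MulAut.conj_apply]
      rw [← h] at h1
      obtain ⟨y, hy, hyx⟩ := h1
      have h3 : y⁻¹ * (a * x * a⁻¹) ∈ I := (hmk _ _).1 hyx
      have : a * x * a⁻¹ = y * (y⁻¹ * (a * x * a⁻¹)) := by group
      show (MulAut.conj a) x ∈ X₂
      rw [MulAut.conj_apply, this]
      exact X₂.mul_mem hy (hI₂ h3)
  exact ⟨(X₁.equivMapOfInjective (MulAut.conj a).toMonoidHom (MulAut.conj a).injective).trans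
    (MulEquiv.subgroupCongr key.symm)⟩

end Cfsg.Agent.Helper13.EXT
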