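import Mathlib
import Cfsg.Agent.Lib.Helper13.DotForm

/-!
# Similarity groups of bilinear and quadratic forms given by matrices; diagonal forms

* `mem_bsim_iff`, `mem_sim_formQ_iff`: membership in the similarity groups, in matrix terms.
* `projQuot_congr_of_matrix`, `bsim_congr`: transport of `projQuot`.
* `wQ`: weighted sums of squares; isometries with the plus and minus forms.
-/

set_option autoImplicit false
set_option linter.unusedSectionVars false
set_option linter.unusedSimpArgs false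
set_option linter.unusedVariables false

namespace Cfsg.Agent.Helper13.SimForms

open Matrix Cfsg.Agent.Helper13.PGOCongr Cfsg.Agent.Helper13.DotForm

variable {F : Type*} [Field F]

section Sim

variable {κ : Type} [Fintype κ] [DecidableEq κ]

/-- the bilinear form with matrix `N` -/
def bform (N : Matrix κ κ F) (u v : κ → F) : F := u ⬝ᵥ N *ᵥ v

/-- the quadratic form with matrix `N` -/
def formQ (N : Matrix κ κ F) (x : κ → F) : F := x ⬝ᵥ N *ᵥ x

theorem bform_mulVec (g N : Matrix κ κ F) (u v : κ → F) :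
    (g *ᵥ u) ⬝ᵥ N *ᵥ (g *ᵥ v) = u ⬝ᵥ (gᵀ * N * g) *ᵥ v := by
  rw [Matrix.mulVec_mulVec, ← Matrix.vecMul_transpose, ← Matrix.dotProduct_mulVec,
    Matrix.mulVec_mulVec, Matrix.mul_assoc]

theorem single_bform (M : Matrix κ κ F) (i j : κ) :
    (Pi.single i (1 : F)) ⬝ᵥ M *ᵥ (Pi.single j (1 : F)) = M i j := by
  rw [Matrix.mulVec_single_one, single_dotProduct, one_mul]
  rfl

theorem matrix_eq_of_bform {M M' : Matrix κ κ F}
    (h : ∀ u v : κ → F, u ⬝ᵥ M *ᵥ v = u ⬝ᵥ M' *ᵥ v) : M = M' := by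
  ext i j
  rw [← single_bform M i j, ← single_bform M' i j]
  exact h _ _

theorem mem_bsim_iff (N : Matrix κ κ F) (g : GL κ F) :
    g ∈ Cfsg.Geo.similarityGroup (F := F) (bform N) ↔
      ∃ c : Fˣ, ((g : Matrix κ κ F))ᵀ * N * (g : Matrix κ κ F) = (c : F) • N := by
  constructor
  · rintro ⟨c, hc⟩
    refine ⟨c, matrix_eq_of_bform (fun u v => ?_)⟩
    have := hc u v
    unfold bform at this
    rw [bform_mulVec] at this
    rw [this, Matrix.smul_mulVec, dotProduct_smul, smul_eq_mul]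
  · rintro ⟨c, hc⟩
    refine ⟨c, fun u v => ?_⟩
    unfold bform
    rw [bform_mulVec, hc, Matrix.smul_mulVec, dotProduct_smul, smul_eq_mul]

theorem sym_zero_of_quad_zero (h2 : (2 : F) ≠ 0) (D : Matrix κ κ F) (hD : Dᵀ = D)
    (h : ∀ x : κ → F, x ⬝ᵥ D *ᵥ x = 0) : D = 0 := by
  ext i j
  have h1 := h (Pi.single i 1 + Pi.single j 1)
  rw [Matrix.mulVec_add, add_dotProduct, dotProduct_add, dotProduct_add, h, h, single_bform,
    single_bform] at h1
  have h3 : D j i = D i j := by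
    have := congrFun (congrFun hD i) j
    rwa [Matrix.transpose_apply] at this
  rw [h3] at h1
  have h4 : (2 : F) * D i j = 0 := by linear_combination h1
  rcases mul_eq_zero.mp h4 with h5 | h5
  · exact absurd h5 h2
  · exact h5

theorem mem_sim_formQ_iff (h2 : (2 : F) ≠ 0) (N : Matrix κ κ F) (hN : Nᵀ = N) (g : GL κ F) :
    g ∈ Cfsg.Geo.quadSimilarityGroup (F := F) (formQ N) ↔
      ∃ c : Fˣ, ((g : Matrix κ κ F))ᵀ * N * (g : Matrix κ κ F) = (c : F) • N := by
  constructor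
  · rintro ⟨c, hc⟩
    refine ⟨c, ?_⟩
    rw [← sub_eq_zero]
    apply sym_zero_of_quad_zero h2
    · rw [Matrix.transpose_sub, Matrix.transpose_mul, Matrix.transpose_mul,
        Matrix.transpose_transpose, Matrix.transpose_smul, hN, Matrix.mul_assoc]
    · intro x
      have := hc x
      unfold formQ at this
      rw [bform_mulVec] at this
      rw [Matrix.sub_mulVec, dotProduct_sub, this, Matrix.smul_mulVec, dotProduct_smul, smul_eq_mul,
        sub_self]
  · rintro ⟨c, hc⟩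
    refine ⟨c, fun v => ?_⟩
    unfold formQ
    rw [bform_mulVec, hc, Matrix.smul_mulVec, dotProduct_smul, smul_eq_mul]

end Sim

section Congr

variable {ι₁ ι₂ : Type} [Fintype ι₁] [DecidableEq ι₁] [Fintype ι₂] [DecidableEq ι₂]

/-- transport of `projQuot` along `conjEquiv` -/
theorem projQuot_congr_of_matrix (A : Matrix ι₁ ι₂ F) (B : Matrix ι₂ ι₁ F) (hAB : A * B = 1)
    (hBA : B * A = 1) (H₁ : Subgroup (GL ι₁ F)) (H₂ : Subgroup (GL ι₂ F))
    (hH : ∀ g : GL ι₁ F, conjEquiv A B hAB hBA g ∈ H₂ ↔ g ∈ H₁) :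
    Nonempty (Cfsg.projQuot H₁ ≃* Cfsg.projQuot H₂) := by
  let E := conjEquiv A B hAB hBA
  let e' : ↥H₁ ≃* ↥H₂ :=
    { toFun := fun g => ⟨E g.1, (hH g.1).2 g.2⟩
      invFun := fun g => ⟨E.symm g.1, by
        have := hH (E.symm g.1)
        rw [MulEquiv.apply_symm_apply] at this
        exact this.1 g.2⟩
      left_inv := fun g => by apply Subtype.ext; simp
      right_inv := fun g => by apply Subtype.ext; simp
      map_mul' := fun g h => by apply Subtype.ext; simp }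
  refine ⟨QuotientGroup.congr _ _ e' ?_⟩
  ext ⟨x, hx⟩
  rw [Subgroup.mem_map, Subgroup.mem_subgroupOf]
  constructor
  · rintro ⟨y, hy, hyx⟩
    rw [Subgroup.mem_subgroupOf] at hy
    have h1 : E y.1 = x := congrArg Subtype.val hyx
    show x ∈ Cfsg.Geo.scalars ι₂ F
    rw [← h1]
    exact (conjEquiv_mem_scalars A B hAB hBA y.1).2 hy
  · intro hxs
    have hxs' : x ∈ Cfsg.Geo.scalars ι₂ F := hxs
    refine ⟨e'.symm ⟨x, hx⟩, ?_, by simp⟩
    rw [Subgroup.mem_subgroupOf]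
    show E.symm x ∈ Cfsg.Geo.scalars ι₁ F
    rw [← conjEquiv_mem_scalars A B hAB hBA, MulEquiv.apply_symm_apply]
    exact hxs'

theorem conjEquiv_mem_bsim (A : Matrix ι₁ ι₂ F) (B : Matrix ι₂ ι₁ F) (hAB : A * B = 1)
    (hBA : B * A = 1) (f₁ : (ι₁ → F) → (ι₁ → F) → F) (f₂ : (ι₂ → F) → (ι₂ → F) → F)
    (hf : ∀ u v, f₁ (A *ᵥ u) (A *ᵥ v) = f₂ u v) (g : GL ι₁ F) :
    conjEquiv A B hAB hBA g ∈ Cfsg.Geo.similarityGroup (F := F) f₂ ↔
      g ∈ Cfsg.Geo.similarityGroup (F := F) f₁ := by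
  have hf' : ∀ u v, f₂ (B *ᵥ u) (B *ᵥ v) = f₁ u v := by
    intro u v
    rw [← hf, Matrix.mulVec_mulVec, Matrix.mulVec_mulVec, hAB, Matrix.one_mulVec, Matrix.one_mulVec]
  have hg : (g : Matrix ι₁ ι₁ F) = A * (B * (g : Matrix ι₁ ι₁ F) * A) * B := by
    calc (g : Matrix ι₁ ι₁ F) = (A * B) * (g : Matrix ι₁ ι₁ F) * (A * B) := by
          rw [hAB, Matrix.one_mul, Matrix.mul_one]
      _ = _ := by simp only [Matrix.mul_assoc]
  constructor
  · rintro ⟨c, hc⟩
    refine ⟨c, fun u v => ?_⟩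
    have h := hc (B *ᵥ u) (B *ᵥ v)
    rw [conjEquiv_coe, hf' u v, ← hf] at h
    rw [← h]
    simp only [Matrix.mulVec_mulVec]
    have hg' : A * (B * (g : Matrix ι₁ ι₁ F) * A * B) = (g : Matrix ι₁ ι₁ F) := by
      calc A * (B * (g : Matrix ι₁ ι₁ F) * A * B) = (A * B) * (g : Matrix ι₁ ι₁ F) * (A * B) := by
            simp only [Matrix.mul_assoc]
        _ = (g : Matrix ι₁ ι₁ F) := by rw [hAB, Matrix.one_mul, Matrix.mul_one]
    rw [hg']
  · rintro ⟨c, hc⟩
    refine ⟨c, fun u v => ?_⟩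
    have h := hc (A *ᵥ u) (A *ᵥ v)
    rw [hf u v, ← hf'] at h
    rw [← h, conjEquiv_coe]
    simp only [Matrix.mulVec_mulVec, Matrix.mul_assoc]

/-- transport of the projective similarity group of a bilinear form along a linear equivalence -/
theorem bsim_congr (e : (ι₂ → F) ≃ₗ[F] (ι₁ → F)) (f₁ : (ι₁ → F) → (ι₁ → F) → F)
    (f₂ : (ι₂ → F) → (ι₂ → F) → F) (hf : ∀ u v, f₁ (e u) (e v) = f₂ u v) :
    Nonempty (Cfsg.projQuot (Cfsg.Geo.similarityGroup (F := F) f₁) ≃*
      Cfsg.projQuot (Cfsg.Geo.similarityGroup (F := F) f₂)) := by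
  have hAB : (LinearMap.toMatrix' (e : (ι₂ → F) →ₗ[F] (ι₁ → F))) *
      (LinearMap.toMatrix' (e.symm : (ι₁ → F) →ₗ[F] (ι₂ → F))) = 1 := by
    rw [← LinearMap.toMatrix'_comp]
    have : ((e : (ι₂ → F) →ₗ[F] (ι₁ → F)).comp (e.symm : (ι₁ → F) →ₗ[F] (ι₂ → F))) =
        LinearMap.id := by
      ext x; simp
    rw [this, LinearMap.toMatrix'_id]
  have hBA : (LinearMap.toMatrix' (e.symm : (ι₁ → F) →ₗ[F] (ι₂ → F))) *
      (LinearMap.toMatrix' (e : (ι₂ → F) →ₗ[F] (ι₁ → F))) = 1 := by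
    rw [← LinearMap.toMatrix'_comp]
    have : ((e.symm : (ι₁ → F) →ₗ[F] (ι₂ → F)).comp (e : (ι₂ → F) →ₗ[F] (ι₁ → F))) =
        LinearMap.id := by
      ext x; simp
    rw [this, LinearMap.toMatrix'_id]
  refine projQuot_congr_of_matrix _ _ hAB hBA _ _ (fun g => ?_)
  apply conjEquiv_mem_bsim
  intro u v
  rw [LinearMap.toMatrix'_mulVec, LinearMap.toMatrix'_mulVec]
  exact hf u v

end Congr

/-! ### Weighted sums of squares -/

/-- the weighted sum of squares `Σ w_k x_k²` -/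
def wQ (κ : Type) [Fintype κ] (w : κ → F) (x : κ → F) : F := ∑ k, w k * (x k * x k)

theorem formQ_diagonal {κ : Type} [Fintype κ] [DecidableEq κ] (w : κ → F) (x : κ → F) :
    formQ (Matrix.diagonal w) x = wQ κ w x := by
  unfold formQ wQ
  simp only [dotProduct, Matrix.mulVec_diagonal]
  refine Finset.sum_congr rfl (fun k _ => ?_)
  ring

theorem wQ_zero (κ : Type) [Fintype κ] (w : κ → F) : wQ κ w 0 = 0 := by
  simp [wQ]

theorem wQ_nondeg {κ : Type} [Fintype κ] [DecidableEq κ] (h2 : (2 : F) ≠ 0) (w : κ → F)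
    (hw : ∀ k, w k ≠ 0) (v : κ → F) (hv : v ≠ 0) :
    ∃ u, wQ κ w (v + u) ≠ wQ κ w v + wQ κ w u := by
  have hex : ∃ j, v j ≠ 0 := by
    by_contra h
    push Not at h
    exact hv (funext h)
  obtain ⟨j, hj⟩ := hex
  refine ⟨Pi.single j 1, fun h => ?_⟩
  have h1 : wQ κ w (v + Pi.single j 1) = wQ κ w v + wQ κ w (Pi.single j 1) +
      2 * ∑ k, w k * v k * (Pi.single j (1 : F) : κ → F) k := by
    unfold wQ
    rw [Finset.mul_sum, ← Finset.sum_add_distrib, ← Finset.sum_add_distrib]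
    refine Finset.sum_congr rfl (fun k _ => ?_)
    simp only [Pi.add_apply]
    ring
  have h3 : ∑ k, w k * v k * (Pi.single j (1 : F) : κ → F) k = w j * v j := by
    rw [Finset.sum_eq_single j]
    · rw [Pi.single_eq_same, mul_one]
    · intro k _ hk
      rw [Pi.single_eq_of_ne hk, mul_zero]
    · intro hj'
      exact absurd (Finset.mem_univ j) hj'
  rw [h1, h3] at h
  have h4 : (2 : F) * (w j * v j) = 0 := by linear_combination h
  rcases mul_eq_zero.mp h4 with h5 | h5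
  · exact h2 h5
  · rcases mul_eq_zero.mp h5 with h6 | h6
    · exact hw j h6
    · exact hj h6

/-- a linear isometry out of a nondegenerate diagonal form into a form on a space of the same
dimension is an isomorphism -/
theorem QIso.of_wQ_isometry {κ ι₂ : Type} [Fintype κ] [DecidableEq κ] [Fintype ι₂]
    (h2 : (2 : F) ≠ 0) (w : κ → F) (hw : ∀ k, w k ≠ 0) (hcard : Fintype.card κ = Fintype.card ι₂)
    {Q₂ : (ι₂ → F) → F} (φ : (κ → F) →ₗ[F] (ι₂ → F))
    (hφ : ∀ x, Q₂ (φ x) = wQ κ w x) : QIso (wQ (F := F) κ w) Q₂ := by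
  have hinj : Function.Injective φ :=
    injective_of_isometry (Q₁ := Q₂) (Q₂ := wQ (F := F) κ w) φ hφ (wQ_zero κ w) (wQ_nondeg h2 w hw)
  exact (QIso.of_injective hcard φ hinj hφ).symm

/-- reindexing a weighted sum of squares -/
theorem wQ_reindex {κ₁ κ₂ : Type} [Fintype κ₁] [Fintype κ₂] (σ : κ₁ ≃ κ₂) (w : κ₂ → F) :
    QIso (wQ (F := F) κ₁ (fun k => w (σ k))) (wQ (F := F) κ₂ w) := by
  refine ⟨LinearEquiv.funCongrLeft F F σ, fun v => ?_⟩
  unfold wQ
  exact Equiv.sum_comp σ (fun k => w k * (v k * v k))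

/-- the weights `(1, …, 1, -1, …, -1)` -/
def pmW (K : Type) : K ⊕ K → F := Sum.elim (fun _ => 1) (fun _ => -1)

theorem pmW_ne_zero (K : Type) (k : K ⊕ K) : pmW (F := F) K k ≠ 0 := by
  rcases k with k | k <;> simp [pmW]

theorem prod_pmW (K : Type) [Fintype K] : ∏ k, pmW (F := F) K k = (-1) ^ Fintype.card K := by
  unfold pmW
  rw [Fintype.prod_sum_type]
  simp [Finset.prod_const, Finset.card_univ]

/-- `(u, t) ↦ (u + t, u - t)` -/
def pmMap (K : Type) : (K ⊕ K → F) →ₗ[F] (K ⊕ K → F) := sqMap (1 : F) K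

theorem pmMap_apply_inl (K : Type) (x : K ⊕ K → F) (k : K) :
    pmMap K x (Sum.inl k) = x (Sum.inl k) + x (Sum.inr k) := by
  simp [pmMap, sqMap]

theorem pmMap_apply_inr (K : Type) (x : K ⊕ K → F) (k : K) :
    pmMap K x (Sum.inr k) = x (Sum.inl k) - x (Sum.inr k) := by
  simp [pmMap, sqMap]

theorem wQ_pm_iso_plus (h2 : (2 : F) ≠ 0) (K : Type) [Fintype K] [DecidableEq K] :
    QIso (wQ (F := F) (K ⊕ K) (pmW K)) (plusQ (F := F) K) := by
  refine QIso.of_wQ_isometry h2 _ (pmW_ne_zero K) rfl (pmMap K) (fun x => ?_)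
  unfold plusQ wQ
  rw [Fintype.sum_sum_type, ← Finset.sum_add_distrib]
  refine Finset.sum_congr rfl (fun k _ => ?_)
  rw [pmMap_apply_inl, pmMap_apply_inr]
  simp only [pmW, Sum.elim_inl, Sum.elim_inr]
  ring

/-- the form `Σ x_k y_k + z₁² + b z₂²` -/
def minusQb (K : Type) [Fintype K] (b : F) (v : (K ⊕ K) ⊕ Fin 2 → F) : F :=
  (∑ k, v (Sum.inl (Sum.inl k)) * v (Sum.inl (Sum.inr k))) +
    (v (Sum.inr 0) ^ 2 + 0 * v (Sum.inr 0) * v (Sum.inr 1) + b * v (Sum.inr 1) ^ 2)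

theorem quadFormMinus_eq_minusQb (m : ℕ) (b : F) :
    Cfsg.quadFormMinus m F 0 b = minusQb (F := F) (Fin m) b := rfl

/-- the weights `(1, …, 1, -1, …, -1, 1, b)` -/
def pmbW (K : Type) (b : F) : (K ⊕ K) ⊕ Fin 2 → F := Sum.elim (pmW K) ![1, b]

theorem pmbW_ne_zero (K : Type) {b : F} (hb : b ≠ 0) (k : (K ⊕ K) ⊕ Fin 2) :
    pmbW (F := F) K b k ≠ 0 := by
  rcases k with k | k
  · exact pmW_ne_zero K k
  · fin_cases k <;> simp [pmbW, hb]

theorem prod_pmbW (K : Type) [Fintype K] (b : F) :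
    ∏ k, pmbW (F := F) K b k = (-1) ^ Fintype.card K * b := by
  unfold pmbW
  rw [Fintype.prod_sum_type]
  simp only [Sum.elim_inl, Sum.elim_inr]
  rw [prod_pmW, Fin.prod_univ_two]
  simp

/-- `pmMap` on the first summand, identity on the last two coordinates -/
def pmbMap (K : Type) : ((K ⊕ K) ⊕ Fin 2 → F) →ₗ[F] ((K ⊕ K) ⊕ Fin 2 → F) where
  toFun x := Sum.elim (pmMap K (fun k => x (Sum.inl k))) (fun j => x (Sum.inr j))
  map_add' x y := by
    funext j
    rcases j with k | k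
    · simp only [Sum.elim_inl, Pi.add_apply]
      rw [← Pi.add_apply, ← map_add]
      rfl
    · simp only [Sum.elim_inr, Pi.add_apply]
  map_smul' c x := by
    funext j
    rcases j with k | k
    · simp only [Sum.elim_inl, Pi.smul_apply, RingHom.id_apply]
      rw [← Pi.smul_apply, ← map_smul]
      rfl
    · simp only [Sum.elim_inr, Pi.smul_apply, RingHom.id_apply]

theorem wQ_pmb_iso_minus (h2 : (2 : F) ≠ 0) (K : Type) [Fintype K] [DecidableEq K] {b : F}
    (hb : b ≠ 0) : QIso (wQ (F := F) ((K ⊕ K) ⊕ Fin 2) (pmbW K b)) (minusQb (F := F) K b) := by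
  refine QIso.of_wQ_isometry h2 _ (pmbW_ne_zero K hb) rfl (pmbMap K) (fun x => ?_)
  unfold minusQb wQ
  rw [Fintype.sum_sum_type, Fintype.sum_sum_type, ← Finset.sum_add_distrib, Fin.sum_univ_two]
  have h1 : ∀ k : K, pmbMap K x (Sum.inl (Sum.inl k)) =
      x (Sum.inl (Sum.inl k)) + x (Sum.inl (Sum.inr k)) := fun k => by
    show pmMap K (fun k => x (Sum.inl k)) (Sum.inl k) = _
    rw [pmMap_apply_inl]
  have h3 : ∀ k : K, pmbMap K x (Sum.inl (Sum.inr k)) =
      x (Sum.inl (Sum.inl k)) - x (Sum.inl (Sum.inr k)) := fun k => by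
    show pmMap K (fun k => x (Sum.inl k)) (Sum.inr k) = _
    rw [pmMap_apply_inr]
  have h4 : ∀ j : Fin 2, pmbMap K x (Sum.inr j) = x (Sum.inr j) := fun j => rfl
  simp only [h1, h3, h4]
  congr 1
  · refine Finset.sum_congr rfl (fun k _ => ?_)
    simp only [pmbW, pmW, Sum.elim_inl, Sum.elim_inr]
    ring
  · simp only [pmbW, Sum.elim_inr, Matrix.cons_val_zero, Matrix.cons_val_one]
    ring

end Cfsg.Agent.Helper13.SimForms
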