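import Mathlib
import Cfsg.Agent.S0752

/-!
# Congruence classification of symmetric and skew-symmetric invertible matrices over a finite field
of odd order

* `sym_normal_form`: a symmetric invertible matrix is congruent to `diag(d, 1, …, 1)`.
* `sym_cong`: two symmetric invertible matrices whose determinants differ by a square are congruent.
* `skew_normal_form`: a skew-symmetric invertible matrix is congruent to the standard `J`.
-/

set_option autoImplicit false
set_option linter.unusedSectionVars false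
set_option linter.unusedSimpArgs false
set_option linter.unusedVariables false

namespace Cfsg.Agent.Helper13.SymCong

open Matrix

variable {F : Type*} [Field F]

theorem exists_sq_sum [Fintype F] (hodd : Odd (Fintype.card F)) {a b : F} (ha : a ≠ 0)
    (hb : b ≠ 0) : ∃ x y : F, a * (x * x) + b * (y * y) = 1 := by
  classical
  have hf : (Polynomial.C a * Polynomial.X ^ 2 : Polynomial F).degree = 2 :=
    Polynomial.degree_C_mul_X_pow 2 ha
  have hg0 : (Polynomial.C b * Polynomial.X ^ 2 : Polynomial F).degree = 2 :=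
    Polynomial.degree_C_mul_X_pow 2 hb
  have hg : (Polynomial.C b * Polynomial.X ^ 2 + Polynomial.C (-1) : Polynomial F).degree = 2 := by
    rw [Polynomial.degree_add_C, hg0]
    rw [hg0]; norm_num
  obtain ⟨x, y, hxy⟩ := FiniteField.exists_root_sum_quadratic hf hg (Nat.odd_iff.mp hodd)
  refine ⟨x, y, ?_⟩
  simp only [Polynomial.eval_add, Polynomial.eval_mul, Polynomial.eval_C, Polynomial.eval_pow,
    Polynomial.eval_X] at hxy
  linear_combination hxy

theorem isSquare_mul_of_not [Fintype F] {x y : F} (hx : ¬ IsSquare x) (hy : ¬ IsSquare y) :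
    IsSquare (x * y) := by
  classical
  have hx0 : x ≠ 0 := by
    rintro rfl
    exact hx ⟨0, by simp⟩
  have hy0 : y ≠ 0 := by
    rintro rfl
    exact hy ⟨0, by simp⟩
  rw [← quadraticChar_one_iff_isSquare (mul_ne_zero hx0 hy0), map_mul,
    quadraticChar_neg_one_iff_not_isSquare.mpr hx, quadraticChar_neg_one_iff_not_isSquare.mpr hy]
  norm_num

section Fam

variable {V : Type*} [AddCommGroup V] [Module F V]

/-- Normalising an orthogonal family: all vectors but one get norm `1`. -/
theorem fam_normalize [Fintype F] (hodd : Odd (Fintype.card F)) (B : LinearMap.BilinForm F V)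
    (hS : ∀ x y, B x y = B y x) :
    ∀ (n : ℕ) (w : Fin n → V) (z : V),
      (∀ i j, i ≠ j → B (w i) (w j) = 0) → (∀ i, B (w i) (w i) ≠ 0) → (∀ i, B z (w i) = 0) →
      B z z ≠ 0 →
      ∃ (v : Fin n → V) (z' : V),
        (∀ i j, B (v i) (v j) = if i = j then 1 else 0) ∧ (∀ i, B z' (v i) = 0) ∧ B z' z' ≠ 0 ∧
        (∀ y : V, (∀ i, B y (w i) = 0) → B y z = 0 → (∀ i, B y (v i) = 0) ∧ B y z' = 0) := by
  intro n
  induction n with
  | zero =>
    intro w z _ _ _ hz
    exact ⟨Fin.elim0, z, fun i => i.elim0, fun i => i.elim0, hz,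
      fun y _ hy => ⟨fun i => i.elim0, hy⟩⟩
  | succ n ih =>
    intro w z hw hwn hzw hz
    obtain ⟨x, y, hxy⟩ := exists_sq_sum hodd (hwn 0) hz
    set a := B (w 0) (w 0) with ha
    set b := B z z with hb
    have hzw0 : B z (w 0) = 0 := hzw 0
    have hw0z : B (w 0) z = 0 := by rw [hS]; exact hzw0
    set u : V := x • w 0 + y • z with hu
    set u' : V := (-(b * y)) • w 0 + (a * x) • z with hu'
    have huu : B u u = 1 := by
      simp only [hu, map_add, map_smul, LinearMap.add_apply, LinearMap.smul_apply, smul_eq_mul,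
        hzw0, hw0z, ← ha, ← hb]
      linear_combination hxy
    have hu'u : B u' u = 0 := by
      simp only [hu, hu', map_add, map_smul, LinearMap.add_apply, LinearMap.smul_apply, smul_eq_mul,
        hzw0, hw0z, ← ha, ← hb]
      ring
    have huu' : B u u' = 0 := by rw [hS]; exact hu'u
    have hu'u' : B u' u' = a * b := by
      simp only [hu', map_add, map_smul, LinearMap.add_apply, LinearMap.smul_apply, smul_eq_mul,
        hzw0, hw0z, ← ha, ← hb]
      linear_combination (a * b) * hxy
    have hw0s : ∀ i : Fin n, B (w 0) (w i.succ) = 0 := fun i => hw 0 i.succ (Fin.succ_ne_zero i).symm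
    have hu'w : ∀ i : Fin n, B u' (w i.succ) = 0 := by
      intro i
      simp only [hu', map_add, map_smul, LinearMap.add_apply, LinearMap.smul_apply, smul_eq_mul,
        hw0s i, hzw i.succ]
      ring
    have huw : ∀ i : Fin n, B u (w i.succ) = 0 := by
      intro i
      simp only [hu, map_add, map_smul, LinearMap.add_apply, LinearMap.smul_apply, smul_eq_mul,
        hw0s i, hzw i.succ]
      ring
    obtain ⟨v', z'', hv', hz''v', hz'', hprop⟩ := ih (fun i => w i.succ) u'
      (fun i j hij => hw i.succ j.succ (fun h => hij (Fin.succ_injective _ h)))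
      (fun i => hwn i.succ) hu'w (by rw [hu'u']; exact mul_ne_zero (hwn 0) hz)
    have hu_prop := hprop u huw huu'
    refine ⟨Fin.cons u v', z'', ?_, ?_, hz'', ?_⟩
    · intro i j
      refine Fin.cases ?_ (fun i' => ?_) i <;> refine Fin.cases ?_ (fun j' => ?_) j
      · simp only [Fin.cons_zero, if_true]; exact huu
      · simp only [Fin.cons_zero, Fin.cons_succ, (Fin.succ_ne_zero j').symm, if_false]
        exact hu_prop.1 j'
      · simp only [Fin.cons_zero, Fin.cons_succ, Fin.succ_ne_zero i', if_false]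
        rw [hS]; exact hu_prop.1 i'
      · simp only [Fin.cons_succ, Fin.succ_inj]
        exact hv' i' j'
    · intro i
      refine Fin.cases ?_ (fun i' => ?_) i
      · simp only [Fin.cons_zero]; rw [hS]; exact hu_prop.2
      · simp only [Fin.cons_succ]; exact hz''v' i'
    · intro y' hy'w hy'z
      have h1 : B y' u' = 0 := by
        simp only [hu', map_add, map_smul, smul_eq_mul, hy'w 0, hy'z]
        ring
      have h2 : B y' u = 0 := by
        simp only [hu, map_add, map_smul, smul_eq_mul, hy'w 0, hy'z]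
        ring
      have h3 := hprop y' (fun i => hy'w i.succ) h1
      refine ⟨fun i => ?_, h3.2⟩
      refine Fin.cases ?_ (fun i' => ?_) i
      · simp only [Fin.cons_zero]; exact h2
      · simp only [Fin.cons_succ]; exact h3.1 i'

end Fam

/-- the Gram matrix of a family of rows -/
theorem gram_eq {κ κ' : Type*} [Fintype κ] [Fintype κ'] (A : Matrix κ κ F) (R : κ' → κ → F)
    (i j : κ') : (Matrix.of R * A * (Matrix.of R)ᵀ) i j = R i ⬝ᵥ A *ᵥ R j := by
  rw [Matrix.mul_assoc]
  rfl

/-- the diagonal matrix `diag(d, 1, …, 1)` -/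
def diagD (k : ℕ) (d : F) : Matrix (Fin (k + 1)) (Fin (k + 1)) F :=
  Matrix.diagonal (Fin.cons d (fun _ => 1))

theorem det_diagD (k : ℕ) (d : F) : (diagD k d).det = d := by
  unfold diagD
  rw [Matrix.det_diagonal, Fin.prod_univ_succ]
  simp

theorem sym_normal_form [Fintype F] (hodd : Odd (Fintype.card F)) (h2 : (2 : F) ≠ 0) (k : ℕ)
    (A : Matrix (Fin (k + 1)) (Fin (k + 1)) F) (hA : Aᵀ = A) (hdet : A.det ≠ 0) :
    ∃ (h : Matrix (Fin (k + 1)) (Fin (k + 1)) F) (d : F), d ≠ 0 ∧ h * A * hᵀ = diagD k d := by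
  classical
  have : Invertible (2 : F) := invertibleOfNonzero h2
  set B : LinearMap.BilinForm F (Fin (k + 1) → F) := Matrix.toBilin' A with hB
  have hBapp : ∀ x y, B x y = x ⬝ᵥ A *ᵥ y := fun x y => Matrix.toBilin'_apply' A x y
  have hsymm : B.IsSymm := Matrix.isSymm_toBilin'_iff_isSymm.mpr hA
  have hS : ∀ x y, B x y = B y x := fun x y => (LinearMap.BilinForm.isSymm_iff.mp hsymm).eq x y
  have hN : B.Nondegenerate := (Matrix.nondegenerate_of_det_ne_zero hdet).toBilin'
  obtain ⟨b₀, hb₀⟩ := LinearMap.BilinForm.exists_orthogonal_basis (LinearMap.BilinForm.isSymm_iff.mp hsymm)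
  have hne₀ := LinearMap.BilinForm.iIsOrtho.not_isOrtho_basis_self_of_nondegenerate hb₀ hN
  have hfr : Module.finrank F (Fin (k + 1) → F) = k + 1 := Module.finrank_fin_fun F
  set b : Fin (k + 1) → (Fin (k + 1) → F) := fun i => b₀ (Fin.cast hfr.symm i) with hb
  have hbo : ∀ i j, i ≠ j → B (b i) (b j) = 0 := by
    intro i j hij
    exact hb₀ (fun h => hij (Fin.cast_injective _ h))
  have hbn : ∀ i, B (b i) (b i) ≠ 0 := fun i => hne₀ _
  obtain ⟨v, z', hv, hz'v, hz', -⟩ := fam_normalize hodd B hS k (fun i => b i.succ) (b 0)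
    (fun i j hij => hbo i.succ j.succ (fun h => hij (Fin.succ_injective _ h)))
    (fun i => hbn i.succ) (fun i => hbo 0 i.succ (Fin.succ_ne_zero i).symm) (hbn 0)
  refine ⟨Matrix.of (Fin.cons z' v : Fin (k + 1) → (Fin (k + 1) → F)), B z' z', hz', ?_⟩
  ext i j
  rw [gram_eq, ← hBapp]
  unfold diagD
  rw [Matrix.diagonal_apply]
  refine Fin.cases ?_ (fun i' => ?_) i <;> refine Fin.cases ?_ (fun j' => ?_) j
  · simp only [Fin.cons_zero, if_true]
  · simp only [Fin.cons_zero, Fin.cons_succ, (Fin.succ_ne_zero j').symm, if_false]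
    exact hz'v j'
  · simp only [Fin.cons_zero, Fin.cons_succ, Fin.succ_ne_zero i', if_false]
    rw [hS]; exact hz'v i'
  · simp only [Fin.cons_succ, Fin.succ_inj]
    rw [hv i' j']

theorem det_ne_zero_of_cong {κ : Type*} [Fintype κ] [DecidableEq κ] {h A B : Matrix κ κ F}
    (hB : B.det ≠ 0) (e : h * A * hᵀ = B) : h.det ≠ 0 := by
  intro h0
  apply hB
  rw [← e, Matrix.det_mul, Matrix.det_mul, h0, zero_mul, zero_mul]

theorem diagD_mul (k : ℕ) (s d : F) : diagD k s * diagD k d * (diagD k s)ᵀ = diagD k (s * d * s) := by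
  unfold diagD
  rw [Matrix.diagonal_transpose, Matrix.diagonal_mul_diagonal, Matrix.diagonal_mul_diagonal]
  congr 1
  funext i
  refine Fin.cases ?_ (fun i' => ?_) i
  · simp only [Fin.cons_zero]
  · simp only [Fin.cons_succ, mul_one]

/-- two symmetric invertible matrices whose determinants differ by a square are congruent -/
theorem sym_cong [Fintype F] (hodd : Odd (Fintype.card F)) (h2 : (2 : F) ≠ 0) (k : ℕ)
    (A B : Matrix (Fin (k + 1)) (Fin (k + 1)) F) (hA : Aᵀ = A) (hB : Bᵀ = B) (hdA : A.det ≠ 0)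
    (hdB : B.det ≠ 0) (hsq : IsSquare (A.det * B.det)) :
    ∃ h : Matrix (Fin (k + 1)) (Fin (k + 1)) F, h.det ≠ 0 ∧ h * A * hᵀ = B := by
  obtain ⟨h₁, d, hd, e₁⟩ := sym_normal_form hodd h2 k A hA hdA
  obtain ⟨h₂, e, he, e₂⟩ := sym_normal_form hodd h2 k B hB hdB
  have hd1 : h₁.det * A.det * h₁.det = d := by
    have := congrArg Matrix.det e₁
    rwa [Matrix.det_mul, Matrix.det_mul, Matrix.det_transpose, det_diagD] at this
  have hd2 : h₂.det * B.det * h₂.det = e := by
    have := congrArg Matrix.det e₂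
    rwa [Matrix.det_mul, Matrix.det_mul, Matrix.det_transpose, det_diagD] at this
  have hh₂ : h₂.det ≠ 0 := det_ne_zero_of_cong (by rw [det_diagD]; exact he) e₂
  obtain ⟨r, hr⟩ := hsq
  set s : F := h₁.det * h₂.det * r / d with hs
  have h5 : (h₁.det * h₂.det * r) ^ 2 = d * e := by
    rw [← hd1, ← hd2]
    linear_combination (-(h₁.det ^ 2 * h₂.det ^ 2)) * hr
  have hsde : s * d * s = e := by
    rw [hs]
    field_simp
    linear_combination h5
  have hu : IsUnit h₂.det := isUnit_iff_ne_zero.mpr hh₂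
  have hinv : h₂⁻¹ * h₂ = 1 := Matrix.nonsing_inv_mul _ hu
  have hinvT : h₂ᵀ * (h₂⁻¹)ᵀ = 1 := by rw [← Matrix.transpose_mul, hinv, Matrix.transpose_one]
  have key : (h₂⁻¹ * diagD k s * h₁) * A * (h₂⁻¹ * diagD k s * h₁)ᵀ = B := by
    calc (h₂⁻¹ * diagD k s * h₁) * A * (h₂⁻¹ * diagD k s * h₁)ᵀ
        = h₂⁻¹ * (diagD k s * (h₁ * A * h₁ᵀ) * (diagD k s)ᵀ) * (h₂⁻¹)ᵀ := by
          simp only [Matrix.transpose_mul, Matrix.mul_assoc]
      _ = h₂⁻¹ * (h₂ * B * h₂ᵀ) * (h₂⁻¹)ᵀ := by rw [e₁, diagD_mul, hsde, e₂]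
      _ = (h₂⁻¹ * h₂) * B * (h₂ᵀ * (h₂⁻¹)ᵀ) := by simp only [Matrix.mul_assoc]
      _ = B := by rw [hinv, hinvT, Matrix.one_mul, Matrix.mul_one]
  exact ⟨_, det_ne_zero_of_cong hdB key, key⟩

/-- a skew-symmetric invertible matrix is congruent to the standard `J` -/
theorem skew_normal_form (h2 : (2 : F) ≠ 0) {n m : ℕ} (σ : Fin n ≃ Fin m ⊕ Fin m)
    (A : Matrix (Fin n) (Fin n) F) (hA : Aᵀ = -A) (hdet : A.det ≠ 0) :
    ∃ h : Matrix (Fin n) (Fin n) F, h.det ≠ 0 ∧
      h * A * hᵀ = (Matrix.J (Fin m) F).submatrix σ σ := by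
  classical
  set B : LinearMap.BilinForm F (Fin n → F) := Matrix.toBilin' A with hB
  have hBapp : ∀ x y, B x y = x ⬝ᵥ A *ᵥ y := fun x y => Matrix.toBilin'_apply' A x y
  have hskew : ∀ x y, B x y = -B y x := by
    intro x y
    rw [hBapp, hBapp, Matrix.dotProduct_mulVec, ← Matrix.mulVec_transpose, hA, Matrix.neg_mulVec,
      neg_dotProduct, dotProduct_comm]
  have hAlt : B.IsAlt := by
    intro x
    have h := hskew x x
    have h3 : (2 : F) * B x x = 0 := by linear_combination h
    rcases mul_eq_zero.mp h3 with h4 | h4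
    · exact absurd h4 h2
    · exact h4
  have hN : B.Nondegenerate := (Matrix.nondegenerate_of_det_ne_zero hdet).toBilin'
  obtain ⟨m', k', b, h1, h2', h3, h4⟩ := Cfsg.Agent.S0752.result B hAlt
  have hk' : k' = 0 := by
    by_contra hne
    have hpos : 0 < k' := Nat.pos_of_ne_zero hne
    have h0 : b (Sum.inr ⟨0, hpos⟩) = 0 := hN.1 _ (fun v => h4 ⟨0, hpos⟩ v)
    exact b.ne_zero _ h0
  subst hk'
  have hm' : m' = m := by
    have e1 := Module.finrank_eq_card_basis b
    rw [Module.finrank_fin_fun] at e1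
    have e2 := Fintype.card_congr σ
    simp only [Fintype.card_sum, Fintype.card_fin] at e1 e2
    omega
  subst hm'
  set R : Fin m' ⊕ Fin m' → (Fin n → F) :=
    Sum.elim (fun i => b (Sum.inl (Sum.inr i))) (fun i => b (Sum.inl (Sum.inl i))) with hR
  have hG : ∀ x x', B (R x) (R x') = Matrix.J (Fin m') F x x' := by
    intro x x'
    rcases x with i | i <;> rcases x' with j | j
    · simp only [hR, Sum.elim_inl, Matrix.J, Matrix.fromBlocks_apply₁₁, Matrix.zero_apply]
      exact h3 i j
    · simp only [hR, Sum.elim_inl, Sum.elim_inr, Matrix.J, Matrix.fromBlocks_apply₁₂,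
        Matrix.neg_apply, Matrix.one_apply]
      rw [hskew, h1 j i]
      simp [eq_comm]
    · simp only [hR, Sum.elim_inl, Sum.elim_inr, Matrix.J, Matrix.fromBlocks_apply₂₁,
        Matrix.one_apply]
      exact h1 i j
    · simp only [hR, Sum.elim_inr, Matrix.J, Matrix.fromBlocks_apply₂₂, Matrix.zero_apply]
      exact h2' i j
  have key : Matrix.of (fun i : Fin n => R (σ i)) * A * (Matrix.of (fun i : Fin n => R (σ i)))ᵀ =
      (Matrix.J (Fin m') F).submatrix σ σ := by
    ext i j
    rw [gram_eq, ← hBapp, hG, Matrix.submatrix_apply]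
  refine ⟨_, det_ne_zero_of_cong ?_ key, key⟩
  rw [Matrix.det_submatrix_equiv_self]
  intro h0
  have := Matrix.J_det_mul_J_det (Fin m') F
  rw [h0, zero_mul] at this
  exact zero_ne_one this

end Cfsg.Agent.Helper13.SymCong
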