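import Mathlib
import Cfsg.Agent.Lib.Helper13.GraphAutPSL
import Cfsg.Agent.Lib.Helper13.SymCong
import Cfsg.Agent.Lib.Helper13.SimForms

/-!
# Classes of involutory graph automorphisms of `PSL_n(F)`, `n` even, `|F|` odd
-/

set_option autoImplicit false
set_option linter.unusedSectionVars false
set_option linter.unusedSimpArgs false
set_option linter.unusedVariables false

namespace Cfsg.Agent.Helper13.GraphAutClasses

open Matrix Cfsg.Agent.Helper13.PSLAut Cfsg.Agent.Helper13.GraphAutPSL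
  Cfsg.Agent.Helper13.SymCong Cfsg.Agent.Helper13.SimForms Cfsg.Agent.Helper13.DotForm

variable {F : Type*} [Field F] {n : ℕ}

local notation "Mn" => Matrix (Fin n) (Fin n) F
local notation "PSLn" => Matrix.ProjectiveSpecialLinearGroup (Fin n) F

theorem cong_symm (H : GL (Fin n) F) {A B : Mn} (e : (H : Mn) * A * (H : Mn)ᵀ = B) :
    ((H⁻¹ : GL (Fin n) F) : Mn) * B * ((H⁻¹ : GL (Fin n) F) : Mn)ᵀ = A := by
  have h1 : ((H⁻¹ : GL (Fin n) F) : Mn) * (H : Mn) = 1 := coe_inv_mul H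
  have h2 : (H : Mn)ᵀ * ((H⁻¹ : GL (Fin n) F) : Mn)ᵀ = 1 := by
    rw [← Matrix.transpose_mul, h1, Matrix.transpose_one]
  rw [← e]
  calc ((H⁻¹ : GL (Fin n) F) : Mn) * ((H : Mn) * A * (H : Mn)ᵀ) * ((H⁻¹ : GL (Fin n) F) : Mn)ᵀ
      = (((H⁻¹ : GL (Fin n) F) : Mn) * (H : Mn)) * A *
          ((H : Mn)ᵀ * ((H⁻¹ : GL (Fin n) F) : Mn)ᵀ) := by simp only [Matrix.mul_assoc]
    _ = A := by rw [h1, h2, Matrix.one_mul, Matrix.mul_one]

theorem not_cong_skew_sym (h2 : (2 : F) ≠ 0) {h J N : Mn} (hJ : Jᵀ = -J) (hN : Nᵀ = N) {c : F}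
    (hc : c ≠ 0) (e : h * J * hᵀ = c • N) : N = 0 := by
  have e' := congrArg Matrix.transpose e
  rw [Matrix.transpose_mul, Matrix.transpose_mul, Matrix.transpose_transpose, hJ,
    Matrix.transpose_smul, hN, Matrix.neg_mul, Matrix.mul_neg, ← Matrix.mul_assoc, e] at e'
  ext i j
  have h3 := congrFun (congrFun e' i) j
  rw [Matrix.neg_apply, Matrix.smul_apply, smul_eq_mul] at h3
  have h4 : (2 : F) * c * N i j = 0 := by linear_combination -h3
  rcases mul_eq_zero.mp h4 with h5 | h5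
  · rcases mul_eq_zero.mp h5 with h6 | h6
    · exact absurd h6 h2
    · exact absurd h6 hc
  · exact h5

theorem bform_submatrix {κ₁ κ₂ : Type} [Fintype κ₁] [Fintype κ₂] (σ : κ₁ ≃ κ₂)
    (M : Matrix κ₂ κ₂ F) (v w : κ₂ → F) :
    (fun i => v (σ i)) ⬝ᵥ (M.submatrix σ σ) *ᵥ (fun i => w (σ i)) = v ⬝ᵥ M *ᵥ w := by
  simp only [dotProduct, Matrix.mulVec, Matrix.submatrix_apply]
  rw [← Equiv.sum_comp σ]
  refine Finset.sum_congr rfl (fun i _ => ?_)
  congr 1
  exact Equiv.sum_comp σ (fun b => M (σ i) b * w b)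

/-- congruent matrices give `Inndiag`-conjugate graph automorphisms -/
theorem conj_of_cong (hn : 0 < n) (A B : GL (Fin n) F) (h : Mn) (hdet : h.det ≠ 0)
    (e : h * (A : Mn) * hᵀ = (B : Mn)) :
    Cfsg.IsConjUnder (Cfsg.inndiagPSL n F) (gam A) (gam B) := by
  rw [isConj_gam_iff hn]
  refine ⟨Matrix.GeneralLinearGroup.mkOfDetNeZero h hdet, 1, ?_⟩
  rw [Units.val_one, one_smul]
  exact e

/-- the other direction of congruence -/
theorem conj_of_cong' (hn : 0 < n) (A B : GL (Fin n) F) (h : Mn) (hdet : h.det ≠ 0)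
    (e : h * (B : Mn) * hᵀ = (A : Mn)) :
    Cfsg.IsConjUnder (Cfsg.inndiagPSL n F) (gam A) (gam B) := by
  rw [isConj_gam_iff hn]
  refine ⟨(Matrix.GeneralLinearGroup.mkOfDetNeZero h hdet)⁻¹, 1, ?_⟩
  rw [Units.val_one, one_smul]
  apply cong_symm
  exact e

/-- an involutory graph automorphism is `gam A` with `A` symmetric or skew-symmetric -/
theorem graph_invol (γ : MulAut PSLn) (hγ : Cfsg.IsGraphAutClassPSL γ) (h2 : orderOf γ = 2) :
    ∃ A : GL (Fin n) F, γ = gam A ∧ ((A : Mn)ᵀ = (A : Mn) ∨ (A : Mn)ᵀ = -(A : Mn)) := by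
  obtain ⟨hn3, A, rfl⟩ := (isGraph_iff γ).1 hγ
  refine ⟨A, rfl, ?_⟩
  have h1 : gam A * gam A = 1 := by
    have := pow_orderOf_eq_one (gam A)
    rwa [h2, pow_two] at this
  obtain ⟨c, hc⟩ := (gam_sq_eq_one_iff (by omega) A).1 h1
  exact sym_or_skew (by omega) A c hc

end Cfsg.Agent.Helper13.GraphAutClasses
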