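import Mathlib

set_option autoImplicit false

namespace Cfsg.Agent.Helper13

open scoped Pointwise

/-- 2-homogeneity in elementary terms -/
theorem pair_of_two_homog {G : Type*} [Group G] {α : Type*} [MulAction G α] [DecidableEq α]
    (h2 : MulAction.IsPretransitive G (Set.powersetCard α 2)) {a b c d : α}
    (hab : a ≠ b) (hcd : c ≠ d) :
    ∃ g : G, (g • a = c ∧ g • b = d) ∨ (g • a = d ∧ g • b = c) := by
  obtain ⟨g, hg⟩ := h2.exists_smul_eq (Set.powersetCard.ofCard (Finset.card_pair hab))
    (Set.powersetCard.ofCard (Finset.card_pair hcd))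
  have h := congrArg Subtype.val hg
  rw [Set.powersetCard.coe_smul] at h
  simp only [Set.powersetCard.val_ofCard] at h
  rw [Finset.smul_finset_insert, Finset.smul_finset_singleton] at h
  refine ⟨g, ?_⟩
  have ha : g • a ∈ ({c, d} : Finset α) := by rw [← h]; simp
  have hb : g • b ∈ ({c, d} : Finset α) := by rw [← h]; simp
  have hne : g • a ≠ g • b := fun e => hab (MulAction.injective g e)
  simp only [Finset.mem_insert, Finset.mem_singleton] at ha hb
  rcases ha with ha | ha <;> rcases hb with hb | hb
  · exact absurd (ha.trans hb.symm) hne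
  · exact Or.inl ⟨ha, hb⟩
  · exact Or.inr ⟨ha, hb⟩
  · exact absurd (ha.trans hb.symm) hne

/-- a 2-homogeneous action on at least three points is transitive -/
theorem isPretransitive_of_two_homog {G : Type*} [Group G] {α : Type*} [MulAction G α]
    [DecidableEq α] [Fintype α]
    (h2 : MulAction.IsPretransitive G (Set.powersetCard α 2)) (hα : 3 ≤ Fintype.card α) :
    MulAction.IsPretransitive G α := by
  constructor
  intro x y
  by_cases hxy : x = y
  · exact ⟨1, by rw [one_smul, hxy]⟩
  obtain ⟨z, hz⟩ : ∃ z, z ∉ ({x, y} : Finset α) := by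
    by_contra hcon
    push Not at hcon
    have : (Finset.univ : Finset α) ⊆ {x, y} := fun w _ => hcon w
    have h1 := Finset.card_le_card this
    rw [Finset.card_univ, Finset.card_pair hxy] at h1
    omega
  simp only [Finset.mem_insert, Finset.mem_singleton, not_or] at hz
  obtain ⟨hzx, hzy⟩ := hz
  obtain ⟨g, hg⟩ := pair_of_two_homog h2 (Ne.symm hzx) hxy
  obtain ⟨g', hg'⟩ := pair_of_two_homog h2 (Ne.symm hzx) (Ne.symm hzy)
  rcases hg with ⟨h1, h2'⟩ | ⟨h1, _⟩
  · rcases hg' with ⟨h3, _⟩ | ⟨h3, h4⟩
    · exact ⟨g', h3⟩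
    · exact ⟨g * g', by rw [mul_smul, h3, h2']⟩
  · exact ⟨g, h1⟩

/-- a 2-homogeneous action on at least three points is primitive -/
theorem isPreprimitive_of_two_homog {G : Type*} [Group G] {α : Type*} [MulAction G α]
    [DecidableEq α] [Fintype α]
    (h2 : MulAction.IsPretransitive G (Set.powersetCard α 2)) (hα : 3 ≤ Fintype.card α) :
    MulAction.IsPreprimitive G α := by
  have : MulAction.IsPretransitive G α := isPretransitive_of_two_homog h2 hα
  apply MulAction.IsPreprimitive.mk
  intro B hB
  rcases B.subsingleton_or_nontrivial with h | h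
  · left; exact h
  · right
    obtain ⟨a, ha, b, hb, hab⟩ := h
    rw [← Set.top_eq_univ, eq_top_iff]
    intro c _
    by_cases hac : a = c
    · rw [← hac]; exact ha
    · obtain ⟨g, hg⟩ := pair_of_two_homog h2 hab hac
      rw [MulAction.isBlock_iff_smul_eq_of_mem] at hB
      rcases hg with ⟨h1, h2'⟩ | ⟨h1, h2'⟩
      · rw [← hB (g := g) ha (by rw [h1]; exact ha), ← h2']
        exact Set.smul_mem_smul_set hb
      · rw [← hB (g := g) hb (by rw [h2']; exact ha), ← h1]
        exact Set.smul_mem_smul_set ha

end Cfsg.Agent.Helper13
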