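import Mathlib
set_option autoImplicit false
set_option linter.unusedVariables false

/-! JPC (PR), helper35's lemma server for S4150: a transitive group containing a prime cycle of
length `q` with `card Ω < 2 q` is primitive. -/

namespace Cfsg.Agent.Helper13.JPC

open Equiv Equiv.Perm MulAction Subgroup

open scoped Pointwise

universe u

theorem isPreprimitive_of_prime_cycle {Ω : Type u} [Fintype Ω] [DecidableEq Ω]
    (G : Subgroup (Perm Ω)) (hG : IsPretransitive G Ω) {q : ℕ} (hq : q.Prime) {y : Perm Ω}
    (hyc : y.IsCycle) (hyq : y.support.card = q) (hy : y ∈ G)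
    (hcard : Fintype.card Ω < 2 * q) : IsPreprimitive G Ω := by
  classical
  have hord : orderOf y = q := by rw [hyc.orderOf, hyq]
  set Y : ↥G := ⟨y, hy⟩ with hY
  have hYpow : ∀ (n : ℕ) (t : Ω), (Y ^ n) • t = (y ^ n) t := by
    intro n t
    rfl
  -- key: a block containing `c ∈ supp y` and another point `d` is `univ`
  have key : ∀ B : Set Ω, IsBlock G B → ∀ c ∈ B, y c ≠ c → ∀ d ∈ B, d ≠ c → B = Set.univ := by
    intro B hB c hcB hc d hdB hdc
    have hstab : Y • B = B := by
      by_contra hne
      have hdisj : Disjoint (Y • B) B := (hB.smul_eq_or_disjoint Y).resolve_left hne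
      have hd : y d ≠ d := by
        intro hyd
        exact (Set.disjoint_left.1 hdisj (show d ∈ Y • B from ⟨d, hdB, hyd⟩)) hdB
      obtain ⟨k, hk⟩ := hyc.exists_pow_eq hc hd
      have hkB : (Y ^ k) • B = B := by
        refine (hB.smul_eq_or_disjoint (Y ^ k)).resolve_right ?_
        rw [Set.not_disjoint_iff]
        exact ⟨d, ⟨c, hcB, hk⟩, hdB⟩
      have hqk : ¬ q ∣ k := by
        intro hdiv
        have h1 : y ^ k = 1 := by
          rw [← hord] at hdiv
          exact orderOf_dvd_iff_pow_eq_one.1 hdiv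
        rw [h1] at hk
        exact hdc hk.symm
      have hcop : Nat.Coprime k q := ((Nat.Prime.coprime_iff_not_dvd hq).2 hqk).symm
      obtain ⟨j, -, hj⟩ := Nat.exists_mul_mod_eq_one_of_coprime hcop hq.one_lt
      have hYj : (Y ^ k) ^ j = Y := by
        apply Subtype.ext
        show (y ^ k) ^ j = y
        rw [← pow_mul, ← pow_mod_orderOf, hord, hj, pow_one]
      apply hne
      have h2 : ((Y ^ k) ^ j) • B = B :=
        (stabilizer G B).pow_mem (show Y ^ k ∈ stabilizer G B from hkB) j
      rwa [hYj] at h2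
    have hsub : (y.support : Set Ω) ⊆ B := by
      intro e he
      have he' : y e ≠ e := Perm.mem_support.1 he
      obtain ⟨i, hi⟩ := hyc.exists_pow_eq hc he'
      have hiB : (Y ^ i) • B = B :=
        (stabilizer G B).pow_mem (show Y ∈ stabilizer G B from hstab) i
      rw [← hiB, ← hi, ← hYpow]
      exact Set.smul_mem_smul_set hcB
    apply hB.eq_univ_of_card_lt
    rw [Nat.card_eq_fintype_card]
    have h3 : q ≤ B.ncard := by
      rw [← hyq, ← Set.ncard_coe_finset]
      exact Set.ncard_le_ncard hsub (Set.toFinite B)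
    omega
  refine { toIsPretransitive := hG, isTrivialBlock_of_isBlock := fun {B} hB => ?_ }
  by_cases hBs : B.Subsingleton
  · exact Or.inl hBs
  right
  rw [Set.not_subsingleton_iff] at hBs
  obtain ⟨a, haB, b, hbB, hab⟩ := hBs
  obtain ⟨c, hc, -⟩ := id hyc
  obtain ⟨g, hg⟩ := exists_smul_eq G a c
  have h1 := key (g • B) (hB.translate g) c ⟨a, haB, hg⟩ hc (g • b) ⟨b, hbB, rfl⟩ (by
    intro h
    rw [← hg] at h
    exact hab (smul_left_cancel g h).symm)
  have h4 : B = g⁻¹ • (g • B) := (inv_smul_smul g B).symm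
  rw [h4, h1, Set.smul_set_univ]

end Cfsg.Agent.Helper13.JPC
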