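import Mathlib
set_option autoImplicit false
set_option linter.unusedVariables false

/-! JPC (W), helper35's lemma server for S4150: Witt's lemma. -/

namespace Cfsg.Agent.Helper13.JPC

open Equiv Equiv.Perm MulAction Subgroup

open scoped Pointwise

universe u

theorem witt {Ω : Type u} [Fintype Ω] [DecidableEq Ω] (G : Subgroup (Perm Ω)) (Δ : Finset Ω)
    (hk : IsMultiplyPretransitive G Ω Δ.card) (ℓ : ℕ) (hℓ : ℓ.Prime)
    (R : Subgroup (Perm Ω)) (hRG : R ≤ G) (hRΔ : ∀ r ∈ R, ∀ t ∈ Δ, r t = t)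
    (hRp : IsPGroup ℓ R)
    (hmax : ∀ R' : Subgroup (Perm Ω), R' ≤ G → (∀ r ∈ R', ∀ t ∈ Δ, r t = t) →
      IsPGroup ℓ R' → R ≤ R' → R' ≤ R)
    (σ : Perm Ω) (hσ : ∀ t, σ t ∈ Δ ↔ t ∈ Δ) :
    ∃ a ∈ G, (∀ r, a * r * a⁻¹ ∈ R ↔ r ∈ R) ∧ ∀ t ∈ Δ, a t = σ t := by
  classical
  have : Fact ℓ.Prime := ⟨hℓ⟩
  -- step 1: an element of `G` inducing `σ` on `Δ`
  obtain ⟨a₀, ha₀G, ha₀⟩ : ∃ a₀ ∈ G, ∀ t ∈ Δ, a₀ t = σ t := by
    let e : Fin Δ.card ≃ ↥Δ := Δ.equivFin.symm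
    let x : Fin Δ.card ↪ Ω := ⟨fun i => (e i : Ω), fun i j h => e.injective (Subtype.ext h)⟩
    let y : Fin Δ.card ↪ Ω :=
      ⟨fun i => σ (e i : Ω), fun i j h => e.injective (Subtype.ext (σ.injective h))⟩
    obtain ⟨g, hg⟩ := hk.exists_smul_eq x y
    refine ⟨(g : Perm Ω), g.2, ?_⟩
    intro t ht
    have h1 := DFunLike.congr_fun hg (e.symm ⟨t, ht⟩)
    rw [Function.Embedding.smul_apply] at h1
    have h2 : x (e.symm ⟨t, ht⟩) = t := by
      show ((e (e.symm ⟨t, ht⟩) : ↥Δ) : Ω) = t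
      rw [Equiv.apply_symm_apply]
    have h3 : y (e.symm ⟨t, ht⟩) = σ t := by
      show σ ((e (e.symm ⟨t, ht⟩) : ↥Δ) : Ω) = σ t
      rw [Equiv.apply_symm_apply]
    rw [h2, h3] at h1
    exact h1
  -- `a₀` maps `Δ` onto `Δ`
  have ha₀Δ : ∀ t ∈ Δ, a₀ t ∈ Δ := fun t ht => by rw [ha₀ t ht]; exact (hσ t).2 ht
  have ha₀inv : ∀ t ∈ Δ, a₀⁻¹ t ∈ Δ := by
    have himg : Δ.image a₀ = Δ := by
      apply Finset.eq_of_subset_of_card_le
      · intro s hs
        obtain ⟨t, ht, rfl⟩ := Finset.mem_image.1 hs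
        exact ha₀Δ t ht
      · rw [Finset.card_image_of_injective _ a₀.injective]
    intro t ht
    rw [← himg] at ht
    obtain ⟨s, hs, rfl⟩ := Finset.mem_image.1 ht
    have : a₀⁻¹ (a₀ s) = s := a₀.symm_apply_apply s
    rw [this]
    exact hs
  -- the pointwise fixer `D`
  let D : Subgroup (Perm Ω) :=
    { carrier := {h | h ∈ G ∧ ∀ t ∈ Δ, h t = t}
      mul_mem' := by
        rintro a b ⟨haG, ha⟩ ⟨hbG, hb⟩
        refine ⟨G.mul_mem haG hbG, fun t ht => ?_⟩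
        rw [Perm.mul_apply, hb t ht, ha t ht]
      one_mem' := ⟨G.one_mem, fun t _ => rfl⟩
      inv_mem' := by
        rintro a ⟨haG, ha⟩
        refine ⟨G.inv_mem haG, fun t ht => ?_⟩
        rw [Perm.inv_eq_iff_eq, ha t ht] }
  have hD : ∀ h, h ∈ D ↔ h ∈ G ∧ ∀ t ∈ Δ, h t = t := fun h => Iff.rfl
  have hRD : R ≤ D := fun r hr => ⟨hRG hr, hRΔ r hr⟩
  -- `R` is a Sylow subgroup of `D`
  obtain ⟨QR, hQR⟩ := (hRp.comap_subtype (K := D)).exists_le_sylow
  have hQR_le : ∀ d : ↥D, d ∈ QR → (d : Perm Ω) ∈ R := by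
    intro d hd
    have h1 : (QR : Subgroup ↥D).map D.subtype ≤ R := by
      apply hmax
      · rintro _ ⟨d', _, rfl⟩
        exact d'.2.1
      · rintro _ ⟨d', _, rfl⟩
        exact d'.2.2
      · exact QR.isPGroup'.map D.subtype
      · intro r hr
        exact ⟨⟨r, hRD hr⟩, hQR (Subgroup.mem_comap.2 hr), rfl⟩
    exact h1 ⟨d, hd, rfl⟩
  -- the conjugate `a₀ R a₀⁻¹` as a `ℓ`-subgroup of `D`
  have hconjD : ∀ r ∈ R, a₀ * r * a₀⁻¹ ∈ D := by
    intro r hr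
    refine ⟨G.mul_mem (G.mul_mem ha₀G (hRG hr)) (G.inv_mem ha₀G), fun t ht => ?_⟩
    rw [Perm.mul_apply, Perm.mul_apply, hRΔ r hr _ (ha₀inv t ht)]
    exact a₀.apply_symm_apply t
  let R' : Subgroup (Perm Ω) := R.map (MulAut.conj a₀).toMonoidHom
  have hR'p : IsPGroup ℓ R' := hRp.map _
  obtain ⟨Q', hQ'⟩ := (hR'p.comap_subtype (K := D)).exists_le_sylow
  obtain ⟨h, hh⟩ := MulAction.exists_smul_eq ↥D Q' QR
  -- the element
  refine ⟨(h : Perm Ω) * a₀, G.mul_mem h.2.1 ha₀G, ?_, ?_⟩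
  · have hsub : ∀ r ∈ R, (h : Perm Ω) * a₀ * r * ((h : Perm Ω) * a₀)⁻¹ ∈ R := by
      intro r hr
      have h1 : (⟨a₀ * r * a₀⁻¹, hconjD r hr⟩ : ↥D) ∈ Q' := by
        apply hQ'
        rw [Subgroup.mem_comap]
        exact ⟨r, hr, rfl⟩
      have h2 : h * ⟨a₀ * r * a₀⁻¹, hconjD r hr⟩ * h⁻¹ ∈ QR := by
        rw [← hh]
        have := Subgroup.smul_mem_pointwise_smul _ (MulAut.conj h) (Q' : Subgroup ↥D) h1
        show _ ∈ ((h • Q' : Sylow ℓ ↥D) : Subgroup ↥D)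
        exact this
      have h3 := hQR_le _ h2
      have h4 : ((h * ⟨a₀ * r * a₀⁻¹, hconjD r hr⟩ * h⁻¹ : ↥D) : Perm Ω) =
          (h : Perm Ω) * a₀ * r * ((h : Perm Ω) * a₀)⁻¹ := by
        push_cast
        group
      rw [h4] at h3
      exact h3
    -- injective self-map of the finite set `R` is surjective
    intro r
    constructor
    · intro hr
      let f : ↥R → ↥R := fun s => ⟨(h : Perm Ω) * a₀ * s * ((h : Perm Ω) * a₀)⁻¹, hsub s s.2⟩
      have hf : Function.Injective f := by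
        intro s s' hss
        have := congrArg Subtype.val hss
        simp only [f] at this
        apply Subtype.ext
        have h5 := mul_right_cancel this
        exact mul_left_cancel h5
      obtain ⟨s, hs⟩ := (Finite.injective_iff_surjective.1 hf) ⟨_, hr⟩
      have := congrArg Subtype.val hs
      simp only [f] at this
      have h5 := mul_right_cancel this
      have h6 := mul_left_cancel h5
      rw [← h6]
      exact s.2
    · exact hsub r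
  · intro t ht
    rw [Perm.mul_apply, ha₀ t ht]
    exact h.2.2 _ ((hσ t).2 ht)

end Cfsg.Agent.Helper13.JPC
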