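import Mathlib

/-!
# Generic end-game for S1693 (L37 server of helper58)

`θ : K →* MulAut L`, `L` finite nonabelian simple, `Inn L ≤ θ.range`, `θ.range ≠ Inn L`,
`|K| ≤ 2 |L|`, `φ : K →* H` onto with `2 < |H|`: then `H` has a normal subgroup of index 2
isomorphic to `L`.
-/

set_option autoImplicit false

namespace Cfsg.Agent.Helper13.L37

variable {K L H : Type*} [Group K] [Group L] [Group H]

/-- The centre of a nonabelian simple group is trivial. -/
theorem center_eq_bot_of_simple [IsSimpleGroup L] (hnc : ∃ a b : L, a * b ≠ b * a) :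
    Subgroup.center L = ⊥ := by
  rcases (inferInstance : (Subgroup.center L).Normal).eq_bot_or_eq_top with h | h
  · exact h
  · exfalso
    obtain ⟨a, b, hab⟩ := hnc
    have ha : a ∈ Subgroup.center L := by rw [h]; trivial
    exact hab ((Subgroup.mem_center_iff.1 ha b).symm)

theorem conj_injective_of_simple [IsSimpleGroup L] (hnc : ∃ a b : L, a * b ≠ b * a) :
    Function.Injective (MulAut.conj : L →* MulAut L) := by
  rw [injective_iff_map_eq_one]
  intro g hg
  have : g ∈ Subgroup.center L := by
    rw [Subgroup.mem_center_iff]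
    intro x
    have := DFunLike.congr_fun hg x
    simp only [MulAut.conj_apply, MulAut.one_apply] at this
    calc x * g = (g * x * g⁻¹) * g := by rw [this]
      _ = g * x := by group
  rw [center_eq_bot_of_simple hnc] at this
  exact Subgroup.mem_bot.1 this

/-- An automorphism commuting with all inner automorphisms of a centreless group is trivial. -/
theorem eq_one_of_commute_conj [IsSimpleGroup L] (hnc : ∃ a b : L, a * b ≠ b * a)
    (α : MulAut L) (h : ∀ g : L, α * MulAut.conj g = MulAut.conj g * α) : α = 1 := by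
  ext x
  have h1 : MulAut.conj (α x) = MulAut.conj x := by
    have := h x
    have e : α * MulAut.conj x * α⁻¹ = MulAut.conj (α x) := by
      ext y
      simp [MulAut.conj_apply, MulAut.mul_apply]
    rw [← e, this]; group
  exact conj_injective_of_simple hnc h1

theorem exists_index_two_of_hom [Finite K] [Finite L] [IsSimpleGroup L]
    (hnc : ∃ a b : L, a * b ≠ b * a) (θ : K →* MulAut L)
    (hInn : (MulAut.conj : L →* MulAut L).range ≤ θ.range)
    (hout : ∃ k, θ k ∉ (MulAut.conj : L →* MulAut L).range)
    (hcard : Nat.card K ≤ 2 * Nat.card L)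
    (φ : K →* H) (hφ : Function.Surjective φ) (hH : 2 < Nat.card H) :
    ∃ N : Subgroup H, N.Normal ∧ N.index = 2 ∧ Nonempty (N ≃* L) := by
  classical
  set I : Subgroup (MulAut L) := (MulAut.conj : L →* MulAut L).range with hI
  have hconj := conj_injective_of_simple (L := L) hnc
  have : Finite (MulAut L) := Finite.of_injective (fun α : MulAut L => (α : L → L))
    (fun a b h => by ext x; exact congrFun h x)
  -- |I| = |L|
  have hIcard : Nat.card I = Nat.card L :=
    (Nat.card_congr (MonoidHom.ofInjective hconj).toEquiv).symm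
  have hLpos : 0 < Nat.card L := Nat.card_pos
  -- I < range, so 2 |I| ≤ |range|
  have hlt : I < θ.range := by
    refine lt_of_le_of_ne hInn ?_
    intro h
    obtain ⟨k, hk⟩ := hout
    exact hk (h ▸ ⟨k, rfl⟩)
  have hRcard : 2 * Nat.card L ≤ Nat.card θ.range := by
    have hdvd : Nat.card I ∣ Nat.card θ.range := Subgroup.card_dvd_of_le hInn
    obtain ⟨c, hc⟩ := hdvd
    have hne : Nat.card I ≠ Nat.card θ.range := by
      intro h
      exact (ne_of_lt hlt) (Subgroup.eq_of_le_of_card_ge hInn (le_of_eq h.symm))
    have hRpos : 0 < Nat.card θ.range := Nat.card_pos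
    have hc2 : 2 ≤ c := by
      rcases c with _ | _ | c
      · rw [hc] at hRpos; simp at hRpos
      · exfalso; apply hne; rw [hc]; ring
      · omega
    rw [hc, hIcard]
    calc 2 * Nat.card L ≤ c * Nat.card L := Nat.mul_le_mul_right _ hc2
      _ = Nat.card L * c := Nat.mul_comm _ _
  have hKR : Nat.card θ.range ≤ Nat.card K :=
    Nat.card_le_card_of_surjective θ.rangeRestrict θ.rangeRestrict_surjective
  have hKcard : Nat.card K = 2 * Nat.card L := le_antisymm hcard (hRcard.trans hKR)
  have hRK : Nat.card θ.range = Nat.card K := le_antisymm hKR (hKcard ▸ hRcard)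
  -- θ injective
  have hθinj : Function.Injective θ := by
    have hbij : Function.Bijective θ.rangeRestrict := by
      rw [Nat.bijective_iff_surjective_and_card]
      exact ⟨θ.rangeRestrict_surjective, hRK.symm⟩
    intro x y hxy
    apply hbij.1
    exact Subtype.ext hxy
  -- N0
  set N0 : Subgroup K := I.comap θ with hN0
  have hInormal : I.Normal := by
    refine ⟨?_⟩
    rintro _ ⟨g, rfl⟩ ψ
    refine ⟨ψ g, ?_⟩
    ext x
    simp [MulAut.conj_apply, map_mul, map_inv]
  have hN0normal : N0.Normal := Subgroup.Normal.comap hInormal θ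
  -- N0 ≃* L
  have hN0map : N0.map θ = I := by
    rw [hN0, Subgroup.map_comap_eq, inf_eq_right.2 hInn]
  let e1 : N0 ≃* N0.map θ := N0.equivMapOfInjective θ hθinj
  let e2 : N0.map θ ≃* I := MulEquiv.subgroupCongr hN0map
  let e3 : L ≃* I := MonoidHom.ofInjective hconj
  let eN0 : N0 ≃* L := (e1.trans e2).trans e3.symm
  have hN0card : Nat.card N0 = Nat.card L := Nat.card_congr eN0.toEquiv
  have hN0idx : N0.index = 2 := by
    have h := N0.card_mul_index
    rw [hN0card, hKcard] at h
    have : Nat.card L * N0.index = Nat.card L * 2 := by rw [h]; ring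
    exact Nat.eq_of_mul_eq_mul_left hLpos this
  -- kernel of φ
  have hker : φ.ker = ⊥ := by
    set Z : Subgroup K := φ.ker with hZ
    have : Z.Normal := MonoidHom.normal_ker φ
    -- Z ⊓ N0 as a normal subgroup of N0
    have hsimpleN0 : IsSimpleGroup N0 := eN0.isSimpleGroup
    have hsub : (Z.subgroupOf N0) = ⊥ ∨ (Z.subgroupOf N0) = ⊤ :=
      (inferInstance : (Z.subgroupOf N0).Normal).eq_bot_or_eq_top
    rcases hsub with hb | ht
    · -- Z ⊓ N0 = ⊥ : Z centralizes N0
      have hdisj : Z ⊓ N0 = ⊥ := by
        rw [Subgroup.subgroupOf_eq_bot] at hb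
        exact disjoint_iff.1 hb
      rw [Subgroup.eq_bot_iff_forall]
      intro z hz
      have hcomm : ∀ n ∈ N0, z * n = n * z := by
        intro n hn
        have hmem : z * n * z⁻¹ * n⁻¹ ∈ Z ⊓ N0 := by
          refine ⟨?_, ?_⟩
          · have : z * (n * z⁻¹ * n⁻¹) ∈ Z :=
              Z.mul_mem hz (‹Z.Normal›.conj_mem z⁻¹ (Z.inv_mem hz) n)
            simpa [mul_assoc] using this
          · exact N0.mul_mem (hN0normal.conj_mem n hn z) (N0.inv_mem hn)
        rw [hdisj, Subgroup.mem_bot] at hmem
        calc z * n = (z * n * z⁻¹ * n⁻¹) * (n * z) := by group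
          _ = n * z := by rw [hmem, one_mul]
      have hθz : θ z = 1 := by
        apply eq_one_of_commute_conj hnc
        intro g
        have hgI : MulAut.conj g ∈ I := ⟨g, rfl⟩
        obtain ⟨n, hn⟩ := hInn hgI
        have hnN0 : n ∈ N0 := by
          rw [hN0, Subgroup.mem_comap, hn]; exact hgI
        rw [← hn, ← map_mul, ← map_mul, hcomm n hnN0]
      exact hθinj (by rw [hθz, map_one])
    · -- N0 ≤ Z : |H| ≤ 2
      exfalso
      have hle : N0 ≤ Z := by
        rw [Subgroup.subgroupOf_eq_top] at ht; exact ht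
      have hHcard : Nat.card H = Z.index := by
        rw [hZ, Subgroup.index_ker, MonoidHom.range_eq_top.2 hφ, Subgroup.card_top]
      have hdvd : Z.index ∣ N0.index := Subgroup.index_dvd_of_le hle
      rw [hN0idx] at hdvd
      have := Nat.le_of_dvd (by norm_num) hdvd
      omega
  have hφinj : Function.Injective φ := (MonoidHom.ker_eq_bot_iff φ).1 hker
  have hφbij : Function.Bijective φ := ⟨hφinj, hφ⟩
  refine ⟨N0.map φ, Subgroup.Normal.map hN0normal φ hφ, ?_, ?_⟩
  · rw [Subgroup.index_map_of_bijective hφbij, hN0idx]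
  · exact ⟨((N0.equivMapOfInjective φ hφinj).symm).trans eN0⟩

end Cfsg.Agent.Helper13.L37
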