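import Mathlib
import Cfsg.Agent.Lib.Helper5.PSL
import Cfsg.Agent.Lib.Helper5.SLCard
import Cfsg.Agent.Lib.Helper13.L37Glue

/-!
# `PSL(3, ZMod 7)`: order `1876896`, simple, nonabelian (inputs of `L37Glue` for S1693)
-/

set_option autoImplicit false

namespace Cfsg.Agent.Helper13.L37

open Matrix

instance fact_prime_seven : Fact (Nat.Prime 7) := ⟨by norm_num⟩

theorem card_psl37 :
    Nat.card (Matrix.ProjectiveSpecialLinearGroup (Fin 3) (ZMod 7)) = 1876896 := by
  have h := Cfsg.Agent.Helper5.card_PSL_mul (F := ZMod 7) (q := 7) (ZMod.card 7) 3 (by norm_num)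
  have h2 : ∏ i : Fin 3, (7 ^ 3 - 7 ^ (i : ℕ)) = 1876896 * Nat.gcd 3 (7 - 1) * (7 - 1) := by
    rw [Fin.prod_univ_three]; norm_num
  rw [h2] at h
  have h3 : 0 < Nat.gcd 3 (7 - 1) * (7 - 1) := by norm_num
  rw [mul_assoc, mul_assoc] at h
  exact Nat.eq_of_mul_eq_mul_right h3 h

instance psl37_simple : IsSimpleGroup (Matrix.ProjectiveSpecialLinearGroup (Fin 3) (ZMod 7)) :=
  Cfsg.Agent.Helper5.psl_isSimpleGroup (by simp)

instance psl37_finite : Finite (Matrix.ProjectiveSpecialLinearGroup (Fin 3) (ZMod 7)) :=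
  Nat.finite_of_card_ne_zero (by rw [card_psl37]; norm_num)

theorem psl37_noncomm :
    ∃ a b : Matrix.ProjectiveSpecialLinearGroup (Fin 3) (ZMod 7), a * b ≠ b * a := by
  by_contra hcon
  push Not at hcon
  let _ : CommGroup (Matrix.ProjectiveSpecialLinearGroup (Fin 3) (ZMod 7)) :=
    { (inferInstance : Group (Matrix.ProjectiveSpecialLinearGroup (Fin 3) (ZMod 7))) with
      mul_comm := hcon }
  have hp := IsSimpleGroup.prime_card (α := Matrix.ProjectiveSpecialLinearGroup (Fin 3) (ZMod 7))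
  rw [card_psl37] at hp
  norm_num at hp

/-- The end-game of S1693 with `L = PSL(3, ZMod 7)` plugged in. -/
theorem exists_index_two_psl37 {K H : Type*} [Group K] [Group H] [Finite K]
    (θ : K →* MulAut (Matrix.ProjectiveSpecialLinearGroup (Fin 3) (ZMod 7)))
    (hInn : (MulAut.conj : Matrix.ProjectiveSpecialLinearGroup (Fin 3) (ZMod 7) →* _).range ≤ θ.range)
    (hout : ∃ k, θ k ∉ (MulAut.conj : Matrix.ProjectiveSpecialLinearGroup (Fin 3) (ZMod 7) →* _).range)
    (hcard : Nat.card K ≤ 3753792)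
    (φ : K →* H) (hφ : Function.Surjective φ) (hH : 2 < Nat.card H) :
    ∃ N : Subgroup H, N.Normal ∧ N.index = 2 ∧
      Nonempty (N ≃* Matrix.ProjectiveSpecialLinearGroup (Fin 3) (ZMod 7)) :=
  exists_index_two_of_hom psl37_noncomm θ hInn hout (by rw [card_psl37]; exact hcard) φ hφ hH

end Cfsg.Agent.Helper13.L37
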