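import Mathlib
import Cfsg.Prelude.Def_Spor_ON
import Cfsg.Agent.Lib.Helper28.L37KDefs

/-!
# L37 (PHI): the hom from `K = L37KGroup` onto the subgroup `H = ⟨a, …, f⟩` of the presented O'Nan group
-/

set_option autoImplicit false

namespace Cfsg.Agent.Helper13.L37

open Cfsg Cfsg.Spor Cfsg.Agent.Helper28

/-- the relators of the O'Nan presentation -/
abbrev onRels : Set (FreeGroup ON.Gen) := coxRelators ON.edges ∪ {r | r ∈ ON.extra}

/-- the presented O'Nan group -/
abbrev ONGroup : Type := PresentedGroup onRels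

/-- the subgroup `H = ⟨a, …, f⟩` of S1693 -/
abbrev HSub : Subgroup ONGroup :=
  (Subgroup.closure ({ON.a, ON.b, ON.c, ON.d, ON.e, ON.f} : Set (FreeGroup ON.Gen))).map
    (PresentedGroup.mk onRels)

/-- the inclusion of generators -/
def iotaGen : L37K.Gen → ON.Gen
  | .a => .a
  | .b => .b
  | .c => .c
  | .d => .d
  | .e => .e
  | .f => .f

theorem iotaGen_mem_nodes (x : L37K.Gen) : iotaGen x ∈ coxNodes ON.edges := by
  cases x <;> decide

theorem coxLabel_iotaGen (x y : L37K.Gen) :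
    coxLabel ON.edges (iotaGen x) (iotaGen y) = coxLabel L37K.edges x y := by
  cases x <;> cases y <;> decide

theorem lift_eq_mk_map (w : FreeGroup L37K.Gen) :
    FreeGroup.lift (fun x : L37K.Gen => (PresentedGroup.of (iotaGen x) : ONGroup)) w =
      PresentedGroup.mk onRels (FreeGroup.map iotaGen w) := by
  have h : (FreeGroup.lift (fun x : L37K.Gen => (PresentedGroup.of (iotaGen x) : ONGroup))) =
      (PresentedGroup.mk onRels).comp (FreeGroup.map iotaGen) := by
    ext x
    simp [PresentedGroup.of]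
  rw [h]; rfl

theorem rels_map (r : FreeGroup L37K.Gen)
    (hr : r ∈ coxRelators L37K.edges ∪ {r | r ∈ L37K.extra}) :
    FreeGroup.lift (fun x : L37K.Gen => (PresentedGroup.of (iotaGen x) : ONGroup)) r = 1 := by
  rw [lift_eq_mk_map]
  have hmem : FreeGroup.map iotaGen r ∈ onRels := by
    rcases hr with hr | hr
    · obtain ⟨x, _, y, _, rfl⟩ := hr
      left
      refine ⟨iotaGen x, iotaGen_mem_nodes x, iotaGen y, iotaGen_mem_nodes y, ?_⟩
      rw [coxLabel_iotaGen]
      simp [map_pow, map_mul]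
    · right
      have hr' : r = (L37K.a * L37K.f) * (((L37K.c * L37K.d) ^ 4)⁻¹) := by
        simpa [L37K.extra] using hr
      subst hr'
      have : FreeGroup.map iotaGen ((L37K.a * L37K.f) * (((L37K.c * L37K.d) ^ 4)⁻¹)) =
          (ON.a * ON.f) * (((ON.c * ON.d) ^ 4)⁻¹) := by
        simp [map_mul, map_inv, map_pow, L37K.a, L37K.f, L37K.c, L37K.d, ON.a, ON.f, ON.c, ON.d,
          iotaGen]
      rw [this]
      show _ ∈ ON.extra
      simp [ON.extra]
  exact PresentedGroup.one_of_mem hmem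

/-- the hom `K → ON` -/
noncomputable def psiK : L37KGroup →* ONGroup :=
  PresentedGroup.toGroup (f := fun x : L37K.Gen => (PresentedGroup.of (iotaGen x) : ONGroup)) rels_map

@[simp] theorem psiK_of (x : L37K.Gen) :
    psiK (PresentedGroup.of x) = (PresentedGroup.of (iotaGen x) : ONGroup) :=
  PresentedGroup.toGroup.of _

theorem image_gens :
    (fun x : L37K.Gen => (PresentedGroup.of (iotaGen x) : ONGroup)) '' Set.univ =
      (PresentedGroup.mk onRels) ''
        ({ON.a, ON.b, ON.c, ON.d, ON.e, ON.f} : Set (FreeGroup ON.Gen)) := by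
  ext z
  constructor
  · rintro ⟨x, _, rfl⟩
    cases x
    · exact ⟨ON.a, by simp, rfl⟩
    · exact ⟨ON.b, by simp, rfl⟩
    · exact ⟨ON.c, by simp, rfl⟩
    · exact ⟨ON.d, by simp, rfl⟩
    · exact ⟨ON.e, by simp, rfl⟩
    · exact ⟨ON.f, by simp, rfl⟩
  · rintro ⟨w, hw, rfl⟩
    simp only [Set.mem_insert_iff, Set.mem_singleton_iff] at hw
    rcases hw with rfl | rfl | rfl | rfl | rfl | rfl
    · exact ⟨.a, trivial, rfl⟩
    · exact ⟨.b, trivial, rfl⟩
    · exact ⟨.c, trivial, rfl⟩
    · exact ⟨.d, trivial, rfl⟩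
    · exact ⟨.e, trivial, rfl⟩
    · exact ⟨.f, trivial, rfl⟩

theorem psiK_range : psiK.range = HSub := by
  rw [MonoidHom.range_eq_map, ← PresentedGroup.closure_range_of, MonoidHom.map_closure]
  show _ = (Subgroup.closure _).map (PresentedGroup.mk onRels)
  rw [MonoidHom.map_closure, ← image_gens]
  congr 1
  ext z
  constructor
  · rintro ⟨_, ⟨x, rfl⟩, rfl⟩
    exact ⟨x, trivial, (psiK_of x).symm⟩
  · rintro ⟨x, _, rfl⟩
    exact ⟨PresentedGroup.of x, ⟨x, rfl⟩, psiK_of x⟩

/-- (PHI) the hom from `K` onto `H`. -/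
noncomputable def phiK : L37KGroup →* ↥HSub :=
  psiK.codRestrict HSub (fun k => by rw [← psiK_range]; exact ⟨k, rfl⟩)

theorem phiK_coe (k : L37KGroup) : ((phiK k : ↥HSub) : ONGroup) = psiK k := rfl

theorem phiK_surjective : Function.Surjective phiK := by
  rintro ⟨h, hh⟩
  have hh' : h ∈ psiK.range := by rw [psiK_range]; exact hh
  obtain ⟨k, rfl⟩ := hh'
  exact ⟨k, Subtype.ext rfl⟩

end Cfsg.Agent.Helper13.L37
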