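import Mathlib
import Cfsg.Agent.Lib.Helper13.L37Card
import Cfsg.Agent.Lib.Helper13.L37Phi

/-!
# L37: S1693 from the four open inputs (card bound of `K`, `θ`, `Inn ≤ range`, an outer value, `2 < |H|`)
-/

set_option autoImplicit false

namespace Cfsg.Agent.Helper13.L37

open Cfsg Cfsg.Spor Cfsg.Agent.Helper28

/-- The conclusion of S1693, from: `K` finite of order at most `3753792`, a hom `θ : K →* Aut(PSL(3,7))`
whose range contains `Inn` and one outer automorphism, and `2 < |H|`. -/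
theorem s1693_of (hK : Finite L37KGroup ∧ Nat.card L37KGroup ≤ 3753792)
    (θ : L37KGroup →* MulAut (Matrix.ProjectiveSpecialLinearGroup (Fin 3) (ZMod 7)))
    (hInn : (MulAut.conj : Matrix.ProjectiveSpecialLinearGroup (Fin 3) (ZMod 7) →* _).range ≤ θ.range)
    (hout : ∃ k, θ k ∉ (MulAut.conj : Matrix.ProjectiveSpecialLinearGroup (Fin 3) (ZMod 7) →* _).range)
    (hH : 2 < Nat.card ↥HSub) :
    ∃ N : Subgroup (((Subgroup.closure ({Cfsg.Spor.ON.a, Cfsg.Spor.ON.b, Cfsg.Spor.ON.c, Cfsg.Spor.ON.d,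
      Cfsg.Spor.ON.e, Cfsg.Spor.ON.f} : Set (FreeGroup Cfsg.Spor.ON.Gen))).map
        (PresentedGroup.mk (Cfsg.Spor.coxRelators Cfsg.Spor.ON.edges ∪ {r | r ∈ Cfsg.Spor.ON.extra})))),
      N.Normal ∧ N.index = 2 ∧
        Nonempty (N ≃* Matrix.ProjectiveSpecialLinearGroup (Fin 3) (ZMod 7)) := by
  have := hK.1
  exact exists_index_two_psl37 θ hInn hout hK.2 phiK phiK_surjective hH

end Cfsg.Agent.Helper13.L37
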