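import Mathlib
import Cfsg.Agent.Lib.Helper54.O5760BDefs

/-!
# N96 (L1) `ln_smul` and (L9) `lines_smul` (helper54's server, S0980)
-/

set_option autoImplicit false

namespace Cfsg.Agent.Helper13.N96

open Cfsg MulAction Cfsg.Agent.Helper54.O5760B

universe u

section Lines

variable {G : Type u} [Group G] [Finite G] {x r : G} {M : Subgroup G}

theorem ln_smul (x : G) (M : Subgroup G) (g a b : G) :
    (fun p : G ⧸ M => g • p) '' ln x M a b = ln x M (g * a) (g * b) := by
  have key : ∀ i : ℕ, g * (a * x ^ i * a⁻¹ * b) = (g * a) * x ^ i * (g * a)⁻¹ * (g * b) := by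
    intro i; group
  ext p
  constructor
  · rintro ⟨q, hq, rfl⟩
    rcases hq with rfl | ⟨i, rfl⟩
    · left
      exact MulAction.Quotient.smul_mk M g a
    · right
      refine ⟨i, ?_⟩
      rw [← key i]
      exact MulAction.Quotient.smul_mk M g _
  · rintro (rfl | ⟨i, rfl⟩)
    · exact ⟨((a : G) : G ⧸ M), Or.inl rfl, MulAction.Quotient.smul_mk M g a⟩
    · refine ⟨((a * x ^ i * a⁻¹ * b : G) : G ⧸ M), Or.inr ⟨i, rfl⟩, ?_⟩
      rw [← key i]
      exact MulAction.Quotient.smul_mk M g _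

theorem lines_smul (x : G) (M : Subgroup G)
    (hsmul : ∀ g a b : G, (fun p : G ⧸ M => g • p) '' ln x M a b = ln x M (g * a) (g * b))
    (g : G) (ℓ : Set (G ⧸ M)) (hℓ : ℓ ∈ lines x M) :
    (fun p : G ⧸ M => g • p) '' ℓ ∈ lines x M := by
  obtain ⟨a, b, hab, rfl⟩ := hℓ
  refine ⟨g * a, g * b, ?_, hsmul g a b⟩
  intro h
  apply hab
  have h1 : g • ((a : G) : G ⧸ M) = g • ((b : G) : G ⧸ M) := by
    rw [MulAction.Quotient.smul_mk, MulAction.Quotient.smul_mk]; exact h
  exact (MulAction.injective g) h1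

end Lines

end Cfsg.Agent.Helper13.N96
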