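import Mathlib
import Cfsg.Agent.Lib.Helper54.O5760BDefs

/-!
# N96 (L7) `exists_unique_line` (helper54's server, S0980)
-/

set_option autoImplicit false

namespace Cfsg.Agent.Helper13.N96

open Cfsg MulAction Cfsg.Agent.Helper54.O5760B

universe u

section Lines

variable {G : Type u} [Group G] [Finite G] {x r : G} {M : Subgroup G}

theorem exists_unique_line (x : G) (M : Subgroup G)
    (hcongr : ∀ a a' b b' : G, ((a : G) : G ⧸ M) = ((a' : G) : G ⧸ M) →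
      ((b : G) : G ⧸ M) = ((b' : G) : G ⧸ M) → ln x M a b = ln x M a' b')
    (hsymm : ∀ a b : G, ((a : G) : G ⧸ M) ≠ ((b : G) : G ⧸ M) → ln x M a b = ln x M b a)
    (hmem : ∀ a b d : G, ((d : G) : G ⧸ M) ∈ ln x M a b → ((d : G) : G ⧸ M) ≠ ((a : G) : G ⧸ M) →
      ln x M a d = ln x M a b)
    (p q : G ⧸ M) (hpq : p ≠ q) : ∃! ℓ : Set (G ⧸ M), ℓ ∈ lines x M ∧ p ∈ ℓ ∧ q ∈ ℓ := by
  obtain ⟨a, rfl⟩ := QuotientGroup.mk_surjective p
  obtain ⟨b, rfl⟩ := QuotientGroup.mk_surjective q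
  have hamem : ∀ a b : G, ((a : G) : G ⧸ M) ∈ ln x M a b := fun a b => Or.inl rfl
  have hbmem : ∀ a b : G, ((b : G) : G ⧸ M) ∈ ln x M a b := fun a b =>
    Or.inr ⟨0, by simp⟩
  refine ⟨ln x M a b, ⟨⟨a, b, hpq, rfl⟩, hamem a b, hbmem a b⟩, ?_⟩
  rintro ℓ ⟨⟨c, d, hcd, rfl⟩, haℓ, hbℓ⟩
  by_cases hac : ((a : G) : G ⧸ M) = ((c : G) : G ⧸ M)
  · -- ln c d = ln a d = ln a b
    have h1 : ln x M c d = ln x M a d := hcongr c a d d hac.symm rfl
    rw [h1] at hbℓ ⊢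
    exact (hmem a d b hbℓ (Ne.symm hpq)).symm
  · -- ln c d = ln c a = ln a c = ln a b
    have h1 : ln x M c a = ln x M c d := hmem c d a haℓ hac
    have h2 : ln x M c a = ln x M a c := hsymm c a (Ne.symm hac)
    have hb' : ((b : G) : G ⧸ M) ∈ ln x M a c := by rw [← h2, h1]; exact hbℓ
    have h3 : ln x M a b = ln x M a c := hmem a c b hb' (Ne.symm hpq)
    rw [← h1, h2, h3]

end Lines

end Cfsg.Agent.Helper13.N96
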