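import Mathlib
import Cfsg.Agent.S1017
import Cfsg.Agent.Lib.Helper54.O5760BDefs

/-!
# N96 (P1) `ns96` (helper54's server, S0980)
-/

set_option autoImplicit false

namespace Cfsg.Agent.Helper13.N96

open Cfsg MulAction Cfsg.Agent.Helper54.O5760B

universe u

section Sylow

variable {G : Type u} [Group G] [Finite G] [IsSimpleGroup G]

theorem ns96 (hG : Nat.card G = 5760) (h96 : Nat.card (Sylow 5 G) = 96) (R : Sylow 5 G) :
    Nat.card (R : Subgroup G) = 5 ∧
    Nat.card (Subgroup.normalizer ((R : Subgroup G) : Set G)) = 60 ∧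
    (Nat.card (Subgroup.centralizer ((R : Subgroup G) : Set G)) = 15 ∨
     Nat.card (Subgroup.centralizer ((R : Subgroup G) : Set G)) = 30) := by
  have : Fact (Nat.Prime 5) := ⟨by norm_num⟩
  have hR : Nat.card (R : Subgroup G) = 5 := by
    have := Cfsg.Agent.S1017.sylow_card_eq R 1 1152 (by rw [hG]; norm_num) (by norm_num)
    simpa using this
  have hN : Nat.card (Subgroup.normalizer ((R : Subgroup G) : Set G)) = 60 := by
    have h := Cfsg.Agent.S1017.card_sylow_mul_card_normalizer R
    rw [h96, hG] at h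
    omega
  obtain ⟨k, c, hk, hk1, hC, hN'⟩ :=
    Cfsg.Agent.S1017.normalizer_structure R hR (by rw [hG]; norm_num)
  refine ⟨hR, hN, ?_⟩
  rw [hN] at hN'
  rw [hC]
  have hk4 : k ∣ 4 := by simpa using hk
  have hkle : k ≤ 4 := Nat.le_of_dvd (by norm_num) hk4
  interval_cases k
  · simp at hk4
  · exact absurd rfl hk1
  · right; omega
  · norm_num at hk4
  · left; omega

end Sylow

end Cfsg.Agent.Helper13.N96
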