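import Mathlib
import Cfsg.Agent.S1017
import Cfsg.Agent.Lib.Helper17.SylowCount

/-!
# O4320 (B1a) `b1_setup` (helper50's server, S0977)
-/

set_option autoImplicit false

namespace Cfsg.Agent.Helper13.O4320

open Cfsg MulAction

universe u

section GT

variable {G : Type u} [Group G] [Finite G] [IsSimpleGroup G]

/-- conjugating by an element of the normalizer preserves the centralizer. -/
theorem conj_mem_centralizer_of_mem_normalizer {G : Type u} [Group G] (H : Subgroup G) (g w : G)
    (hg : g ∈ Subgroup.normalizer (H : Set G)) (hw : w ∈ Subgroup.centralizer (H : Set G)) :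
    g * w * g⁻¹ ∈ Subgroup.centralizer (H : Set G) := by
  rw [Subgroup.mem_centralizer_iff] at hw ⊢
  intro h hh
  have hh' : g⁻¹ * h * g ∈ H := by
    have := (Subgroup.mem_normalizer_iff'' (H := H)).1 hg h
    exact this.1 hh
  have := hw (g⁻¹ * h * g) hh'
  have e1 : h * (g * w * g⁻¹) = g * ((g⁻¹ * h * g) * w) * g⁻¹ := by group
  have e2 : g * w * g⁻¹ * h = g * (w * (g⁻¹ * h * g)) * g⁻¹ := by group
  rw [e1, e2, this]

theorem b1_setup (hG : Nat.card G = 4320) (h216 : Nat.card (Sylow 5 G) = 216) (R : Sylow 5 G)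
    (hC : Nat.card (Subgroup.centralizer ((R : Subgroup G) : Set G)) = 10) :
    ∃ u : G, orderOf u = 2 ∧ u ∈ Subgroup.centralizer ((R : Subgroup G) : Set G) ∧
      Subgroup.normalizer ((R : Subgroup G) : Set G) ≤ Subgroup.centralizer ({u} : Set G) ∧
      ∀ w ∈ Subgroup.centralizer ((R : Subgroup G) : Set G), orderOf w = 2 → w = u := by
  have : Fact (Nat.Prime 5) := ⟨by norm_num⟩
  have hR : Nat.card (R : Subgroup G) = 5 := by
    have := Cfsg.Agent.S1017.sylow_card_eq R 1 864 (by rw [hG]; norm_num) (by norm_num)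
    simpa using this
  -- Cauchy
  have h2 : 2 ∣ Nat.card (Subgroup.centralizer ((R : Subgroup G) : Set G)) := by rw [hC]; norm_num
  obtain ⟨u0, hu0⟩ := exists_prime_orderOf_dvd_card' (G := Subgroup.centralizer ((R : Subgroup G) : Set G)) 2 h2
  have huo : orderOf (u0 : G) = 2 := by rw [Subgroup.orderOf_coe]; exact hu0
  have huniq : ∀ w ∈ Subgroup.centralizer ((R : Subgroup G) : Set G), orderOf w = 2 → w = (u0 : G) := by
    intro w hw hw2
    have hw2' : w ^ 2 = 1 := by rw [← hw2]; exact pow_orderOf_eq_one w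
    have hmem := Cfsg.Agent.Helper17.SylowCount.mem_zpowers_of_pow_eq_one (p := 5) (r := 2) Nat.prime_two
      (by norm_num) (R : Subgroup G) hR (by rw [hC]) (u0 : G) u0.2 huo w hw hw2'
    obtain ⟨k, hk⟩ := Subgroup.mem_zpowers_iff.1 hmem
    -- u0 ^ k with orderOf u0 = 2 : either 1 or u0
    have hu2 : (u0 : G) ^ (2 : ℤ) = 1 := by
      have : (u0 : G) ^ 2 = 1 := by rw [← huo]; exact pow_orderOf_eq_one _
      exact_mod_cast this
    rcases Int.emod_two_eq_zero_or_one k with h0 | h1
    · exfalso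
      have hk2 : k = 2 * (k / 2) := by omega
      have : w = 1 := by
        rw [← hk, hk2, zpow_mul, hu2, one_zpow]
      rw [this, orderOf_one] at hw2
      omega
    · have hk2 : k = 2 * (k / 2) + 1 := by omega
      rw [← hk, hk2, zpow_add, zpow_mul, hu2, one_zpow, one_mul, zpow_one]
  refine ⟨(u0 : G), huo, u0.2, ?_, huniq⟩
  intro g hg
  rw [Subgroup.mem_centralizer_iff]
  intro x hx
  rw [Set.mem_singleton_iff] at hx
  subst hx
  have hc := conj_mem_centralizer_of_mem_normalizer (R : Subgroup G) g (u0 : G) hg u0.2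
  have ho : orderOf (g * (u0 : G) * g⁻¹) = 2 := by
    have := (MulAut.conj g).orderOf_eq (u0 : G)
    simp only [MulAut.conj_apply] at this
    rw [this]; exact huo
  have := huniq _ hc ho
  -- g * u * g⁻¹ = u  →  u * g = g * u
  calc (u0 : G) * g = (g * (u0 : G) * g⁻¹) * g := by rw [this]
    _ = g * (u0 : G) := by group

end GT

end Cfsg.Agent.Helper13.O4320
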