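import Mathlib
import Cfsg.Agent.S1017
import Cfsg.Agent.Lib.Helper54.O5760BDefs
import Cfsg.Agent.Lib.Helper13.O4320B1a

/-!
# N96 (P2) `exists_x` (helper54's server, S0980)
-/

set_option autoImplicit false

namespace Cfsg.Agent.Helper13.N96

open Cfsg MulAction Cfsg.Agent.Helper54.O5760B

universe u

section Sylow

variable {G : Type u} [Group G] [Finite G] [IsSimpleGroup G]

theorem exists_x (R : Sylow 5 G) (hR : Nat.card (R : Subgroup G) = 5)
    (hC : Nat.card (Subgroup.centralizer ((R : Subgroup G) : Set G)) = 15 ∨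
      Nat.card (Subgroup.centralizer ((R : Subgroup G) : Set G)) = 30) :
    ∃ x : G, orderOf x = 3 ∧ x ∈ Subgroup.centralizer ((R : Subgroup G) : Set G) ∧
      ∀ n ∈ Subgroup.normalizer ((R : Subgroup G) : Set G), n * x * n⁻¹ ∈ Subgroup.zpowers x := by
  have : Fact (Nat.Prime 5) := ⟨by norm_num⟩
  have : Fact (Nat.Prime 3) := ⟨by norm_num⟩
  set C := Subgroup.centralizer ((R : Subgroup G) : Set G) with hCdef
  -- Cauchy
  have h3 : 3 ∣ Nat.card C := by rcases hC with h | h <;> rw [h] <;> norm_num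
  obtain ⟨x0, hx0⟩ := exists_prime_orderOf_dvd_card' (G := C) 3 h3
  have hxo : orderOf (x0 : G) = 3 := by rw [Subgroup.orderOf_coe]; exact hx0
  -- a generator k of R
  obtain ⟨k, hk, hk1⟩ : ∃ k ∈ (R : Subgroup G), k ≠ 1 := by
    have h1 : 1 < Nat.card (R : Subgroup G) := by rw [hR]; norm_num
    rw [Subgroup.one_lt_card_iff_ne_bot] at h1
    obtain ⟨k, hk⟩ := (Subgroup.ne_bot_iff_exists_ne_one (H := (R : Subgroup G))).1 h1
    exact ⟨(k : G), k.2, fun h => hk (Subtype.ext h)⟩
  obtain ⟨hzk, hko⟩ := Cfsg.Agent.S1017.zpowers_eq_of_card_prime (R : Subgroup G) hR k hk hk1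
  have hkC : k ∈ C := Cfsg.Agent.S1017.le_centralizer_self R hR hk
  have hcomm : Commute k (x0 : G) := Subgroup.mem_centralizer_iff.1 x0.2 k hk
  have hcop : Nat.Coprime (orderOf k) (orderOf (x0 : G)) := by rw [hko, hxo]; norm_num
  have hord : orderOf (k * (x0 : G)) = 15 := by
    rw [hcomm.orderOf_mul_eq_mul_orderOf_of_coprime hcop, hko, hxo]
  set A : Subgroup G := Subgroup.zpowers (k * (x0 : G)) with hA
  have hAcard : Nat.card A = 15 := by rw [hA, Nat.card_zpowers, hord]
  have hAC : A ≤ C := Subgroup.zpowers_le.2 (C.mul_mem hkC x0.2)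
  -- every y ∈ C with y ^ 3 = 1 lies in A
  have hmemA : ∀ y ∈ C, y ^ 3 = 1 → y ∈ A := by
    intro y hy hy3
    rcases hC with h15 | h30
    · have : A = C := Subgroup.eq_of_le_of_card_ge hAC (by rw [hAcard, h15])
      rw [this]; exact hy
    · have hidx : (A.subgroupOf C).index = 2 := by
        have h := (A.subgroupOf C).card_mul_index
        have hcardsub : Nat.card (A.subgroupOf C) = 15 := by
          rw [← hAcard]
          exact Nat.card_congr (Subgroup.subgroupOfEquivOfLe hAC).toEquiv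
        rw [hcardsub, h30] at h
        omega
      have hsq := Subgroup.mul_self_mem_of_index_two hidx (⟨y, hy⟩ : C)
      have hyy : y * y ∈ A := by
        have := Subgroup.mem_subgroupOf.1 hsq
        simpa using this
      have : y = (y * y) * (y * y) := by
        have : (y * y) * (y * y) = y ^ 3 * y := by
          rw [pow_succ, pow_two]; simp only [mul_assoc]
        rw [this, hy3, one_mul]
      rw [this]
      exact A.mul_mem hyy hyy
  -- elements of A with cube 1 are powers of x0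
  have hpow : ∀ y ∈ A, y ^ 3 = 1 → y ∈ Subgroup.zpowers (x0 : G) := by
    intro y hy hy3
    obtain ⟨j, hj⟩ := (Subgroup.mem_zpowers_iff).1 hy
    have h1 : (k * (x0 : G)) ^ (j * (3 : ℤ)) = 1 := by
      rw [zpow_mul, hj]; exact_mod_cast hy3
    have h2 : ((15 : ℕ) : ℤ) ∣ j * (3 : ℤ) := by
      rw [← hord]; exact orderOf_dvd_iff_zpow_eq_one.2 h1
    have h3' : (5 : ℤ) ∣ j := by
      have : ((5 : ℤ) * 3) ∣ j * 3 := by simpa using h2
      exact (mul_dvd_mul_iff_right (by norm_num : (3 : ℤ) ≠ 0)).1 this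
    obtain ⟨i, rfl⟩ := h3'
    rw [← hj, hcomm.mul_zpow, zpow_mul]
    have hk5 : k ^ (5 : ℤ) = 1 := by
      have : k ^ 5 = 1 := by rw [← hko]; exact pow_orderOf_eq_one k
      exact_mod_cast this
    rw [hk5, one_zpow, one_mul]
    exact Subgroup.zpow_mem_zpowers _ _
  refine ⟨(x0 : G), hxo, x0.2, ?_⟩
  intro n hn
  have hyC : n * (x0 : G) * n⁻¹ ∈ C :=
    Cfsg.Agent.Helper13.O4320.conj_mem_centralizer_of_mem_normalizer (R : Subgroup G) n (x0 : G) hn x0.2
  have hy3 : (n * (x0 : G) * n⁻¹) ^ 3 = 1 := by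
    rw [conj_pow]
    have : (x0 : G) ^ 3 = 1 := by rw [← hxo]; exact pow_orderOf_eq_one _
    rw [this]; group
  exact hpow _ (hmemA _ hyC hy3) hy3

end Sylow

end Cfsg.Agent.Helper13.N96
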