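import Mathlib
import Cfsg.Agent.Lib.Helper17.Simple
import Cfsg.Agent.Lib.Helper17.SylowLink

/-!
# Order 459648 (S1022, helper53's proof): the endgame (B4)

`G` simple of order `459648 = 2^7·3^3·7·19`, `P` a Sylow 19-subgroup with `|N_G(P)| = 456`,
`V ≤ C_G(P)` of order 4 with `N_G(V) = N_G(P)`.  Contradiction.
-/

set_option autoImplicit false

namespace Cfsg.Agent.Helper13.O459648

open Subgroup

/-- a subgroup of index 2 (by cardinality) is normalised, and membership of products is decided
by parity -/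
theorem index_two_step {G : Type*} [Group G] [Finite G] (X K : Subgroup G) (hXK : X ≤ K)
    (hcard : Nat.card K = 2 * Nat.card X) :
    K ≤ Subgroup.normalizer (X : Set G) ∧
      (∀ a b : G, a ∈ K → b ∈ K → (a * b ∈ X ↔ (a ∈ X ↔ b ∈ X))) := by
  have hidx : (X.subgroupOf K).index = 2 := by
    have h1 := (X.subgroupOf K).card_mul_index
    have h2 : Nat.card (X.subgroupOf K) = Nat.card X :=
      Nat.card_congr (Subgroup.subgroupOfEquivOfLe hXK).toEquiv
    rw [h2, hcard] at h1
    have hpos : 0 < Nat.card X := Nat.card_pos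
    have : Nat.card X * (X.subgroupOf K).index = Nat.card X * 2 := by rw [h1]; ring
    exact Nat.eq_of_mul_eq_mul_left hpos this
  refine ⟨?_, ?_⟩
  · haveI : (X.subgroupOf K).Normal := Subgroup.normal_of_index_eq_two hidx
    exact Subgroup.le_normalizer_of_normal_subgroupOf hXK
  · intro a b ha hb
    have := Subgroup.mul_mem_iff_of_index_two hidx (a := (⟨a, ha⟩ : K)) (b := ⟨b, hb⟩)
    simpa [Subgroup.mem_subgroupOf] using this

theorem relIndex_eq_two {G : Type*} [Group G] [Finite G] (X K : Subgroup G) (hXK : X ≤ K)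
    (hcard : Nat.card K = 2 * Nat.card X) : X.relIndex K = 2 := by
  have h1 := (X.subgroupOf K).card_mul_index
  have h2 : Nat.card (X.subgroupOf K) = Nat.card X :=
    Nat.card_congr (Subgroup.subgroupOfEquivOfLe hXK).toEquiv
  rw [h2, hcard] at h1
  have hpos : 0 < Nat.card X := Nat.card_pos
  have : Nat.card X * (X.subgroupOf K).index = Nat.card X * 2 := by rw [h1]; ring
  exact Nat.eq_of_mul_eq_mul_left hpos this

theorem card_mul_relIndex' {G : Type*} [Group G] [Finite G] (X K : Subgroup G) (hXK : X ≤ K) :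
    Nat.card X * X.relIndex K = Nat.card K := by
  have h1 := (X.subgroupOf K).card_mul_index
  have h2 : Nat.card (X.subgroupOf K) = Nat.card X :=
    Nat.card_congr (Subgroup.subgroupOfEquivOfLe hXK).toEquiv
  rw [h2] at h1
  exact h1

theorem sylow_div_aux : ∀ k < 160, (19 * k + 1) ∣ 3024 → k = 0 ∨ k = 53 := by decide

/-- **(B4) endgame.** -/
theorem endgame {G : Type*} [Group G] [Finite G] [IsSimpleGroup G] (hG : Nat.card G = 459648)
    (P : Sylow 19 G) (hN : Nat.card (Subgroup.normalizer ((P : Subgroup G) : Set G)) = 456)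
    (V : Subgroup G) (hV4 : Nat.card V = 4)
    (hVC : V ≤ Subgroup.centralizer ((P : Subgroup G) : Set G))
    (hNV : Subgroup.normalizer (V : Set G) = Subgroup.normalizer ((P : Subgroup G) : Set G)) :
    False := by
  classical
  haveI : Fact (Nat.Prime 2) := ⟨Nat.prime_two⟩
  haveI : Fact (Nat.Prime 19) := ⟨by norm_num⟩
  set N := Subgroup.normalizer ((P : Subgroup G) : Set G) with hNdef
  obtain ⟨S0, hS0c, hVS0⟩ := Sylow.exists_subgroup_card_pow_succ (p := 2) (n := 2)
    (by rw [hG]; norm_num) (H := V) (by rw [hV4]; norm_num)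
  obtain ⟨K2, hK2c, hS0K2⟩ := Sylow.exists_subgroup_card_pow_succ (p := 2) (n := 3)
    (by rw [hG]; norm_num) (H := S0) hS0c
  obtain ⟨hS0N', hparV⟩ := index_two_step V S0 hVS0 (by rw [hS0c, hV4]; norm_num)
  have hS0N : S0 ≤ N := by rw [← hNV]; exact hS0N'
  obtain ⟨hK2n, hparS⟩ := index_two_step S0 K2 hS0K2 (by rw [hK2c, hS0c]; norm_num)
  -- the element `g`
  obtain ⟨g, hgK, hgS⟩ : ∃ g ∈ K2, g ∉ S0 := by
    by_contra h
    push Not at h
    have h1 : K2 ≤ S0 := h
    have h2 := Subgroup.card_le_of_le h1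
    rw [hK2c, hS0c] at h2
    norm_num at h2
  have hg2 : g * g ∈ S0 := (hparS g g hgK hgK).2 Iff.rfl
  have hgN : g ∉ N := by
    intro hgN
    have hK2N : K2 ≤ N := by
      intro k hk
      by_cases hkS : k ∈ S0
      · exact hS0N hkS
      · have h1 : g⁻¹ * k ∈ S0 := by
          rw [hparS g⁻¹ k (K2.inv_mem hgK) hk]
          constructor
          · intro h
            exact absurd (by simpa using S0.inv_mem h) hgS
          · intro h
            exact absurd h hkS
        have h2 : k = g * (g⁻¹ * k) := by group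
        rw [h2]
        exact N.mul_mem hgN (hS0N h1)
    have h3 := Subgroup.card_dvd_of_le hK2N
    rw [hK2c, hN] at h3
    norm_num at h3
  -- `g` normalises `S0`
  have hgS0 : ∀ h, h ∈ S0 ↔ g * h * g⁻¹ ∈ S0 := Subgroup.mem_normalizer_iff.1 (hK2n hgK)
  -- the conjugate `Vg`
  set Vg : Subgroup G := V.map (MulAut.conj g).toMonoidHom with hVg
  have hmemVg : ∀ y, y ∈ Vg ↔ ∃ x ∈ V, g * x * g⁻¹ = y := by
    intro y
    rw [hVg, Subgroup.mem_map]
    rfl
  have hVgS0 : Vg ≤ S0 := by
    intro y hy
    obtain ⟨x, hx, rfl⟩ := (hmemVg y).1 hy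
    exact (hgS0 x).1 (hVS0 hx)
  have hVgc : Nat.card Vg = 4 := by
    rw [hVg, Subgroup.card_map_of_injective (MulAut.conj g).injective, hV4]
  have hVgne : Vg ≠ V := by
    intro h
    apply hgN
    rw [← hNV, Subgroup.mem_normalizer_iff]
    intro x
    constructor
    · intro hx
      rw [← h]
      exact (hmemVg _).2 ⟨x, hx, rfl⟩
    · intro hx
      rw [← h] at hx
      obtain ⟨x', hx', he⟩ := (hmemVg _).1 hx
      have : x' = x := by
        have := congrArg (fun t => g⁻¹ * t * g) he
        simpa [mul_assoc] using this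
      rwa [← this]
  -- normality in `S0`
  have hVn : ∀ s ∈ S0, ∀ x, x ∈ V ↔ s * x * s⁻¹ ∈ V := fun s hs =>
    Subgroup.mem_normalizer_iff.1 (hS0N' hs)
  have hginv : ∀ s ∈ S0, g⁻¹ * s * g ∈ S0 := by
    intro s hs
    rw [hgS0]
    have : g * (g⁻¹ * s * g) * g⁻¹ = s := by group
    rwa [this]
  have hVgn : ∀ s ∈ S0, ∀ y ∈ Vg, s * y * s⁻¹ ∈ Vg := by
    intro s hs y hy
    obtain ⟨x, hx, rfl⟩ := (hmemVg y).1 hy
    refine (hmemVg _).2 ⟨(g⁻¹ * s * g) * x * (g⁻¹ * s * g)⁻¹, ?_, by group⟩
    exact (hVn _ (hginv s hs) x).1 hx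
  set Z : Subgroup G := V ⊓ Vg with hZ
  have hZn : ∀ s ∈ S0, ∀ x ∈ Z, s * x * s⁻¹ ∈ Z := by
    intro s hs x hx
    exact ⟨(hVn s hs x).1 hx.1, hVgn s hs x hx.2⟩
  -- `|Z| = 2`
  have hZc : Nat.card Z = 2 := by
    have h1 : Z.relIndex V = Vg.relIndex V := Subgroup.inf_relIndex_left V Vg
    have h2 : Vg.relIndex S0 = 2 := relIndex_eq_two Vg S0 hVgS0 (by rw [hS0c, hVgc]; norm_num)
    have h3 : Vg.relIndex V ≤ Vg.relIndex S0 :=
      Subgroup.relIndex_le_of_le_right hVS0 (by rw [h2]; norm_num)
    have h4 := card_mul_relIndex' Z V inf_le_left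
    rw [hV4, h1] at h4
    have h5 : Vg.relIndex V ≤ 2 := by rw [← h2]; exact h3
    have h6 : Nat.card Z ≠ 4 := by
      intro h
      have hZV : Z = V := Subgroup.eq_of_le_of_card_ge inf_le_left (by rw [h, hV4])
      have hVVg : V ≤ Vg := by rw [← hZV]; exact inf_le_right
      have : V = Vg := Subgroup.eq_of_le_of_card_ge hVVg (by rw [hVgc, hV4])
      exact hVgne this.symm
    have h7 : Vg.relIndex V ≠ 0 := by
      intro h; rw [h, mul_zero] at h4; norm_num at h4
    interval_cases hr : Vg.relIndex V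
    · exact absurd rfl h7
    · omega
    · omega
  -- the involution `z`
  obtain ⟨z, hzZ, hz1, hzall⟩ : ∃ z ∈ Z, z ≠ 1 ∧ ∀ x ∈ Z, x = 1 ∨ x = z := by
    obtain ⟨⟨z, hz⟩, hz1, huniq⟩ := (Nat.card_eq_two_iff' (1 : Z)).1 hZc
    refine ⟨z, hz, fun h => hz1 (Subtype.ext h), fun x hx => ?_⟩
    by_cases hx1 : x = 1
    · exact Or.inl hx1
    · right
      have := huniq ⟨x, hx⟩ (fun h => hx1 (congrArg Subtype.val h))
      exact congrArg Subtype.val this
  have hconj_ne : ∀ a : G, a * z * a⁻¹ ≠ 1 := by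
    intro a h
    apply hz1
    have : z = a⁻¹ * (a * z * a⁻¹) * a := by group
    rw [this, h]; group
  have hzS0 : ∀ s ∈ S0, s * z * s⁻¹ = z := by
    intro s hs
    rcases hzall _ (hZn s hs z hzZ) with h | h
    · exact absurd h (hconj_ne s)
    · exact h
  have hzg : g * z * g⁻¹ = z := by
    have hmem : g * z * g⁻¹ ∈ Z := by
      refine ⟨?_, (hmemVg _).2 ⟨z, hzZ.1, rfl⟩⟩
      obtain ⟨x, hx, hxe⟩ := (hmemVg z).1 hzZ.2
      have : g * z * g⁻¹ = (g * g) * x * (g * g)⁻¹ := by rw [← hxe]; group
      rw [this]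
      exact (hVn _ hg2 x).1 hx
    rcases hzall _ hmem with h | h
    · exact absurd h (hconj_ne g)
    · exact h
  -- the centraliser `L`
  set L : Subgroup G := Subgroup.centralizer {z} with hL
  have hmemL : ∀ a : G, a * z * a⁻¹ = z → a ∈ L := by
    intro a ha
    rw [hL, Subgroup.mem_centralizer_iff]
    intro h hh
    rw [Set.mem_singleton_iff] at hh
    rw [hh]
    have : a * z = z * a := by
      have := congrArg (fun t => t * a) ha
      simpa [mul_assoc] using this
    exact this.symm
  have hS0L : S0 ≤ L := fun s hs => hmemL s (hzS0 s hs)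
  have hgL : g ∈ L := hmemL g hzg
  have hPL : (P : Subgroup G) ≤ L := by
    intro x hx
    have hzc := hVC hzZ.1
    rw [Subgroup.mem_centralizer_iff] at hzc
    have := hzc x hx
    apply hmemL
    rw [this]; group
  -- Sylow counting in `L`
  set X : Subgroup G := N ⊓ L with hX
  have hcount : Nat.card (Sylow 19 L) * Nat.card X = Nat.card L := by
    have h1 : Nat.card (Sylow 19 L) = (Subgroup.normalizer
        (((P.subtype hPL : Sylow 19 ↥L) : Subgroup ↥L) : Set ↥L)).index :=
      (P.subtype hPL).card_eq_index_normalizer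
    have h2 := Cfsg.Agent.Helper17.card_normalizer_subtype L P hPL
    have h3 := (Subgroup.normalizer
      (((P.subtype hPL : Sylow 19 ↥L) : Subgroup ↥L) : Set ↥L)).index_mul_card
    rw [← h1, h2] at h3
    exact h3
  have hmod : Nat.card (Sylow 19 L) % 19 = 1 := by
    have := card_sylow_modEq_one 19 L
    rw [Nat.ModEq] at this
    simpa using this
  have hP19 : Nat.card (P : Subgroup G) = 19 := by
    have := Cfsg.Agent.Helper17.sylow_card_eq P (k := 1) (m := 24192) (by rw [hG]; norm_num) (by norm_num)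
    simpa using this
  have hX19 : 19 ∣ Nat.card X := by
    rw [← hP19]
    exact Subgroup.card_dvd_of_le (le_inf Subgroup.le_normalizer hPL)
  have hX8 : 8 ∣ Nat.card X := by
    have : Nat.card S0 = 8 := by rw [hS0c]; norm_num
    rw [← this]
    exact Subgroup.card_dvd_of_le (le_inf hS0N hS0L)
  have hX152 : 152 ∣ Nat.card X := by
    have : Nat.Coprime 19 8 := by norm_num
    have := this.mul_dvd_of_dvd_of_dvd hX19 hX8
    simpa using this
  have hXN : Nat.card X ∣ 456 := by
    rw [← hN]
    exact Subgroup.card_dvd_of_le inf_le_left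
  have hLG : Nat.card L ∣ 459648 := by
    rw [← hG]; exact Subgroup.card_subgroup_dvd_card L
  obtain ⟨t, ht⟩ := hX152
  have ht0 : t ≠ 0 := by
    intro h; rw [h, mul_zero] at ht
    have : 0 < Nat.card X := Nat.card_pos
    omega
  set n := Nat.card (Sylow 19 L) with hn
  have hn3024 : n ∣ 3024 := by
    rw [← hcount, ht] at hLG
    have h1 : n * (152 * t) = 152 * (n * t) := by ring
    rw [h1] at hLG
    have h2 : (459648 : ℕ) = 152 * 3024 := by norm_num
    rw [h2] at hLG
    have h3 : n * t ∣ 3024 := Nat.dvd_of_mul_dvd_mul_left (by norm_num) hLG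
    exact Dvd.dvd.trans (Dvd.intro _ rfl) h3
  have hncases : n = 1 ∨ n = 1008 := by
    have hnle : n ≤ 3024 := Nat.le_of_dvd (by norm_num) hn3024
    obtain ⟨k, hk⟩ : ∃ k, n = 19 * k + 1 := ⟨n / 19, by omega⟩
    have hk160 : k < 160 := by omega
    rw [hk] at hn3024
    rcases sylow_div_aux k hk160 hn3024 with h | h
    · left; omega
    · right; omega
  rcases hncases with h1 | h1008
  · -- `L ≤ N`
    rw [h1, one_mul] at hcount
    have hXL : X = L := Subgroup.eq_of_le_of_card_ge inf_le_right (by rw [hcount])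
    have : g ∈ X := by rw [hXL]; exact hgL
    exact hgN this.1
  · -- index at most 3
    have hnc : ¬ IsMulCommutative G := Cfsg.Agent.Helper17.not_comm_of_not_prime (by rw [hG]; norm_num)
    have hLtop : L ≠ ⊤ := by
      intro htop
      apply hnc
      have hzcen : z ∈ Subgroup.center G := by
        rw [Subgroup.mem_center_iff]
        intro a
        have ha : a ∈ L := by rw [htop]; trivial
        rw [hL, Subgroup.mem_centralizer_iff] at ha
        exact (ha z rfl).symm
      have hcen : Subgroup.center G = ⊤ := by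
        rcases (inferInstance : (Subgroup.center G).Normal).eq_bot_or_eq_top with h | h
        · rw [h, Subgroup.mem_bot] at hzcen
          exact absurd hzcen hz1
        · exact h
      refine ⟨⟨fun a b => ?_⟩⟩
      have ha : a ∈ Subgroup.center G := by rw [hcen]; trivial
      rw [Subgroup.mem_center_iff] at ha
      exact (ha b).symm
    have hfac := Cfsg.Agent.Helper17.two_mul_card_dvd_factorial hnc L hLtop
    have hidx := L.card_mul_index
    rw [← hcount, h1008, ht, hG] at hidx
    have hidx3 : L.index ≤ 3 := by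
      have : 1008 * (152 * t) * L.index = 459648 := hidx
      have ht1 : 1 ≤ t := Nat.one_le_iff_ne_zero.2 ht0
      nlinarith
    have hfac2 : (L.index).factorial ≤ 6 := by
      have h33 : Nat.factorial 3 = 6 := rfl
      have := Nat.factorial_le hidx3
      rwa [h33] at this
    have h0 : 0 < (L.index).factorial := Nat.factorial_pos _
    have := Nat.le_of_dvd h0 hfac
    rw [hG] at this
    omega

end Cfsg.Agent.Helper13.O459648
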