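import Mathlib
import Cfsg.Agent.S0795
import Cfsg.Agent.Lib.Helper14.WittQuad

/-!
# Eichler transformations inside the isometry group of a quadratic form

`eichO Q u w` (the Eichler transformation with `u` singular and `w ⊥ u`) as an element of
`Cfsg.isometryGroup F ⇑Q`, the subgroup `EK Q` they generate, and the inclusion `Ω(Q) ≤ EK Q`
in every characteristic (adapting helper14's proof of S0795, which handles odd `q`).
-/

set_option autoImplicit false

namespace Cfsg.Agent.Helper13

open Matrix QuadraticMap Cfsg.Agent.S0794 Cfsg.Agent.S0795 Cfsg.Agent.Helper14.ReflGen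

section OrthEich

variable {F : Type*} [Field F] {ι : Type} [Fintype ι] [DecidableEq ι]
  (Q : QuadraticForm F (ι → F))

theorem O_smul_def (g : ↥(Cfsg.isometryGroup F ⇑Q)) (v : ι → F) :
    g • v = ((g : GL ι F) : Matrix ι ι F) *ᵥ v := rfl

theorem O_Q_smul (g : ↥(Cfsg.isometryGroup F ⇑Q)) (v : ι → F) : Q (g • v) = Q v := g.2 v v

theorem O_polar_smul (g : ↥(Cfsg.isometryGroup F ⇑Q)) (u v : ι → F) :
    polar (⇑Q) (g • u) (g • v) = polar (⇑Q) u v := by
  unfold polar
  rw [← smul_add, O_Q_smul, O_Q_smul, O_Q_smul]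

theorem O_ext {g h : ↥(Cfsg.isometryGroup F ⇑Q)} (H : ∀ x : ι → F, g • x = h • x) : g = h := by
  apply Subtype.ext
  apply Units.ext
  apply mat_ext_mulVec
  exact H

theorem O_smul_smul_comm (g : ↥(Cfsg.isometryGroup F ⇑Q)) (c : F) (v : ι → F) :
    g • (c • v) = c • (g • v) := by
  rw [O_smul_def, O_smul_def, Matrix.mulVec_smul]

theorem O_smul_sub (g : ↥(Cfsg.isometryGroup F ⇑Q)) (u v : ι → F) :
    g • (u - v) = g • u - g • v := by
  rw [O_smul_def, O_smul_def, O_smul_def, Matrix.mulVec_sub]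

theorem O_smul_eq_zero (g : ↥(Cfsg.isometryGroup F ⇑Q)) (v : ι → F) : g • v = 0 ↔ v = 0 := by
  constructor
  · intro h
    have := congrArg (fun x => g⁻¹ • x) h
    simpa using this
  · rintro rfl
    exact smul_zero g

/-- the Eichler transformation as an isometry -/
def eichO (u w : ι → F) (hu : Q u = 0) (huw : polar (⇑Q) u w = 0) :
    ↥(Cfsg.isometryGroup F ⇑Q) :=
  ⟨eichGL Q u w hu huw, fun x _ => eichM_isometry Q u w hu huw x⟩

theorem eichO_smul (u w : ι → F) (hu : Q u = 0) (huw : polar (⇑Q) u w = 0) (x : ι → F) :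
    eichO Q u w hu huw • x = x + polar (⇑Q) u x • w - polar (⇑Q) w x • u
      - (Q w * polar (⇑Q) u x) • u := eichM_mulVec Q u w x

theorem eichO_coe (u w : ι → F) (hu : Q u = 0) (huw : polar (⇑Q) u w = 0) :
    (((eichO Q u w hu huw : ↥(Cfsg.isometryGroup F ⇑Q)) : GL ι F) : Matrix ι ι F) =
      eichM Q u w := rfl

theorem eichO_congr {u u' w w' : ι → F} (hu : Q u = 0) (huw : polar (⇑Q) u w = 0)
    (hu' : Q u' = 0) (huw' : polar (⇑Q) u' w' = 0) (h1 : u = u') (h2 : w = w') :
    eichO Q u w hu huw = eichO Q u' w' hu' huw' := by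
  subst h1
  subst h2
  rfl

theorem eichO_mul (u w w' : ι → F) (hu : Q u = 0) (huw : polar (⇑Q) u w = 0)
    (huw' : polar (⇑Q) u w' = 0) :
    eichO Q u w hu huw * eichO Q u w' hu huw' =
      eichO Q u (w + w') hu (by rw [polar_add_right, huw, huw', add_zero]) := by
  apply Subtype.ext
  apply Units.ext
  exact eichM_mul Q u w w' hu huw huw'

theorem eichO_zero (u : ι → F) (hu : Q u = 0) :
    eichO Q u 0 hu (by rw [polar_zero_right]) = 1 := by
  apply Subtype.ext
  apply Units.ext
  exact eichM_zero Q u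

theorem eichO_zero_left (w : ι → F) :
    eichO Q 0 w (by rw [QuadraticMap.map_zero]) (by rw [polar_zero_left]) = 1 := by
  apply O_ext
  intro x
  rw [eichO_smul, one_smul, polar_zero_left]
  simp

theorem eichO_inv (u w : ι → F) (hu : Q u = 0) (huw : polar (⇑Q) u w = 0) :
    (eichO Q u w hu huw)⁻¹ = eichO Q u (-w) hu (by rw [polar_neg_right, huw, neg_zero]) := by
  apply inv_eq_of_mul_eq_one_right
  rw [eichO_mul]
  rw [← eichO_zero Q u hu]
  exact eichO_congr Q _ _ _ _ rfl (add_neg_cancel w)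

theorem eichO_conj (g : ↥(Cfsg.isometryGroup F ⇑Q)) (u w : ι → F) (hu : Q u = 0)
    (huw : polar (⇑Q) u w = 0) :
    g * eichO Q u w hu huw * g⁻¹ =
      eichO Q (g • u) (g • w) (by rw [O_Q_smul, hu]) (by rw [O_polar_smul, huw]) := by
  apply Subtype.ext
  apply Units.ext
  have hMM' : ((g : GL ι F) : Matrix ι ι F) * (((g : GL ι F)⁻¹ : GL ι F) : Matrix ι ι F) = 1 := by
    rw [← Units.val_mul, mul_inv_cancel, Units.val_one]
  exact eichM_conj Q _ _ hMM' (fun x => g.2 x x) u w

/-- the group generated by the Eichler transformations -/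
def EK : Subgroup ↥(Cfsg.isometryGroup F ⇑Q) :=
  Subgroup.closure {g | ∃ (u w : ι → F) (hu : Q u = 0) (huw : polar (⇑Q) u w = 0),
    g = eichO Q u w hu huw}

theorem eichO_mem_EK (u w : ι → F) (hu : Q u = 0) (huw : polar (⇑Q) u w = 0) :
    eichO Q u w hu huw ∈ EK Q :=
  Subgroup.subset_closure ⟨u, w, hu, huw, rfl⟩

instance EK_normal : (EK Q).Normal := by
  constructor
  intro x hx g
  induction hx using Subgroup.closure_induction with
  | mem s hs =>
    obtain ⟨u, w, hu, huw, rfl⟩ := hs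
    rw [eichO_conj]
    exact eichO_mem_EK Q _ _ _ _
  | one => simp
  | mul a b _ _ ha hb =>
    have : g * (a * b) * g⁻¹ = (g * a * g⁻¹) * (g * b * g⁻¹) := by group
    rw [this]
    exact Subgroup.mul_mem _ ha hb
  | inv a _ ha =>
    have : g * a⁻¹ * g⁻¹ = (g * a * g⁻¹)⁻¹ := by group
    rw [this]
    exact Subgroup.inv_mem _ ha

/-- the product of two reflections in vectors of the same norm is a product of Eichler
transformations (any characteristic; adapted from helper14's `refl_mul_refl_mem_SG`) -/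
theorem refl_mul_refl_mem_EK [Finite F] (hQ : (polarBilin Q).Nondegenerate)
    (hn : 5 ≤ Fintype.card ι) (a a' : ι → F) (ha : Q a ≠ 0) (haa' : Q a' = Q a) :
    ∃ g ∈ EK Q, ((g : GL ι F) : Matrix ι ι F) =
      Cfsg.reflectionMatrix (⇑Q) a * Cfsg.reflectionMatrix (⇑Q) a' := by
  -- the case of singular difference
  have caseB : ∀ b : ι → F, Q b = Q a → Q (b - a) = 0 → ∃ g ∈ EK Q,
      ((g : GL ι F) : Matrix ι ι F) =
      Cfsg.reflectionMatrix (⇑Q) a * Cfsg.reflectionMatrix (⇑Q) b := by
    intro b hb hd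
    have hab : polar (⇑Q) a b = 2 * Q a := by
      have := Q_sub Q b a
      rw [hd, hb, polar_comm (⇑Q) b a] at this
      linear_combination this
    have had : polar (⇑Q) (b - a) a = 0 := by
      rw [polar_sub_left, polar_comm (⇑Q) b a, hab, polar_self']
      ring
    set u : ι → F := (Q a)⁻¹ • (b - a) with hu
    have hQu : Q u = 0 := by rw [hu, Q_smul', hd, mul_zero]
    have hua : polar (⇑Q) u a = 0 := by rw [hu, polar_smul_left, had, smul_zero]
    refine ⟨eichO Q u a hQu hua, eichO_mem_EK Q u a hQu hua, ?_⟩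
    rw [eichO_coe, eich_eq_refl_mul Q u a hQu hua ha]
    congr 2
    rw [hu, smul_smul, mul_inv_cancel₀ ha, one_smul]
    abel
  by_cases hd : Q (a' - a) = 0
  · exact caseB a' haa' hd
  by_cases hs : Q (a' + a) = 0
  · have := caseB (-a') (by rw [QuadraticMap.map_neg, haa']) (by
      have : -a' - a = -(a' + a) := by abel
      rw [this, QuadraticMap.map_neg, hs])
    rwa [refl_neg] at this
  -- the nondegenerate plane
  set c : F := Q a with hc
  set t : F := polar (⇑Q) a a' with ht
  have hta : polar (⇑Q) a' a = t := by rw [polar_comm]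
  have hQd : Q (a' - a) = 2 * c - t := by rw [Q_sub, haa', hta]; ring
  have hQs : Q (a' + a) = 2 * c + t := by rw [Q_add', haa', hta]; ring
  have hd' : 2 * c - t ≠ 0 := by rw [← hQd]; exact hd
  have hs' : 2 * c + t ≠ 0 := by rw [← hQs]; exact hs
  set H : Submodule F (ι → F) := Submodule.span F {a, a'} with hHdef
  have hH : Disjoint H (LinearMap.BilinForm.orthogonal (polarBilin Q) H) := by
    rw [Submodule.disjoint_def]
    intro z hz hz'
    rw [LinearMap.BilinForm.mem_orthogonal_iff] at hz'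
    obtain ⟨α, β, rfl⟩ := Submodule.mem_span_pair.mp hz
    have e1 := hz' a (Submodule.subset_span (by simp))
    have e2 := hz' a' (Submodule.subset_span (by simp))
    rw [polarBilin_apply_apply, polar_add_right, polar_smul_right, polar_smul_right] at e1 e2
    rw [polar_self', ← ht] at e1
    rw [polar_self', hta, haa'] at e2
    simp only [smul_eq_mul] at e1 e2
    have hα : α = 0 := by
      have : ((2 * c - t) * (2 * c + t)) * α = 0 := by
        linear_combination (2 * c) * e1 - t * e2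
      exact (mul_eq_zero.mp this).resolve_left (mul_ne_zero hd' hs')
    have hβ : β = 0 := by
      have : ((2 * c - t) * (2 * c + t)) * β = 0 := by
        linear_combination (2 * c) * e2 - t * e1
      exact (mul_eq_zero.mp this).resolve_left (mul_ne_zero hd' hs')
    rw [hα, hβ]
    simp
  have hfin : Module.finrank F H ≤ 2 := by
    classical
    have := finrank_span_finset_le_card (R := F) ({a, a'} : Finset (ι → F))
    rw [Finset.coe_insert, Finset.coe_singleton] at this
    exact le_trans this Finset.card_le_two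
  obtain ⟨y, hy, hQy⟩ := exists_perp_value Q hQ H hH (by omega) (-(2 * c + t))
    (neg_ne_zero.mpr hs')
  have hya : polar (⇑Q) a y = 0 := hy a (Submodule.subset_span (by simp))
  have hya' : polar (⇑Q) a' y = 0 := hy a' (Submodule.subset_span (by simp))
  set w : ι → F := a' + a + y with hw
  have hQw : Q w = 0 := by
    rw [hw, Q_add', hQs, hQy, polar_add_left, hya, hya']
    ring
  have hwa : polar (⇑Q) w a = 2 * c + t := by
    rw [hw, polar_add_left, polar_add_left, hta, polar_self', polar_comm (⇑Q) y a, hya]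
    ring
  set x : ι → F := (2 * c + t)⁻¹ • (a' - a) with hx
  have hwd : polar (⇑Q) w (a' - a) = 0 := by
    rw [hw, polar_add_left, polar_add_left, polar_sub_right, polar_sub_right, polar_sub_right,
      polar_self', polar_self', hta, ← ht, haa', polar_comm (⇑Q) y a', polar_comm (⇑Q) y a,
      hya, hya']
    ring
  have hwx : polar (⇑Q) w x = 0 := by rw [hx, polar_smul_right, hwd, smul_zero]
  have hwx' : polar (⇑Q) w (-x) = 0 := by rw [polar_neg_right, hwx, neg_zero]
  have hxa : polar (⇑Q) x a = (2 * c + t)⁻¹ * (t - 2 * c) := by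
    rw [hx, polar_smul_left, polar_sub_left, hta, polar_self', smul_eq_mul]
  have hQx : Q x = (2 * c + t)⁻¹ * (2 * c + t)⁻¹ * (2 * c - t) := by
    rw [hx, Q_smul', hQd]
  have hinv : (2 * c + t)⁻¹ * (2 * c + t) = 1 := inv_mul_cancel₀ hs'
  have hMa : eichM Q w x *ᵥ a = a' := by
    rw [eichM_mulVec, hwa, hxa, hQx, hx, smul_smul, mul_inv_cancel₀ hs', one_smul]
    have hcoef : (2 * c + t)⁻¹ * (t - 2 * c) +
        (2 * c + t)⁻¹ * (2 * c + t)⁻¹ * (2 * c - t) * (2 * c + t) = 0 := by
      linear_combination ((2 * c + t)⁻¹ * (2 * c - t)) * hinv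
    have : a + (a' - a) - ((2 * c + t)⁻¹ * (t - 2 * c)) • w -
        ((2 * c + t)⁻¹ * (2 * c + t)⁻¹ * (2 * c - t) * (2 * c + t)) • w =
        a' - ((2 * c + t)⁻¹ * (t - 2 * c) +
        (2 * c + t)⁻¹ * (2 * c + t)⁻¹ * (2 * c - t) * (2 * c + t)) • w := by module
    rw [this, hcoef, zero_smul, sub_zero]
  have hMM' : eichM Q w x * eichM Q w (-x) = 1 := by
    rw [eichM_mul Q w x (-x) hQw hwx hwx', add_neg_cancel, eichM_zero]
  have hconj := Cfsg.Agent.Helper14.ReflClass.refl_conj Q (eichM Q w x) (eichM Q w (-x)) hMM'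
    (eichM_isometry Q w x hQw hwx) a
  rw [hMa] at hconj
  -- conjugate the Eichler transformation by the reflection
  have hconj2 := eichM_conj Q (Cfsg.reflectionMatrix (⇑Q) a) (Cfsg.reflectionMatrix (⇑Q) a)
    (refl_sq Q a ha) (refl_isom Q a ha) w x
  have hQw2 : Q (Cfsg.reflectionMatrix (⇑Q) a *ᵥ w) = 0 := by rw [refl_isom Q a ha, hQw]
  have hwx2 : polar (⇑Q) (Cfsg.reflectionMatrix (⇑Q) a *ᵥ w)
      (Cfsg.reflectionMatrix (⇑Q) a *ᵥ x) = 0 := by
    rw [polar_of_isometry Q _ (refl_isom Q a ha), hwx]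
  refine ⟨eichO Q _ _ hQw2 hwx2 * eichO Q w (-x) hQw hwx',
    Subgroup.mul_mem _ (eichO_mem_EK Q _ _ hQw2 hwx2) (eichO_mem_EK Q _ _ hQw hwx'), ?_⟩
  rw [Subgroup.coe_mul, Units.val_mul, eichO_coe, eichO_coe, ← hconj2, ← hconj]
  simp only [Matrix.mul_assoc]

/-- `Ω(Q) ≤ ⟨Eichler transformations⟩`, in every characteristic -/
theorem omega_le_EK [Finite F] (hQ : (polarBilin Q).Nondegenerate)
    (hn : 5 ≤ Fintype.card ι) : Cfsg.Omega F ⇑Q ≤ EK Q := by
  have hgen := isometryGroup_closure_refl Q hQ (Or.inr (by omega))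
  apply commutator_le_of_gens _ hgen (EK Q)
  rintro s ⟨a, ha, hs⟩ t ⟨b, hb, ht⟩
  have hs2 : s⁻¹ = s := by
    apply inv_eq_of_mul_eq_one_right
    apply Subtype.ext
    apply Units.ext
    change ((s : GL ι F) : Matrix ι ι F) * ((s : GL ι F) : Matrix ι ι F) = 1
    rw [hs]
    exact refl_sq Q a ha
  have ht2 : t⁻¹ = t := by
    apply inv_eq_of_mul_eq_one_right
    apply Subtype.ext
    apply Units.ext
    change ((t : GL ι F) : Matrix ι ι F) * ((t : GL ι F) : Matrix ι ι F) = 1
    rw [ht]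
    exact refl_sq Q b hb
  have hconj := Cfsg.Agent.Helper14.ReflClass.refl_conj Q (Cfsg.reflectionMatrix (⇑Q) a)
    (Cfsg.reflectionMatrix (⇑Q) a) (refl_sq Q a ha) (refl_isom Q a ha) b
  have hb' : Q (Cfsg.reflectionMatrix (⇑Q) a *ᵥ b) ≠ 0 := by rw [refl_isom Q a ha]; exact hb
  obtain ⟨g, hg, hgm⟩ := refl_mul_refl_mem_EK Q hQ hn
    (Cfsg.reflectionMatrix (⇑Q) a *ᵥ b) b hb' (by rw [refl_isom Q a ha])
  have heq : s * t * s⁻¹ * t⁻¹ = g := by
    rw [hs2, ht2]
    apply Subtype.ext
    apply Units.ext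
    change ((s : GL ι F) : Matrix ι ι F) * ((t : GL ι F) : Matrix ι ι F) *
      ((s : GL ι F) : Matrix ι ι F) * ((t : GL ι F) : Matrix ι ι F) =
        ((g : GL ι F) : Matrix ι ι F)
    rw [hgm, ← hconj, hs, ht]
  rw [heq]
  exact hg

/-- vectors with prescribed polar values against a linearly independent family -/
theorem polar_prescribe (hQ : (polarBilin Q).Nondegenerate) {k : ℕ} (x : Fin k → (ι → F))
    (hx : LinearIndependent F x) (t : Fin k → F) :
    ∃ v : ι → F, ∀ a, polar (⇑Q) (x a) v = t a := by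
  obtain ⟨g, hg⟩ := LinearMap.exists_extend ((Module.Basis.span hx).constr F t)
  set v := (LinearMap.BilinForm.toDual (polarBilin Q) hQ).symm g with hv
  have hv' : ∀ y, polarBilin Q v y = g y := by
    intro y
    rw [hv, ← LinearMap.BilinForm.toDual_def hQ, LinearEquiv.apply_symm_apply]
  refine ⟨v, fun a => ?_⟩
  have h1 : g (x a) = ((Module.Basis.span hx).constr F t) ((Module.Basis.span hx) a) := by
    rw [← hg]
    simp [Module.Basis.span_apply]
  rw [polar_comm, ← polarBilin_apply_apply, hv', h1, Module.Basis.constr_basis]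

end OrthEich

end Cfsg.Agent.Helper13
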