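import Mathlib
import Cfsg.Agent.Lib.Helper14.WittQuad
import Cfsg.Agent.Lib.Helper43.QuadWitt

/-!
# Hyperbolic pairs orthogonal to two given vectors

For a quadratic form with nondegenerate polar form containing three mutually orthogonal
hyperbolic pairs: any two vectors `a, b` are orthogonal to some hyperbolic pair (`hyp_perp`).
Proof by Witt's lemma (helper14's `Witt.witt`).
-/

set_option autoImplicit false

namespace Cfsg.Agent.Helper13

open QuadraticMap Cfsg.Agent.Helper43

section OrthGeom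

variable {F V : Type*} [Field F] [AddCommGroup V] [Module F V] (Q : QuadraticForm F V)

theorem Q_lin2 (s t : F) (a b : V) :
    Q (s • a + t • b) = s * s * Q a + t * t * Q b + s * t * polar Q a b := by
  rw [QuadraticMap.map_add Q, QuadraticMap.map_smul, QuadraticMap.map_smul, polar_smul_left,
    polar_smul_right]
  simp only [smul_eq_mul]
  ring

theorem polar_of_linear_isometry (g : V →ₗ[F] V) (hg : ∀ v, Q (g v) = Q v) (x y : V) :
    polar Q (g x) (g y) = polar Q x y := by
  unfold polar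
  rw [← map_add, hg, hg, hg]

variable [FiniteDimensional F V]

/-- Witt's lemma for pairs -/
theorem witt_pair (hQ : (polarBilin Q).Nondegenerate) (a₀ b₀ a b : V)
    (h₀ : LinearIndependent F ![a₀, b₀]) (h : LinearIndependent F ![a, b])
    (hqa : Q a₀ = Q a) (hqb : Q b₀ = Q b) (hab : polar Q a₀ b₀ = polar Q a b) :
    ∃ g : V ≃ₗ[F] V, (∀ v, Q (g v) = Q v) ∧ g a₀ = a ∧ g b₀ = b := by
  set bX := Module.Basis.span h₀ with hbX
  set bY := Module.Basis.span h with hbY
  set φ := bX.equiv bY (Equiv.refl _) with hφdef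
  have hX0 : ((bX 0 : Submodule.span F (Set.range ![a₀, b₀])) : V) = a₀ := by
    rw [hbX, Module.Basis.span_apply]; rfl
  have hX1 : ((bX 1 : Submodule.span F (Set.range ![a₀, b₀])) : V) = b₀ := by
    rw [hbX, Module.Basis.span_apply]; rfl
  have hY0 : ((bY 0 : Submodule.span F (Set.range ![a, b])) : V) = a := by
    rw [hbY, Module.Basis.span_apply]; rfl
  have hY1 : ((bY 1 : Submodule.span F (Set.range ![a, b])) : V) = b := by
    rw [hbY, Module.Basis.span_apply]; rfl
  have hφ0 : φ (bX 0) = bY 0 := by rw [hφdef, Module.Basis.equiv_apply]; rfl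
  have hφ1 : φ (bX 1) = bY 1 := by rw [hφdef, Module.Basis.equiv_apply]; rfl
  have hφ : ∀ z : Submodule.span F (Set.range ![a₀, b₀]), Q ((φ z : _) : V) = Q (z : V) := by
    intro z
    have hz : z = bX.repr z 0 • bX 0 + bX.repr z 1 • bX 1 := by
      conv_lhs => rw [← bX.sum_repr z]
      rw [Fin.sum_univ_two]
    have hz1 : (z : V) = bX.repr z 0 • a₀ + bX.repr z 1 • b₀ := by
      conv_lhs => rw [hz]
      rw [Submodule.coe_add, Submodule.coe_smul, Submodule.coe_smul, hX0, hX1]
    have hz2 : ((φ z : _) : V) = bX.repr z 0 • a + bX.repr z 1 • b := by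
      conv_lhs => rw [hz]
      rw [map_add, map_smul, map_smul, hφ0, hφ1, Submodule.coe_add, Submodule.coe_smul,
        Submodule.coe_smul, hY0, hY1]
    rw [hz1, hz2, Q_lin2, Q_lin2, hqa, hqb, hab]
  obtain ⟨g, hg, hgx⟩ := Cfsg.Agent.Helper14.Witt.witt Q hQ _ _ φ hφ
  refine ⟨g, hg, ?_, ?_⟩
  · have := hgx (bX 0)
    rw [hφ0, hX0, hY0] at this
    exact this
  · have := hgx (bX 1)
    rw [hφ1, hX1, hY1] at this
    exact this

variable {Q}

omit [FiniteDimensional F V] in
theorem hyp_fe {k : ℕ} {e f : Fin k → V} (h : IsHypFamily Q e f) (i j : Fin k) :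
    polar Q (f i) (e j) = if j = i then 1 else 0 := by
  rw [polar_comm, h.ef]

omit [FiniteDimensional F V] in
theorem hyp_e_ne_zero {k : ℕ} {e f : Fin k → V} (h : IsHypFamily Q e f) (i : Fin k) :
    e i ≠ 0 := by
  intro h0
  have := h.ef i i
  rw [h0, polar_zero_left, if_pos rfl] at this
  exact zero_ne_one this

variable (Q)

/-- a hyperbolic pair orthogonal to two linearly independent vectors -/
theorem hyp_perp_indep (hQ : (polarBilin Q).Nondegenerate) {k : ℕ} (e f : Fin k → V)
    (hef : IsHypFamily Q e f) (hk : 3 ≤ k) (a b : V) (h : LinearIndependent F ![a, b]) :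
    ∃ t t' : V, Q t = 0 ∧ Q t' = 0 ∧ polar Q t t' = 1 ∧ polar Q a t = 0 ∧ polar Q b t = 0 ∧
      polar Q a t' = 0 ∧ polar Q b t' = 0 := by
  set i0 : Fin k := ⟨0, by omega⟩ with hi0
  set i1 : Fin k := ⟨1, by omega⟩ with hi1
  set i2 : Fin k := ⟨2, by omega⟩ with hi2
  have h01 : i0 ≠ i1 := by rw [hi0, hi1]; simp [Fin.ext_iff]
  have h02 : i0 ≠ i2 := by rw [hi0, hi2]; simp [Fin.ext_iff]
  have h12 : i1 ≠ i2 := by rw [hi1, hi2]; simp [Fin.ext_iff]
  set a₀ : V := e i0 + Q a • f i0 with ha₀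
  set b₀ : V := e i1 + polar Q a b • f i0 + Q b • f i1 with hb₀
  have hqa : Q a₀ = Q a := by
    rw [ha₀, QuadraticMap.map_add Q, QuadraticMap.map_smul, hef.qe, hef.qf, polar_smul_right,
      hef.ef, if_pos rfl]
    simp
  have hqb : Q b₀ = Q b := by
    rw [hb₀, QuadraticMap.map_add Q, QuadraticMap.map_add Q, QuadraticMap.map_smul,
      QuadraticMap.map_smul, hef.qe, hef.qf, hef.qf, polar_smul_right, polar_add_left,
      polar_smul_right, polar_smul_right, polar_smul_left, hef.ef, hef.ef, hef.ff,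
      if_neg h01.symm, if_pos rfl]
    simp
  have hab : polar Q a₀ b₀ = polar Q a b := by
    rw [ha₀, hb₀]
    simp only [polar_add_left, polar_add_right, polar_smul_left, polar_smul_right, hef.ee,
      hef.ef, hyp_fe hef, hef.ff, if_neg h01, if_neg h01.symm, smul_eq_mul]
    simp
  have hp1 : polar Q a₀ (f i0) = 1 := by
    rw [ha₀, polar_add_left, polar_smul_left, hef.ef, hef.ff, if_pos rfl]; simp
  have hp2 : polar Q a₀ (f i1) = 0 := by
    rw [ha₀, polar_add_left, polar_smul_left, hef.ef, hef.ff, if_neg h01]; simp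
  have hp3 : polar Q b₀ (f i0) = 0 := by
    rw [hb₀, polar_add_left, polar_add_left, polar_smul_left, polar_smul_left, hef.ef, hef.ff,
      hef.ff, if_neg h01.symm]; simp
  have hp4 : polar Q b₀ (f i1) = 1 := by
    rw [hb₀, polar_add_left, polar_add_left, polar_smul_left, polar_smul_left, hef.ef, hef.ff,
      hef.ff, if_pos rfl]; simp
  have h₀ : LinearIndependent F ![a₀, b₀] := by
    rw [LinearIndependent.pair_iff]
    intro s t hst
    have e1 := congrArg (fun z => polar Q z (f i0)) hst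
    have e2 := congrArg (fun z => polar Q z (f i1)) hst
    simp only [polar_add_left, polar_smul_left, hp1, hp2, hp3, hp4, polar_zero_left,
      smul_eq_mul, mul_one, mul_zero, add_zero, zero_add] at e1 e2
    exact ⟨e1, e2⟩
  obtain ⟨g, hg, hga, hgb⟩ := witt_pair Q hQ a₀ b₀ a b h₀ h hqa hqb hab
  have hpol := polar_of_linear_isometry Q g.toLinearMap hg
  have hpol' : ∀ x y, polar Q (g x) (g y) = polar Q x y := hpol
  refine ⟨g (e i2), g (f i2), ?_, ?_, ?_, ?_, ?_, ?_, ?_⟩
  · rw [hg, hef.qe]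
  · rw [hg, hef.qf]
  · rw [hpol', hef.ef, if_pos rfl]
  · rw [← hga, hpol', ha₀, polar_add_left, polar_smul_left, hef.ee, hyp_fe hef, if_neg h02.symm]
    simp
  · rw [← hgb, hpol', hb₀, polar_add_left, polar_add_left, polar_smul_left, polar_smul_left,
      hef.ee, hyp_fe hef, hyp_fe hef, if_neg h02.symm, if_neg h12.symm]
    simp
  · rw [← hga, hpol', ha₀, polar_add_left, polar_smul_left, hef.ef, hef.ff, if_neg h02]
    simp
  · rw [← hgb, hpol', hb₀, polar_add_left, polar_add_left, polar_smul_left, polar_smul_left,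
      hef.ef, hef.ff, hef.ff, if_neg h12]
    simp

omit [FiniteDimensional F V] in
/-- a vector independent of a given nonzero vector -/
theorem exists_indep_of_hyp {k : ℕ} (e f : Fin k → V) (hef : IsHypFamily Q e f) (hk : 3 ≤ k)
    (a : V) (ha : a ≠ 0) : ∃ c : V, LinearIndependent F ![a, c] := by
  set i0 : Fin k := ⟨0, by omega⟩ with hi0
  set i1 : Fin k := ⟨1, by omega⟩ with hi1
  have h01 : i0 ≠ i1 := by rw [hi0, hi1]; simp [Fin.ext_iff]
  by_cases h0 : LinearIndependent F ![a, e i0]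
  · exact ⟨_, h0⟩
  by_cases h1 : LinearIndependent F ![a, e i1]
  · exact ⟨_, h1⟩
  exfalso
  rw [LinearIndependent.pair_iff' ha] at h0 h1
  push Not at h0 h1
  obtain ⟨s, hs⟩ := h0
  obtain ⟨s', hs'⟩ := h1
  have hs0 : s ≠ 0 := by
    rintro rfl
    rw [zero_smul] at hs
    exact hyp_e_ne_zero hef i0 hs.symm
  have e1 : polar Q (e i0) (f i1) = s * polar Q a (f i1) := by
    rw [← hs, polar_smul_left, smul_eq_mul]
  have e2 : polar Q (e i1) (f i1) = s' * polar Q a (f i1) := by
    rw [← hs', polar_smul_left, smul_eq_mul]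
  rw [hef.ef, if_neg h01] at e1
  rw [hef.ef, if_pos rfl] at e2
  have : polar Q a (f i1) = 0 := by
    rcases mul_eq_zero.mp e1.symm with h | h
    · exact absurd h hs0
    · exact h
  rw [this, mul_zero] at e2
  exact one_ne_zero e2

/-- a hyperbolic pair orthogonal to two given vectors -/
theorem hyp_perp (hQ : (polarBilin Q).Nondegenerate) {k : ℕ} (e f : Fin k → V)
    (hef : IsHypFamily Q e f) (hk : 3 ≤ k) (a b : V) :
    ∃ t t' : V, Q t = 0 ∧ Q t' = 0 ∧ polar Q t t' = 1 ∧ polar Q a t = 0 ∧ polar Q b t = 0 ∧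
      polar Q a t' = 0 ∧ polar Q b t' = 0 := by
  by_cases h : LinearIndependent F ![a, b]
  · exact hyp_perp_indep Q hQ e f hef hk a b h
  by_cases ha : a = 0
  · by_cases hb : b = 0
    · refine ⟨e ⟨0, by omega⟩, f ⟨0, by omega⟩, hef.qe _, hef.qf _, ?_, ?_, ?_, ?_, ?_⟩
      · rw [hef.ef, if_pos rfl]
      all_goals simp [ha, hb]
    · obtain ⟨c, hc⟩ := exists_indep_of_hyp Q e f hef hk b hb
      obtain ⟨t, t', h1, h2, h3, h4, h5, h6, h7⟩ := hyp_perp_indep Q hQ e f hef hk b c hc
      exact ⟨t, t', h1, h2, h3, by simp [ha], h4, by simp [ha], h6⟩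
  · rw [LinearIndependent.pair_iff' ha] at h
    push Not at h
    obtain ⟨s, hs⟩ := h
    obtain ⟨c, hc⟩ := exists_indep_of_hyp Q e f hef hk a ha
    obtain ⟨t, t', h1, h2, h3, h4, h5, h6, h7⟩ := hyp_perp_indep Q hQ e f hef hk a c hc
    refine ⟨t, t', h1, h2, h3, h4, ?_, h6, ?_⟩
    · rw [← hs, polar_smul_left, h4, smul_zero]
    · rw [← hs, polar_smul_left, h6, smul_zero]

end OrthGeom

end Cfsg.Agent.Helper13
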