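import Mathlib
import Cfsg.Agent.Lib.Helper93.OTS2
import Cfsg.Agent.Lib.Helper13.OrthGeom
import Cfsg.Agent.Lib.Helper13.OrthEich
import Cfsg.Agent.Lib.Helper43.QuadWitt

/-!
# Maximality criteria in `Ω` via Eichler centres

`EG_le_of_two_perp`: a subgroup `M` of `GL` containing every Eichler transformation `E(u,w)` with
`u, w ⊥ a`, and every one with `u, w ⊥ b`, for two linearly independent vectors `a, b`, contains all
Eichler transformations (Witt index at least 3).
-/

set_option autoImplicit false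
set_option linter.unusedSectionVars false

namespace Cfsg.Agent.Helper13

open Matrix QuadraticMap Cfsg.Geo
open Cfsg.Agent.S0794 Cfsg.Agent.Helper14.ReflGen Cfsg.Agent.Helper93 Cfsg.Agent.Helper43

section OrthMax

variable {F : Type*} [Field F] {ι : Type} [Fintype ι] [DecidableEq ι]
  (Q : QuadraticForm F (ι → F))

/-- the Eichler transformations centred at `u` lying in `M` are closed under addition of the
second argument -/
lemma eich_add_mem {M : Subgroup (GL ι F)} {u w w' : ι → F} (hu : Q u = 0)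
    (huw : polar (⇑Q) u w = 0) (huw' : polar (⇑Q) u w' = 0)
    (h : ∃ g ∈ M, (g : Matrix ι ι F) = eichM Q u w)
    (h' : ∃ g ∈ M, (g : Matrix ι ι F) = eichM Q u w') :
    ∃ g ∈ M, (g : Matrix ι ι F) = eichM Q u (w + w') := by
  obtain ⟨g, hgM, hg⟩ := h
  obtain ⟨g', hgM', hg'⟩ := h'
  refine ⟨g * g', M.mul_mem hgM hgM', ?_⟩
  rw [Units.val_mul, hg, hg', eichM_mul Q u w w' hu huw huw']

/-- a subgroup containing all the Eichler transformations is above `EG` -/
lemma EG_le_of_all {M : Subgroup (GL ι F)}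
    (h : ∀ z, Q z = 0 → ECtr Q M z) : EG Q ≤ M := by
  unfold EG
  rw [Subgroup.closure_le]
  rintro g ⟨u, w, hu, huw, hg⟩
  obtain ⟨g', hg'M, hg'⟩ := (h u hu).2 w huw
  have : g = g' := Units.ext (by rw [hg, hg'])
  rw [SetLike.mem_coe, this]
  exact hg'M

/-- If `M` contains every Eichler transformation `E(u,w)` with `u, w ⊥ a` and every one with
`u, w ⊥ b`, where `a, b` are linearly independent, then `M` contains all of them. -/
theorem EG_le_of_two_perp (hQ : (polarBilin Q).Nondegenerate) {k : ℕ} (e f : Fin k → (ι → F))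
    (hef : IsHypFamily Q e f) (hk : 3 ≤ k) (a b : ι → F) (hab : LinearIndependent F ![a, b])
    (M : Subgroup (GL ι F))
    (hMa : ∀ u w, Q u = 0 → polar (⇑Q) u w = 0 → polar (⇑Q) a u = 0 → polar (⇑Q) a w = 0 →
      ∃ g ∈ M, (g : Matrix ι ι F) = eichM Q u w)
    (hMb : ∀ u w, Q u = 0 → polar (⇑Q) u w = 0 → polar (⇑Q) b u = 0 → polar (⇑Q) b w = 0 →
      ∃ g ∈ M, (g : Matrix ι ι F) = eichM Q u w) : EG Q ≤ M := by
  obtain ⟨t, t', hQt, hQt', htt', hat, hbt, hat', hbt'⟩ := hyp_perp Q hQ e f hef hk a b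
  have key : ∀ u u' : ι → F, Q u = 0 → polar (⇑Q) u u' = 1 → polar (⇑Q) a u = 0 →
      polar (⇑Q) b u = 0 → polar (⇑Q) a u' = 0 → polar (⇑Q) b u' = 0 → ECtr Q M u := by
    intro u u' hu huu' hau hbu hau' hbu'
    refine ⟨hu, fun w huw => ?_⟩
    have hli : LinearIndependent F ![u, a, b] := by
      rw [Fintype.linearIndependent_iff]
      intro c hc
      rw [Fin.sum_univ_three] at hc
      simp only [Matrix.cons_val_zero, Matrix.cons_val_one, Matrix.cons_val_two,
        Matrix.head_cons, Matrix.tail_cons] at hc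
      have h0 : c 0 = 0 := by
        have h1 := congrArg (fun x => polar (⇑Q) x u') hc
        simp only [polar_add_left, polar_smul_left, huu', hau', hbu', polar_zero_left,
          smul_eq_mul, mul_one, mul_zero, add_zero] at h1
        exact h1
      rw [h0, zero_smul, zero_add] at hc
      have h12 := (LinearIndependent.pair_iff.1 hab) (c 1) (c 2) hc
      intro i
      fin_cases i
      · exact h0
      · exact h12.1
      · exact h12.2
    obtain ⟨w₂, hw₂⟩ := polar_prescribe Q hQ ![u, a, b] hli ![0, polar (⇑Q) a w, 0]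
    have h20 : polar (⇑Q) u w₂ = 0 := by simpa using hw₂ 0
    have h21 : polar (⇑Q) a w₂ = polar (⇑Q) a w := by simpa using hw₂ 1
    have h22 : polar (⇑Q) b w₂ = 0 := by simpa using hw₂ 2
    have h1 : ∃ g ∈ M, (g : Matrix ι ι F) = eichM Q u (w - w₂) :=
      hMa u (w - w₂) hu (by rw [polar_sub_right, huw, h20, sub_zero]) hau
        (by rw [polar_sub_right, h21, sub_self])
    have h2 : ∃ g ∈ M, (g : Matrix ι ι F) = eichM Q u w₂ := hMb u w₂ hu h20 hbu h22
    have h3 := eich_add_mem Q hu (by rw [polar_sub_right, huw, h20, sub_zero]) h20 h1 h2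
    rwa [sub_add_cancel] at h3
  have hC : ECtr Q M t := key t t' hQt htt' hat hbt hat' hbt'
  have hC' : ECtr Q M t' := key t' t hQt' (by rw [polar_comm, htt']) hat' hbt' hat hbt
  exact EG_le_of_all Q (ECtr.all hQ hC hC' (by rw [htt']; exact one_ne_zero))

/-- The stabiliser in `Ω` of the line spanned by any nonzero vector `v` is a maximal subgroup of
`Ω` (dimension at least 7 over a finite field, so that the Witt index is at least 3). -/
theorem vector_stab_max [Finite F] (hQ : (polarBilin Q).Nondegenerate)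
    (hn : 7 ≤ Fintype.card ι) (v : ι → F) (hv : v ≠ 0) :
    IsMaximalIn (omegaGL ⇑Q) (subspaceStabilizer (Submodule.span F {v}) ⊓ omegaGL ⇑Q) := by
  have hn5 : 5 ≤ Fintype.card ι := by omega
  have hΩE := omegaGL_le_EG Q hQ hn5
  have hΩI : ∀ g ∈ omegaGL ⇑Q, ∀ x, Q ((g : Matrix ι ι F) *ᵥ x) = Q x := by
    intro g hg x
    obtain ⟨g', _, rfl⟩ := Subgroup.mem_map.1 hg
    exact g'.2 x x
  obtain ⟨k, e, f, hef, -, -, hdim, hle, -⟩ := witt_decomp_finite Q hQ
  have hk : 3 ≤ k := by
    rw [Module.finrank_fintype_fun_eq_card] at hdim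
    omega
  have hEH : ∀ u w (hu : Q u = 0) (huw : polar (⇑Q) u w = 0), polar (⇑Q) v u = 0 →
      polar (⇑Q) v w = 0 →
      eichGL Q u w hu huw ∈ subspaceStabilizer (Submodule.span F {v}) ⊓ omegaGL ⇑Q := by
    intro u w hu huw hvu hvw
    refine ⟨mem_stab_of_maps_le _ _ ?_, eichGL_mem_omegaGL Q hQ hn5 u w hu huw⟩
    intro x hx
    obtain ⟨c, rfl⟩ := Submodule.mem_span_singleton.1 hx
    change eichM Q u w *ᵥ (c • v) ∈ _
    rw [eichM_mulVec, polar_smul_right, polar_smul_right, polar_comm (⇑Q) u v, hvu,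
      polar_comm (⇑Q) w v, hvw]
    simp only [smul_zero, zero_smul, add_zero, mul_zero, sub_zero]
    exact hx
  constructor
  · refine SetLike.lt_iff_le_and_exists.2 ⟨inf_le_right, ?_⟩
    obtain ⟨t, t', hQt, hQt', htt', hvt, -, hvt', -⟩ := hyp_perp Q hQ e f hef hk v v
    have hli : LinearIndependent F ![t, v] := by
      rw [LinearIndependent.pair_iff]
      intro a b hab
      have h1 := congrArg (fun x => polar (⇑Q) x t') hab
      simp only [polar_add_left, polar_smul_left, htt', hvt', polar_zero_left, smul_eq_mul,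
        mul_one, mul_zero, add_zero] at h1
      rw [h1, zero_smul, zero_add] at hab
      exact ⟨h1, (smul_eq_zero.1 hab).resolve_right hv⟩
    obtain ⟨w, hw⟩ := polar_prescribe Q hQ ![t, v] hli ![0, 1]
    have htw : polar (⇑Q) t w = 0 := by simpa using hw 0
    have hvw : polar (⇑Q) v w = 1 := by simpa using hw 1
    refine ⟨eichGL Q t w hQt htw, eichGL_mem_omegaGL Q hQ hn5 t w hQt htw, ?_⟩
    rintro ⟨hstab, -⟩
    have h1 := ((mem_subspaceStabilizer_iff _ _).1 hstab v).1 (Submodule.mem_span_singleton_self v)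
    change eichM Q t w *ᵥ v ∈ _ at h1
    rw [eichM_mulVec, polar_comm (⇑Q) t v, hvt, polar_comm (⇑Q) w v, hvw] at h1
    simp only [zero_smul, add_zero, mul_zero, sub_zero, one_smul] at h1
    have h2 : t ∈ Submodule.span F {v} := by
      have := Submodule.sub_mem _ (Submodule.mem_span_singleton_self v) h1
      simpa using this
    obtain ⟨c, hc⟩ := Submodule.mem_span_singleton.1 h2
    have h3 : polar (⇑Q) t t' = 0 := by rw [← hc, polar_smul_left, hvt', smul_zero]
    rw [htt'] at h3
    exact one_ne_zero h3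
  · intro M hHM hMG
    by_cases hMH : M ≤ subspaceStabilizer (Submodule.span F {v}) ⊓ omegaGL ⇑Q
    · left; exact le_antisymm hMH hHM
    · right
      apply le_antisymm hMG
      obtain ⟨g, hgM, hgH⟩ := SetLike.not_le_iff_exists.1 hMH
      have hgI := hΩI g (hMG hgM)
      have hgS : g ∉ subspaceStabilizer (Submodule.span F {v}) := fun h => hgH ⟨h, hMG hgM⟩
      have hgv : (g : Matrix ι ι F) *ᵥ v ∉ Submodule.span F {v} := by
        intro hmem
        apply hgS
        apply mem_stab_of_maps_le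
        intro x hx
        obtain ⟨c, rfl⟩ := Submodule.mem_span_singleton.1 hx
        rw [Matrix.mulVec_smul]
        exact Submodule.smul_mem _ _ hmem
      have hli : LinearIndependent F ![v, (g : Matrix ι ι F) *ᵥ v] := by
        rw [LinearIndependent.pair_iff' hv]
        intro a ha
        apply hgv
        rw [← ha]
        exact Submodule.smul_mem _ _ (Submodule.mem_span_singleton_self v)
      refine le_trans hΩE (EG_le_of_two_perp Q hQ e f hef hk v ((g : Matrix ι ι F) *ᵥ v) hli M
        ?_ ?_)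
      · intro u w hu huw hvu hvw
        exact ⟨eichGL Q u w hu huw, hHM (hEH u w hu huw hvu hvw), rfl⟩
      · intro u w hu huw hvu hvw
        obtain ⟨u', hu'def⟩ : ∃ u', u' = ((g⁻¹ : GL ι F) : Matrix ι ι F) *ᵥ u := ⟨_, rfl⟩
        obtain ⟨w', hw'def⟩ : ∃ w', w' = ((g⁻¹ : GL ι F) : Matrix ι ι F) *ᵥ w := ⟨_, rfl⟩
        have hgu' : (g : Matrix ι ι F) *ᵥ u' = u := by rw [hu'def, gl_apply_inv_apply]
        have hgw' : (g : Matrix ι ι F) *ᵥ w' = w := by rw [hw'def, gl_apply_inv_apply]
        have hu' : Q u' = 0 := by rw [← hgI u', hgu', hu]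
        have huw' : polar (⇑Q) u' w' = 0 := by
          rw [← polar_of_isometry Q _ hgI, hgu', hgw', huw]
        have hvu' : polar (⇑Q) v u' = 0 := by
          rw [← polar_of_isometry Q _ hgI, hgu', hvu]
        have hvw' : polar (⇑Q) v w' = 0 := by
          rw [← polar_of_isometry Q _ hgI, hgw', hvw]
        have hMM' : (g : Matrix ι ι F) * ((g⁻¹ : GL ι F) : Matrix ι ι F) = 1 := by
          rw [← Units.val_mul, mul_inv_cancel, Units.val_one]
        refine ⟨g * eichGL Q u' w' hu' huw' * g⁻¹,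
          M.mul_mem (M.mul_mem hgM (hHM (hEH u' w' hu' huw' hvu' hvw'))) (M.inv_mem hgM), ?_⟩
        rw [Units.val_mul, Units.val_mul]
        change (g : Matrix ι ι F) * eichM Q u' w' * ((g⁻¹ : GL ι F) : Matrix ι ι F) = _
        rw [eichM_conj Q _ _ hMM' hgI, hgu', hgw']

end OrthMax

end Cfsg.Agent.Helper13
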