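import Mathlib
import Cfsg.Agent.Lib.Helper13.OrthEich
import Cfsg.Agent.Lib.Helper13.OrthGeom

/-!
# Simplicity of `PΩ(Q)` for Witt index at least three

Iwasawa's criterion for the group `EK Q` generated by the Eichler transformations acting on the
singular points.
-/

set_option autoImplicit false

namespace Cfsg.Agent.Helper13

open Matrix QuadraticMap Cfsg.Agent.Helper43 Cfsg.Agent.Helper14.ReflGen
open scoped LinearAlgebra.Projectivization Pointwise commutatorElement

section OrthSimple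

variable {F : Type*} [Field F] {ι : Type} [Fintype ι] [DecidableEq ι]
  (Q : QuadraticForm F (ι → F))

/-- make a vector singular without changing much -/
theorem singularize (x z₀ : ι → F) (hx : Q x = 0) (h1 : polar (⇑Q) x z₀ = 1) :
    Q (z₀ - Q z₀ • x) = 0 ∧
      ∀ y, polar (⇑Q) y (z₀ - Q z₀ • x) = polar (⇑Q) y z₀ - Q z₀ * polar (⇑Q) y x := by
  constructor
  · rw [Q_sub, Q_smul', hx, polar_smul_right, polar_comm (⇑Q) z₀ x, h1]
    simp
  · intro y
    rw [polar_sub_right, polar_smul_right, smul_eq_mul]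

theorem polar_self_of_sing (x : ι → F) (hx : Q x = 0) : polar (⇑Q) x x = 0 := by
  rw [polar_self', hx, mul_zero]

/-- moving a singular vector to an orthogonal independent one -/
theorem exists_EK_orth_move (hQ : (polarBilin Q).Nondegenerate) (u v : ι → F) (hu : Q u = 0)
    (hv : Q v = 0) (hli : LinearIndependent F ![u, v]) (huv : polar (⇑Q) u v = 0) :
    ∃ g ∈ EK Q, g • u = v := by
  obtain ⟨z₀, hz₀⟩ := polar_prescribe Q hQ ![u, v] hli ![1, 1]
  have h1 : polar (⇑Q) u z₀ = 1 := hz₀ 0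
  have h2 : polar (⇑Q) v z₀ = 1 := hz₀ 1
  obtain ⟨hz, hzp⟩ := singularize Q u z₀ hu h1
  set z := z₀ - Q z₀ • u with hzdef
  have huu := polar_self_of_sing Q u hu
  have hvv := polar_self_of_sing Q v hv
  have hvu : polar (⇑Q) v u = 0 := by rw [polar_comm, huv]
  have hzu : polar (⇑Q) z u = 1 := by rw [polar_comm, hzp, h1, huu]; ring
  have hzv : polar (⇑Q) z v = 1 := by rw [polar_comm, hzp, h2, hvu]; ring
  have hzw : polar (⇑Q) z (v - u) = 0 := by rw [polar_sub_right, hzu, hzv, sub_self]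
  refine ⟨eichO Q z (v - u) hz hzw, eichO_mem_EK Q _ _ _ _, ?_⟩
  rw [eichO_smul, hzu, polar_sub_left, huu, hvu, Q_sub, hu, hv, hvu]
  simp

/-- `EK` is transitive on singular points -/
theorem exists_EK_move (hQ : (polarBilin Q).Nondegenerate) {k : ℕ} (e f : Fin k → (ι → F))
    (hef : IsHypFamily Q e f) (hk : 3 ≤ k) (u v : ι → F) (hu0 : u ≠ 0) (hv0 : v ≠ 0)
    (hu : Q u = 0) (hv : Q v = 0) : ∃ g ∈ EK Q, ∃ c : F, c ≠ 0 ∧ g • u = c • v := by
  by_cases hli : LinearIndependent F ![u, v]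
  · by_cases huv : polar (⇑Q) u v = 0
    · obtain ⟨g, hg, hgu⟩ := exists_EK_orth_move Q hQ u v hu hv hli huv
      exact ⟨g, hg, 1, one_ne_zero, by rw [one_smul, hgu]⟩
    · obtain ⟨t, t', ht, -, htt', hut, hvt, hut', hvt'⟩ := hyp_perp Q hQ e f hef hk u v
      have ht0 : t ≠ 0 := by
        rintro rfl
        rw [polar_zero_left] at htt'
        exact zero_ne_one htt'
      have hli1 : LinearIndependent F ![u, t] := by
        rw [LinearIndependent.pair_iff' hu0]
        intro s hs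
        rw [← hs, polar_smul_left, hut', smul_zero] at htt'
        exact zero_ne_one htt'
      have hli2 : LinearIndependent F ![t, v] := by
        rw [LinearIndependent.pair_iff' ht0]
        intro s hs
        apply huv
        rw [← hs, polar_smul_right, hut, smul_zero]
      obtain ⟨g₁, hg₁, hg₁u⟩ := exists_EK_orth_move Q hQ u t hu ht hli1 hut
      obtain ⟨g₂, hg₂, hg₂t⟩ := exists_EK_orth_move Q hQ t v ht hv hli2
        (by rw [polar_comm, hvt])
      refine ⟨g₂ * g₁, Subgroup.mul_mem _ hg₂ hg₁, 1, one_ne_zero, ?_⟩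
      rw [mul_smul, hg₁u, hg₂t, one_smul]
  · rw [LinearIndependent.pair_iff' hu0] at hli
    push Not at hli
    obtain ⟨s, hs⟩ := hli
    have hs0 : s ≠ 0 := by
      rintro rfl
      rw [zero_smul] at hs
      exact hv0 hs.symm
    refine ⟨1, Subgroup.one_mem _, s⁻¹, inv_ne_zero hs0, ?_⟩
    rw [one_smul, ← hs, smul_smul, inv_mul_cancel₀ hs0, one_smul]

/-- the stabiliser of a singular point is transitive on the non-orthogonal singular points -/
theorem exists_EK_nonorth (x y z : ι → F) (hx : Q x = 0) (hy : Q y = 0) (hz : Q z = 0)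
    (hxy : polar (⇑Q) x y ≠ 0) (hxz : polar (⇑Q) x z ≠ 0) :
    ∃ g ∈ EK Q, ∃ c : F, c ≠ 0 ∧ g • x = x ∧ g • y = c • z := by
  set α := polar (⇑Q) x y with hα
  set β := polar (⇑Q) x z with hβ
  set w : ι → F := β⁻¹ • z - α⁻¹ • y with hw
  have hxx := polar_self_of_sing Q x hx
  have hyy := polar_self_of_sing Q y hy
  have hxw : polar (⇑Q) x w = 0 := by
    rw [hw, polar_sub_right, polar_smul_right, polar_smul_right, ← hα, ← hβ, smul_eq_mul,
      smul_eq_mul, inv_mul_cancel₀ hxy, inv_mul_cancel₀ hxz, sub_self]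
  have hwx : polar (⇑Q) w x = 0 := by rw [polar_comm, hxw]
  have hwy : polar (⇑Q) w y = β⁻¹ * polar (⇑Q) z y := by
    rw [hw, polar_sub_left, polar_smul_left, polar_smul_left, hyy]
    simp
  have hQw : Q w = -(β⁻¹ * α⁻¹ * polar (⇑Q) z y) := by
    rw [hw, Q_sub, Q_smul', Q_smul', hy, hz, polar_smul_left, polar_smul_right]
    simp only [smul_eq_mul]
    ring
  refine ⟨eichO Q x w hx hxw, eichO_mem_EK Q _ _ _ _, α * β⁻¹, mul_ne_zero hxy (inv_ne_zero hxz),
    ?_, ?_⟩
  · rw [eichO_smul, hxx, hwx]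
    simp
  · rw [eichO_smul, ← hα, hwy, hQw, hw]
    have h1 : α * α⁻¹ = 1 := mul_inv_cancel₀ hxy
    match_scalars
    · linear_combination -h1
    · ring
    · linear_combination (β⁻¹ * polar (⇑Q) z y) * h1

/-- moving a singular point off its perp while fixing an orthogonal point -/
theorem exists_EK_orth (hQ : (polarBilin Q).Nondegenerate) {k : ℕ} (e f : Fin k → (ι → F))
    (hef : IsHypFamily Q e f) (hk : 3 ≤ k) (x y : ι → F) (hx : Q x = 0)
    (hli : LinearIndependent F ![x, y]) (hxy : polar (⇑Q) x y = 0) :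
    ∃ g ∈ EK Q, g • y = y ∧ polar (⇑Q) x (g • x) ≠ 0 := by
  obtain ⟨z₀, hz₀⟩ := polar_prescribe Q hQ ![x, y] hli ![1, 0]
  have h1 : polar (⇑Q) x z₀ = 1 := hz₀ 0
  have h2 : polar (⇑Q) y z₀ = 0 := hz₀ 1
  obtain ⟨hz, hzp⟩ := singularize Q x z₀ hx h1
  set z := z₀ - Q z₀ • x with hzdef
  have hxx := polar_self_of_sing Q x hx
  have hyx : polar (⇑Q) y x = 0 := by rw [polar_comm, hxy]
  have hxz : polar (⇑Q) x z = 1 := by rw [hzp, h1, hxx]; ring
  have hzx : polar (⇑Q) z x = 1 := by rw [polar_comm, hxz]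
  have hyz : polar (⇑Q) y z = 0 := by rw [hzp, h2, hyx]; ring
  have hzy : polar (⇑Q) z y = 0 := by rw [polar_comm, hyz]
  obtain ⟨t, t', ht, ht', htt', hzt, hyt, hzt', hyt'⟩ := hyp_perp Q hQ e f hef hk z y
  have hQw : Q (t + t') = 1 := by rw [Q_add', ht, ht', htt']; ring
  have hzw : polar (⇑Q) z (t + t') = 0 := by rw [polar_add_right, hzt, hzt', add_zero]
  have hwy : polar (⇑Q) (t + t') y = 0 := by
    rw [polar_comm, polar_add_right, hyt, hyt', add_zero]
  refine ⟨eichO Q z (t + t') hz hzw, eichO_mem_EK Q _ _ _ _, ?_, ?_⟩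
  · rw [eichO_smul, hzy, hwy]
    simp
  · rw [eichO_smul, hzx, hQw]
    simp only [polar_sub_right, polar_add_right, polar_smul_right, hxx, hxz, smul_eq_mul]
    rw [polar_comm (⇑Q) (t + t') x]
    simp only [polar_add_right]
    intro h
    have : (1 : F) = 0 := by linear_combination -h
    exact one_ne_zero this

/-- a singular point not orthogonal to two given orthogonal ones -/
theorem exists_common_nonorth (hQ : (polarBilin Q).Nondegenerate) (x z : ι → F) (hx : Q x = 0)
    (hli : LinearIndependent F ![x, z]) (hxz : polar (⇑Q) x z = 0) :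
    ∃ t : ι → F, Q t = 0 ∧ polar (⇑Q) t x ≠ 0 ∧ polar (⇑Q) t z ≠ 0 := by
  obtain ⟨t₀, ht₀⟩ := polar_prescribe Q hQ ![x, z] hli ![1, 1]
  have h1 : polar (⇑Q) x t₀ = 1 := ht₀ 0
  have h2 : polar (⇑Q) z t₀ = 1 := ht₀ 1
  obtain ⟨ht, htp⟩ := singularize Q x t₀ hx h1
  have hxx := polar_self_of_sing Q x hx
  have hzx : polar (⇑Q) z x = 0 := by rw [polar_comm, hxz]
  refine ⟨_, ht, ?_, ?_⟩
  · rw [polar_comm, htp, h1, hxx]
    simp
  · rw [polar_comm, htp, h2, hzx]
    simp

/-! ### the singular points -/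

omit [Fintype ι] [DecidableEq ι] in
theorem Q_rep_iff (v : ι → F) (hv : v ≠ 0) :
    Q (Projectivization.mk F v hv).rep = 0 ↔ Q v = 0 := by
  obtain ⟨a, ha⟩ := Projectivization.exists_smul_eq_mk_rep F v hv
  rw [← ha, Units.smul_def, QuadraticMap.map_smul, smul_eq_mul]
  have h1 : (a : F) ≠ 0 := a.ne_zero
  constructor
  · intro h
    rcases mul_eq_zero.mp h with h | h
    · exact absurd (mul_self_eq_zero.mp h) h1
    · exact h
  · intro h
    rw [h, mul_zero]

theorem EK_smul_def (g : ↥(EK Q)) (v : ι → F) :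
    g • v = (g : ↥(Cfsg.isometryGroup F ⇑Q)) • v := rfl

theorem EK_smul_mk (g : ↥(EK Q)) (v : ι → F) (hv : v ≠ 0) (hgv : g • v ≠ 0) :
    g • Projectivization.mk F v hv = Projectivization.mk F (g • v) hgv := rfl

theorem EK_smul_ne_zero (g : ↥(EK Q)) (v : ι → F) (hv : v ≠ 0) : g • v ≠ 0 := by
  intro h0
  apply hv
  rw [EK_smul_def] at h0
  exact (O_smul_eq_zero Q _ v).mp h0

theorem EK_Q_smul (g : ↥(EK Q)) (v : ι → F) : Q (g • v) = Q v := O_Q_smul Q _ v

theorem EK_polar_smul (g : ↥(EK Q)) (u v : ι → F) :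
    polar (⇑Q) (g • u) (g • v) = polar (⇑Q) u v := O_polar_smul Q _ u v

/-- the singular points of projective space -/
def singPts : SubMulAction ↥(EK Q) (ℙ F (ι → F)) where
  carrier := {p | Q p.rep = 0}
  smul_mem' := by
    intro g p hp
    induction p using Projectivization.ind with
    | h v hv =>
      have hp' : Q (Projectivization.mk F v hv).rep = 0 := hp
      rw [Q_rep_iff] at hp'
      rw [EK_smul_mk Q g v hv (EK_smul_ne_zero Q g v hv)]
      change Q (Projectivization.mk F (g • v) _).rep = 0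
      rw [Q_rep_iff, EK_Q_smul]
      exact hp'

/-- the singular point spanned by a singular vector -/
def mkS (v : ι → F) (hv : v ≠ 0) (hQv : Q v = 0) : ↥(singPts Q) :=
  ⟨Projectivization.mk F v hv, (Q_rep_iff Q v hv).mpr hQv⟩

theorem smul_mkS (g : ↥(EK Q)) (v : ι → F) (hv : v ≠ 0) (hQv : Q v = 0) :
    g • mkS Q v hv hQv = mkS Q (g • v) (EK_smul_ne_zero Q g v hv)
      (by rw [EK_Q_smul]; exact hQv) := rfl

theorem mkS_eq_iff (v w : ι → F) (hv : v ≠ 0) (hw : w ≠ 0) (hQv : Q v = 0) (hQw : Q w = 0) :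
    mkS Q v hv hQv = mkS Q w hw hQw ↔ ∃ a : F, a • w = v := by
  constructor
  · intro h
    have := congrArg Subtype.val h
    exact (Projectivization.mk_eq_mk_iff' F v w hv hw).mp this
  · intro h
    exact Subtype.ext ((Projectivization.mk_eq_mk_iff' F v w hv hw).mpr h)

theorem exists_mkS (p : ↥(singPts Q)) :
    ∃ (v : ι → F) (hv : v ≠ 0) (hQv : Q v = 0), p = mkS Q v hv hQv := by
  obtain ⟨p, hp⟩ := p
  induction p using Projectivization.ind with
  | h v hv =>
    have hp' : Q (Projectivization.mk F v hv).rep = 0 := hp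
    exact ⟨v, hv, (Q_rep_iff Q v hv).mp hp', rfl⟩

theorem EK_pretransitive (hQ : (polarBilin Q).Nondegenerate) {k : ℕ} (e f : Fin k → (ι → F))
    (hef : IsHypFamily Q e f) (hk : 3 ≤ k) :
    MulAction.IsPretransitive ↥(EK Q) ↥(singPts Q) := by
  constructor
  intro p p'
  obtain ⟨v, hv, hQv, rfl⟩ := exists_mkS Q p
  obtain ⟨w, hw, hQw, rfl⟩ := exists_mkS Q p'
  obtain ⟨g, hg, c, hc, hgv⟩ := exists_EK_move Q hQ e f hef hk v w hv hw hQv hQw
  refine ⟨⟨g, hg⟩, ?_⟩
  rw [smul_mkS, mkS_eq_iff]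
  exact ⟨c, hgv.symm⟩

theorem block_nonorth {B : Set ↥(singPts Q)} (hB : MulAction.IsBlock ↥(EK Q) B)
    (x y z : ι → F) (hx : x ≠ 0) (hy : y ≠ 0) (hz : z ≠ 0) (hQx : Q x = 0) (hQy : Q y = 0)
    (hQz : Q z = 0) (hxB : mkS Q x hx hQx ∈ B) (hyB : mkS Q y hy hQy ∈ B)
    (hxy : polar (⇑Q) x y ≠ 0) (hxz : polar (⇑Q) x z ≠ 0) : mkS Q z hz hQz ∈ B := by
  obtain ⟨g, hg, c, hc, hgx, hgy⟩ := exists_EK_nonorth Q x y z hQx hQy hQz hxy hxz
  rw [MulAction.isBlock_iff_smul_eq_of_mem] at hB
  have h1 : (⟨g, hg⟩ : ↥(EK Q)) • mkS Q x hx hQx = mkS Q x hx hQx := by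
    rw [smul_mkS, mkS_eq_iff]
    exact ⟨1, by rw [one_smul]; exact hgx.symm⟩
  have h2 : (⟨g, hg⟩ : ↥(EK Q)) • mkS Q y hy hQy = mkS Q z hz hQz := by
    rw [smul_mkS, mkS_eq_iff]
    exact ⟨c, hgy.symm⟩
  have h3 := hB (g := ⟨g, hg⟩) hxB (by rw [h1]; exact hxB)
  rw [← h3, ← h2]
  exact Set.smul_mem_smul_set hyB

/-- `EK` acts primitively on the singular points -/
theorem EK_preprimitive (hQ : (polarBilin Q).Nondegenerate) {k : ℕ} (e f : Fin k → (ι → F))
    (hef : IsHypFamily Q e f) (hk : 3 ≤ k) :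
    MulAction.IsPreprimitive ↥(EK Q) ↥(singPts Q) := by
  have : MulAction.IsPretransitive ↥(EK Q) ↥(singPts Q) := EK_pretransitive Q hQ e f hef hk
  apply MulAction.IsPreprimitive.mk
  intro B hB
  rcases B.subsingleton_or_nontrivial with h | h
  · left
    exact h
  · right
    obtain ⟨a, ha, b, hb, hab⟩ := h
    obtain ⟨x, hx, hQx, rfl⟩ := exists_mkS Q a
    obtain ⟨y, hy, hQy, rfl⟩ := exists_mkS Q b
    have key : ∃ (x' y' : ι → F) (hx' : x' ≠ 0) (hy' : y' ≠ 0) (hQx' : Q x' = 0)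
        (hQy' : Q y' = 0), mkS Q x' hx' hQx' ∈ B ∧ mkS Q y' hy' hQy' ∈ B ∧
          polar (⇑Q) x' y' ≠ 0 := by
      by_cases hxy : polar (⇑Q) x y = 0
      · have hli : LinearIndependent F ![x, y] := by
          rw [LinearIndependent.pair_iff' hx]
          intro c hc
          apply hab
          symm
          rw [mkS_eq_iff]
          exact ⟨c, hc⟩
        obtain ⟨g, hg, hgy, hgx⟩ := exists_EK_orth Q hQ e f hef hk x y hQx hli hxy
        have hB' := (MulAction.isBlock_iff_smul_eq_of_mem.mp hB) (g := ⟨g, hg⟩) hb (by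
          have : (⟨g, hg⟩ : ↥(EK Q)) • mkS Q y hy hQy = mkS Q y hy hQy := by
            rw [smul_mkS, mkS_eq_iff]
            exact ⟨1, by rw [one_smul]; exact hgy.symm⟩
          rw [this]
          exact hb)
        have hgxB : (⟨g, hg⟩ : ↥(EK Q)) • mkS Q x hx hQx ∈ B := by
          rw [← hB']
          exact Set.smul_mem_smul_set ha
        rw [smul_mkS] at hgxB
        exact ⟨x, (⟨g, hg⟩ : ↥(EK Q)) • x, hx, _, hQx, _, ha, hgxB, hgx⟩
      · exact ⟨x, y, hx, hy, hQx, hQy, ha, hb, hxy⟩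
    obtain ⟨x', y', hx', hy', hQx', hQy', hx'B, hy'B, hx'y'⟩ := key
    rw [← Set.top_eq_univ, eq_top_iff]
    intro c _
    obtain ⟨z, hz, hQz, rfl⟩ := exists_mkS Q c
    by_cases hxz : polar (⇑Q) x' z = 0
    · by_cases hli : LinearIndependent F ![x', z]
      · obtain ⟨t, hQt, ht1, ht2⟩ := exists_common_nonorth Q hQ x' z hQx' hli hxz
        have ht : t ≠ 0 := by
          rintro rfl
          rw [polar_zero_left] at ht1
          exact ht1 rfl
        have htB : mkS Q t ht hQt ∈ B :=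
          block_nonorth Q hB x' y' t hx' hy' ht hQx' hQy' hQt hx'B hy'B hx'y'
            (by rw [polar_comm]; exact ht1)
        exact block_nonorth Q hB t x' z ht hx' hz hQt hQx' hQz htB hx'B ht1 ht2
      · rw [LinearIndependent.pair_iff' hx'] at hli
        push Not at hli
        obtain ⟨s, hs⟩ := hli
        have hs0 : s ≠ 0 := by
          rintro rfl
          rw [zero_smul] at hs
          exact hz hs.symm
        have : mkS Q z hz hQz = mkS Q x' hx' hQx' := by
          rw [mkS_eq_iff]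
          exact ⟨s, hs⟩
        rw [this]
        exact hx'B
    · exact block_nonorth Q hB x' y' z hx' hy' hz hQx' hQy' hQz hx'B hy'B hx'y' hxz

/-! ### root groups -/

/-- Eichler transformation as an element of `EK` -/
def eichK (u w : ι → F) (hu : Q u = 0) (huw : polar (⇑Q) u w = 0) : ↥(EK Q) :=
  ⟨eichO Q u w hu huw, eichO_mem_EK Q u w hu huw⟩

theorem EK_eq_top_of_eichK (H : Subgroup ↥(EK Q))
    (h : ∀ (u w : ι → F) (hu : Q u = 0) (huw : polar (⇑Q) u w = 0), eichK Q u w hu huw ∈ H) :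
    H = ⊤ := by
  rw [eq_top_iff]
  rintro ⟨x, hx⟩ -
  unfold EK at hx
  induction hx using Subgroup.closure_induction with
  | mem s hs =>
    obtain ⟨u, w, hu, huw, rfl⟩ := hs
    exact h u w hu huw
  | one => exact H.one_mem
  | mul a b ha hb iha ihb => exact H.mul_mem iha ihb
  | inv a ha iha => exact H.inv_mem iha

/-- the root group of a singular vector -/
def rootGroup (u : ι → F) (hu : Q u = 0) : Subgroup ↥(EK Q) where
  carrier := {g | ∃ (w : ι → F) (huw : polar (⇑Q) u w = 0),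
    (g : ↥(Cfsg.isometryGroup F ⇑Q)) = eichO Q u w hu huw}
  one_mem' := ⟨0, by rw [polar_zero_right], (eichO_zero Q u hu).symm⟩
  mul_mem' := by
    rintro g h ⟨w, hw, hg⟩ ⟨w', hw', hh⟩
    exact ⟨w + w', _, by rw [Subgroup.coe_mul, hg, hh, eichO_mul]⟩
  inv_mem' := by
    rintro g ⟨w, hw, hg⟩
    exact ⟨-w, _, by rw [Subgroup.coe_inv, hg, eichO_inv]⟩

theorem mem_rootGroup (u : ι → F) (hu : Q u = 0) (g : ↥(EK Q)) :
    g ∈ rootGroup Q u hu ↔ ∃ (w : ι → F) (huw : polar (⇑Q) u w = 0),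
      (g : ↥(Cfsg.isometryGroup F ⇑Q)) = eichO Q u w hu huw := Iff.rfl

theorem eichK_mem_rootGroup (u w : ι → F) (hu : Q u = 0) (huw : polar (⇑Q) u w = 0) :
    eichK Q u w hu huw ∈ rootGroup Q u hu := ⟨w, huw, rfl⟩

theorem rootGroup_comm (u : ι → F) (hu : Q u = 0) : IsMulCommutative (rootGroup Q u hu) := by
  refine ⟨⟨?_⟩⟩
  rintro ⟨g, w, hw, hg⟩ ⟨h, w', hw', hh⟩
  apply Subtype.ext
  apply Subtype.ext
  change (g : ↥(Cfsg.isometryGroup F ⇑Q)) * (h : ↥(Cfsg.isometryGroup F ⇑Q)) =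
    (h : ↥(Cfsg.isometryGroup F ⇑Q)) * (g : ↥(Cfsg.isometryGroup F ⇑Q))
  rw [hg, hh, eichO_mul, eichO_mul]
  exact eichO_congr Q _ _ _ _ rfl (add_comm w w')

theorem eichO_smul_left (c : F) (u w : ι → F) (hu : Q u = 0) (hcu : Q (c • u) = 0)
    (huw : polar (⇑Q) (c • u) w = 0) (huw' : polar (⇑Q) u (c • w) = 0) :
    eichO Q (c • u) w hcu huw = eichO Q u (c • w) hu huw' := by
  apply O_ext
  intro x
  rw [eichO_smul, eichO_smul, polar_smul_left, polar_smul_left, Q_smul']
  simp only [smul_eq_mul]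
  module

theorem rootGroup_smul (c : F) (hc : c ≠ 0) (u : ι → F) (hu : Q u = 0)
    (hcu : Q (c • u) = 0) : rootGroup Q (c • u) hcu = rootGroup Q u hu := by
  ext g
  rw [mem_rootGroup, mem_rootGroup]
  constructor
  · rintro ⟨w, hw, hg⟩
    have hw' : polar (⇑Q) u (c • w) = 0 := by
      rw [polar_smul_right, ← polar_smul_left]
      exact hw
    exact ⟨c • w, hw', by rw [hg, eichO_smul_left Q c u w hu hcu hw hw']⟩
  · rintro ⟨w, hw, hg⟩
    have hw1 : polar (⇑Q) (c • u) (c⁻¹ • w) = 0 := by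
      rw [polar_smul_left, polar_smul_right, hw]
      simp
    have hw2 : polar (⇑Q) u (c • c⁻¹ • w) = 0 := by
      rw [smul_smul, mul_inv_cancel₀ hc, one_smul]
      exact hw
    refine ⟨c⁻¹ • w, hw1, ?_⟩
    rw [hg, eichO_smul_left Q c u (c⁻¹ • w) hu hcu hw1 hw2]
    exact eichO_congr Q _ _ _ _ rfl (by rw [smul_smul, mul_inv_cancel₀ hc, one_smul])

theorem rootGroup_conj (g : ↥(EK Q)) (u : ι → F) (hu : Q u = 0) (h' : Q (g • u) = 0) :
    rootGroup Q (g • u) h' = MulAut.conj g • rootGroup Q u hu := by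
  ext A
  rw [Subgroup.mem_smul_pointwise_iff_exists, mem_rootGroup]
  constructor
  · rintro ⟨w, hw, hA⟩
    have hc := eichO_conj Q (g : ↥(Cfsg.isometryGroup F ⇑Q))⁻¹ (g • u) w h' hw
    have h1 : (g : ↥(Cfsg.isometryGroup F ⇑Q))⁻¹ • (g • u) = u := inv_smul_smul _ u
    have hw' : polar (⇑Q) u ((g : ↥(Cfsg.isometryGroup F ⇑Q))⁻¹ • w) = 0 := by
      have := O_polar_smul Q (g : ↥(Cfsg.isometryGroup F ⇑Q))⁻¹ (g • u) w
      rw [h1, hw] at this
      exact this
    refine ⟨g⁻¹ * A * g, ⟨(g : ↥(Cfsg.isometryGroup F ⇑Q))⁻¹ • w, hw', ?_⟩, ?_⟩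
    · rw [Subgroup.coe_mul, Subgroup.coe_mul, Subgroup.coe_inv, hA]
      rw [inv_inv] at hc
      rw [hc]
      exact eichO_congr Q _ _ _ _ h1 rfl
    · rw [MulAut.smul_def, MulAut.conj_apply]
      group
  · rintro ⟨s, ⟨w, hw, hs⟩, rfl⟩
    refine ⟨g • w, by rw [EK_polar_smul]; exact hw, ?_⟩
    rw [MulAut.smul_def, MulAut.conj_apply, Subgroup.coe_mul, Subgroup.coe_mul,
      Subgroup.coe_inv, hs, eichO_conj]
    rfl

theorem rootGroup_rep_mk (w : ι → F) (hw : w ≠ 0) (hQw : Q w = 0)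
    (h' : Q (Projectivization.mk F w hw).rep = 0) :
    rootGroup Q (Projectivization.mk F w hw).rep h' = rootGroup Q w hQw := by
  obtain ⟨a, ha⟩ := Projectivization.exists_smul_eq_mk_rep F w hw
  have h1 : (Projectivization.mk F w hw).rep = (a : F) • w := by
    rw [← ha, Units.smul_def]
  have key : ∀ (v : ι → F) (hv : Q v = 0), v = (a : F) • w →
      rootGroup Q v hv = rootGroup Q w hQw := by
    intro v hv hvw
    subst hvw
    exact rootGroup_smul Q (a : F) a.ne_zero w hQw hv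
  exact key _ h' h1

theorem rootGroup_mkS (w : ι → F) (hw : w ≠ 0) (hQw : Q w = 0) :
    rootGroup Q (mkS Q w hw hQw).1.rep (mkS Q w hw hQw).2 = rootGroup Q w hQw :=
  rootGroup_rep_mk Q w hw hQw _

/-- the Iwasawa structure on `EK` acting on singular points -/
noncomputable def iwasawaEK : MulAction.IwasawaStructure ↥(EK Q) ↥(singPts Q) where
  T p := rootGroup Q p.1.rep p.2
  is_comm p := rootGroup_comm Q _ _
  is_conj g p := by
    obtain ⟨v, hv, hQv, rfl⟩ := exists_mkS Q p
    rw [smul_mkS, rootGroup_mkS, rootGroup_mkS]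
    exact rootGroup_conj Q g v hQv _
  is_generator := by
    apply EK_eq_top_of_eichK
    intro u w hu huw
    by_cases hu0 : u = 0
    · have : eichK Q u w hu huw = 1 := by
        apply Subtype.ext
        change eichO Q u w hu huw = 1
        subst hu0
        exact eichO_zero_left Q w
      rw [this]
      exact Subgroup.one_mem _
    · apply Subgroup.mem_iSup_of_mem (mkS Q u hu0 hu)
      rw [rootGroup_mkS]
      exact eichK_mem_rootGroup Q u w hu huw

/-! ### perfectness -/

theorem eichO_comm (z a u b : ι → F) (hz : Q z = 0) (hza : polar (⇑Q) z a = 0) (hu : Q u = 0)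
    (hub : polar (⇑Q) u b = 0) (hzu : polar (⇑Q) z u = 0) (hau : polar (⇑Q) a u = 0)
    (r : ι → F) (hr : polar (⇑Q) u r = 0)
    (hrdef : r = polar (⇑Q) z b • a - (polar (⇑Q) a b + Q a * polar (⇑Q) z b) • z) :
    ⁅eichO Q z a hz hza, eichO Q u b hu hub⁆ = eichO Q u r hu hr := by
  rw [commutatorElement_def, eichO_conj, eichO_inv Q u b]
  have h1 : eichO Q z a hz hza • u = u := by
    rw [eichO_smul, hzu, hau]
    simp
  have hub' : polar (⇑Q) u (eichO Q z a hz hza • b) = 0 := by
    have := O_polar_smul Q (eichO Q z a hz hza) u b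
    rw [h1, hub] at this
    exact this
  rw [eichO_congr Q _ _ hu hub' h1 rfl, eichO_mul]
  apply eichO_congr Q _ _ _ _ rfl
  rw [eichO_smul, hrdef]
  module

/-- `EK` is perfect -/
theorem EK_perfect (hQ : (polarBilin Q).Nondegenerate) {k : ℕ} (e f : Fin k → (ι → F))
    (hef : IsHypFamily Q e f) (hk : 3 ≤ k) : commutator ↥(EK Q) = ⊤ := by
  apply EK_eq_top_of_eichK
  intro u w hu huw
  obtain ⟨t, t', ht, ht', htt', hut, hwt, hut', hwt'⟩ := hyp_perp Q hQ e f hef hk u w
  obtain ⟨t₂, t₂', ht₂, ht₂', htt₂', hut₂, htt₂, hut₂', htt₂''⟩ :=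
    hyp_perp Q hQ e f hef hk u t
  have htw : polar (⇑Q) t w = 0 := by rw [polar_comm, hwt]
  have htu : polar (⇑Q) t u = 0 := by rw [polar_comm, hut]
  have hwu : polar (⇑Q) w u = 0 := by rw [polar_comm, huw]
  have hr1 : polar (⇑Q) u (w - Q w • t) = 0 := by
    rw [polar_sub_right, polar_smul_right, huw, hut]
    simp
  have hr2 : polar (⇑Q) u (Q w • t) = 0 := by rw [polar_smul_right, hut, smul_zero]
  have hc1 := eichO_comm Q t w u t' ht htw hu hut' htu hwu (w - Q w • t) hr1 (by
    rw [htt', hwt']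
    module)
  have ht₂a : polar (⇑Q) t₂ (Q w • t) = 0 := by
    rw [polar_smul_right, polar_comm (⇑Q) t₂ t, htt₂, smul_zero]
  have ht₂u : polar (⇑Q) t₂ u = 0 := by rw [polar_comm, hut₂]
  have hau : polar (⇑Q) (Q w • t) u = 0 := by rw [polar_smul_left, htu, smul_zero]
  have hc2 := eichO_comm Q t₂ (Q w • t) u t₂' ht₂ ht₂a hu hut₂' ht₂u hau (Q w • t) hr2 (by
    rw [htt₂', polar_smul_left, htt₂'', Q_smul', ht]
    simp)
  have hprod : eichK Q u w hu huw =
      ⁅eichK Q t w ht htw, eichK Q u t' hu hut'⁆ *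
        ⁅eichK Q t₂ (Q w • t) ht₂ ht₂a, eichK Q u t₂' hu hut₂'⁆ := by
    apply Subtype.ext
    change eichO Q u w hu huw = ⁅eichO Q t w ht htw, eichO Q u t' hu hut'⁆ *
      ⁅eichO Q t₂ (Q w • t) ht₂ ht₂a, eichO Q u t₂' hu hut₂'⁆
    rw [hc1, hc2, eichO_mul]
    exact eichO_congr Q _ _ _ _ rfl (by abel)
  rw [hprod, commutator_def]
  exact Subgroup.mul_mem _
    (Subgroup.commutator_mem_commutator (Subgroup.mem_top _) (Subgroup.mem_top _))
    (Subgroup.commutator_mem_commutator (Subgroup.mem_top _) (Subgroup.mem_top _))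

/-! ### the kernel of the action -/

theorem EK_ext {g h : ↥(EK Q)} (H : ∀ x : ι → F, g • x = h • x) : g = h := by
  apply Subtype.ext
  exact O_ext Q H

/-- a subgroup fixing all the singular points is central -/
theorem le_center_of_fixes (hQ : (polarBilin Q).Nondegenerate) {k : ℕ} (e f : Fin k → (ι → F))
    (hef : IsHypFamily Q e f) (hk : 3 ≤ k) (N : Subgroup ↥(EK Q))
    (h : MulAction.fixedPoints N ↥(singPts Q) = Set.univ) :
    N ≤ Subgroup.center ↥(EK Q) := by
  intro g hg
  have hfix : ∀ p : ↥(singPts Q), g • p = p := by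
    intro p
    have hp : p ∈ MulAction.fixedPoints N ↥(singPts Q) := by
      rw [h]
      trivial
    exact hp ⟨g, hg⟩
  have hscal : ∀ (u : ι → F), u ≠ 0 → Q u = 0 → ∃ l : F, g • u = l • u := by
    intro u hu hQu
    have := hfix (mkS Q u hu hQu)
    rw [smul_mkS, mkS_eq_iff] at this
    obtain ⟨a, ha⟩ := this
    exact ⟨a, ha.symm⟩
  have hsame_orth : ∀ (u v : ι → F) (l m : F), Q u = 0 → Q v = 0 →
      LinearIndependent F ![u, v] → polar (⇑Q) u v = 0 → g • u = l • u → g • v = m • v →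
      l = m := by
    intro u v l m hQu hQv hli huv hl hm
    have hQs : Q (u + v) = 0 := by rw [Q_add', hQu, hQv, huv]; ring
    have hli' := LinearIndependent.pair_iff.mp hli
    have hs0 : u + v ≠ 0 := by
      intro h0
      have := hli' 1 1 (by rw [one_smul, one_smul]; exact h0)
      exact one_ne_zero this.1
    obtain ⟨n, hn⟩ := hscal (u + v) hs0 hQs
    rw [smul_add, hl, hm] at hn
    have := hli' (l - n) (m - n) (by
      have : (l - n) • u + (m - n) • v = (l • u + m • v) - n • (u + v) := by module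
      rw [this, hn, sub_self])
    have h1 : l = n := by linear_combination this.1
    have h2 : m = n := by linear_combination this.2
    rw [h1, h2]
  have hsame : ∀ (u v : ι → F) (l m : F), u ≠ 0 → v ≠ 0 → Q u = 0 → Q v = 0 →
      g • u = l • u → g • v = m • v → l = m := by
    intro u v l m hu0 hv0 hQu hQv hl hm
    by_cases hli : LinearIndependent F ![u, v]
    · by_cases huv : polar (⇑Q) u v = 0
      · exact hsame_orth u v l m hQu hQv hli huv hl hm
      · obtain ⟨t, t', ht, -, htt', hut, hvt, hut', hvt'⟩ := hyp_perp Q hQ e f hef hk u v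
        have ht0 : t ≠ 0 := by
          rintro rfl
          rw [polar_zero_left] at htt'
          exact zero_ne_one htt'
        have hli1 : LinearIndependent F ![u, t] := by
          rw [LinearIndependent.pair_iff' hu0]
          intro s hs
          rw [← hs, polar_smul_left, hut', smul_zero] at htt'
          exact zero_ne_one htt'
        have hli2 : LinearIndependent F ![t, v] := by
          rw [LinearIndependent.pair_iff' ht0]
          intro s hs
          apply huv
          rw [← hs, polar_smul_right, hut, smul_zero]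
        obtain ⟨n, hn⟩ := hscal t ht0 ht
        rw [hsame_orth u t l n hQu ht hli1 hut hl hn]
        exact hsame_orth t v n m ht hQv hli2 (by rw [polar_comm, hvt]) hn hm
    · rw [LinearIndependent.pair_iff' hu0] at hli
      push Not at hli
      obtain ⟨s, hs⟩ := hli
      have h1 : g • v = l • v := by
        rw [← hs, smul_comm, hl, smul_comm]
      rw [hm] at h1
      have h2 : (m - l) • v = 0 := by rw [sub_smul, h1, sub_self]
      rcases smul_eq_zero.mp h2 with h3 | h3
      · linear_combination -h3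
      · exact absurd h3 hv0
  -- the common scalar
  have hk0 : 0 < k := by omega
  obtain ⟨l, hl⟩ := hscal (e ⟨0, hk0⟩) (hyp_e_ne_zero hef _) (hef.qe _)
  have hall : ∀ x : ι → F, g • x = l • x := by
    intro x
    obtain ⟨t, t', ht, ht', htt', hxt, -, hxt', -⟩ := hyp_perp Q hQ e f hef hk x x
    have ht0 : t ≠ 0 := by
      rintro rfl
      rw [polar_zero_left] at htt'
      exact zero_ne_one htt'
    have ht'0 : t' ≠ 0 := by
      rintro rfl
      rw [polar_zero_right] at htt'
      exact zero_ne_one htt'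
    set s : ι → F := x - Q x • t + t' with hs
    have hQs : Q s = 0 := by
      rw [hs, Q_add', Q_sub, Q_smul', ht, ht', polar_smul_right, hxt,
        polar_sub_left, polar_smul_left, hxt', htt']
      simp
    have hst : polar (⇑Q) s t = 1 := by
      rw [hs, polar_add_left, polar_sub_left, polar_smul_left, hxt, polar_self_of_sing Q t ht,
        polar_comm (⇑Q) t' t, htt']
      simp
    have hs0 : s ≠ 0 := by
      intro h0
      rw [h0, polar_zero_left] at hst
      exact zero_ne_one hst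
    obtain ⟨l1, hl1⟩ := hscal s hs0 hQs
    obtain ⟨l2, hl2⟩ := hscal t ht0 ht
    obtain ⟨l3, hl3⟩ := hscal t' ht'0 ht'
    have e1 := hsame _ s l l1 (hyp_e_ne_zero hef _) hs0 (hef.qe _) hQs hl hl1
    have e2 := hsame _ t l l2 (hyp_e_ne_zero hef _) ht0 (hef.qe _) ht hl hl2
    have e3 := hsame _ t' l l3 (hyp_e_ne_zero hef _) ht'0 (hef.qe _) ht' hl hl3
    rw [← e1] at hl1
    rw [← e2] at hl2
    rw [← e3] at hl3
    have hx : x = s + Q x • t - t' := by rw [hs]; abel
    have hgx : g • x = g • s + Q x • g • t - g • t' := by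
      conv_lhs => rw [hx]
      rw [EK_smul_def, O_smul_sub, smul_add, O_smul_smul_comm]
      rfl
    rw [hgx, hl1, hl2, hl3]
    conv_rhs => rw [hx]
    module
  rw [Subgroup.mem_center_iff]
  intro t
  apply EK_ext
  intro x
  rw [mul_smul, mul_smul, hall, hall, smul_comm]

/-- a group all of whose normal subgroups are central or everything has simple central
quotient -/
theorem simple_quot_center {G : Type*} [Group G] (x : G) (hx : x ∉ Subgroup.center G)
    (H : ∀ N : Subgroup G, N.Normal → N ≤ Subgroup.center G ∨ N = ⊤) :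
    IsSimpleGroup (G ⧸ Subgroup.center G) := by
  refine { exists_pair_ne := ⟨(x : G ⧸ Subgroup.center G), 1,
             fun h => hx ((QuotientGroup.eq_one_iff x).mp h)⟩,
           eq_bot_or_eq_top_of_normal := ?_ }
  intro K hK
  have hN : (K.comap (QuotientGroup.mk' (Subgroup.center G))).Normal := hK.comap _
  rcases H _ hN with h | h
  · left
    rw [eq_bot_iff]
    intro k hk
    obtain ⟨g, rfl⟩ := QuotientGroup.mk_surjective k
    have hg : g ∈ K.comap (QuotientGroup.mk' (Subgroup.center G)) := hk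
    rw [Subgroup.mem_bot, QuotientGroup.eq_one_iff]
    exact h hg
  · right
    rw [eq_top_iff]
    intro k _
    obtain ⟨g, rfl⟩ := QuotientGroup.mk_surjective k
    have hg : g ∈ K.comap (QuotientGroup.mk' (Subgroup.center G)) := by rw [h]; trivial
    exact hg

theorem EK_exists_noncentral (hQ : (polarBilin Q).Nondegenerate) {k : ℕ}
    (e f : Fin k → (ι → F)) (hef : IsHypFamily Q e f) (hk : 3 ≤ k) :
    ∃ x : ↥(EK Q), x ∉ Subgroup.center ↥(EK Q) := by
  by_contra hall
  simp only [not_exists, not_not] at hall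
  have hc : Subgroup.center ↥(EK Q) = ⊤ := by
    rw [eq_top_iff]
    intro x _
    exact hall x
  have hbot := (commutator_eq_bot_iff_center_eq_top _).mpr hc
  rw [EK_perfect Q hQ e f hef hk] at hbot
  set i0 : Fin k := ⟨0, by omega⟩ with hi0
  set i1 : Fin k := ⟨1, by omega⟩ with hi1
  have h01 : i0 ≠ i1 := by rw [hi0, hi1]; simp [Fin.ext_iff]
  have h1 : eichK Q (e i0) (e i1) (hef.qe _) (hef.ee _ _) ∈ (⊤ : Subgroup ↥(EK Q)) :=
    Subgroup.mem_top _
  rw [hbot, Subgroup.mem_bot] at h1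
  have h2 := eichO_smul Q (e i0) (e i1) (hef.qe _) (hef.ee _ _) (f i0)
  have h3 : eichO Q (e i0) (e i1) (hef.qe _) (hef.ee _ _) = 1 := congrArg Subtype.val h1
  rw [h3, one_smul, hef.ef, hef.ef, if_pos rfl, if_neg h01.symm, hef.qe] at h2
  have h4 : e i1 = 0 := by simpa using h2
  exact hyp_e_ne_zero hef i1 h4

/-- `EK Q` modulo its centre is simple -/
theorem EK_quot_simple (hQ : (polarBilin Q).Nondegenerate) {k : ℕ}
    (e f : Fin k → (ι → F)) (hef : IsHypFamily Q e f) (hk : 3 ≤ k) :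
    IsSimpleGroup (↥(EK Q) ⧸ Subgroup.center ↥(EK Q)) := by
  have hperf := EK_perfect Q hQ e f hef hk
  obtain ⟨x, hx⟩ := EK_exists_noncentral Q hQ e f hef hk
  have hprim := EK_preprimitive Q hQ e f hef hk
  apply simple_quot_center x hx
  intro N hN
  by_cases hfix : MulAction.fixedPoints N ↥(singPts Q) = Set.univ
  · exact Or.inl (le_center_of_fixes Q hQ e f hef hk N hfix)
  · right
    have := (iwasawaEK Q).commutator_le N hfix
    rw [hperf] at this
    exact eq_top_iff.mpr this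

/-- `Ω(Q)` is the group generated by the Eichler transformations -/
theorem omega_eq_EK [Finite F] (hQ : (polarBilin Q).Nondegenerate) {k : ℕ}
    (e f : Fin k → (ι → F)) (hef : IsHypFamily Q e f) (hk : 3 ≤ k)
    (hn : 5 ≤ Fintype.card ι) : Cfsg.Omega F ⇑Q = EK Q := by
  apply le_antisymm (omega_le_EK Q hQ hn)
  have hperf := EK_perfect Q hQ e f hef hk
  have h1 : (commutator ↥(EK Q)).map (EK Q).subtype = EK Q := by
    rw [hperf, ← MonoidHom.range_eq_map, Subgroup.range_subtype]
  rw [← h1, commutator_def, Subgroup.map_commutator]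
  exact Subgroup.commutator_mono le_top le_top

/-- `PΩ(Q)` is simple when `Q` has nondegenerate polar form and Witt index at least 3 -/
theorem pomega_simple [Finite F] (hQ : (polarBilin Q).Nondegenerate) {k : ℕ}
    (e f : Fin k → (ι → F)) (hef : IsHypFamily Q e f) (hk : 3 ≤ k)
    (hn : 5 ≤ Fintype.card ι) : IsSimpleGroup (Cfsg.POmega F ⇑Q) := by
  have h := omega_eq_EK Q hQ e f hef hk hn
  change IsSimpleGroup (↥(Cfsg.Omega F ⇑Q) ⧸ Subgroup.center ↥(Cfsg.Omega F ⇑Q))
  rw [h]
  exact EK_quot_simple Q hQ e f hef hk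

end OrthSimple

end Cfsg.Agent.Helper13
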