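import Mathlib
import Cfsg.Agent.Lib.Helper13.OrthSimple

/-!
# Point radicals of `Ω(Q)`: basic calculus

Total version `E u w` of the Eichler elements of `EK Q`, fixed vectors of the root groups, the
centre of `EK Q` consists of scalars, and the root groups are self-centralising modulo the centre.
-/

set_option autoImplicit false

namespace Cfsg.Agent.Helper13.OrthPermA

open Matrix QuadraticMap Cfsg.Agent.Helper13 Cfsg.Agent.Helper43 Cfsg.Agent.Helper14.ReflGen
open scoped commutatorElement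

variable {F : Type*} [Field F] {ι : Type} [Fintype ι] [DecidableEq ι]
  (Q : QuadraticForm F (ι → F))

/-- the standing hypotheses: nondegenerate polar form and Witt index at least three -/
structure WI3 : Prop where
  nd : (polarBilin Q).Nondegenerate
  hyp : ∃ (k : ℕ) (e f : Fin k → (ι → F)), IsHypFamily Q e f ∧ 3 ≤ k

variable {Q}

theorem WI3.perp (h : WI3 Q) (a b : ι → F) :
    ∃ t t' : ι → F, Q t = 0 ∧ Q t' = 0 ∧ polar (⇑Q) t t' = 1 ∧ polar (⇑Q) a t = 0 ∧
      polar (⇑Q) b t = 0 ∧ polar (⇑Q) a t' = 0 ∧ polar (⇑Q) b t' = 0 := by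
  obtain ⟨k, e, f, hef, hk⟩ := h.hyp
  exact hyp_perp Q h.nd e f hef hk a b

variable (Q)

open Classical in
/-- total Eichler element -/
noncomputable def E (u w : ι → F) : ↥(EK Q) :=
  if h : Q u = 0 ∧ polar (⇑Q) u w = 0 then eichK Q u w h.1 h.2 else 1

variable {Q}

theorem E_eq {u w : ι → F} (hu : Q u = 0) (huw : polar (⇑Q) u w = 0) :
    E Q u w = eichK Q u w hu huw := dif_pos ⟨hu, huw⟩

theorem E_coe {u w : ι → F} (hu : Q u = 0) (huw : polar (⇑Q) u w = 0) :
    ((E Q u w : ↥(EK Q)) : ↥(Cfsg.isometryGroup F ⇑Q)) = eichO Q u w hu huw := by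
  rw [E_eq hu huw]; rfl

theorem E_smul {u w : ι → F} (hu : Q u = 0) (huw : polar (⇑Q) u w = 0) (x : ι → F) :
    E Q u w • x = x + polar (⇑Q) u x • w - polar (⇑Q) w x • u - (Q w * polar (⇑Q) u x) • u := by
  rw [EK_smul_def, E_coe hu huw, eichO_smul]

theorem E_mul {u w w' : ι → F} (hu : Q u = 0) (huw : polar (⇑Q) u w = 0)
    (huw' : polar (⇑Q) u w' = 0) : E Q u w * E Q u w' = E Q u (w + w') := by
  have h3 : polar (⇑Q) u (w + w') = 0 := by rw [polar_add_right, huw, huw', add_zero]
  apply Subtype.ext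
  rw [Subgroup.coe_mul, E_coe hu huw, E_coe hu huw', E_coe hu h3, eichO_mul]

theorem E_zero (u : ι → F) : E Q u 0 = 1 := by
  by_cases hu : Q u = 0
  · apply Subtype.ext
    rw [E_coe hu (by rw [polar_zero_right]), eichO_zero]; rfl
  · unfold E
    rw [dif_neg (fun h => hu h.1)]

theorem E_inv {u w : ι → F} (hu : Q u = 0) (huw : polar (⇑Q) u w = 0) :
    (E Q u w)⁻¹ = E Q u (-w) := by
  have h3 : polar (⇑Q) u (-w) = 0 := by rw [polar_neg_right, huw, neg_zero]
  apply Subtype.ext
  rw [Subgroup.coe_inv, E_coe hu huw, E_coe hu h3, eichO_inv]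

theorem E_conj (g : ↥(EK Q)) {u w : ι → F} (hu : Q u = 0) (huw : polar (⇑Q) u w = 0) :
    g * E Q u w * g⁻¹ = E Q (g • u) (g • w) := by
  have hu' : Q (g • u) = 0 := by rw [EK_Q_smul, hu]
  have huw' : polar (⇑Q) (g • u) (g • w) = 0 := by rw [EK_polar_smul, huw]
  apply Subtype.ext
  rw [Subgroup.coe_mul, Subgroup.coe_mul, Subgroup.coe_inv, E_coe hu huw, E_coe hu' huw',
    eichO_conj]
  rfl

theorem E_ext {u w u' w' : ι → F} (h1 : u = u') (h2 : w = w') : E Q u w = E Q u' w' := by
  rw [h1, h2]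

theorem E_smul_left (c : F) {u w : ι → F} (hu : Q u = 0) (huw : polar (⇑Q) u w = 0) :
    E Q (c • u) w = E Q u (c • w) := by
  have hcu : Q (c • u) = 0 := by rw [Q_smul', hu, mul_zero]
  have h1 : polar (⇑Q) (c • u) w = 0 := by rw [polar_smul_left, huw, smul_zero]
  have h2 : polar (⇑Q) u (c • w) = 0 := by rw [polar_smul_right, huw, smul_zero]
  apply Subtype.ext
  rw [E_coe hcu h1, E_coe hu h2, eichO_smul_left Q c u w hu hcu h1 h2]

theorem polar_self_sing {u : ι → F} (hu : Q u = 0) : polar (⇑Q) u u = 0 :=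
  polar_self_of_sing Q u hu

theorem E_add_smul (c : F) {u w : ι → F} (hu : Q u = 0) (huw : polar (⇑Q) u w = 0) :
    E Q u (w + c • u) = E Q u w := by
  have h3 : polar (⇑Q) u (w + c • u) = 0 := by
    rw [polar_add_right, polar_smul_right, huw, polar_self_sing hu]; simp
  apply EK_ext
  intro x
  rw [E_smul hu h3, E_smul hu huw, polar_add_left, polar_smul_left, Q_add', Q_smul', hu,
    polar_smul_right, polar_comm (⇑Q) w u, huw]
  simp only [smul_eq_mul]
  module

theorem E_smul_self (c : F) {u : ι → F} (hu : Q u = 0) : E Q u (c • u) = 1 := by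
  have := E_add_smul c hu (show polar (⇑Q) u 0 = 0 by rw [polar_zero_right])
  rw [zero_add] at this
  rw [this, E_zero]

theorem mem_rootGroup_iff {u : ι → F} (hu : Q u = 0) (g : ↥(EK Q)) :
    g ∈ rootGroup Q u hu ↔ ∃ w, polar (⇑Q) u w = 0 ∧ g = E Q u w := by
  rw [mem_rootGroup]
  constructor
  · rintro ⟨w, hw, hg⟩
    refine ⟨w, hw, ?_⟩
    apply Subtype.ext
    rw [hg, E_coe hu hw]
  · rintro ⟨w, hw, rfl⟩
    exact ⟨w, hw, E_coe hu hw⟩

theorem E_mem_rootGroup {u w : ι → F} (hu : Q u = 0) (huw : polar (⇑Q) u w = 0) :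
    E Q u w ∈ rootGroup Q u hu := (mem_rootGroup_iff hu _).2 ⟨w, huw, rfl⟩

/-- linearity of the action -/
theorem smul_add' (g : ↥(EK Q)) (x y : ι → F) : g • (x + y) = g • x + g • y := by
  rw [EK_smul_def, EK_smul_def, EK_smul_def, O_smul_def, O_smul_def, O_smul_def,
    Matrix.mulVec_add]

theorem smul_smul' (g : ↥(EK Q)) (c : F) (x : ι → F) : g • (c • x) = c • (g • x) := by
  rw [EK_smul_def, EK_smul_def, O_smul_smul_comm]

theorem smul_sub' (g : ↥(EK Q)) (x y : ι → F) : g • (x - y) = g • x - g • y := by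
  rw [EK_smul_def, EK_smul_def, EK_smul_def, O_smul_sub]

theorem smul_zero' (g : ↥(EK Q)) : g • (0 : ι → F) = 0 := by
  have := smul_smul' g (0 : F) (0 : ι → F)
  rw [zero_smul, zero_smul] at this
  exact this

/-! ### geometry tools -/

/-- adjust a vector by a hyperbolic pair to make it singular -/
theorem sing_adjust {t t' : ι → F} (ht : Q t = 0) (_ht' : Q t' = 0) (htt' : polar (⇑Q) t t' = 1)
    (x0 : ι → F) : ∃ x : ι → F, Q x = 0 ∧
      ∀ a : ι → F, polar (⇑Q) a t = 0 → polar (⇑Q) a t' = 0 →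
        polar (⇑Q) a x = polar (⇑Q) a x0 := by
  set x1 : ι → F := x0 + (1 - polar (⇑Q) t x0) • t' with hx1
  have h1 : polar (⇑Q) t x1 = 1 := by
    rw [hx1, polar_add_right, polar_smul_right, htt']
    simp
  obtain ⟨hs, hp⟩ := singularize Q t x1 ht h1
  refine ⟨x1 - Q x1 • t, hs, ?_⟩
  intro a hat hat'
  rw [hp, hx1, polar_add_right, polar_smul_right, hat, hat']
  simp

/-- a singular partner -/
theorem WI3.partner (h : WI3 Q) {u : ι → F} (hu0 : u ≠ 0) (hu : Q u = 0) :
    ∃ v : ι → F, Q v = 0 ∧ polar (⇑Q) u v = 1 := by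
  have hli : LinearIndependent F ![u] := by
    rw [linearIndependent_unique_iff]
    exact hu0
  obtain ⟨z0, hz0⟩ := polar_prescribe Q h.nd ![u] hli ![1]
  have h1 : polar (⇑Q) u z0 = 1 := hz0 0
  obtain ⟨hs, hp⟩ := singularize Q u z0 hu h1
  refine ⟨_, hs, ?_⟩
  rw [hp, h1, polar_self_sing hu]
  simp

omit [Fintype ι] [DecidableEq ι] in
theorem pair_indep {u y : ι → F} (hu0 : u ≠ 0) (hy : ∀ c : F, y ≠ c • u) :
    LinearIndependent F ![u, y] := by
  rw [LinearIndependent.pair_iff' hu0]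
  intro a ha
  exact hy a ha.symm

/-- a vector orthogonal to `u` with prescribed product with an independent `y` -/
theorem WI3.sep (h : WI3 Q) {u y : ι → F} (hu0 : u ≠ 0) (hy : ∀ c : F, y ≠ c • u) (a b : F) :
    ∃ w : ι → F, polar (⇑Q) u w = a ∧ polar (⇑Q) y w = b := by
  obtain ⟨w, hw⟩ := polar_prescribe Q h.nd ![u, y] (pair_indep hu0 hy) ![a, b]
  exact ⟨w, hw 0, hw 1⟩

/-- a singular vector orthogonal to `u` with prescribed product with an independent `y ⊥ u`-/
theorem WI3.sing_sep (h : WI3 Q) {u y : ι → F} (hu0 : u ≠ 0) (hy : ∀ c : F, y ≠ c • u) :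
    ∃ x : ι → F, Q x = 0 ∧ polar (⇑Q) u x = 0 ∧ polar (⇑Q) y x = 1 := by
  obtain ⟨x0, h1, h2⟩ := h.sep hu0 hy 0 1
  obtain ⟨t, t', ht, ht', htt', hut, hyt, hut', hyt'⟩ := h.perp u y
  obtain ⟨x, hx, hp⟩ := sing_adjust ht ht' htt' x0
  exact ⟨x, hx, by rw [hp u hut hut', h1], by rw [hp y hyt hyt', h2]⟩

/-! ### fixed vectors of a root group -/

theorem fixed_of_rootGroup (h : WI3 Q) {u : ι → F} (hu0 : u ≠ 0) (hu : Q u = 0) (y : ι → F)
    (hy : ∀ w, polar (⇑Q) u w = 0 → E Q u w • y = y) : ∃ c : F, y = c • u := by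
  by_contra hcon
  push Not at hcon
  by_cases hb : polar (⇑Q) u y = 0
  · obtain ⟨w, h1, h2⟩ := h.sep hu0 hcon 0 1
    have := hy w h1
    rw [E_smul hu h1, hb, polar_comm (⇑Q) w y, h2] at this
    simp only [zero_smul, add_zero, one_smul, mul_zero, sub_zero] at this
    apply hu0
    have h3 : y - u - y = 0 := by rw [this, sub_self]
    have h4 : y - u - y = -u := by abel
    rw [h4] at h3
    exact neg_eq_zero.mp h3
  · obtain ⟨t, t', ht, ht', htt', hut, hyt, hut', hyt'⟩ := h.perp u y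
    have := hy t hut
    rw [E_smul hu hut, polar_comm (⇑Q) t y, hyt, ht] at this
    simp only [zero_smul, sub_zero, zero_mul] at this
    have h3 : polar (⇑Q) u y • t = 0 := by
      have h4 : polar (⇑Q) u y • t = (y + polar (⇑Q) u y • t) - y := by abel
      rw [h4, this, sub_self]
    rcases smul_eq_zero.mp h3 with h5 | h5
    · exact hb h5
    · rw [h5, polar_zero_left] at htt'
      exact zero_ne_one htt'

theorem E_eq_one_iff (h : WI3 Q) {u w : ι → F} (hu0 : u ≠ 0) (hu : Q u = 0)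
    (huw : polar (⇑Q) u w = 0) : E Q u w = 1 ↔ ∃ c : F, w = c • u := by
  constructor
  · intro h1
    obtain ⟨v, hv, huv⟩ := h.partner hu0 hu
    have h2 : E Q u w • v = v := by rw [h1, one_smul]
    rw [E_smul hu huw, huv] at h2
    refine ⟨polar (⇑Q) w v + Q w, ?_⟩
    have h3 : v + (1 : F) • w - polar (⇑Q) w v • u - (Q w * 1) • u - v = 0 := by
      rw [h2, sub_self]
    calc w = (v + (1 : F) • w - polar (⇑Q) w v • u - (Q w * 1) • u - v) +
        (polar (⇑Q) w v + Q w) • u := by module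
      _ = (polar (⇑Q) w v + Q w) • u := by rw [h3, zero_add]
  · rintro ⟨c, rfl⟩
    exact E_smul_self c hu

theorem E_eq_iff (h : WI3 Q) {u w w' : ι → F} (hu0 : u ≠ 0) (hu : Q u = 0)
    (huw : polar (⇑Q) u w = 0) (huw' : polar (⇑Q) u w' = 0) :
    E Q u w = E Q u w' ↔ ∃ c : F, w - w' = c • u := by
  have h3 : polar (⇑Q) u (-w') = 0 := by rw [polar_neg_right, huw', neg_zero]
  have h4 : polar (⇑Q) u (w - w') = 0 := by rw [polar_sub_right, huw, huw', sub_zero]
  rw [← E_eq_one_iff h hu0 hu h4, sub_eq_add_neg, ← E_mul hu huw h3, ← E_inv hu huw',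
    mul_inv_eq_one]

/-! ### the centre consists of scalars -/

theorem scalar_of_commute (h : WI3 Q) (z : ↥(EK Q))
    (hz : ∀ (u w : ι → F), Q u = 0 → polar (⇑Q) u w = 0 → z * E Q u w = E Q u w * z) :
    ∃ l : F, ∀ x : ι → F, z • x = l • x := by
  obtain ⟨k, e, f, hef, hk⟩ := h.hyp
  have hQ := h.nd
  have hscal : ∀ (u : ι → F), u ≠ 0 → Q u = 0 → ∃ l : F, z • u = l • u := by
    intro u hu0 hu
    apply fixed_of_rootGroup h hu0 hu
    intro w hw
    rw [← mul_smul, ← hz u w hu hw, mul_smul]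
    congr 1
    rw [E_smul hu hw, polar_self_sing hu, polar_comm (⇑Q) w u, hw]
    simp
  have hsame_orth : ∀ (u v : ι → F) (l m : F), Q u = 0 → Q v = 0 →
      LinearIndependent F ![u, v] → polar (⇑Q) u v = 0 → z • u = l • u → z • v = m • v →
      l = m := by
    intro u v l m hQu hQv hli huv hl hm
    have hQs : Q (u + v) = 0 := by rw [Q_add', hQu, hQv, huv]; ring
    have hli' := LinearIndependent.pair_iff.mp hli
    have hs0 : u + v ≠ 0 := by
      intro h0
      have := hli' 1 1 (by rw [one_smul, one_smul]; exact h0)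
      exact one_ne_zero this.1
    obtain ⟨n, hn⟩ := hscal (u + v) hs0 hQs
    rw [smul_add', hl, hm] at hn
    have := hli' (l - n) (m - n) (by
      have : (l - n) • u + (m - n) • v = (l • u + m • v) - n • (u + v) := by module
      rw [this, hn, sub_self])
    have h1 : l = n := by linear_combination this.1
    have h2 : m = n := by linear_combination this.2
    rw [h1, h2]
  have hsame : ∀ (u v : ι → F) (l m : F), u ≠ 0 → v ≠ 0 → Q u = 0 → Q v = 0 →
      z • u = l • u → z • v = m • v → l = m := by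
    intro u v l m hu0 hv0 hQu hQv hl hm
    by_cases hli : LinearIndependent F ![u, v]
    · by_cases huv : polar (⇑Q) u v = 0
      · exact hsame_orth u v l m hQu hQv hli huv hl hm
      · obtain ⟨t, t', ht, -, htt', hut, hvt, hut', hvt'⟩ := hyp_perp Q hQ e f hef hk u v
        have ht0 : t ≠ 0 := by
          rintro rfl
          rw [polar_zero_left] at htt'
          exact zero_ne_one htt'
        have hli1 : LinearIndependent F ![u, t] := by
          rw [LinearIndependent.pair_iff' hu0]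
          intro s hs
          rw [← hs, polar_smul_left, hut', smul_zero] at htt'
          exact zero_ne_one htt'
        have hli2 : LinearIndependent F ![t, v] := by
          rw [LinearIndependent.pair_iff' ht0]
          intro s hs
          apply huv
          rw [← hs, polar_smul_right, hut, smul_zero]
        obtain ⟨n, hn⟩ := hscal t ht0 ht
        rw [hsame_orth u t l n hQu ht hli1 hut hl hn]
        exact hsame_orth t v n m ht hQv hli2 (by rw [polar_comm, hvt]) hn hm
    · rw [LinearIndependent.pair_iff' hu0] at hli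
      push Not at hli
      obtain ⟨s, hs⟩ := hli
      have h1 : z • v = l • v := by
        rw [← hs, smul_smul', hl, smul_comm]
      rw [hm] at h1
      have h2 : (m - l) • v = 0 := by rw [sub_smul, h1, sub_self]
      rcases smul_eq_zero.mp h2 with h3 | h3
      · linear_combination -h3
      · exact absurd h3 hv0
  have hk0 : 0 < k := by omega
  obtain ⟨l, hl⟩ := hscal (e ⟨0, hk0⟩) (hyp_e_ne_zero hef _) (hef.qe _)
  refine ⟨l, ?_⟩
  intro x
  obtain ⟨t, t', ht, ht', htt', hxt, -, hxt', -⟩ := hyp_perp Q hQ e f hef hk x x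
  have ht0 : t ≠ 0 := by
    rintro rfl
    rw [polar_zero_left] at htt'
    exact zero_ne_one htt'
  have ht'0 : t' ≠ 0 := by
    rintro rfl
    rw [polar_zero_right] at htt'
    exact zero_ne_one htt'
  set s : ι → F := x - Q x • t + t' with hs
  have hQs : Q s = 0 := by
    rw [hs, Q_add', Q_sub, Q_smul', ht, ht', polar_smul_right, hxt,
      polar_sub_left, polar_smul_left, hxt', htt']
    simp
  have hst : polar (⇑Q) s t = 1 := by
    rw [hs, polar_add_left, polar_sub_left, polar_smul_left, hxt, polar_self_of_sing Q t ht,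
      polar_comm (⇑Q) t' t, htt']
    simp
  have hs0 : s ≠ 0 := by
    intro h0
    rw [h0, polar_zero_left] at hst
    exact zero_ne_one hst
  obtain ⟨l1, hl1⟩ := hscal s hs0 hQs
  obtain ⟨l2, hl2⟩ := hscal t ht0 ht
  obtain ⟨l3, hl3⟩ := hscal t' ht'0 ht'
  have e1 := hsame _ s l l1 (hyp_e_ne_zero hef _) hs0 (hef.qe _) hQs hl hl1
  have e2 := hsame _ t l l2 (hyp_e_ne_zero hef _) ht0 (hef.qe _) ht hl hl2
  have e3 := hsame _ t' l l3 (hyp_e_ne_zero hef _) ht'0 (hef.qe _) ht' hl hl3
  rw [← e1] at hl1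
  rw [← e2] at hl2
  rw [← e3] at hl3
  have hx : x = s + Q x • t - t' := by rw [hs]; abel
  have hgx : z • x = z • s + Q x • z • t - z • t' := by
    conv_lhs => rw [hx]
    rw [smul_sub', smul_add', smul_smul']
  rw [hgx, hl1, hl2, hl3]
  conv_rhs => rw [hx]
  module

theorem center_scalar (h : WI3 Q) (z : ↥(EK Q)) (hz : z ∈ Subgroup.center ↥(EK Q)) :
    ∃ l : F, ∀ x : ι → F, z • x = l • x := by
  apply scalar_of_commute h z
  intro u w _ _
  exact (Subgroup.mem_center_iff.mp hz (E Q u w)).symm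

theorem mem_center_of_scalar (z : ↥(EK Q)) (l : F) (hz : ∀ x : ι → F, z • x = l • x) :
    z ∈ Subgroup.center ↥(EK Q) := by
  rw [Subgroup.mem_center_iff]
  intro t
  apply EK_ext
  intro x
  rw [mul_smul, mul_smul, hz, hz, smul_smul']

end Cfsg.Agent.Helper13.OrthPermA
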