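import Mathlib
import Cfsg.Agent.Lib.Helper13.OrthPermA

/-!
# Point radicals of `Ω(Q)`: self-centralising and minimal normal
-/

set_option autoImplicit false

namespace Cfsg.Agent.Helper13.OrthPermB

open Matrix QuadraticMap Cfsg.Agent.Helper13 Cfsg.Agent.Helper43 Cfsg.Agent.Helper14.ReflGen
open Cfsg.Agent.Helper13.OrthPermA
open scoped commutatorElement

variable {F : Type*} [Field F] {ι : Type} [Fintype ι] [DecidableEq ι]
  {Q : QuadraticForm F (ι → F)}

theorem E_fix_self {u w : ι → F} (hu : Q u = 0) (huw : polar (⇑Q) u w = 0) :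
    E Q u w • u = u := by
  rw [E_smul hu huw, polar_self_sing hu, polar_comm (⇑Q) w u, huw]
  simp

/-- an isometry acting as `l` on `u` and as `l⁻¹ = l` on `u^⊥/u` is `l` times an Eichler
element -/
theorem eich_of_trivial (h : WI3 Q) {u : ι → F} (hu0 : u ≠ 0) (hu : Q u = 0) (g : ↥(EK Q))
    (l : F) (hl : l * l = 1) (hgu : g • u = l • u)
    (hg : ∀ w, polar (⇑Q) u w = 0 → ∃ c : F, l • (g • w) = w + c • u) :
    ∃ w0 : ι → F, polar (⇑Q) u w0 = 0 ∧ ∀ x : ι → F, g • x = l • (E Q u w0 • x) := by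
  obtain ⟨v, hv, huv⟩ := h.partner hu0 hu
  have h1 : polar (⇑Q) u (g • v) = l := by
    have := EK_polar_smul Q g u v
    rw [hgu, polar_smul_left, huv, smul_eq_mul] at this
    calc polar (⇑Q) u (g • v) = (l * l) * polar (⇑Q) u (g • v) := by rw [hl, one_mul]
      _ = l * (l * polar (⇑Q) u (g • v)) := by ring
      _ = l := by rw [this, mul_one]
  obtain ⟨d, hd⟩ : ∃ d : ι → F, d = l • (g • v) - v := ⟨_, rfl⟩
  have hud : polar (⇑Q) u d = 0 := by
    rw [hd, polar_sub_right, polar_smul_right, h1, huv, smul_eq_mul, hl, sub_self]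
  have hvd : v + d = l • (g • v) := by rw [hd]; abel
  have hQvd : Q (v + d) = 0 := by rw [hvd, Q_smul', EK_Q_smul, hv, mul_zero]
  have hpvd : polar (⇑Q) v d = -Q d := by
    rw [Q_add', hv] at hQvd
    linear_combination hQvd
  have key : ∀ x : ι → F, l • (g • x) = E Q u d • x := by
    intro x
    obtain ⟨b, hb⟩ : ∃ b : F, b = polar (⇑Q) u x := ⟨_, rfl⟩
    obtain ⟨x', hx'⟩ : ∃ x' : ι → F, x' = x - b • v := ⟨_, rfl⟩
    have hux' : polar (⇑Q) u x' = 0 := by
      rw [hx', polar_sub_right, polar_smul_right, huv, ← hb]; simp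
    obtain ⟨c, hc⟩ := hg x' hux'
    have hc' : c = -polar (⇑Q) x' d := by
      have e1 : polar (⇑Q) (l • (g • x')) (l • (g • v)) = polar (⇑Q) x' v := by
        rw [polar_smul_left, polar_smul_right, EK_polar_smul, smul_eq_mul, smul_eq_mul,
          ← mul_assoc, hl, one_mul]
      rw [hc, ← hvd] at e1
      simp only [polar_add_left, polar_add_right, polar_smul_left, huv, hud, smul_eq_mul] at e1
      linear_combination e1
    have hxx : x = x' + b • v := by rw [hx']; abel
    have e2 : l • (g • x) = (x' + c • u) + b • (v + d) := by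
      conv_lhs => rw [hxx]
      rw [smul_add', smul_add, smul_smul', smul_comm l b, hc, hvd]
    rw [e2, E_smul hu hud, ← hb]
    have e3 : polar (⇑Q) d x = polar (⇑Q) x' d - b * Q d := by
      conv_lhs => rw [hxx]
      rw [polar_add_right, polar_smul_right, polar_comm (⇑Q) d v, hpvd, polar_comm (⇑Q) d x']
      simp only [smul_eq_mul]
      ring
    rw [e3, hc']
    conv_rhs => rw [hxx]
    module
  refine ⟨d, hud, ?_⟩
  intro x
  rw [← key x, smul_smul, hl, one_smul]

/-- the root group is self-centralising modulo the centre -/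
theorem self_centralizing (h : WI3 Q) {u : ι → F} (hu0 : u ≠ 0) (hu : Q u = 0) (g : ↥(EK Q))
    (hg : ∀ w, polar (⇑Q) u w = 0 → ⁅g, E Q u w⁆ ∈ Subgroup.center ↥(EK Q)) :
    ∃ w0, polar (⇑Q) u w0 = 0 ∧ g * (E Q u w0)⁻¹ ∈ Subgroup.center ↥(EK Q) := by
  have hu1 : Q (g • u) = 0 := by rw [EK_Q_smul, hu]
  have hgu0 : g • u ≠ 0 := EK_smul_ne_zero Q g u hu0
  -- the commutator
  have hcomm : ∀ w, polar (⇑Q) u w = 0 →
      ⁅g, E Q u w⁆ = E Q (g • u) (g • w) * (E Q u w)⁻¹ := by
    intro w hw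
    rw [commutatorElement_def, E_conj g hu hw]
  -- step 1
  have step1 : ∀ w1, polar (⇑Q) (g • u) w1 = 0 → ∃ ε : F, E Q (g • u) w1 • u = ε • u := by
    intro w1 hw1
    set w : ι → F := g⁻¹ • w1 with hw
    have hgw : g • w = w1 := by rw [hw, smul_inv_smul]
    have huw : polar (⇑Q) u w = 0 := by
      have := EK_polar_smul Q g u w
      rw [hgw, hw1] at this
      exact this.symm
    obtain ⟨ε, hε⟩ := center_scalar h _ (hg w huw)
    refine ⟨ε, ?_⟩
    have e1 : E Q (g • u) w1 = ⁅g, E Q u w⁆ * E Q u w := by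
      rw [hcomm w huw, hgw, inv_mul_cancel_right]
    rw [e1, mul_smul, E_fix_self hu huw, hε]
  -- step 2
  have step2 : ∃ l : F, g • u = l • u := by
    by_contra hcon
    push Not at hcon
    have hperp : polar (⇑Q) (g • u) u = 0 := by
      obtain ⟨t, t', ht, ht', htt', h1t, hut, h1t', hut'⟩ := h.perp (g • u) u
      obtain ⟨ε, hε⟩ := step1 t h1t
      rw [E_smul hu1 h1t, polar_comm (⇑Q) t u, hut, ht] at hε
      simp only [zero_smul, sub_zero, zero_mul] at hε
      have e1 := congrArg (fun z => polar (⇑Q) z t') hε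
      simp only [polar_add_left, polar_smul_left, hut', htt', smul_eq_mul, mul_zero, mul_one,
        zero_add] at e1
      exact e1
    have hne' : ∀ c : F, u ≠ c • (g • u) := by
      intro c hc
      have hc0 : c ≠ 0 := by
        rintro rfl
        rw [zero_smul] at hc
        exact hu0 hc
      apply hcon c⁻¹
      calc g • u = c⁻¹ • (c • (g • u)) := by rw [smul_smul, inv_mul_cancel₀ hc0, one_smul]
        _ = c⁻¹ • u := by rw [← hc]
    obtain ⟨w1, h1, h2⟩ := h.sep hgu0 hne' 0 1
    obtain ⟨ε, hε⟩ := step1 w1 h1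
    rw [E_smul hu1 h1, hperp, polar_comm (⇑Q) w1 u, h2] at hε
    simp only [zero_smul, add_zero, one_smul, mul_zero, sub_zero] at hε
    apply hcon (1 - ε)
    rw [sub_smul, one_smul, ← hε]
    abel
  obtain ⟨l, hl⟩ := step2
  have hl0 : l ≠ 0 := by
    rintro rfl
    rw [zero_smul] at hl
    exact hgu0 hl
  -- step 3
  have hperp3 : ∀ w, polar (⇑Q) u w = 0 → polar (⇑Q) u (g • w) = 0 := by
    intro w hw
    have := EK_polar_smul Q g u w
    rw [hl, polar_smul_left, hw, smul_eq_mul] at this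
    rcases mul_eq_zero.mp this with h1 | h1
    · exact absurd h1 hl0
    · exact h1
  have step3 : ∀ w, polar (⇑Q) u w = 0 → ∃ c : F, l • (g • w) = w + c • u := by
    intro w hw
    have h1 := hperp3 w hw
    have h2 : polar (⇑Q) u (l • (g • w)) = 0 := by rw [polar_smul_right, h1, smul_zero]
    have h3 : polar (⇑Q) u (-w) = 0 := by rw [polar_neg_right, hw, neg_zero]
    have e1 : ⁅g, E Q u w⁆ = E Q u (l • (g • w) + -w) := by
      rw [hcomm w hw, hl, E_smul_left l hu h1, E_inv hu hw, E_mul hu h2 h3]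
    obtain ⟨ε, hε⟩ := center_scalar h _ (hg w hw)
    have h4 : polar (⇑Q) u (l • (g • w) + -w) = 0 := by
      rw [polar_add_right, h2, h3, add_zero]
    have hε1 : ε = 1 := by
      have := hε u
      rw [e1, E_fix_self hu h4] at this
      have h5 : (ε - 1) • u = 0 := by rw [sub_smul, one_smul, ← this, sub_self]
      rcases smul_eq_zero.mp h5 with h6 | h6
      · linear_combination h6
      · exact absurd h6 hu0
    have h6 : E Q u (l • (g • w) + -w) = 1 := by
      apply EK_ext
      intro x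
      rw [← e1, hε x, hε1, one_smul, one_smul]
    obtain ⟨c, hc⟩ := (E_eq_one_iff h hu0 hu h4).1 h6
    refine ⟨c, ?_⟩
    rw [← hc]
    abel
  -- step 4
  have step4 : l * l = 1 := by
    obtain ⟨t, t', ht, ht', htt', hut, -, hut', -⟩ := h.perp u u
    obtain ⟨c, hc⟩ := step3 t hut
    obtain ⟨c', hc'⟩ := step3 t' hut'
    have e1 : polar (⇑Q) (l • (g • t)) (l • (g • t')) = l * l := by
      rw [polar_smul_left, polar_smul_right, EK_polar_smul, htt']
      simp
    rw [hc, hc'] at e1
    simp only [polar_add_left, polar_add_right, polar_smul_left, polar_smul_right, htt', hut',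
      polar_comm (⇑Q) t u, hut, polar_self_sing hu, smul_eq_mul] at e1
    linear_combination -e1
  obtain ⟨w0, hw0, hall⟩ := eich_of_trivial h hu0 hu g l step4 hl step3
  refine ⟨w0, hw0, ?_⟩
  apply mem_center_of_scalar _ l
  intro x
  rw [mul_smul, hall, smul_inv_smul]

/-- spreading one element of `N ∩ Q_u` -/
theorem spread (N : Subgroup ↥(EK Q)) {u : ι → F} (hu : Q u = 0) (h : WI3 Q)
    (hN : ∀ g : ↥(EK Q), g • u = u → ∀ n ∈ N, g * n * g⁻¹ ∈ N)
    {w1 : ι → F} (hw1 : polar (⇑Q) u w1 = 0) (hE : E Q u w1 ∈ N) {x : ι → F} (hx : Q x = 0)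
    (hux : polar (⇑Q) u x = 0) (hb : polar (⇑Q) x w1 ≠ 0) :
    ∀ y, polar (⇑Q) u y = 0 → polar (⇑Q) x y = 0 → E Q u y ∈ N := by
  set b := polar (⇑Q) x w1 with hbdef
  have hxu : polar (⇑Q) x u = 0 := by rw [polar_comm, hux]
  -- the basic elements
  have hm : ∀ y, polar (⇑Q) u y = 0 → polar (⇑Q) x y = 0 →
      polar (⇑Q) u (b • y - (polar (⇑Q) y w1 + Q y * b) • x) = 0 := by
    intro y huy _
    rw [polar_sub_right, polar_smul_right, polar_smul_right, huy, hux]
    simp
  have star : ∀ y, polar (⇑Q) u y = 0 → polar (⇑Q) x y = 0 →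
      E Q u (b • y - (polar (⇑Q) y w1 + Q y * b) • x) ∈ N := by
    intro y huy hxy
    have hfix : E Q x y • u = u := by
      rw [E_smul hx hxy, hxu, polar_comm (⇑Q) y u, huy]
      simp
    have h1 := hN (E Q x y) hfix _ hE
    rw [E_conj _ hu hw1, hfix] at h1
    have h2 : polar (⇑Q) u (E Q x y • w1) = 0 := by
      have := EK_polar_smul Q (E Q x y) u w1
      rw [hfix, hw1] at this
      exact this
    have h3 : polar (⇑Q) u (-w1) = 0 := by rw [polar_neg_right, hw1, neg_zero]
    have h4 := N.mul_mem h1 (N.inv_mem hE)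
    rw [E_inv hu hw1, E_mul hu h2 h3] at h4
    have h5 : E Q x y • w1 + -w1 = b • y - (polar (⇑Q) y w1 + Q y * b) • x := by
      rw [E_smul hx hxy, ← hbdef]
      module
    rw [h5] at h4
    exact h4
  -- multiples of x
  obtain ⟨t, t', ht, ht', htt', hut, hxt, hut', hxt'⟩ := h.perp u x
  have star2 : ∀ r : F, E Q u (r • x) ∈ N := by
    intro r
    set s : F := -r * b⁻¹ with hs
    have hy1u : polar (⇑Q) u (s • t) = 0 := by rw [polar_smul_right, hut, smul_zero]
    have hy1x : polar (⇑Q) x (s • t) = 0 := by rw [polar_smul_right, hxt, smul_zero]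
    have hy12u : polar (⇑Q) u (s • t + t') = 0 := by rw [polar_add_right, hy1u, hut', add_zero]
    have hy12x : polar (⇑Q) x (s • t + t') = 0 := by rw [polar_add_right, hy1x, hxt', add_zero]
    have a1 := star (s • t + t') hy12u hy12x
    have a2 := star (s • t) hy1u hy1x
    have a3 := star t' hut' hxt'
    have h4 := N.mul_mem (N.mul_mem a1 (N.inv_mem a2)) (N.inv_mem a3)
    rw [E_inv hu (hm _ hy1u hy1x), E_inv hu (hm _ hut' hxt'),
      E_mul hu (hm _ hy12u hy12x) (by rw [polar_neg_right, hm _ hy1u hy1x, neg_zero]),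
      E_mul hu (by rw [polar_add_right, polar_neg_right, hm _ hy12u hy12x, hm _ hy1u hy1x]; simp)
        (by rw [polar_neg_right, hm _ hut' hxt', neg_zero])] at h4
    have h5 : b • (s • t + t') - (polar (⇑Q) (s • t + t') w1 + Q (s • t + t') * b) • x +
        -(b • (s • t) - (polar (⇑Q) (s • t) w1 + Q (s • t) * b) • x) +
        -(b • t' - (polar (⇑Q) t' w1 + Q t' * b) • x) = r • x := by
      rw [Q_add', polar_add_left, polar_smul_left, polar_smul_left, htt', Q_smul', ht, ht']
      simp only [smul_eq_mul, mul_zero, mul_one, add_zero, zero_mul]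
      have hbb : b⁻¹ * b = 1 := inv_mul_cancel₀ hb
      have : -(s * b) = r := by rw [hs]; linear_combination r * hbb
      rw [← this]
      module
    rw [h5] at h4
    exact h4
  -- conclusion
  have star3 : ∀ y, polar (⇑Q) u y = 0 → polar (⇑Q) x y = 0 → E Q u (b • y) ∈ N := by
    intro y huy hxy
    have a1 := star y huy hxy
    have a2 := star2 (polar (⇑Q) y w1 + Q y * b)
    have h4 := N.mul_mem a1 a2
    rw [E_mul hu (hm y huy hxy) (by rw [polar_smul_right, hux, smul_zero])] at h4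
    have : b • y - (polar (⇑Q) y w1 + Q y * b) • x + (polar (⇑Q) y w1 + Q y * b) • x = b • y := by
      abel
    rw [this] at h4
    exact h4
  intro y huy hxy
  have := star3 (b⁻¹ • y) (by rw [polar_smul_right, huy, smul_zero])
    (by rw [polar_smul_right, hxy, smul_zero])
  rw [smul_smul, mul_inv_cancel₀ hb, one_smul] at this
  exact this

/-- every non-central normal subgroup of the point stabiliser contains the root group -/
theorem rootGroup_le_of_normal (h : WI3 Q) {u : ι → F} (hu0 : u ≠ 0) (hu : Q u = 0)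
    (N : Subgroup ↥(EK Q)) (hZ : Subgroup.center ↥(EK Q) ≤ N)
    (hN : ∀ g : ↥(EK Q), g • u = u → ∀ n ∈ N, g * n * g⁻¹ ∈ N)
    (hNP : ∀ n ∈ N, ∃ c : F, n • u = c • u) (hne : ¬ N ≤ Subgroup.center ↥(EK Q)) :
    rootGroup Q u hu ≤ N := by
  -- step a
  have stepa : ∃ w1, polar (⇑Q) u w1 = 0 ∧ (∀ c : F, w1 ≠ c • u) ∧ E Q u w1 ∈ N := by
    obtain ⟨g, hgN, hgZ⟩ := SetLike.not_le_iff_exists.1 hne
    by_cases hc : ∀ w, polar (⇑Q) u w = 0 → ⁅g, E Q u w⁆ ∈ Subgroup.center ↥(EK Q)
    · obtain ⟨w0, hw0, hz⟩ := self_centralizing h hu0 hu g hc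
      refine ⟨w0, hw0, ?_, ?_⟩
      · intro c hcw
        apply hgZ
        have : E Q u w0 = 1 := (E_eq_one_iff h hu0 hu hw0).2 ⟨c, hcw⟩
        rw [this, inv_one, mul_one] at hz
        exact hz
      · have h1 := N.mul_mem (N.inv_mem (hZ hz)) hgN
        have h2 : (g * (E Q u w0)⁻¹)⁻¹ * g = E Q u w0 := by group
        rw [h2] at h1
        exact h1
    · push Not at hc
      obtain ⟨w, hw, hcw⟩ := hc
      obtain ⟨l, hl⟩ := hNP g hgN
      have hl0 : l ≠ 0 := by
        rintro rfl
        rw [zero_smul] at hl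
        exact EK_smul_ne_zero Q g u hu0 hl
      have h1 : polar (⇑Q) u (g • w) = 0 := by
        have := EK_polar_smul Q g u w
        rw [hl, polar_smul_left, hw, smul_eq_mul] at this
        rcases mul_eq_zero.mp this with h1 | h1
        · exact absurd h1 hl0
        · exact h1
      have h2 : polar (⇑Q) u (l • (g • w)) = 0 := by rw [polar_smul_right, h1, smul_zero]
      have h3 : polar (⇑Q) u (-w) = 0 := by rw [polar_neg_right, hw, neg_zero]
      have h4 : polar (⇑Q) u (l • (g • w) + -w) = 0 := by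
        rw [polar_add_right, h2, h3, add_zero]
      have e1 : ⁅g, E Q u w⁆ = E Q u (l • (g • w) + -w) := by
        rw [commutatorElement_def, E_conj g hu hw, hl, E_smul_left l hu h1, E_inv hu hw,
          E_mul hu h2 h3]
      refine ⟨l • (g • w) + -w, h4, ?_, ?_⟩
      · intro c hcw'
        apply hcw
        rw [e1, (E_eq_one_iff h hu0 hu h4).2 ⟨c, hcw'⟩]
        exact Subgroup.one_mem _
      · rw [← e1, commutatorElement_def]
        have h5 := hN (E Q u w) (E_fix_self hu hw) _ (N.inv_mem hgN)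
        have h6 := N.mul_mem hgN h5
        have h7 : g * (E Q u w * g⁻¹ * (E Q u w)⁻¹) = g * E Q u w * g⁻¹ * (E Q u w)⁻¹ := by
          group
        rw [h7] at h6
        exact h6
  obtain ⟨w1, hw1, hw1ne, hE1⟩ := stepa
  -- step b
  obtain ⟨x1, hx1, hux1, hw1x1⟩ := h.sing_sep hu0 hw1ne
  have hb1 : polar (⇑Q) x1 w1 ≠ 0 := by rw [polar_comm, hw1x1]; exact one_ne_zero
  have S1 := spread N hu h hN hw1 hE1 hx1 hux1 hb1
  have hx1ne : ∀ c : F, x1 ≠ c • u := by
    intro c hc
    apply hb1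
    rw [hc, polar_smul_left, hw1, smul_zero]
  obtain ⟨x2, hx2, hux2, hx1x2⟩ := h.sing_sep hu0 hx1ne
  have hEx1 : E Q u x1 ∈ N := S1 x1 hux1 (polar_self_sing hx1)
  have hb2 : polar (⇑Q) x2 x1 ≠ 0 := by rw [polar_comm, hx1x2]; exact one_ne_zero
  have S2 := spread N hu h hN hux1 hEx1 hx2 hux2 hb2
  intro g hg
  obtain ⟨w, hw, rfl⟩ := (mem_rootGroup_iff hu g).1 hg
  set s := polar (⇑Q) x1 w with hs
  have h1 : polar (⇑Q) u (w - s • x2) = 0 := by
    rw [polar_sub_right, polar_smul_right, hw, hux2]; simp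
  have h2 : polar (⇑Q) x1 (w - s • x2) = 0 := by
    rw [polar_sub_right, polar_smul_right, hx1x2, ← hs]; simp
  have h3 : polar (⇑Q) u (s • x2) = 0 := by rw [polar_smul_right, hux2, smul_zero]
  have h4 : polar (⇑Q) x2 (s • x2) = 0 := by
    rw [polar_smul_right, polar_self_sing hx2, smul_zero]
  have a1 := S1 _ h1 h2
  have a2 := S2 _ h3 h4
  have := N.mul_mem a1 a2
  rw [E_mul hu h1 h3, sub_add_cancel] at this
  exact this

end Cfsg.Agent.Helper13.OrthPermB
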