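import Mathlib
import Cfsg.Agent.Lib.Helper13.OrthPermB
import Cfsg.Agent.Lib.Helper13.OrthMax

/-!
# Point stabilisers in `Ω(Q)` modulo the centre: maximal, with the root group as radical
-/

set_option autoImplicit false

namespace Cfsg.Agent.Helper13.OrthPermC

open Matrix QuadraticMap Cfsg.Agent.Helper13 Cfsg.Agent.Helper43 Cfsg.Agent.Helper14.ReflGen
open Cfsg.Agent.Helper13.OrthPermA Cfsg.Agent.Helper13.OrthPermB Cfsg.Agent.Helper93
open Cfsg.Agent.S0794
open scoped commutatorElement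

variable {F : Type*} [Field F] {ι : Type} [Fintype ι] [DecidableEq ι]
  {Q : QuadraticForm F (ι → F)}

/-- the stabiliser of a singular point -/
def Pt (u : ι → F) (hu0 : u ≠ 0) (hu : Q u = 0) : Subgroup ↥(EK Q) :=
  MulAction.stabilizer ↥(EK Q) (mkS Q u hu0 hu)

theorem mem_Pt {u : ι → F} {hu0 : u ≠ 0} {hu : Q u = 0} (g : ↥(EK Q)) :
    g ∈ Pt u hu0 hu ↔ ∃ a : F, g • u = a • u := by
  unfold Pt
  rw [MulAction.mem_stabilizer_iff, smul_mkS, mkS_eq_iff]
  constructor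
  · rintro ⟨a, ha⟩
    exact ⟨a, ha.symm⟩
  · rintro ⟨a, ha⟩
    exact ⟨a, ha.symm⟩

theorem E_mem_Pt {u : ι → F} {hu0 : u ≠ 0} {hu : Q u = 0} {x w : ι → F} (hx : Q x = 0)
    (hxw : polar (⇑Q) x w = 0) (hux : polar (⇑Q) u x = 0) (huw : polar (⇑Q) u w = 0) :
    E Q x w ∈ Pt u hu0 hu := by
  rw [mem_Pt]
  refine ⟨1, ?_⟩
  rw [E_smul hx hxw, polar_comm (⇑Q) x u, hux, polar_comm (⇑Q) w u, huw]
  simp

theorem rootGroup_le_Pt {u : ι → F} {hu0 : u ≠ 0} {hu : Q u = 0} :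
    rootGroup Q u hu ≤ Pt u hu0 hu := by
  intro g hg
  obtain ⟨w, hw, rfl⟩ := (mem_rootGroup_iff hu g).1 hg
  rw [mem_Pt]
  exact ⟨1, by rw [E_fix_self hu hw, one_smul]⟩

/-- the point stabiliser is a maximal subgroup -/
theorem Pt_max (h : WI3 Q) {u : ι → F} (hu0 : u ≠ 0) (hu : Q u = 0) (K : Subgroup ↥(EK Q))
    (hPK : Pt u hu0 hu ≤ K) (hne : ¬ K ≤ Pt u hu0 hu) : K = ⊤ := by
  obtain ⟨k, e, f, hef, hk⟩ := h.hyp
  obtain ⟨g, hgK, hgP⟩ := SetLike.not_le_iff_exists.1 hne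
  have hgu : ∀ c : F, g • u ≠ c • u := by
    intro c hc
    apply hgP
    rw [mem_Pt]
    exact ⟨c, hc⟩
  have hli : LinearIndependent F ![u, g • u] := pair_indep hu0 hgu
  set M : Subgroup (GL ι F) :=
    (K.map (EK Q).subtype).map (Cfsg.isometryGroup F ⇑Q).subtype with hM
  have hmemM : ∀ x : ↥(EK Q), x ∈ K →
      (((x : ↥(Cfsg.isometryGroup F ⇑Q)) : GL ι F)) ∈ M := by
    intro x hx
    exact Subgroup.mem_map_of_mem _ (Subgroup.mem_map_of_mem _ hx)
  have hcoe : ∀ (x w : ι → F) (hx : Q x = 0) (hxw : polar (⇑Q) x w = 0),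
      ((((E Q x w : ↥(EK Q)) : ↥(Cfsg.isometryGroup F ⇑Q)) : GL ι F) : Matrix ι ι F) =
        eichM Q x w := by
    intro x w hx hxw
    rw [E_coe hx hxw]
    rfl
  have hEG := EG_le_of_two_perp Q h.nd e f hef hk u (g • u) hli M ?_ ?_
  · apply EK_eq_top_of_eichK
    intro x w hx hxw
    have h1 : eichGL Q x w hx hxw ∈ EG Q :=
      Subgroup.subset_closure ⟨x, w, hx, hxw, rfl⟩
    obtain ⟨y, ⟨z, hzK, hzy⟩, hy⟩ := hEG h1
    have : z = eichK Q x w hx hxw := by
      apply Subtype.ext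
      apply Subtype.ext
      rw [← hzy] at hy
      exact hy
    rw [← this]
    exact hzK
  · intro x w hx hxw hux huw
    exact ⟨_, hmemM _ (hPK (E_mem_Pt hx hxw hux huw)), hcoe x w hx hxw⟩
  · intro x w hx hxw hbx hbw
    have hx' : Q (g⁻¹ • x) = 0 := by rw [EK_Q_smul, hx]
    have hxw' : polar (⇑Q) (g⁻¹ • x) (g⁻¹ • w) = 0 := by rw [EK_polar_smul, hxw]
    have hux' : polar (⇑Q) u (g⁻¹ • x) = 0 := by
      have := EK_polar_smul Q g u (g⁻¹ • x)
      rw [smul_inv_smul, hbx] at this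
      exact this.symm
    have huw' : polar (⇑Q) u (g⁻¹ • w) = 0 := by
      have := EK_polar_smul Q g u (g⁻¹ • w)
      rw [smul_inv_smul, hbw] at this
      exact this.symm
    have h1 : E Q (g⁻¹ • x) (g⁻¹ • w) ∈ K := hPK (E_mem_Pt hx' hxw' hux' huw')
    have h2 : g * E Q (g⁻¹ • x) (g⁻¹ • w) * g⁻¹ ∈ K := K.mul_mem (K.mul_mem hgK h1) (K.inv_mem hgK)
    rw [E_conj g hx' hxw', smul_inv_smul, smul_inv_smul] at h2
    exact ⟨_, hmemM _ h2, hcoe x w hx hxw⟩

/-! ### the quotient by the centre -/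

variable (Q)

/-- the projection onto `PΩ` -/
def mkb : ↥(EK Q) →* ↥(EK Q) ⧸ Subgroup.center ↥(EK Q) :=
  QuotientGroup.mk' (Subgroup.center ↥(EK Q))

variable {Q}

theorem mkb_surj : Function.Surjective (mkb Q) := QuotientGroup.mk'_surjective _

theorem mkb_eq_iff (a b : ↥(EK Q)) : mkb Q a = mkb Q b ↔ a⁻¹ * b ∈ Subgroup.center ↥(EK Q) := by
  unfold mkb
  rw [QuotientGroup.mk'_apply, QuotientGroup.mk'_apply, QuotientGroup.eq]

theorem mkb_eq_one_iff (a : ↥(EK Q)) : mkb Q a = 1 ↔ a ∈ Subgroup.center ↥(EK Q) := by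
  unfold mkb
  rw [QuotientGroup.mk'_apply, QuotientGroup.eq_one_iff]

/-- the image of the root group -/
def Qb (u : ι → F) (hu : Q u = 0) : Subgroup (↥(EK Q) ⧸ Subgroup.center ↥(EK Q)) :=
  (rootGroup Q u hu).map (mkb Q)

/-- the image of the point stabiliser -/
def Pb (u : ι → F) (hu0 : u ≠ 0) (hu : Q u = 0) :
    Subgroup (↥(EK Q) ⧸ Subgroup.center ↥(EK Q)) :=
  (Pt u hu0 hu).map (mkb Q)

theorem center_le_Pt (h : WI3 Q) {u : ι → F} {hu0 : u ≠ 0} {hu : Q u = 0} :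
    Subgroup.center ↥(EK Q) ≤ Pt u hu0 hu := by
  intro z hz
  obtain ⟨l, hl⟩ := center_scalar h z hz
  rw [mem_Pt]
  exact ⟨l, hl u⟩

theorem mkb_mem_Pb_iff (h : WI3 Q) {u : ι → F} {hu0 : u ≠ 0} {hu : Q u = 0} (g : ↥(EK Q)) :
    mkb Q g ∈ Pb u hu0 hu ↔ g ∈ Pt u hu0 hu := by
  constructor
  · rintro ⟨g', hg', hgg'⟩
    rw [mkb_eq_iff] at hgg'
    have := (Pt u hu0 hu).mul_mem hg' (center_le_Pt h hgg')
    rwa [mul_inv_cancel_left] at this
  · intro hg
    exact Subgroup.mem_map_of_mem _ hg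

theorem comap_Pb (h : WI3 Q) {u : ι → F} {hu0 : u ≠ 0} {hu : Q u = 0} :
    (Pb u hu0 hu).comap (mkb Q) = Pt u hu0 hu := by
  ext g
  rw [Subgroup.mem_comap, mkb_mem_Pb_iff h]

theorem Pb_max (h : WI3 Q) {u : ι → F} (hu0 : u ≠ 0) (hu : Q u = 0)
    (K : Subgroup (↥(EK Q) ⧸ Subgroup.center ↥(EK Q))) (hPK : Pb u hu0 hu ≤ K) :
    K = Pb u hu0 hu ∨ K = ⊤ := by
  have h1 : Pt u hu0 hu ≤ K.comap (mkb Q) := by
    rw [← comap_Pb h]
    exact Subgroup.comap_mono hPK
  by_cases h2 : K.comap (mkb Q) ≤ Pt u hu0 hu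
  · left
    have h3 : K.comap (mkb Q) = Pt u hu0 hu := le_antisymm h2 h1
    have h4 := Subgroup.map_comap_eq_self_of_surjective (mkb_surj (Q := Q)) K
    rw [h3] at h4
    exact h4.symm
  · right
    have h3 := Pt_max h hu0 hu _ h1 h2
    have h4 := Subgroup.map_comap_eq_self_of_surjective (mkb_surj (Q := Q)) K
    rw [h3, Subgroup.map_top_of_surjective _ mkb_surj] at h4
    exact h4.symm

theorem E_noncentral (h : WI3 Q) {u w : ι → F} (hu0 : u ≠ 0) (hu : Q u = 0)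
    (huw : polar (⇑Q) u w = 0) (hw : ∀ c : F, w ≠ c • u) :
    E Q u w ∉ Subgroup.center ↥(EK Q) := by
  intro hz
  obtain ⟨l, hl⟩ := center_scalar h _ hz
  have h1 := hl u
  rw [E_fix_self hu huw] at h1
  have hl1 : l = 1 := by
    have h5 : (l - 1) • u = 0 := by rw [sub_smul, one_smul, ← h1, sub_self]
    rcases smul_eq_zero.mp h5 with h6 | h6
    · linear_combination h6
    · exact absurd h6 hu0
  have h6 : E Q u w = 1 := by
    apply EK_ext
    intro x
    rw [hl x, hl1, one_smul, one_smul]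
  obtain ⟨c, hc⟩ := (E_eq_one_iff h hu0 hu huw).1 h6
  exact hw c hc

theorem E_pow {u w : ι → F} (hu : Q u = 0) (huw : polar (⇑Q) u w = 0) (n : ℕ) :
    (E Q u w) ^ n = E Q u (n • w) := by
  induction n with
  | zero => rw [pow_zero, zero_smul, E_zero]
  | succ n ih =>
    rw [pow_succ, ih, E_mul hu (by rw [polar_smul_right_of_tower, huw, smul_zero]) huw, succ_nsmul]

/-! ### radical pairs -/

/-- `A` is a self-centralising normal subgroup of `M` contained in every nontrivial normal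
subgroup of `M` -/
structure IsRad {X : Type*} [Group X] (M A : Subgroup X) : Prop where
  le : A ≤ M
  ne : A ≠ ⊥
  norm : ∀ m ∈ M, ∀ a ∈ A, m * a * m⁻¹ ∈ A
  cent : ∀ m : X, (∀ a ∈ A, m * a = a * m) → m ∈ A
  min : ∀ N : Subgroup X, N ≤ M → (∀ m ∈ M, ∀ n ∈ N, m * n * m⁻¹ ∈ N) → N ≠ ⊥ → A ≤ N

theorem IsRad.map {X : Type*} [Group X] {M A : Subgroup X} (h : IsRad M A) (α : X ≃* X) :
    IsRad (M.map α.toMonoidHom) (A.map α.toMonoidHom) where
  le := Subgroup.map_mono h.le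
  ne := by
    intro h0
    apply h.ne
    rw [eq_bot_iff]
    intro a ha
    have : α a ∈ A.map α.toMonoidHom := Subgroup.mem_map_of_mem _ ha
    rw [h0, Subgroup.mem_bot] at this
    rw [Subgroup.mem_bot]
    exact α.injective (by rw [map_one]; exact this)
  norm := by
    rintro _ ⟨m, hm, rfl⟩ _ ⟨a, ha, rfl⟩
    refine ⟨m * a * m⁻¹, h.norm m hm a ha, ?_⟩
    simp
  cent := by
    intro m hm
    refine ⟨α.symm m, h.cent _ ?_, by simp⟩
    intro a ha
    apply α.injective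
    have := hm (α a) (Subgroup.mem_map_of_mem _ ha)
    simpa using this
  min := by
    intro N hNM hNn hN0
    have key := h.min (N.comap α.toMonoidHom) ?_ ?_ ?_
    · rintro _ ⟨a, ha, rfl⟩
      exact key ha
    · intro n hn
      obtain ⟨m, hm, hmn⟩ := hNM hn
      have : m = n := α.injective hmn
      rwa [← this]
    · intro m hm n hn
      have := hNn (α m) (Subgroup.mem_map_of_mem _ hm) (α n) hn
      show α (m * n * m⁻¹) ∈ N
      simpa using this
    · intro h0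
      apply hN0
      rw [eq_bot_iff]
      intro n hn
      have h1 : α.symm n ∈ N.comap α.toMonoidHom := by
        show α (α.symm n) ∈ N
        simpa using hn
      rw [h0, Subgroup.mem_bot] at h1
      rw [Subgroup.mem_bot]
      have := congrArg α h1
      simpa using this

theorem rootGroup_smul' {u : ι → F} (hu : Q u = 0) {c : F} (hc : c ≠ 0) (hcu : Q (c • u) = 0) :
    rootGroup Q (c • u) hcu = rootGroup Q u hu := rootGroup_smul Q c hc u hu hcu

theorem conj_mem_rootGroup {u : ι → F} {hu0 : u ≠ 0} {hu : Q u = 0} {p q : ↥(EK Q)}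
    (hp : p ∈ Pt u hu0 hu) (hq : q ∈ rootGroup Q u hu) : p * q * p⁻¹ ∈ rootGroup Q u hu := by
  obtain ⟨a, ha⟩ := (mem_Pt p).1 hp
  have ha0 : a ≠ 0 := by
    rintro rfl
    rw [zero_smul] at ha
    exact EK_smul_ne_zero Q p u hu0 ha
  have h1 : Q (p • u) = 0 := by rw [EK_Q_smul, hu]
  have h2 := rootGroup_conj Q p u hu h1
  have h3 : p * q * p⁻¹ ∈ rootGroup Q (p • u) h1 := by
    rw [h2, Subgroup.mem_smul_pointwise_iff_exists]
    exact ⟨q, hq, by rw [MulAut.smul_def, MulAut.conj_apply]⟩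
  have key : ∀ (v : ι → F) (hv : Q v = 0), v = a • u →
      rootGroup Q v hv = rootGroup Q u hu := by
    intro v hv hvu
    subst hvu
    exact rootGroup_smul' hu ha0 hv
  rw [key _ h1 ha] at h3
  exact h3

/-- the point radical is a radical of the point stabiliser -/
theorem isRad_Pb (h : WI3 Q) {u : ι → F} (hu0 : u ≠ 0) (hu : Q u = 0) :
    IsRad (Pb u hu0 hu) (Qb u hu) where
  le := Subgroup.map_mono rootGroup_le_Pt
  ne := by
    intro h0
    obtain ⟨t, t', ht, ht', htt', hut, -, hut', -⟩ := h.perp u u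
    have hne : ∀ c : F, t ≠ c • u := by
      intro c hc
      rw [hc, polar_smul_left, hut', smul_zero] at htt'
      exact zero_ne_one htt'
    have h1 : mkb Q (E Q u t) ∈ Qb u hu := Subgroup.mem_map_of_mem _ (E_mem_rootGroup hu hut)
    rw [h0, Subgroup.mem_bot, mkb_eq_one_iff] at h1
    exact E_noncentral h hu0 hu hut hne h1
  norm := by
    rintro _ ⟨p, hp, rfl⟩ _ ⟨q, hq, rfl⟩
    exact ⟨p * q * p⁻¹, conj_mem_rootGroup hp hq, by simp⟩
  cent := by
    intro m hm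
    obtain ⟨g, rfl⟩ := mkb_surj m
    have h1 : ∀ w, polar (⇑Q) u w = 0 → ⁅g, E Q u w⁆ ∈ Subgroup.center ↥(EK Q) := by
      intro w hw
      have := hm _ (Subgroup.mem_map_of_mem (mkb Q) (E_mem_rootGroup hu hw))
      rw [← map_mul, ← map_mul, mkb_eq_iff] at this
      have hnorm : (Subgroup.center ↥(EK Q)).Normal := inferInstance
      have h2 := hnorm.mem_comm this
      have h3 : ⁅g, E Q u w⁆ = ((E Q u w * g) * (g * E Q u w)⁻¹)⁻¹ := by
        rw [commutatorElement_def]; group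
      rw [h3]
      exact Subgroup.inv_mem _ h2
    obtain ⟨w0, hw0, hz⟩ := self_centralizing h hu0 hu g h1
    refine ⟨E Q u w0, E_mem_rootGroup hu hw0, ?_⟩
    rw [mkb_eq_iff]
    have hnorm : (Subgroup.center ↥(EK Q)).Normal := inferInstance
    exact hnorm.mem_comm hz
  min := by
    intro N hNM hNn hN0
    have key := rootGroup_le_of_normal h hu0 hu (N.comap (mkb Q)) ?_ ?_ ?_ ?_
    · rintro _ ⟨q, hq, rfl⟩
      exact key hq
    · intro z hz
      show mkb Q z ∈ N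
      rw [(mkb_eq_one_iff z).2 hz]
      exact N.one_mem
    · intro g hg n hn
      have hgP : g ∈ Pt u hu0 hu := (mem_Pt g).2 ⟨1, by rw [hg, one_smul]⟩
      have := hNn (mkb Q g) (Subgroup.mem_map_of_mem _ hgP) (mkb Q n) hn
      show mkb Q (g * n * g⁻¹) ∈ N
      simpa using this
    · intro n hn
      have h1 : mkb Q n ∈ Pb u hu0 hu := hNM hn
      rw [mkb_mem_Pb_iff h] at h1
      exact (mem_Pt n).1 h1
    · intro hcon
      apply hN0
      rw [eq_bot_iff]
      intro n hn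
      obtain ⟨g, rfl⟩ := mkb_surj n
      rw [Subgroup.mem_bot, mkb_eq_one_iff]
      exact hcon hn

end Cfsg.Agent.Helper13.OrthPermC
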