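import Mathlib
import Cfsg.Agent.Lib.Helper13.OrthPermC

/-!
# Automorphisms of `PΩ(Q)` permute the point radicals (assembly)
-/

set_option autoImplicit false

namespace Cfsg.Agent.Helper13.OrthPermD

open Matrix QuadraticMap Cfsg.Agent.Helper13 Cfsg.Agent.Helper43 Cfsg.Agent.Helper14.ReflGen
open Cfsg.Agent.Helper13.OrthPermA Cfsg.Agent.Helper13.OrthPermB Cfsg.Agent.Helper93
open Cfsg.Agent.Helper13.OrthPermC
open Cfsg.Agent.S0794
open scoped commutatorElement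

/-- maximality is transported by automorphisms -/
theorem max_map {X : Type*} [Group X] (α : X ≃* X) (P : Subgroup X)
    (hmax : ∀ K : Subgroup X, P ≤ K → K = P ∨ K = ⊤) (K : Subgroup X)
    (hK : P.map α.toMonoidHom ≤ K) : K = P.map α.toMonoidHom ∨ K = ⊤ := by
  have hsurj : Function.Surjective α.toMonoidHom := α.surjective
  have h1 : P ≤ K.comap α.toMonoidHom := by
    intro p hp
    exact hK (Subgroup.mem_map_of_mem _ hp)
  have h2 := Subgroup.map_comap_eq_self_of_surjective hsurj K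
  rcases hmax _ h1 with h3 | h3
  · left
    rw [h3] at h2
    exact h2.symm
  · right
    rw [h3, Subgroup.map_top_of_surjective _ hsurj] at h2
    exact h2.symm

variable {F : Type*} [Field F] {ι : Type} [Fintype ι] [DecidableEq ι]
  {Q : QuadraticForm F (ι → F)}

/-- a singular vector is moved off its perp by some element of `Ω` -/
theorem moved (h : WI3 Q) {u : ι → F} (hu0 : u ≠ 0) (hu : Q u = 0) :
    ∃ g : ↥(EK Q), polar (⇑Q) u (g • u) ≠ 0 := by
  obtain ⟨v, hv, huv⟩ := h.partner hu0 hu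
  obtain ⟨t, t', ht, ht', htt', hut, hvt, hut', hvt'⟩ := h.perp u v
  have hvw : polar (⇑Q) v (t + t') = 0 := by
    rw [polar_add_right, hvt, hvt', add_zero]
  have huw : polar (⇑Q) u (t + t') = 0 := by
    rw [polar_add_right, hut, hut', add_zero]
  have hQw : Q (t + t') = 1 := by
    have h1 : polar (⇑Q) t t' = Q (t + t') - Q t - Q t' := rfl
    rw [ht, ht', sub_zero, sub_zero] at h1
    rw [← h1, htt']
  refine ⟨E Q v (t + t'), ?_⟩
  rw [E_smul hv hvw, polar_comm (⇑Q) v u, huv, polar_comm (⇑Q) (t + t') u, huw, hQw]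
  simp only [one_smul, zero_smul, sub_zero, mul_one]
  rw [polar_sub_right, polar_add_right, polar_self_sing hu, huw, huv]
  norm_num

omit [Fintype ι] [DecidableEq ι] in
/-- polar vanishes on a totally singular subspace -/
theorem polar_ts {Y : Submodule F (ι → F)} (hY : ∀ y ∈ Y, Q y = 0) {a b : ι → F} (ha : a ∈ Y)
    (hb : b ∈ Y) : polar (⇑Q) a b = 0 := by
  show Q (a + b) - Q a - Q b = 0
  rw [hY _ (Y.add_mem ha hb), hY _ ha, hY _ hb]
  ring

/-- the stabiliser of a subspace -/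
def St (Y : Submodule F (ι → F)) : Subgroup ↥(EK Q) where
  carrier := {g | ∀ y : ι → F, g • y ∈ Y ↔ y ∈ Y}
  one_mem' := by
    intro y
    rw [one_smul]
  mul_mem' := by
    intro a b ha hb y
    rw [mul_smul, ha, hb]
  inv_mem' := by
    intro a ha y
    rw [← ha (a⁻¹ • y), smul_inv_smul]

theorem mem_St {Y : Submodule F (ι → F)} (g : ↥(EK Q)) :
    g ∈ St (Q := Q) Y ↔ ∀ y : ι → F, g • y ∈ Y ↔ y ∈ Y := Iff.rfl

theorem le_St {Y : Submodule F (ι → F)} (M : Subgroup ↥(EK Q))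
    (hM : ∀ m ∈ M, ∀ y ∈ Y, m • y ∈ Y) : M ≤ St Y := by
  intro m hm y
  constructor
  · intro hy
    have := hM m⁻¹ (M.inv_mem hm) _ hy
    rwa [inv_smul_smul] at this
  · exact hM m hm y

/-- the group generated by the Eichler elements of a totally singular subspace -/
def Z0 (Y : Submodule F (ι → F)) : Subgroup ↥(EK Q) :=
  Subgroup.closure {g : ↥(EK Q) | ∃ y ∈ Y, ∃ y' ∈ Y, g = E Q y y'}

theorem Z0_fix {Y : Submodule F (ι → F)} (hY : ∀ y ∈ Y, Q y = 0) {x : ι → F}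
    (hx : ∀ y ∈ Y, polar (⇑Q) y x = 0) {g : ↥(EK Q)} (hg : g ∈ Z0 (Q := Q) Y) : g • x = x := by
  unfold Z0 at hg
  induction hg using Subgroup.closure_induction with
  | mem g hg =>
    obtain ⟨y, hy, y', hy', rfl⟩ := hg
    rw [E_smul (hY y hy) (polar_ts hY hy hy'), hx y hy, hx y' hy']
    simp
  | one => rw [one_smul]
  | mul a b _ _ ha hb => rw [mul_smul, hb, ha]
  | inv a _ ha =>
    rw [inv_smul_eq_iff, ha]

theorem Z0_fix_mem {Y : Submodule F (ι → F)} (hY : ∀ y ∈ Y, Q y = 0) {x : ι → F}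
    (hx : x ∈ Y) {g : ↥(EK Q)} (hg : g ∈ Z0 (Q := Q) Y) : g • x = x :=
  Z0_fix hY (fun _ hy => polar_ts hY hy hx) hg

theorem Z0_le_St {Y : Submodule F (ι → F)} (hY : ∀ y ∈ Y, Q y = 0) :
    Z0 (Q := Q) Y ≤ St Y := by
  apply le_St
  intro m hm y hy
  rw [Z0_fix_mem hY hy hm]
  exact hy

theorem Z0_norm {Y : Submodule F (ι → F)} (hY : ∀ y ∈ Y, Q y = 0) {s : ↥(EK Q)}
    (hs : s ∈ St (Q := Q) Y) {z : ↥(EK Q)} (hz : z ∈ Z0 (Q := Q) Y) : s * z * s⁻¹ ∈ Z0 (Q := Q) Y := by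
  unfold Z0 at hz
  induction hz using Subgroup.closure_induction with
  | mem g hg =>
    obtain ⟨y, hy, y', hy', rfl⟩ := hg
    rw [E_conj s (hY y hy) (polar_ts hY hy hy')]
    exact Subgroup.subset_closure ⟨_, (hs y).2 hy, _, (hs y').2 hy', rfl⟩
  | one =>
    rw [mul_one, mul_inv_cancel]
    exact Subgroup.one_mem _
  | mul a b _ _ ha hb =>
    have : s * (a * b) * s⁻¹ = (s * a * s⁻¹) * (s * b * s⁻¹) := by group
    rw [this]
    exact Subgroup.mul_mem _ ha hb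
  | inv a _ ha =>
    have : s * a⁻¹ * s⁻¹ = (s * a * s⁻¹)⁻¹ := by group
    rw [this]
    exact Subgroup.inv_mem _ ha

theorem Z0_comm {Y : Submodule F (ι → F)} (hY : ∀ y ∈ Y, Q y = 0) {e : ↥(EK Q)}
    (he : ∀ y ∈ Y, e • y = y) {z : ↥(EK Q)} (hz : z ∈ Z0 (Q := Q) Y) : e * z = z * e := by
  unfold Z0 at hz
  induction hz using Subgroup.closure_induction with
  | mem g hg =>
    obtain ⟨y, hy, y', hy', rfl⟩ := hg
    have := E_conj e (hY y hy) (polar_ts hY hy hy')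
    rw [he y hy, he y' hy'] at this
    exact mul_inv_eq_iff_eq_mul.1 this
  | one => rw [mul_one, one_mul]
  | mul a b _ _ ha hb => rw [← mul_assoc, ha, mul_assoc, hb, mul_assoc]
  | inv a _ ha =>
    have h1 : a⁻¹ * (e * a) * a⁻¹ = a⁻¹ * (a * e) * a⁻¹ := by rw [ha]
    have h2 : a⁻¹ * (e * a) * a⁻¹ = a⁻¹ * e := by group
    have h3 : a⁻¹ * (a * e) * a⁻¹ = e * a⁻¹ := by group
    rw [← h2, ← h3, h1]

/-- double perp -/
theorem mem_of_perp_perp (h : WI3 Q) (Y : Submodule F (ι → F)) {x : ι → F}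
    (hx : ∀ w : ι → F, (∀ y ∈ Y, polar (⇑Q) y w = 0) → polar (⇑Q) w x = 0) : x ∈ Y := by
  rw [← LinearMap.BilinForm.orthogonal_orthogonal h.nd (pb_isRefl Q) Y,
    LinearMap.BilinForm.mem_orthogonal_iff]
  intro w hw
  rw [LinearMap.BilinForm.mem_orthogonal_iff] at hw
  show polarBilin Q w x = 0
  rw [polarBilin_apply_apply]
  apply hx
  intro y hy
  have h2 := hw y hy
  rw [polarBilin_apply_apply] at h2
  exact h2

/-- the root group is abelian of exponent `p` modulo the centre, also after an automorphism -/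
theorem abel_facts
    (α : (↥(EK Q) ⧸ Subgroup.center ↥(EK Q)) ≃* (↥(EK Q) ⧸ Subgroup.center ↥(EK Q)))
    {u : ι → F} (hu : Q u = 0) :
    (∀ a ∈ (Qb u hu).map α.toMonoidHom, ∀ b ∈ (Qb u hu).map α.toMonoidHom, a * b = b * a) ∧
      ∀ a ∈ (Qb u hu).map α.toMonoidHom, a ^ ringChar F = 1 := by
  constructor
  · rintro _ ⟨_, ⟨a, ha, rfl⟩, rfl⟩ _ ⟨_, ⟨b, hb, rfl⟩, rfl⟩
    obtain ⟨w, hw, rfl⟩ := (mem_rootGroup_iff hu a).1 ha
    obtain ⟨w', hw', rfl⟩ := (mem_rootGroup_iff hu b).1 hb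
    have : E Q u w * E Q u w' = E Q u w' * E Q u w := by
      rw [E_mul hu hw hw', E_mul hu hw' hw, add_comm]
    show α (mkb Q (E Q u w)) * α (mkb Q (E Q u w')) = α (mkb Q (E Q u w')) * α (mkb Q (E Q u w))
    rw [← map_mul, ← map_mul, ← map_mul, ← map_mul, this]
  · rintro _ ⟨_, ⟨a, ha, rfl⟩, rfl⟩
    obtain ⟨w, hw, rfl⟩ := (mem_rootGroup_iff hu a).1 ha
    show (α (mkb Q (E Q u w))) ^ ringChar F = 1
    rw [← map_pow, ← map_pow, E_pow hu hw]
    have : (ringChar F) • w = 0 := by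
      rw [← Nat.cast_smul_eq_nsmul F, CharP.cast_eq_zero F (ringChar F), zero_smul]
    rw [this, E_zero, map_one, map_one]

/-- case 2: the invariant subspace is more than a point -/
theorem case2 (h : WI3 Q) {M A' : Subgroup (↥(EK Q) ⧸ Subgroup.center ↥(EK Q))}
    (hrad : IsRad M A') {Y0 : Submodule F (ι → F)} (hY0 : ∀ y ∈ Y0, Q y = 0)
    (hSt : St (Q := Q) Y0 = M.comap (mkb Q))
    {u2 y2 : ι → F} (hu20 : u2 ≠ 0) (hu2Y : u2 ∈ Y0) (hy2Y : y2 ∈ Y0)
    (hy2 : ∀ c : F, y2 ≠ c • u2) :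
    (∀ x : ι → F, (∀ y ∈ Y0, polar (⇑Q) y x = 0) → x ∈ Y0) ∧
      A' = (Z0 (Q := Q) Y0).map (mkb Q) := by
  have hu2 : Q u2 = 0 := hY0 _ hu2Y
  have hZM : (Z0 (Q := Q) Y0).map (mkb Q) ≤ M := by
    rintro _ ⟨z, hz, rfl⟩
    have : z ∈ St (Q := Q) Y0 := Z0_le_St hY0 hz
    rw [hSt] at this
    exact this
  have hZn : ∀ m ∈ M, ∀ n ∈ (Z0 (Q := Q) Y0).map (mkb Q),
      m * n * m⁻¹ ∈ (Z0 (Q := Q) Y0).map (mkb Q) := by
    rintro m hm _ ⟨z, hz, rfl⟩
    obtain ⟨s, rfl⟩ := mkb_surj m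
    have hs : s ∈ St (Q := Q) Y0 := by rw [hSt]; exact hm
    exact ⟨s * z * s⁻¹, Z0_norm hY0 hs hz, by simp⟩
  have hZne : (Z0 (Q := Q) Y0).map (mkb Q) ≠ ⊥ := by
    intro h0
    have h1 : mkb Q (E Q u2 y2) ∈ (Z0 (Q := Q) Y0).map (mkb Q) :=
      Subgroup.mem_map_of_mem _ (Subgroup.subset_closure ⟨u2, hu2Y, y2, hy2Y, rfl⟩)
    rw [h0, Subgroup.mem_bot, mkb_eq_one_iff] at h1
    exact E_noncentral h hu20 hu2 (polar_ts hY0 hu2Y hy2Y) hy2 h1
  have hAZ : A' ≤ (Z0 (Q := Q) Y0).map (mkb Q) := hrad.min _ hZM hZn hZne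
  have hZA : (Z0 (Q := Q) Y0).map (mkb Q) ≤ A' := by
    rintro _ ⟨z, hz, rfl⟩
    apply hrad.cent
    intro a ha
    obtain ⟨z', hz', rfl⟩ := hAZ ha
    rw [← map_mul, ← map_mul, Z0_comm hY0 (fun y hy => Z0_fix_mem hY0 hy hz) hz']
  refine ⟨?_, le_antisymm hAZ hZA⟩
  have key : ∀ w x : ι → F, (∀ y ∈ Y0, polar (⇑Q) y w = 0) →
      (∀ y ∈ Y0, polar (⇑Q) y x = 0) → polar (⇑Q) w x = 0 := by
    intro w x hw hx
    have hu2w : polar (⇑Q) u2 w = 0 := hw u2 hu2Y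
    have he : ∀ y ∈ Y0, E Q u2 w • y = y := by
      intro y hy
      rw [E_smul hu2 hu2w, polar_ts hY0 hu2Y hy, polar_comm (⇑Q) w y, hw y hy]
      simp
    have h1 : mkb Q (E Q u2 w) ∈ A' := by
      apply hrad.cent
      intro a ha
      obtain ⟨z', hz', rfl⟩ := hAZ ha
      rw [← map_mul, ← map_mul, Z0_comm hY0 he hz']
    obtain ⟨z0, hz0, hz0e⟩ := hAZ h1
    rw [mkb_eq_iff] at hz0e
    obtain ⟨l, hl⟩ := center_scalar h _ hz0e
    have hact : ∀ x' : ι → F, (∀ y ∈ Y0, polar (⇑Q) y x' = 0) →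
        x' - polar (⇑Q) w x' • u2 = l • x' := by
      intro x' hx'
      rw [← hl x', mul_smul, E_smul hu2 hu2w, hx' u2 hu2Y]
      simp only [zero_smul, add_zero, mul_zero, sub_zero]
      symm
      apply Z0_fix hY0 _ (Subgroup.inv_mem _ hz0)
      intro y hy
      rw [polar_sub_right, hx' y hy, polar_smul_right, polar_ts hY0 hy hu2Y, smul_zero, sub_zero]
    have hl1 : l = 1 := by
      have h2 := hact y2 (fun y hy => polar_ts hY0 hy hy2Y)
      rw [polar_comm (⇑Q) w y2, hw y2 hy2Y, zero_smul, sub_zero] at h2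
      have hy20 : y2 ≠ 0 := by
        intro h0
        exact hy2 0 (by rw [h0, zero_smul])
      have h5 : (l - 1) • y2 = 0 := by rw [sub_smul, one_smul, ← h2, sub_self]
      rcases smul_eq_zero.mp h5 with h6 | h6
      · linear_combination h6
      · exact absurd h6 hy20
    have h3 := hact x hx
    rw [hl1, one_smul] at h3
    have h4 : polar (⇑Q) w x • u2 = 0 := by
      have h5 : polar (⇑Q) w x • u2 = x - (x - polar (⇑Q) w x • u2) := by abel
      rw [h5, h3, sub_self]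
    rcases smul_eq_zero.mp h4 with h6 | h6
    · exact h6
    · exact absurd h6 hu20
  intro x hx
  apply mem_of_perp_perp h Y0
  intro w hw
  exact key w x hw hx

/-- **Theorem P**, with the three farmed pieces as hypotheses -/
theorem perm_core (h : WI3 Q)
    (hbad : ∀ Y : Submodule F (ι → F), (∀ y ∈ Y, Q y = 0) →
      (∀ x : ι → F, (∀ y ∈ Y, polar (⇑Q) y x = 0) → x ∈ Y) → 5 ≤ Module.finrank F Y)
    (α : (↥(EK Q) ⧸ Subgroup.center ↥(EK Q)) ≃* (↥(EK Q) ⧸ Subgroup.center ↥(EK Q)))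
    {u : ι → F} (hu0 : u ≠ 0) (hu : Q u = 0)
    (F1 : ∃ (u' : ι → F) (_ : u' ≠ 0) (hu' : Q u' = 0),
      Qb u' hu' ≤ (Pb u hu0 hu).map α.toMonoidHom)
    (F2 : ∀ (M A : Subgroup ↥(EK Q)), Subgroup.center ↥(EK Q) ≤ A → A ≤ M →
      (∀ m ∈ M, ∀ a ∈ A, m * a * m⁻¹ ∈ A) → ¬ A ≤ Subgroup.center ↥(EK Q) →
      (∀ a ∈ A, ∀ b ∈ A, ⁅a, b⁆ ∈ Subgroup.center ↥(EK Q)) →
      (∀ a ∈ A, a ^ ringChar F ∈ Subgroup.center ↥(EK Q)) →
      ∀ {u' : ι → F} (_ : u' ≠ 0) (hu' : Q u' = 0), rootGroup Q u' hu' ≤ M →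
      ∃ Y0 : Submodule F (ι → F), u' ∈ Y0 ∧ (∀ y ∈ Y0, Q y = 0) ∧
        ∀ m ∈ M, ∀ y ∈ Y0, m • y ∈ Y0)
    (F3 : ∀ Y : Submodule F (ι → F), (∀ y ∈ Y, Q y = 0) →
      (∀ x : ι → F, (∀ y ∈ Y, polar (⇑Q) y x = 0) → x ∈ Y) → 5 ≤ Module.finrank F Y →
      Nat.card ↥(Qb u hu) < Nat.card ↥((Z0 (Q := Q) Y).map (mkb Q))) :
    ∃ (u' : ι → F) (_ : u' ≠ 0) (hu' : Q u' = 0),
      (Qb u hu).map α.toMonoidHom = Qb u' hu' := by
  obtain ⟨u2, hu20, hu2, hQM⟩ := F1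
  have hrad : IsRad ((Pb u hu0 hu).map α.toMonoidHom) ((Qb u hu).map α.toMonoidHom) :=
    (isRad_Pb h hu0 hu).map α
  have hmaxM := max_map α _ (Pb_max h hu0 hu)
  obtain ⟨hcomm, hpow⟩ := abel_facts α hu
  generalize hM : (Pb u hu0 hu).map α.toMonoidHom = M at *
  generalize hA' : (Qb u hu).map α.toMonoidHom = A' at *
  have hZMt : Subgroup.center ↥(EK Q) ≤ A'.comap (mkb Q) := by
    intro z hz
    show mkb Q z ∈ A'
    rw [(mkb_eq_one_iff z).2 hz]
    exact A'.one_mem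
  obtain ⟨Y0, hu2Y, hY0, hMY⟩ := F2 (M.comap (mkb Q)) (A'.comap (mkb Q)) hZMt
    (Subgroup.comap_mono hrad.le)
    (by
      intro m hm a ha
      show mkb Q (m * a * m⁻¹) ∈ A'
      rw [map_mul, map_mul, map_inv]
      exact hrad.norm _ hm _ ha)
    (by
      intro hcon
      apply hrad.ne
      rw [eq_bot_iff]
      intro a ha
      obtain ⟨g, rfl⟩ := mkb_surj a
      rw [Subgroup.mem_bot, mkb_eq_one_iff]
      exact hcon ha)
    (by
      intro a ha b hb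
      rw [← mkb_eq_one_iff, map_commutatorElement, commutatorElement_eq_one_iff_mul_comm]
      exact hcomm _ ha _ hb)
    (by
      intro a ha
      rw [← mkb_eq_one_iff, map_pow]
      exact hpow _ ha)
    hu20 hu2
    (by
      intro g hg
      exact hQM (Subgroup.mem_map_of_mem _ hg))
  have hMtSt : M.comap (mkb Q) ≤ St (Q := Q) Y0 := le_St _ hMY
  have hZSt : Subgroup.center ↥(EK Q) ≤ St (Q := Q) Y0 :=
    (hZMt.trans (Subgroup.comap_mono hrad.le)).trans hMtSt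
  have hcm : ∀ K : Subgroup ↥(EK Q), Subgroup.center ↥(EK Q) ≤ K →
      (K.map (mkb Q)).comap (mkb Q) = K := by
    intro K hK
    rw [Subgroup.comap_map_eq]
    have : (mkb Q).ker = Subgroup.center ↥(EK Q) := QuotientGroup.ker_mk' _
    rw [this]
    exact sup_eq_left.2 hK
  have hMle : M ≤ (St (Q := Q) Y0).map (mkb Q) := by
    intro m hm
    obtain ⟨g, rfl⟩ := mkb_surj m
    exact Subgroup.mem_map_of_mem _ (hMtSt hm)
  have hStM : (St (Q := Q) Y0).map (mkb Q) = M := by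
    rcases hmaxM _ hMle with h1 | h1
    · exact h1
    · exfalso
      have h2 : St (Q := Q) Y0 = ⊤ := by
        rw [← hcm _ hZSt, h1, Subgroup.comap_top]
      obtain ⟨g, hg⟩ := moved h hu20 hu2
      have h3 : g ∈ St (Q := Q) Y0 := by rw [h2]; exact Subgroup.mem_top _
      exact hg (polar_ts hY0 hu2Y ((h3 u2).2 hu2Y))
  have hSt : St (Q := Q) Y0 = M.comap (mkb Q) := by
    rw [← hStM, hcm _ hZSt]
  by_cases hc : ∀ y ∈ Y0, ∃ c : F, y = c • u2
  · -- case 1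
    refine ⟨u2, hu20, hu2, ?_⟩
    have hMP : M ≤ Pb u2 hu20 hu2 := by
      intro m hm
      obtain ⟨g, rfl⟩ := mkb_surj m
      have hg : g ∈ St (Q := Q) Y0 := by rw [hSt]; exact hm
      obtain ⟨c, hc'⟩ := hc _ ((hg u2).2 hu2Y)
      exact Subgroup.mem_map_of_mem _ ((mem_Pt g).2 ⟨c, hc'⟩)
    have hMeq : Pb u2 hu20 hu2 = M := by
      rcases hmaxM _ hMP with h1 | h1
      · exact h1
      · exfalso
        have h2 : Pt u2 hu20 hu2 = ⊤ := by
          rw [← comap_Pb h, h1, Subgroup.comap_top]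
        obtain ⟨g, hg⟩ := moved h hu20 hu2
        have h3 : g ∈ Pt u2 hu20 hu2 := by rw [h2]; exact Subgroup.mem_top _
        obtain ⟨a, ha⟩ := (mem_Pt g).1 h3
        apply hg
        rw [ha, polar_smul_right, polar_self_sing hu2, smul_zero]
    have hrad2 := isRad_Pb h hu20 hu2
    rw [hMeq] at hrad2
    exact le_antisymm (hrad.min _ hrad2.le hrad2.norm hrad2.ne)
      (hrad2.min _ hrad.le hrad.norm hrad.ne)
  · -- case 2
    exfalso
    push Not at hc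
    obtain ⟨y2, hy2Y, hy2⟩ := hc
    obtain ⟨hYY, hAZ⟩ := case2 h hrad hY0 hSt hu20 hu2Y hy2Y hy2
    have h5 := hbad Y0 hY0 hYY
    have h6 := F3 Y0 hY0 hYY h5
    rw [← hAZ, ← hA', Subgroup.card_map_of_injective α.injective] at h6
    exact lt_irrefl _ h6

end Cfsg.Agent.Helper13.OrthPermD
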