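import Mathlib
import Cfsg.Agent.Lib.Helper13.OrthPermD
import Cfsg.Agent.Lib.Helper90.OrthPermF1
import Cfsg.Agent.Lib.Helper44.OrthPermF2
import Cfsg.Agent.Lib.Helper43.OrthOdd
import Cfsg.Agent.Lib.Helper43.OrthPlus
import Cfsg.Agent.Lib.Helper43.OrthMinus
import Cfsg.Agent.Lib.Helper43.NoTs4

/-!
# Automorphisms of `PΩ(Q)` permute the point radicals: dimension hypotheses
-/

set_option autoImplicit false

namespace Cfsg.Agent.Helper13.OrthPermE

open Matrix QuadraticMap Cfsg.Agent.Helper13 Cfsg.Agent.Helper43 Cfsg.Agent.Helper14.ReflGen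
open Cfsg.Agent.Helper13.OrthPermA Cfsg.Agent.Helper13.OrthPermB Cfsg.Agent.Helper93
open Cfsg.Agent.Helper13.OrthPermC Cfsg.Agent.Helper13.OrthPermD
open Cfsg.Agent.S0794
open scoped commutatorElement

variable {F : Type*} [Field F] {ι : Type} [Fintype ι] [DecidableEq ι]
  {Q : QuadraticForm F (ι → F)}

omit [DecidableEq ι] in
/-- a totally singular subspace equal to its perp has half the dimension -/
theorem two_mul_finrank (h : WI3 Q) (Y : Submodule F (ι → F)) (hY : ∀ y ∈ Y, Q y = 0)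
    (hYY : ∀ x : ι → F, (∀ y ∈ Y, polar (⇑Q) y x = 0) → x ∈ Y) :
    2 * Module.finrank F Y = Fintype.card ι := by
  have h1 : LinearMap.BilinForm.orthogonal (polarBilin Q) Y = Y := by
    ext x
    rw [LinearMap.BilinForm.mem_orthogonal_iff]
    constructor
    · intro hx
      apply hYY
      intro y hy
      have h2 := hx y hy
      rw [polarBilin_apply_apply] at h2
      exact h2
    · intro hx y hy
      show polarBilin Q y x = 0
      rw [polarBilin_apply_apply]
      exact polar_ts hY hy hx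
  have h2 := LinearMap.BilinForm.finrank_orthogonal h.nd Y
  rw [h1, Module.finrank_fintype_fun_eq_card] at h2
  have h3 : Module.finrank F Y ≤ Fintype.card ι := by
    have := Submodule.finrank_le Y
    rwa [Module.finrank_fintype_fun_eq_card] at this
  omega

/-- the hypothesis excluding small self-perpendicular totally singular subspaces -/
def NoSmallMax (Q : QuadraticForm F (ι → F)) : Prop :=
  ∀ Y : Submodule F (ι → F), (∀ y ∈ Y, Q y = 0) →
    (∀ x : ι → F, (∀ y ∈ Y, polar (⇑Q) y x = 0) → x ∈ Y) → 5 ≤ Module.finrank F Y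

theorem wi3_odd (h2 : (2 : F) ≠ 0) {m : ℕ} (hm : 3 ≤ m) : WI3 (stdOdd F m) :=
  ⟨stdOdd_nondegenerate F m h2, m, _, _, stdOdd_isHypFamily F m, hm⟩

theorem wi3_plus {m : ℕ} (hm : 3 ≤ m) : WI3 (stdPlus F m) :=
  ⟨stdPlus_nondegenerate F m, m, _, _, stdPlus_isHypFamily F m, hm⟩

theorem wi3_minus [Finite F] {m : ℕ} (hm : 3 ≤ m) {a b : F} (hab : AnisoPair a b) :
    WI3 (stdMinus F m a b) :=
  ⟨stdMinus_nondegenerate m hab, m, _, _, stdMinus_isHypFamily F m a b, hm⟩

theorem noSmall_odd (h2 : (2 : F) ≠ 0) {m : ℕ} (hm : 3 ≤ m) : NoSmallMax (stdOdd F m) := by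
  intro Y hY hYY
  have := two_mul_finrank (wi3_odd h2 hm) Y hY hYY
  simp only [Fintype.card_sum, Fintype.card_fin, Fintype.card_unit] at this
  omega

theorem noSmall_plus {m : ℕ} (hm : 5 ≤ m) : NoSmallMax (stdPlus F m) := by
  intro Y hY hYY
  have := two_mul_finrank (wi3_plus (by omega)) Y hY hYY
  simp only [Fintype.card_sum, Fintype.card_fin] at this
  omega

theorem noSmall_minus [Fintype F] {m : ℕ} (hm : 3 ≤ m) {a b : F} (hab : AnisoPair a b) :
    NoSmallMax (stdMinus F m a b) := by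
  intro Y hY hYY
  have h1 := two_mul_finrank (wi3_minus hm hab) Y hY hYY
  simp only [Fintype.card_sum, Fintype.card_fin] at h1
  by_contra hcon
  have hm3 : m = 3 := by omega
  subst hm3
  have h4 : Module.finrank F Y = 4 := by omega
  let bs := Module.finBasisOfFinrankEq F Y h4
  have hli : LinearIndependent F (fun i => ((bs i : Y) : (Fin 3 ⊕ Fin 3) ⊕ Fin 2 → F)) :=
    bs.linearIndependent.map' Y.subtype (Submodule.ker_subtype Y)
  exact Cfsg.Agent.Helper43.OSemi.no_ts4_stdMinus3 a b hab _ hli (fun i => hY _ (bs i).2)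
    (fun i j => polar_ts hY (bs i).2 (bs j).2)

/-- **Theorem P** with the counting piece (F3) as a hypothesis -/
theorem theoremP_of_count [Fintype F] (h : WI3 Q) (hbad : NoSmallMax Q)
    (F3 : ∀ Y : Submodule F (ι → F), (∀ y ∈ Y, Q y = 0) →
      (∀ x : ι → F, (∀ y ∈ Y, polar (⇑Q) y x = 0) → x ∈ Y) → 5 ≤ Module.finrank F Y →
      ∀ {u : ι → F} (_ : u ≠ 0) (hu : Q u = 0),
      Nat.card ↥((rootGroup Q u hu).map (QuotientGroup.mk' (Subgroup.center ↥(EK Q)))) <
        Nat.card ↥((Subgroup.closure {g : ↥(EK Q) | ∃ y ∈ Y, ∃ y' ∈ Y, g = E Q y y'}).map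
          (QuotientGroup.mk' (Subgroup.center ↥(EK Q)))))
    (α : (↥(EK Q) ⧸ Subgroup.center ↥(EK Q)) ≃* (↥(EK Q) ⧸ Subgroup.center ↥(EK Q)))
    {u : ι → F} (hu0 : u ≠ 0) (hu : Q u = 0) :
    ∃ (u' : ι → F) (_ : u' ≠ 0) (hu' : Q u' = 0),
      ((rootGroup Q u hu).map (QuotientGroup.mk' (Subgroup.center ↥(EK Q)))).map
        α.toMonoidHom =
      (rootGroup Q u' hu').map (QuotientGroup.mk' (Subgroup.center ↥(EK Q))) :=
  perm_core h hbad α hu0 hu (Cfsg.Agent.Helper90.OrthPermF1.exists_rootGroup_le_map h α hu0 hu)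
    (fun M A hZA hAM hnorm hne hab hexp _ hu'0 hu' hR =>
      Cfsg.Agent.Helper44.OrthPermF2.exists_ts_invariant h M A hZA hAM hnorm hne hab hexp
        hu'0 hu' hR)
    (fun Y hY hYY h5 => F3 Y hY hYY h5 hu0 hu)

end Cfsg.Agent.Helper13.OrthPermE
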