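import Mathlib
import Cfsg.Agent.Lib.Helper13.OrthPermE
import Cfsg.Agent.Lib.Helper70.OrthPermF3

/-!
# Theorem P: automorphisms of `PΩ(Q)` permute the point radicals
-/

set_option autoImplicit false

namespace Cfsg.Agent.Helper13.OrthPermP

open Matrix QuadraticMap Cfsg.Agent.Helper13 Cfsg.Agent.Helper43
open Cfsg.Agent.Helper13.OrthPermA Cfsg.Agent.Helper13.OrthPermE

variable {F : Type*} [Field F] [Fintype F] {ι : Type} [Fintype ι] [DecidableEq ι]
  {Q : QuadraticForm F (ι → F)}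

/-- **Theorem P**: every automorphism of `Ω(Q)/Z` maps the image of a root group `Q_u`
(`u` singular) onto the image of a root group `Q_u'` -/
theorem theoremP (h : WI3 Q) (hbad : NoSmallMax Q)
    (α : (↥(EK Q) ⧸ Subgroup.center ↥(EK Q)) ≃* (↥(EK Q) ⧸ Subgroup.center ↥(EK Q)))
    {u : ι → F} (hu0 : u ≠ 0) (hu : Q u = 0) :
    ∃ (u' : ι → F) (_ : u' ≠ 0) (hu' : Q u' = 0),
      ((rootGroup Q u hu).map (QuotientGroup.mk' (Subgroup.center ↥(EK Q)))).map
        α.toMonoidHom =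
      (rootGroup Q u' hu').map (QuotientGroup.mk' (Subgroup.center ↥(EK Q))) :=
  theoremP_of_count h hbad
    (fun Y hY hYY h5 _ hu0' hu' =>
      Cfsg.Agent.Helper70.OrthPerm.card_rootGroup_lt h Y hY hYY h5 hu0' hu') α hu0 hu

theorem theoremP_odd (h2 : (2 : F) ≠ 0) {m : ℕ} (hm : 3 ≤ m)
    (α : (↥(EK (stdOdd F m)) ⧸ Subgroup.center ↥(EK (stdOdd F m))) ≃*
      (↥(EK (stdOdd F m)) ⧸ Subgroup.center ↥(EK (stdOdd F m))))
    {u : Unit ⊕ (Fin m ⊕ Fin m) → F} (hu0 : u ≠ 0) (hu : stdOdd F m u = 0) :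
    ∃ (u' : Unit ⊕ (Fin m ⊕ Fin m) → F) (_ : u' ≠ 0) (hu' : stdOdd F m u' = 0),
      ((rootGroup (stdOdd F m) u hu).map
        (QuotientGroup.mk' (Subgroup.center ↥(EK (stdOdd F m))))).map α.toMonoidHom =
      (rootGroup (stdOdd F m) u' hu').map
        (QuotientGroup.mk' (Subgroup.center ↥(EK (stdOdd F m)))) :=
  theoremP (wi3_odd h2 hm) (noSmall_odd h2 hm) α hu0 hu

theorem theoremP_plus {m : ℕ} (hm : 5 ≤ m)
    (α : (↥(EK (stdPlus F m)) ⧸ Subgroup.center ↥(EK (stdPlus F m))) ≃*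
      (↥(EK (stdPlus F m)) ⧸ Subgroup.center ↥(EK (stdPlus F m))))
    {u : Fin m ⊕ Fin m → F} (hu0 : u ≠ 0) (hu : stdPlus F m u = 0) :
    ∃ (u' : Fin m ⊕ Fin m → F) (_ : u' ≠ 0) (hu' : stdPlus F m u' = 0),
      ((rootGroup (stdPlus F m) u hu).map
        (QuotientGroup.mk' (Subgroup.center ↥(EK (stdPlus F m))))).map α.toMonoidHom =
      (rootGroup (stdPlus F m) u' hu').map
        (QuotientGroup.mk' (Subgroup.center ↥(EK (stdPlus F m)))) :=
  theoremP (wi3_plus (by omega)) (noSmall_plus hm) α hu0 hu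

theorem theoremP_minus {m : ℕ} (hm : 3 ≤ m) {a b : F} (hab : AnisoPair a b)
    (α : (↥(EK (stdMinus F m a b)) ⧸ Subgroup.center ↥(EK (stdMinus F m a b))) ≃*
      (↥(EK (stdMinus F m a b)) ⧸ Subgroup.center ↥(EK (stdMinus F m a b))))
    {u : (Fin m ⊕ Fin m) ⊕ Fin 2 → F} (hu0 : u ≠ 0) (hu : stdMinus F m a b u = 0) :
    ∃ (u' : (Fin m ⊕ Fin m) ⊕ Fin 2 → F) (_ : u' ≠ 0) (hu' : stdMinus F m a b u' = 0),
      ((rootGroup (stdMinus F m a b) u hu).map
        (QuotientGroup.mk' (Subgroup.center ↥(EK (stdMinus F m a b))))).map α.toMonoidHom =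
      (rootGroup (stdMinus F m a b) u' hu').map
        (QuotientGroup.mk' (Subgroup.center ↥(EK (stdMinus F m a b)))) :=
  theoremP (wi3_minus hm hab) (noSmall_minus hm hab) α hu0 hu

end Cfsg.Agent.Helper13.OrthPermP
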