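import Mathlib
import Cfsg.Agent.Lib.Helper5.OAut10
import Cfsg.Agent.Lib.Helper13.OrthPermP

/-!
# Theorem P transported along `Ω = EK` (piece BR-P of helper5's lemma server)
-/

set_option autoImplicit false

namespace Cfsg.Agent.Helper13.OAutBR

open Matrix QuadraticMap Cfsg.Agent.Helper13 Cfsg.Agent.Helper43
open Cfsg.Agent.Helper5.OAut

variable {F : Type*} [Field F] [Fintype F] {ι : Type} [Fintype ι] [DecidableEq ι]
  {Q : QuadraticForm F (ι → F)}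

/-- the identification `Ω ≃* EK` -/
noncomputable def phi (C : Ctx Q) : ↥(Cfsg.Omega F ⇑Q) ≃* ↥(EK Q) :=
  MulEquiv.subgroupCongr C.hE

theorem phi_coe (C : Ctx Q) (g : ↥(Cfsg.Omega F ⇑Q)) :
    ((phi C g : ↥(EK Q)) : ↥(Cfsg.isometryGroup F ⇑Q)) = (g : ↥(Cfsg.isometryGroup F ⇑Q)) := rfl

theorem phi_E (C : Ctx Q) {u w : ι → F} (hu : Q u = 0) (huw : polar (⇑Q) u w = 0) :
    phi C (Cfsg.Agent.Helper5.OAut.E Q u w) = Cfsg.Agent.Helper13.OrthPermA.E Q u w := by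
  apply Subtype.ext
  rw [phi_coe, Cfsg.Agent.Helper5.OAut.E_coe C hu huw,
    Cfsg.Agent.Helper13.OrthPermA.E_coe hu huw]

theorem map_center (C : Ctx Q) :
    (Subgroup.center ↥(Cfsg.Omega F ⇑Q)).map (phi C).toMonoidHom = Subgroup.center ↥(EK Q) := by
  ext x
  constructor
  · rintro ⟨z, hz, rfl⟩
    rw [Subgroup.mem_center_iff]
    intro g
    obtain ⟨g', rfl⟩ := (phi C).surjective g
    have hz : z ∈ Subgroup.center ↥(Cfsg.Omega F ⇑Q) := hz
    rw [Subgroup.mem_center_iff] at hz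
    show phi C g' * phi C z = phi C z * phi C g'
    rw [← map_mul, ← map_mul, hz g']
  · intro hx
    refine ⟨(phi C).symm x, ?_, by simp⟩
    rw [Subgroup.mem_center_iff] at hx
    show (phi C).symm x ∈ Subgroup.center ↥(Cfsg.Omega F ⇑Q)
    rw [Subgroup.mem_center_iff]
    intro g
    apply (phi C).injective
    rw [map_mul, map_mul, MulEquiv.apply_symm_apply]
    exact hx _

/-- the identification `PΩ ≃* EK / Z` -/
noncomputable def phib (C : Ctx Q) :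
    Cfsg.POmega F ⇑Q ≃* (↥(EK Q) ⧸ Subgroup.center ↥(EK Q)) :=
  QuotientGroup.congr (Subgroup.center ↥(Cfsg.Omega F ⇑Q)) (Subgroup.center ↥(EK Q)) (phi C)
    (map_center C)

theorem phib_prj (C : Ctx Q) (g : ↥(Cfsg.Omega F ⇑Q)) :
    phib C (prj Q g) = QuotientGroup.mk' (Subgroup.center ↥(EK Q)) (phi C g) := rfl

theorem mem_Qb_iff (C : Ctx Q) {v : ι → F} (hv : Q v = 0) (y : Cfsg.POmega F ⇑Q) :
    y ∈ Qb Q v ↔
      phib C y ∈ (rootGroup Q v hv).map (QuotientGroup.mk' (Subgroup.center ↥(EK Q))) := by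
  constructor
  · rintro ⟨g, hg, rfl⟩
    obtain ⟨w, hw, rfl⟩ := (mem_Qrad C hv).1 hg
    rw [phib_prj, phi_E C hv hw]
    exact Subgroup.mem_map_of_mem _ (Cfsg.Agent.Helper13.OrthPermA.E_mem_rootGroup hv hw)
  · rintro ⟨g, hg, hgy⟩
    obtain ⟨w, hw, rfl⟩ := (Cfsg.Agent.Helper13.OrthPermA.mem_rootGroup_iff hv g).1 hg
    have h1 : phib C (prj Q (Cfsg.Agent.Helper5.OAut.E Q v w)) = phib C y := by
      rw [phib_prj, phi_E C hv hw]
      exact hgy
    have h2 := (phib C).injective h1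
    rw [← h2]
    exact Subgroup.mem_map_of_mem _ ((mem_Qrad C hv).2 ⟨w, hw, rfl⟩)

/-- (BR-P) Theorem P transported along `Ω = EK` to `PΩ` and `Qb`. -/
theorem thP_bridge (C : Ctx Q)
    (hP : ∀ (α : (↥(EK Q) ⧸ Subgroup.center ↥(EK Q)) ≃* (↥(EK Q) ⧸ Subgroup.center ↥(EK Q)))
      {u : ι → F} (hu0 : u ≠ 0) (hu : Q u = 0),
      ∃ (u' : ι → F) (_ : u' ≠ 0) (hu' : Q u' = 0),
        ((rootGroup Q u hu).map (QuotientGroup.mk' (Subgroup.center ↥(EK Q)))).map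
          α.toMonoidHom =
        (rootGroup Q u' hu').map (QuotientGroup.mk' (Subgroup.center ↥(EK Q))))
    (α : Cfsg.POmega F ⇑Q ≃* Cfsg.POmega F ⇑Q) {u : ι → F} (hu0 : u ≠ 0) (hu : Q u = 0) :
    ∃ u' : ι → F, u' ≠ 0 ∧ Q u' = 0 ∧ (Qb Q u).map α.toMonoidHom = Qb Q u' := by
  obtain ⟨u', hu'0, hu', heq⟩ := hP ((phib C).symm.trans (α.trans (phib C))) hu0 hu
  refine ⟨u', hu'0, hu', ?_⟩
  have hα' : ∀ z, ((phib C).symm.trans (α.trans (phib C))) z = phib C (α ((phib C).symm z)) :=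
    fun z => rfl
  ext x
  constructor
  · rintro ⟨y, hy, rfl⟩
    rw [mem_Qb_iff C hu'] 
    rw [← heq]
    refine ⟨phib C y, (mem_Qb_iff C hu y).1 hy, ?_⟩
    show ((phib C).symm.trans (α.trans (phib C))) (phib C y) = phib C (α y)
    rw [hα', MulEquiv.symm_apply_apply]
  · intro hx
    have h1 := (mem_Qb_iff C hu' x).1 hx
    rw [← heq] at h1
    obtain ⟨z, hz, hzx⟩ := h1
    have hzx' : phib C (α ((phib C).symm z)) = phib C x := hzx
    have h2 := (phib C).injective hzx'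
    refine ⟨(phib C).symm z, ?_, h2⟩
    show (phib C).symm z ∈ Qb Q u
    rw [mem_Qb_iff C hu, MulEquiv.apply_symm_apply]
    exact hz

/-- Theorem P in `PΩ`/`Qb` form, directly from a context and the dimension hypothesis -/
theorem thP_Qb (C : Ctx Q) (hbad : Cfsg.Agent.Helper13.OrthPermE.NoSmallMax Q)
    (α : Cfsg.POmega F ⇑Q ≃* Cfsg.POmega F ⇑Q) {u : ι → F} (hu0 : u ≠ 0) (hu : Q u = 0) :
    ∃ u' : ι → F, u' ≠ 0 ∧ Q u' = 0 ∧ (Qb Q u).map α.toMonoidHom = Qb Q u' :=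
  thP_bridge C
    (fun α' _ hu0' hu' =>
      Cfsg.Agent.Helper13.OrthPermP.theoremP ⟨C.hQ, C.hyp⟩ hbad α' hu0' hu') α hu0 hu

end Cfsg.Agent.Helper13.OAutBR
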