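import Mathlib
import Cfsg.Agent.Lib.Helper5.OAut8
import Cfsg.Agent.Lib.Helper13.OrthSimple

/-!
# `Ω` is transitive on hyperbolic pairs up to scalars (piece NG-T of helper5's lemma server)
-/

set_option autoImplicit false

namespace Cfsg.Agent.Helper13.OAutNG

open Matrix QuadraticMap Cfsg.Agent.Helper13 Cfsg.Agent.Helper43
open Cfsg.Agent.Helper5.OAut

variable {F : Type*} [Field F] [Fintype F] {ι : Type} [Fintype ι] [DecidableEq ι]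
  {Q : QuadraticForm F (ι → F)}

/-- (NG-T) normalisation: `Ω` is transitive on hyperbolic pairs up to scalars -/
theorem NG_move (C : Ctx Q) {u v u1 v1 : ι → F} (hu0 : u ≠ 0) (hu : Q u = 0) (hv : Q v = 0)
    (huv : polar (⇑Q) u v ≠ 0) (hu10 : u1 ≠ 0) (hu1 : Q u1 = 0) (hv1 : Q v1 = 0)
    (huv1 : polar (⇑Q) u1 v1 ≠ 0) :
    ∃ (g : ↥(Cfsg.Omega F ⇑Q)) (c d : F), c ≠ 0 ∧ d ≠ 0 ∧ act Q g u1 = c • u ∧
      act Q g v1 = d • v := by
  obtain ⟨k, e, f, hef, hk⟩ := C.hyp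
  obtain ⟨g1, hg1, c, hc, hg1u⟩ := exists_EK_move Q C.hQ e f hef hk u1 u hu10 hu0 hu1 hu
  have hv2 : Q (g1 • v1) = 0 := by rw [O_Q_smul, hv1]
  have huv2 : polar (⇑Q) u (g1 • v1) ≠ 0 := by
    intro h0
    apply huv1
    rw [← O_polar_smul Q g1 u1 v1, hg1u, polar_smul_left, h0, smul_zero]
  obtain ⟨g2, hg2, d, hd, hg2u, hg2v⟩ := exists_EK_nonorth Q u (g1 • v1) v hu hv2 hv huv2 huv
  have hmem : g2 * g1 ∈ Cfsg.Omega F ⇑Q := by
    rw [C.hE]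
    exact (EK Q).mul_mem hg2 hg1
  refine ⟨⟨g2 * g1, hmem⟩, c, d, hc, hd, ?_, ?_⟩
  · show (g2 * g1) • u1 = c • u
    rw [mul_smul, hg1u, O_smul_smul_comm, hg2u]
  · show (g2 * g1) • v1 = d • v
    rw [mul_smul, hg2v]

end Cfsg.Agent.Helper13.OAutNG
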