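import Mathlib
import Cfsg.Prelude.Def_LieTypeDatum
import Cfsg.Agent.Lib.Helper44.QFStd
import Cfsg.Agent.Lib.Helper5.OrthLag12

/-!
# Two minus-type forms over the same finite field: an isomorphism of the `PΩ`'s carrying
`Inndiag` to `Inndiag` (odd characteristic)
-/

set_option autoImplicit false

namespace Cfsg.Agent.Helper13.OMF

open Matrix QuadraticMap Cfsg.Agent.Helper43 Cfsg.Agent.Helper5.OrthAut

section generic

variable {H H' : Type*} [Group H] [Group H']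

theorem commutator_map_equiv (φ : H ≃* H') :
    (commutator H).map φ.toMonoidHom = commutator H' := by
  rw [commutator_def, commutator_def, Subgroup.map_commutator]
  have h : (⊤ : Subgroup H).map φ.toMonoidHom = ⊤ :=
    Subgroup.map_top_of_surjective _ φ.surjective
  rw [h]

/-- the isomorphism of commutator subgroups induced by an isomorphism -/
noncomputable def commEquiv' (φ : H ≃* H') : ↥(commutator H) ≃* ↥(commutator H') :=
  (φ.subgroupMap (commutator H)).trans (MulEquiv.subgroupCongr (commutator_map_equiv φ))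

theorem commEquiv'_coe (φ : H ≃* H') (s : ↥(commutator H)) :
    ((commEquiv' φ s : ↥(commutator H')) : H') = φ s := rfl

theorem center_map_equiv {K K' : Type*} [Group K] [Group K'] (ψ : K ≃* K') :
    (Subgroup.center K).map ψ.toMonoidHom = Subgroup.center K' := by
  ext x
  constructor
  · rintro ⟨y, hy, rfl⟩
    have hy' : ∀ g, g * y = y * g := Subgroup.mem_center_iff.1 hy
    apply Subgroup.mem_center_iff.2
    intro z
    obtain ⟨w, rfl⟩ := ψ.surjective z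
    show ψ w * ψ y = ψ y * ψ w
    rw [← map_mul, ← map_mul, hy' w]
  · intro hx
    have hx' : ∀ g, g * x = x * g := Subgroup.mem_center_iff.1 hx
    refine ⟨ψ.symm x, ?_, ψ.apply_symm_apply x⟩
    apply Subgroup.mem_center_iff.2
    intro z
    apply ψ.injective
    rw [map_mul, map_mul, ψ.apply_symm_apply]
    exact hx' (ψ z)

/-- the isomorphism of `commutator / center` induced by an isomorphism -/
noncomputable def quotEquiv' (φ : H ≃* H') :
    (↥(commutator H) ⧸ Subgroup.center ↥(commutator H)) ≃*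
      (↥(commutator H') ⧸ Subgroup.center ↥(commutator H')) :=
  QuotientGroup.congr _ _ (commEquiv' φ) (center_map_equiv (commEquiv' φ))

theorem quotEquiv'_mk (φ : H ≃* H') (s : ↥(commutator H)) :
    quotEquiv' φ (QuotientGroup.mk s) = QuotientGroup.mk (commEquiv' φ s) := rfl

end generic

section orth

variable {F : Type*} [Field F] {ι : Type} [Fintype ι] [DecidableEq ι] (Q Q' : (ι → F) → F)

theorem conj_mulVec (T s : GL ι F) (u : ι → F) :
    ((T * s * T⁻¹ : GL ι F) : Matrix ι ι F) *ᵥ u =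
      (T : Matrix ι ι F) *ᵥ ((s : Matrix ι ι F) *ᵥ (((T⁻¹ : GL ι F) : Matrix ι ι F) *ᵥ u)) := by
  rw [Units.val_mul, Units.val_mul, Matrix.mulVec_mulVec, Matrix.mulVec_mulVec, Matrix.mul_assoc]

theorem inv_form (T : GL ι F) (hT : ∀ v, Q' ((T : Matrix ι ι F) *ᵥ v) = Q v) (u : ι → F) :
    Q (((T⁻¹ : GL ι F) : Matrix ι ι F) *ᵥ u) = Q' u := by
  rw [← hT, Matrix.mulVec_mulVec, ← Units.val_mul, mul_inv_cancel, Units.val_one,
    Matrix.one_mulVec]

theorem conj_mem_iso_iff (T : GL ι F) (hT : ∀ v, Q' ((T : Matrix ι ι F) *ᵥ v) = Q v)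
    (s : GL ι F) :
    T * s * T⁻¹ ∈ Cfsg.isometryGroup F Q' ↔ s ∈ Cfsg.isometryGroup F Q := by
  rw [mem_iso_iff, mem_iso_iff]
  constructor
  · intro h v
    have h1 := h ((T : Matrix ι ι F) *ᵥ v)
    have e : ((T⁻¹ : GL ι F) : Matrix ι ι F) *ᵥ ((T : Matrix ι ι F) *ᵥ v) = v := by
      rw [Matrix.mulVec_mulVec, ← Units.val_mul, inv_mul_cancel, Units.val_one,
        Matrix.one_mulVec]
    rw [conj_mulVec, e, hT, hT] at h1
    exact h1
  · intro h u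
    rw [conj_mulVec, hT, h, inv_form Q Q' T hT]

theorem conj_mem_sim (T : GL ι F) (hT : ∀ v, Q' ((T : Matrix ι ι F) *ᵥ v) = Q v)
    (g : GL ι F) (c : Fˣ) (hg : ∀ v, Q ((g : Matrix ι ι F) *ᵥ v) = (c : F) * Q v) (u : ι → F) :
    Q' (((T * g * T⁻¹ : GL ι F) : Matrix ι ι F) *ᵥ u) = (c : F) * Q' u := by
  rw [conj_mulVec, hT, hg, inv_form Q Q' T hT]

theorem iso_map_conj (T : GL ι F) (hT : ∀ v, Q' ((T : Matrix ι ι F) *ᵥ v) = Q v) :
    (Cfsg.isometryGroup F Q).map (MulAut.conj T).toMonoidHom = Cfsg.isometryGroup F Q' := by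
  ext t
  constructor
  · rintro ⟨s, hs, rfl⟩
    exact (conj_mem_iso_iff Q Q' T hT s).2 hs
  · intro ht
    refine ⟨T⁻¹ * t * T, ?_, ?_⟩
    · apply (conj_mem_iso_iff Q Q' T hT _).1
      have : T * (T⁻¹ * t * T) * T⁻¹ = t := by group
      rw [this]
      exact ht
    · show T * (T⁻¹ * t * T) * T⁻¹ = t
      group

/-- conjugation by `T` as an isomorphism of isometry groups -/
noncomputable def isoEquivT (T : GL ι F) (hT : ∀ v, Q' ((T : Matrix ι ι F) *ᵥ v) = Q v) :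
    ↥(Cfsg.isometryGroup F Q) ≃* ↥(Cfsg.isometryGroup F Q') :=
  ((MulAut.conj T).subgroupMap (Cfsg.isometryGroup F Q)).trans
    (MulEquiv.subgroupCongr (iso_map_conj Q Q' T hT))

theorem isoEquivT_coe (T : GL ι F) (hT : ∀ v, Q' ((T : Matrix ι ι F) *ᵥ v) = Q v)
    (s : ↥(Cfsg.isometryGroup F Q)) :
    ((isoEquivT Q Q' T hT s : ↥(Cfsg.isometryGroup F Q')) : GL ι F) = T * (s : GL ι F) * T⁻¹ :=
  rfl

/-- the induced isomorphism `PΩ(Q) ≃* PΩ(Q')` -/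
noncomputable def psi0 (T : GL ι F) (hT : ∀ v, Q' ((T : Matrix ι ι F) *ᵥ v) = Q v) :
    Cfsg.POmega F Q ≃* Cfsg.POmega F Q' :=
  quotEquiv' (isoEquivT Q Q' T hT)

theorem psi0_mk (T : GL ι F) (hT : ∀ v, Q' ((T : Matrix ι ι F) *ᵥ v) = Q v)
    (s : ↥(Cfsg.Omega F Q)) :
    psi0 Q Q' T hT (QuotientGroup.mk s) =
      QuotientGroup.mk (commEquiv' (isoEquivT Q Q' T hT) s) := rfl

/-- transport of `Phi` along `psi0` -/
theorem congr_Phi (T : GL ι F) (hT : ∀ v, Q' ((T : Matrix ι ι F) *ᵥ v) = Q v)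
    (g : GL ι F) (hg : g ∈ NO Q) (hg' : T * g * T⁻¹ ∈ NO Q') :
    MulAut.congr (psi0 Q Q' T hT) (Phi Q ⟨g, hg⟩) = Phi Q' ⟨T * g * T⁻¹, hg'⟩ := by
  apply MulEquiv.ext
  intro x
  obtain ⟨s', rfl⟩ := QuotientGroup.mk_surjective x
  obtain ⟨s, rfl⟩ := (commEquiv' (isoEquivT Q Q' T hT)).surjective s'
  have e1 : (psi0 Q Q' T hT).symm
      (QuotientGroup.mk (commEquiv' (isoEquivT Q Q' T hT) s)) = QuotientGroup.mk s := by
    rw [← psi0_mk, MulEquiv.symm_apply_apply]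
  show psi0 Q Q' T hT (Phi Q ⟨g, hg⟩ ((psi0 Q Q' T hT).symm
    (QuotientGroup.mk (commEquiv' (isoEquivT Q Q' T hT) s)))) =
    Phi Q' ⟨T * g * T⁻¹, hg'⟩ (QuotientGroup.mk (commEquiv' (isoEquivT Q Q' T hT) s))
  rw [e1, Phi_mk, psi0_mk, Phi_mk]
  congr 1
  apply Subtype.ext
  apply Subtype.ext
  rw [commEquiv'_coe, isoEquivT_coe, conjOm_apply, conjOm_apply, commEquiv'_coe, isoEquivT_coe]
  show T * (g * _ * g⁻¹) * T⁻¹ = T * g * T⁻¹ * (T * _ * T⁻¹) * (T * g * T⁻¹)⁻¹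
  group

end orth

section main

universe u

variable {F : Type u} [Field F] [Fintype F]

/-- two minus-type forms of the same dimension over a finite field are isometric -/
theorem exists_T (m : ℕ) (a b a' b' : F)
    (hab : ∀ z₁ z₂ : F, z₁ ^ 2 + a * z₁ * z₂ + b * z₂ ^ 2 = 0 → z₁ = 0 ∧ z₂ = 0)
    (hab' : ∀ z₁ z₂ : F, z₁ ^ 2 + a' * z₁ * z₂ + b' * z₂ ^ 2 = 0 → z₁ = 0 ∧ z₂ = 0) :
    ∃ T : GL ((Fin m ⊕ Fin m) ⊕ Fin 2) F, ∀ v : (Fin m ⊕ Fin m) ⊕ Fin 2 → F,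
      stdMinus F m a' b' ((T : Matrix ((Fin m ⊕ Fin m) ⊕ Fin 2) ((Fin m ⊕ Fin m) ⊕ Fin 2) F) *ᵥ v) =
        stdMinus F m a b v := by
  classical
  have hnd0 : (polarBilin (stdMinus F m a b)).Nondegenerate :=
    stdMinus_nondegenerate (F := F) m (a := a) (b := b) hab
  have hnd : ∀ x, (∀ y, polar (stdMinus F m a b) x y = 0) → x = 0 := by
    rw [(polarBilin_isRefl _).nondegenerate_iff_separatingLeft] at hnd0
    intro x hx
    exact hnd0 x (fun y => by rw [polarBilin_apply_apply]; exact hx y)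
  have hfr : Module.finrank F ((Fin m ⊕ Fin m) ⊕ Fin 2 → F) = 2 * m + 2 := by
    rw [Module.finrank_fintype_fun_eq_card]
    simp
    ring
  have hTm : Cfsg.Agent.Helper44.QF.HasType (⇑(stdMinus F m a b)) (m + 1) (-1) := by
    rw [coe_stdMinus]
    exact Cfsg.Agent.Helper44.QF.hasType_minus m a b hab
  obtain ⟨e, he⟩ : ∃ e : ((Fin m ⊕ Fin m) ⊕ Fin 2 → F) ≃ₗ[F] ((Fin m ⊕ Fin m) ⊕ Fin 2 → F),
      ∀ v, Cfsg.quadFormMinus m F a' b' (e v) = stdMinus F m a b v := by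
    rcases Cfsg.Agent.Helper44.QF.witt_cases (stdMinus F m a b) hnd with
      ⟨k, hk, e, he⟩ | ⟨k, hk, h⟩ | ⟨k, hk, _⟩
    · exfalso
      obtain rfl : k = m + 1 := by omega
      have h2 := Cfsg.Agent.Helper44.QF.hasType_congr (Cfsg.quadFormPlus (m + 1) F)
        (⇑(stdMinus F m a b)) e.symm.toEquiv (fun x => by
          rw [← he]
          show Cfsg.quadFormPlus (m + 1) F (e (e.symm x)) = _
          rw [LinearEquiv.apply_symm_apply]) (m + 1) 1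
        (Cfsg.Agent.Helper44.QF.hasType_plus (m + 1))
      exact Cfsg.Agent.Helper44.QF.hasType_unique _ (m + 1) h2 hTm
    · obtain rfl : k = m := by omega
      exact h a' b' hab'
    · omega
  refine ⟨⟨LinearMap.toMatrix' e.toLinearMap, LinearMap.toMatrix' e.symm.toLinearMap, ?_, ?_⟩, ?_⟩
  · rw [← LinearMap.toMatrix'_comp]
    simp
  · rw [← LinearMap.toMatrix'_comp]
    simp
  · intro v
    show stdMinus F m a' b' (LinearMap.toMatrix' e.toLinearMap *ᵥ v) = _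
    rw [LinearMap.toMatrix'_mulVec, ← he, coe_stdMinus]
    rfl

theorem inndiag_minus_iso_odd_aux (hodd : Odd (Fintype.card F))
    {m : ℕ} (hm : 3 ≤ m) (a b a' b' : F)
    (hab : ∀ z₁ z₂ : F, z₁ ^ 2 + a * z₁ * z₂ + b * z₂ ^ 2 = 0 → z₁ = 0 ∧ z₂ = 0)
    (hab' : ∀ z₁ z₂ : F, z₁ ^ 2 + a' * z₁ * z₂ + b' * z₂ ^ 2 = 0 → z₁ = 0 ∧ z₂ = 0) :
    ∃ ψ₀ : Cfsg.POmega F ⇑(stdMinus F m a b) ≃* Cfsg.POmega F ⇑(stdMinus F m a' b'),
      ∀ δ : MulAut (Cfsg.POmega F ⇑(stdMinus F m a b)),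
        δ ∈ Cfsg.autSubgroupOf (fun β : Cfsg.POmega F ⇑(stdMinus F m a b) ≃*
            Cfsg.POmega F ⇑(stdMinus F m a b) =>
          ∃ g : GL ((Fin m ⊕ Fin m) ⊕ Fin 2) F,
            g ∈ Cfsg.Geo.quadSimilarityGroup (F := F) ⇑(stdMinus F m a b) ∧
            Cfsg.PreservesSingularClassesMinus m a b
              (g : Matrix ((Fin m ⊕ Fin m) ⊕ Fin 2) ((Fin m ⊕ Fin m) ⊕ Fin 2) F) ∧
            Cfsg.IsInducedBySemilinearPOmega ⇑(stdMinus F m a b) g (RingEquiv.refl F) β) →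
          MulAut.congr ψ₀ δ ∈ Cfsg.autSubgroupOf (fun β : Cfsg.POmega F ⇑(stdMinus F m a' b') ≃*
            Cfsg.POmega F ⇑(stdMinus F m a' b') =>
          ∃ g : GL ((Fin m ⊕ Fin m) ⊕ Fin 2) F,
            g ∈ Cfsg.Geo.quadSimilarityGroup (F := F) ⇑(stdMinus F m a' b') ∧
            Cfsg.PreservesSingularClassesMinus m a' b'
              (g : Matrix ((Fin m ⊕ Fin m) ⊕ Fin 2) ((Fin m ⊕ Fin m) ⊕ Fin 2) F) ∧
            Cfsg.IsInducedBySemilinearPOmega ⇑(stdMinus F m a' b') g (RingEquiv.refl F) β) := by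
  classical
  obtain ⟨T, hT⟩ := exists_T m a b a' b' hab hab'
  have hQ0 : ∃ v : (Fin m ⊕ Fin m) ⊕ Fin 2 → F, stdMinus F m a b v ≠ 0 :=
    hQ0_of_hyp (stdMinus F m a b) (stdMinus_isHypFamily F m a b) (by omega)
  have hQ0' : ∃ v : (Fin m ⊕ Fin m) ⊕ Fin 2 → F, stdMinus F m a' b' v ≠ 0 :=
    hQ0_of_hyp (stdMinus F m a' b') (stdMinus_isHypFamily F m a' b') (by omega)
  refine ⟨psi0 ⇑(stdMinus F m a b) ⇑(stdMinus F m a' b') T hT, ?_⟩
  intro δ hδ
  unfold Cfsg.autSubgroupOf at hδ ⊢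
  have hle : Subgroup.closure {β : MulAut (Cfsg.POmega F ⇑(stdMinus F m a b)) |
      ∃ g : GL ((Fin m ⊕ Fin m) ⊕ Fin 2) F,
        g ∈ Cfsg.Geo.quadSimilarityGroup (F := F) ⇑(stdMinus F m a b) ∧
        Cfsg.PreservesSingularClassesMinus m a b
          (g : Matrix ((Fin m ⊕ Fin m) ⊕ Fin 2) ((Fin m ⊕ Fin m) ⊕ Fin 2) F) ∧
        Cfsg.IsInducedBySemilinearPOmega ⇑(stdMinus F m a b) g (RingEquiv.refl F) β} ≤
      (Subgroup.closure {β : MulAut (Cfsg.POmega F ⇑(stdMinus F m a' b')) |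
        ∃ g : GL ((Fin m ⊕ Fin m) ⊕ Fin 2) F,
          g ∈ Cfsg.Geo.quadSimilarityGroup (F := F) ⇑(stdMinus F m a' b') ∧
          Cfsg.PreservesSingularClassesMinus m a' b'
            (g : Matrix ((Fin m ⊕ Fin m) ⊕ Fin 2) ((Fin m ⊕ Fin m) ⊕ Fin 2) F) ∧
          Cfsg.IsInducedBySemilinearPOmega ⇑(stdMinus F m a' b') g (RingEquiv.refl F) β}).comap
        (MulAut.congr (psi0 ⇑(stdMinus F m a b) ⇑(stdMinus F m a' b') T hT)).toMonoidHom := by
    rw [Subgroup.closure_le]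
    rintro β ⟨g, hg, hpres, hind⟩
    show MulAut.congr (psi0 ⇑(stdMinus F m a b) ⇑(stdMinus F m a' b') T hT) β ∈
      Subgroup.closure _
    apply Subgroup.subset_closure
    have hgNO : g ∈ NO ⇑(stdMinus F m a b) := sim_le_NO _ hg
    have hβ : β = Phi ⇑(stdMinus F m a b) ⟨g, hgNO⟩ :=
      (induced_iff ⇑(stdMinus F m a b) ⟨g, hgNO⟩ β).1 hind
    obtain ⟨c, hc⟩ := hg
    have hg' : T * g * T⁻¹ ∈ Cfsg.Geo.quadSimilarityGroup (F := F) ⇑(stdMinus F m a' b') :=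
      ⟨c, conj_mem_sim ⇑(stdMinus F m a b) ⇑(stdMinus F m a' b') T hT g c hc⟩
    have hg'NO : T * g * T⁻¹ ∈ NO ⇑(stdMinus F m a' b') := sim_le_NO _ hg'
    refine ⟨T * g * T⁻¹, hg', ?_, ?_⟩
    · rw [Cfsg.Agent.Helper5.OrthLag.preserves_minus_iff hodd m a' b' hab' hQ0' _ hg']
      have h1 := (Cfsg.Agent.Helper5.OrthLag.preserves_minus_iff hodd m a b hab hQ0 g ⟨c, hc⟩).1 hpres
      apply Units.ext
      have h1' := congrArg Units.val h1
      rw [dHom_coe] at h1' ⊢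
      have hm1 : mult (stdMinus F m a' b') ⟨T * g * T⁻¹, hg'⟩ = c :=
        mult_unique _ hQ0' _ c
          (conj_mem_sim ⇑(stdMinus F m a b) ⇑(stdMinus F m a' b') T hT g c hc)
      have hm2 : mult (stdMinus F m a b) ⟨g, ⟨c, hc⟩⟩ = c := mult_unique _ hQ0 _ c hc
      rw [hm1]
      rw [hm2] at h1'
      have hdet : (gmat (stdMinus F m a' b') ⟨T * g * T⁻¹, hg'⟩).det =
          (gmat (stdMinus F m a b) ⟨g, ⟨c, hc⟩⟩).det := by
        show ((T * g * T⁻¹ : GL ((Fin m ⊕ Fin m) ⊕ Fin 2) F) :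
          Matrix ((Fin m ⊕ Fin m) ⊕ Fin 2) ((Fin m ⊕ Fin m) ⊕ Fin 2) F).det =
          (g : Matrix ((Fin m ⊕ Fin m) ⊕ Fin 2) ((Fin m ⊕ Fin m) ⊕ Fin 2) F).det
        rw [Units.val_mul, Units.val_mul, Matrix.det_mul, Matrix.det_mul, mul_comm,
          ← mul_assoc, ← Matrix.det_mul, ← Units.val_mul, inv_mul_cancel, Units.val_one,
          Matrix.det_one, one_mul]
      rw [hdet]
      exact h1'
    · rw [hβ, congr_Phi ⇑(stdMinus F m a b) ⇑(stdMinus F m a' b') T hT g hgNO hg'NO]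
      exact (induced_iff ⇑(stdMinus F m a' b') ⟨_, hg'NO⟩ _).2 rfl
  exact hle hδ

/-- (T2) two minus-type forms over the same finite field: an isomorphism of the `PΩ`'s carrying
`Inndiag` to `Inndiag`, odd characteristic -/
theorem inndiag_minus_iso_odd (hodd : Odd (Fintype.card F))
    {m : ℕ} (hm : 3 ≤ m) (a b a' b' : F)
    (hab : ∀ z₁ z₂ : F, z₁ ^ 2 + a * z₁ * z₂ + b * z₂ ^ 2 = 0 → z₁ = 0 ∧ z₂ = 0)
    (hab' : ∀ z₁ z₂ : F, z₁ ^ 2 + a' * z₁ * z₂ + b' * z₂ ^ 2 = 0 → z₁ = 0 ∧ z₂ = 0) :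
    ∃ ψ₀ : Cfsg.POmega F (Cfsg.quadFormMinus m F a b) ≃* Cfsg.POmega F (Cfsg.quadFormMinus m F a' b'),
      ∀ δ : MulAut (Cfsg.POmega F (Cfsg.quadFormMinus m F a b)),
        δ ∈ Cfsg.inndiagPOmegaMinus m F a b →
          MulAut.congr ψ₀ δ ∈ Cfsg.inndiagPOmegaMinus m F a' b' := by
  have h := inndiag_minus_iso_odd_aux hodd hm a b a' b' hab hab'
  rw [coe_stdMinus, coe_stdMinus] at h
  exact h

end main

end Cfsg.Agent.Helper13.OMF
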