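import Mathlib
import Cfsg.Agent.Lib.Helper43.OMin4
import Cfsg.Agent.Lib.Helper66.OMinOddFR

/-!
# `Out(PΩ⁻_{2m}(q))`, `q` odd: generation of `Aut` over `PGO` by a Frobenius-semilinear map
-/

set_option autoImplicit false

namespace Cfsg.Agent.Helper13.OMinOdd

open Matrix QuadraticMap Cfsg.Agent.Helper13 Cfsg.Agent.Helper43 Cfsg.Agent.Helper43.OGam
open Cfsg.Agent.Helper43.OMin
open Cfsg.Agent.Helper66.OMinOdd

variable {F : Type*} [Field F] [Fintype F] {ι : Type} [Fintype ι] [DecidableEq ι]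
  (Q : QuadraticForm F (ι → F))

/-- the automorphism group is generated over the image of the similarity group by the class of
a `p`-semilinear semisimilarity, of order exactly `f` modulo that image -/
theorem gen_facts (hQ : (polarBilin Q).Nondegenerate) {k : ℕ}
    (e f' : Fin k → (ι → F)) (hef : IsHypFamily Q e f') (hk : 3 ≤ k) (hn : 5 ≤ Fintype.card ι)
    (hgam : Cfsg.gammaPOmega F ⇑Q = ⊤) {p f : ℕ} [Fact p.Prime] (hf : 1 ≤ f)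
    (hF : Fintype.card F = p ^ f) (L₀ : GamO ⇑Q)
    (hsm : ∀ (j : ℕ) (c : F) (x : ι → F),
      ((L₀ ^ j : GamO ⇑Q) : Equiv.Perm (ι → F)) (c • x) =
        c ^ (p ^ j) • ((L₀ ^ j : GamO ⇑Q) : Equiv.Perm (ι → F)) x) :
    (∀ β : MulAut (Cfsg.POmega F ⇑Q),
      ∃ i : ℕ, β * (Theta ⇑Q L₀) ^ i ∈ (Lin ⇑Q).map (Theta ⇑Q)) ∧
    (∀ j : ℕ, (Theta ⇑Q L₀) ^ j ∈ (Lin ⇑Q).map (Theta ⇑Q) → f ∣ j) ∧
    (Theta ⇑Q L₀) ^ f ∈ (Lin ⇑Q).map (Theta ⇑Q) := by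
  classical
  have hchar : CharP F p := charP_of_card_eq_prime_pow hF
  have hsurj := Theta_surjective (⇑Q) hgam
  have hι : Nonempty ι := by
    by_contra h
    rw [not_nonempty_iff] at h
    rw [Fintype.card_eq_zero] at hn
    omega
  obtain ⟨i₀⟩ := hι
  refine ⟨?_, ?_, ?_⟩
  · intro β
    obtain ⟨L, rfl⟩ := hsurj β
    obtain ⟨n, hn'⟩ := exists_pow_of_ringEquiv_p p (sig (⇑Q) L)
    refine ⟨(f - 1) * n, ?_⟩
    rw [← map_pow, ← map_mul]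
    refine ⟨L * L₀ ^ ((f - 1) * n), ?_, rfl⟩
    intro c x
    show (L : Equiv.Perm _) (((L₀ ^ ((f - 1) * n) : GamO ⇑Q) : Equiv.Perm _) (c • x)) =
      c • (L : Equiv.Perm _) (((L₀ ^ ((f - 1) * n) : GamO ⇑Q) : Equiv.Perm _) x)
    rw [hsm]
    have h1 := sig_spec (⇑Q) L (c ^ p ^ ((f - 1) * n))
      (((L₀ ^ ((f - 1) * n) : GamO ⇑Q) : Equiv.Perm _) x)
    rw [toAdd_apply, toAdd_apply] at h1
    rw [h1, hn', ← pow_mul, ← pow_add]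
    have e1 : (f - 1) * n + n = f * n := by
      obtain ⟨f'', rfl⟩ : ∃ f'', f = f'' + 1 := ⟨f - 1, by omega⟩
      simp only [Nat.add_sub_cancel]
      ring
    rw [e1, pow_p_pow_mul hF]
  · intro j hj
    rw [← map_pow] at hj
    obtain ⟨M, hM, hMj⟩ := hj
    have h1 : Theta ⇑Q (M⁻¹ * L₀ ^ j) = 1 := by
      rw [map_mul, map_inv, hMj, inv_mul_cancel]
    have hMinv : ∀ (c : F) (x : ι → F),
        ((M⁻¹ : GamO ⇑Q) : Equiv.Perm (ι → F)) (c • x) =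
          c • ((M⁻¹ : GamO ⇑Q) : Equiv.Perm (ι → F)) x := (Lin ⇑Q).inv_mem hM
    have h2 := (rigid Q hQ e f' hef hk hn _ h1 (sig ⇑Q (M⁻¹ * L₀ ^ j))
      (sig_spec ⇑Q (M⁻¹ * L₀ ^ j))).2
    apply dvd_of_pow_p_pow_eq hf hF j
    intro c
    obtain ⟨x, hx⟩ := ((M⁻¹ * L₀ ^ j : GamO ⇑Q) : Equiv.Perm (ι → F)).surjective
      (Pi.single i₀ 1)
    have e1 := sig_spec ⇑Q (M⁻¹ * L₀ ^ j) c x
    rw [toAdd_apply, toAdd_apply, h2 c, hx] at e1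
    have e2 : ((M⁻¹ * L₀ ^ j : GamO ⇑Q) : Equiv.Perm (ι → F)) (c • x) =
        c ^ (p ^ j) • ((M⁻¹ * L₀ ^ j : GamO ⇑Q) : Equiv.Perm (ι → F)) x := by
      show ((M⁻¹ : GamO ⇑Q) : Equiv.Perm (ι → F))
          (((L₀ ^ j : GamO ⇑Q) : Equiv.Perm (ι → F)) (c • x)) =
        c ^ (p ^ j) • ((M⁻¹ : GamO ⇑Q) : Equiv.Perm (ι → F))
          (((L₀ ^ j : GamO ⇑Q) : Equiv.Perm (ι → F)) x)
      rw [hsm, hMinv]
    rw [e2, hx] at e1
    have e3 := congrFun e1 i₀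
    simpa using e3
  · rw [← map_pow]
    refine ⟨L₀ ^ f, ?_, rfl⟩
    intro c x
    rw [hsm, ← hF, FiniteField.pow_card]

end Cfsg.Agent.Helper13.OMinOdd
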