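import Mathlib
import Cfsg.Agent.Lib.Helper43.OMin4

/-!
# `Out(PΩ⁻_{2m}(q))`, `q` odd: a reflection does not induce an inner automorphism
-/

set_option autoImplicit false

namespace Cfsg.Agent.Helper13.OMinOddB

open Matrix QuadraticMap Cfsg.Agent.Helper13 Cfsg.Agent.Helper43 Cfsg.Agent.Helper43.OGam
open Cfsg.Agent.Helper43.OMin

variable {F : Type*} [Field F] [Fintype F] {ι : Type} [Fintype ι] [DecidableEq ι]
  (Q : QuadraticForm F (ι → F))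

/-- in even dimension and odd characteristic a reflection does not induce an inner automorphism
of `PΩ` -/
theorem refl_not_inn (hQ : (polarBilin Q).Nondegenerate) {k : ℕ}
    (e f' : Fin k → (ι → F)) (hef : IsHypFamily Q e f') (hk : 3 ≤ k) (hn : 5 ≤ Fintype.card ι)
    (h2 : (2 : F) ≠ 0) (k' : ℕ) (hcard : Fintype.card ι = 2 * k')
    (L : GamO ⇑Q) (w0 : ι → F) (hw0 : Q w0 ≠ 0)
    (hL : ∀ x, (L : Equiv.Perm (ι → F)) x = Cfsg.reflectionMatrix ⇑Q w0 *ᵥ x) :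
    Theta ⇑Q L ∉ Cfsg.Inn (Cfsg.POmega F ⇑Q) := by
  classical
  rintro ⟨t, ht⟩
  obtain ⟨s, rfl⟩ := QuotientGroup.mk_surjective t
  have hS : Theta ⇑Q (isoGam ⇑Q (s : ↥(Cfsg.isometryGroup F ⇑Q))) =
      MulAut.conj (QuotientGroup.mk s : Cfsg.POmega F ⇑Q) :=
    Theta_of_omega ⇑Q _ s 1 (fun x => by rw [one_smul]; rfl)
  have h1 : Theta ⇑Q ((isoGam ⇑Q (s : ↥(Cfsg.isometryGroup F ⇑Q)))⁻¹ * L) = 1 := by
    rw [map_mul, map_inv, hS, ← ht]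
    exact inv_mul_cancel _
  obtain ⟨⟨a', ha'0, ha'⟩, -⟩ := rigid Q hQ e f' hef hk hn _ h1
    (sig ⇑Q ((isoGam ⇑Q (s : ↥(Cfsg.isometryGroup F ⇑Q)))⁻¹ * L))
    (sig_spec ⇑Q ((isoGam ⇑Q (s : ↥(Cfsg.isometryGroup F ⇑Q)))⁻¹ * L))
  set S : Matrix ι ι F := (((s : ↥(Cfsg.isometryGroup F ⇑Q)) : GL ι F) : Matrix ι ι F) with hSdef
  have hLx : ∀ x, Cfsg.reflectionMatrix ⇑Q w0 *ᵥ x = a' • (S *ᵥ x) := by
    intro x
    have h3 : ((isoGam ⇑Q (s : ↥(Cfsg.isometryGroup F ⇑Q)) : GamO ⇑Q) : Equiv.Perm _)⁻¹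
        ((L : Equiv.Perm _) x) = a' • x := ha' x
    have h4 : (L : Equiv.Perm _) x =
        ((isoGam ⇑Q (s : ↥(Cfsg.isometryGroup F ⇑Q)) : GamO ⇑Q) : Equiv.Perm _) (a' • x) := by
      rw [← h3, perm_apply_inv]
    rw [← hL, h4, isoGam_apply, Matrix.mulVec_smul]
  -- `a'^2 = 1`
  have hsq : a' ^ 2 = 1 := by
    have e1 : Q (Cfsg.reflectionMatrix ⇑Q w0 *ᵥ w0) = Q w0 := by
      have := (Cfsg.Agent.Helper5.OrthAut.mem_iso_iff (⇑Q) _).1 (reflIso Q hw0).2 w0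
      rwa [reflIso_coe] at this
    have e2 : Q (S *ᵥ w0) = Q w0 :=
      (Cfsg.Agent.Helper5.OrthAut.mem_iso_iff (⇑Q) _).1
        (s : ↥(Cfsg.isometryGroup F ⇑Q)).2 w0
    rw [hLx, QuadraticMap.map_smul, e2, smul_eq_mul] at e1
    have e3 : (a' ^ 2 - 1) * Q w0 = 0 := by linear_combination e1
    rcases mul_eq_zero.1 e3 with h | h
    · exact sub_eq_zero.1 h
    · exact absurd h hw0
  -- determinants
  have hmat : Cfsg.reflectionMatrix ⇑Q w0 = a' • S := by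
    apply matrix_ext_mulVec
    intro x
    rw [hLx, Matrix.smul_mulVec]
  have hdetS : S.det = 1 := by
    have hmem : ((s : ↥(Cfsg.isometryGroup F ⇑Q)) : GL ι F) ∈
        Cfsg.Agent.Helper5.OrthAut.OmGL (⇑Q) :=
      (Cfsg.Agent.Helper5.OrthAut.mem_OmGL (⇑Q) _).2 ⟨s, rfl⟩
    exact ((Cfsg.Agent.Helper5.OrthAut.mem_SOG_iff Q _).1
      (Cfsg.Agent.Helper5.OrthAut.OmGL_le_SOG Q hmem)).2
  have hdet := congrArg Matrix.det hmat
  rw [reflectionMatrix_det Q hw0, Matrix.det_smul, hdetS, hcard, pow_mul, hsq, one_pow,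
    mul_one] at hdet
  apply h2
  linear_combination -hdet

end Cfsg.Agent.Helper13.OMinOddB
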