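import Mathlib
import Cfsg.Agent.Lib.Helper13.OMinOddA
import Cfsg.Agent.Lib.Helper13.OMinOddB
import Cfsg.Agent.Lib.Helper5.OrthAut7
import Cfsg.Agent.Lib.Helper14.OrthAutCount
import Cfsg.Agent.Lib.Helper39.OMinOddGA
import Cfsg.Agent.Lib.Helper16.OMinOddGB
import Cfsg.Agent.Lib.Helper42.OMinOddGEN

/-!
# `Out(PΩ⁻_{2m}(q))`, `q` odd, given `Aut = PΓO`
-/

set_option autoImplicit false

namespace Cfsg.Agent.Helper13.OMinOddC

open Matrix QuadraticMap Cfsg.Agent.Helper13 Cfsg.Agent.Helper43 Cfsg.Agent.Helper43.OGam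
open Cfsg.Agent.Helper43.OMin Cfsg.Agent.Helper5.OrthAut

theorem odd_of_pow_mod_four {p f : ℕ} (h : p ^ f % 4 = 3) : Odd f := by
  by_contra hne
  rw [Nat.not_odd_iff_even] at hne
  obtain ⟨t, rfl⟩ := hne
  rw [← two_mul, mul_comm, pow_mul, Nat.pow_mod] at h
  have h4 : p ^ t % 4 < 4 := Nat.mod_lt _ (by norm_num)
  interval_cases (p ^ t % 4) <;> omega

variable {F : Type*} [Field F] [Fintype F]

/-- `Out(PΩ⁻_{2k+2}(q))`, `q` odd, given that all automorphisms come from semisimilarities. -/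
theorem out_minus_odd_aux {p f k : ℕ} [Fact p.Prime] (hf : 1 ≤ f)
    (hF : Fintype.card F = p ^ f) (hp : p ≠ 2) (hk : 3 ≤ k)
    (a b : F) (hab : ∀ z₁ z₂ : F, z₁ ^ 2 + a * z₁ * z₂ + b * z₂ ^ 2 = 0 → z₁ = 0 ∧ z₂ = 0)
    (hgam : Cfsg.gammaPOmega F ⇑(stdMinus F k a b) = ⊤)
    (hCM : ∀ L₀ M : GamO ⇑(stdMinus F k a b),
      (∀ (c : F) (x : (Fin k ⊕ Fin k) ⊕ Fin 2 → F),
        (L₀ : Equiv.Perm ((Fin k ⊕ Fin k) ⊕ Fin 2 → F)) (c • x) =
          c ^ p • (L₀ : Equiv.Perm ((Fin k ⊕ Fin k) ⊕ Fin 2 → F)) x) →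
      M ∈ Lin ⇑(stdMinus F k a b) →
      Theta ⇑(stdMinus F k a b) (L₀ * M * L₀⁻¹ * M⁻¹) ∈
        Cfsg.psoAut F ⇑(stdMinus F k a b)) :
    if p ^ f % 4 = 3 ∧ Even k then
      Nonempty (Cfsg.Out (Cfsg.POmega F ⇑(stdMinus F k a b)) ≃*
        DihedralGroup 4 × Multiplicative (ZMod f))
    else
      Nonempty (Cfsg.Out (Cfsg.POmega F ⇑(stdMinus F k a b)) ≃*
        Multiplicative (ZMod 2 × ZMod (2 * f))) := by
  classical
  have hpp : p.Prime := Fact.out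
  have hchar : CharP F p := charP_of_card_eq_prime_pow hF
  have hodd : Odd (Fintype.card F) := by
    rw [hF]
    exact Odd.pow (hpp.odd_of_ne_two hp)
  have h2 : (2 : F) ≠ 0 := two_ne_zero_of_odd_card hodd
  have hnd : (polarBilin (stdMinus F k a b)).Nondegenerate :=
    stdMinus_nondegenerate (F := F) k (a := a) (b := b) hab
  have hfam := stdMinus_isHypFamily F k a b
  have hcard : Fintype.card ((Fin k ⊕ Fin k) ⊕ Fin 2) = 2 * (k + 1) := by simp; ring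
  have hn : 5 ≤ Fintype.card ((Fin k ⊕ Fin k) ⊕ Fin 2) := by rw [hcard]; omega
  have hsurj := Theta_surjective (⇑(stdMinus F k a b)) hgam
  obtain ⟨L₀, w0, hw0, hsm, hLf⟩ := Cfsg.Agent.Helper42.OMinOdd.exists_gen_odd (k := k) hp hf hF a b hab
  obtain ⟨hgen, hord, hxf⟩ := Cfsg.Agent.Helper13.OMinOdd.gen_facts (stdMinus F k a b) hnd _ _
    hfam hk hn hgam hf hF L₀ hsm
  have hmap : (Lin ⇑(stdMinus F k a b)).map (Theta ⇑(stdMinus F k a b)) =
      Cfsg.pgoAut F ⇑(stdMinus F k a b) :=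
    Cfsg.Agent.Helper14.OrthAutCount.map_Lin_eq_pgoAut _
  rw [hmap] at hgen hord hxf
  have hLinN : (Lin ⇑(stdMinus F k a b)).Normal := by
    rw [← Cfsg.Agent.Helper14.OrthAutCount.sigHom_ker]
    infer_instance
  have hPN : (Cfsg.pgoAut F ⇑(stdMinus F k a b)).Normal := by
    rw [← hmap]
    exact Subgroup.Normal.map hLinN _ hsurj
  have hIP : Cfsg.Inn (Cfsg.POmega F ⇑(stdMinus F k a b)) ≤
      Cfsg.pgoAut F ⇑(stdMinus F k a b) :=
    (inn_le_psoAut (stdMinus F k a b)).trans (psoAut_le_pgoAut (stdMinus F k a b))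
  have hpgo := pgo_mod_inn_minus hodd hk a b hab
  have hrel := relIndex_inn_pso_minus hodd hk a b hab
  rw [← coe_stdMinus] at hpgo hrel
  have hiff : (p ^ f % 4 = 3 ∧ Even k) ↔ (Even k ∧ Fintype.card F % 4 = 3) := by
    rw [hF, and_comm]
  split_ifs with hc
  · -- the dihedral case
    obtain ⟨φ, hφ, hker⟩ := hpgo.1 (hiff.1 hc)
    exact Cfsg.Agent.Helper39.OMinOdd.out_dihedral _ _ hIP φ hφ hker (Theta ⇑(stdMinus F k a b) L₀) f
      (odd_of_pow_mod_four hc.1) hgen hord hxf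
  · -- the abelian case
    have hc' : ¬ (Even k ∧ Fintype.card F % 4 = 3) := fun h => hc (hiff.2 h)
    obtain ⟨φ, hφ, hker⟩ := hpgo.2 hc'
    have hpso : Cfsg.psoAut F ⇑(stdMinus F k a b) ≤
        Cfsg.Inn (Cfsg.POmega F ⇑(stdMinus F k a b)) :=
      Subgroup.relIndex_eq_one.1 (hrel.2 hc')
    refine Cfsg.Agent.Helper16.OMinOdd.out_klein _ _ hIP φ hφ hker (Theta ⇑(stdMinus F k a b) L₀) f hf hgen hord hxf ?_ ?_
    · rw [← map_pow]
      exact Cfsg.Agent.Helper13.OMinOddB.refl_not_inn (stdMinus F k a b) hnd _ _ hfam hk hn h2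
        (k + 1) hcard (L₀ ^ f) w0 hw0 hLf
    · intro β hβ
      rw [← hmap] at hβ
      obtain ⟨M, hM, rfl⟩ := hβ
      rw [← map_inv, ← map_inv, ← map_mul, ← map_mul, ← map_mul]
      apply hpso
      exact hCM L₀ M (fun c x => by have := hsm 1 c x; simpa using this) hM

/-- The same with the form written as `quadFormMinus`. -/
theorem out_minus_odd {p f k : ℕ} [Fact p.Prime] (hf : 1 ≤ f)
    (hF : Fintype.card F = p ^ f) (hp : p ≠ 2) (hk : 3 ≤ k)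
    (a b : F) (hab : ∀ z₁ z₂ : F, z₁ ^ 2 + a * z₁ * z₂ + b * z₂ ^ 2 = 0 → z₁ = 0 ∧ z₂ = 0)
    (hgam : Cfsg.gammaPOmega F (Cfsg.quadFormMinus k F a b) = ⊤)
    (hCM : ∀ L₀ M : GamO ⇑(stdMinus F k a b),
      (∀ (c : F) (x : (Fin k ⊕ Fin k) ⊕ Fin 2 → F),
        (L₀ : Equiv.Perm ((Fin k ⊕ Fin k) ⊕ Fin 2 → F)) (c • x) =
          c ^ p • (L₀ : Equiv.Perm ((Fin k ⊕ Fin k) ⊕ Fin 2 → F)) x) →
      M ∈ Lin ⇑(stdMinus F k a b) →
      Theta ⇑(stdMinus F k a b) (L₀ * M * L₀⁻¹ * M⁻¹) ∈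
        Cfsg.psoAut F ⇑(stdMinus F k a b)) :
    if p ^ f % 4 = 3 ∧ Even k then
      Nonempty (Cfsg.Out (Cfsg.POmega F (Cfsg.quadFormMinus k F a b)) ≃*
        DihedralGroup 4 × Multiplicative (ZMod f))
    else
      Nonempty (Cfsg.Out (Cfsg.POmega F (Cfsg.quadFormMinus k F a b)) ≃*
        Multiplicative (ZMod 2 × ZMod (2 * f))) := by
  have key : ∀ (Q' : ((Fin k ⊕ Fin k) ⊕ Fin 2 → F) → F), Q' = Cfsg.quadFormMinus k F a b →
      (if p ^ f % 4 = 3 ∧ Even k then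
        Nonempty (Cfsg.Out (Cfsg.POmega F Q') ≃* DihedralGroup 4 × Multiplicative (ZMod f))
      else
        Nonempty (Cfsg.Out (Cfsg.POmega F Q') ≃* Multiplicative (ZMod 2 × ZMod (2 * f)))) →
      (if p ^ f % 4 = 3 ∧ Even k then
        Nonempty (Cfsg.Out (Cfsg.POmega F (Cfsg.quadFormMinus k F a b)) ≃*
          DihedralGroup 4 × Multiplicative (ZMod f))
      else
        Nonempty (Cfsg.Out (Cfsg.POmega F (Cfsg.quadFormMinus k F a b)) ≃*
          Multiplicative (ZMod 2 × ZMod (2 * f)))) := by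
    intro Q' hQ' h
    subst hQ'
    exact h
  have hgam' : Cfsg.gammaPOmega F ⇑(stdMinus F k a b) = ⊤ := by
    rw [coe_stdMinus]; exact hgam
  exact key _ (coe_stdMinus F k a b) (out_minus_odd_aux hf hF hp hk a b hab hgam' hCM)

end Cfsg.Agent.Helper13.OMinOddC
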