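import Mathlib
import Cfsg.Agent.Lib.Helper43.OGam5
import Cfsg.Agent.Lib.Helper14.OrthAutCount
import Cfsg.Agent.Lib.Helper5.OrthAut6

/-!
# A `p`-semilinear semisimilarity centralises the similarities modulo `PSO`
-/

set_option autoImplicit false

namespace Cfsg.Agent.Helper13.OMinOddCM

open Matrix QuadraticMap Cfsg.Agent.Helper13 Cfsg.Agent.Helper43 Cfsg.Agent.Helper43.OGam
open Cfsg.Agent.Helper5.OrthAut Cfsg.Agent.Helper16.OSemiAut

variable {F : Type*} [Field F] [Fintype F] {ι : Type} [Fintype ι] [DecidableEq ι]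
  (Q : QuadraticForm F (ι → F))

theorem comm_mem_psoAut (hQ : (polarBilin Q).Nondegenerate) {p : ℕ} [Fact p.Prime]
    [CharP F p] (hp : p ≠ 2) (k : ℕ) (hcard : Fintype.card ι = 2 * k)
    (L₀ M : GamO ⇑Q)
    (hL₀ : ∀ (c : F) (x : ι → F),
      (L₀ : Equiv.Perm (ι → F)) (c • x) = c ^ p • (L₀ : Equiv.Perm (ι → F)) x)
    (hM : M ∈ Lin ⇑Q) :
    Theta ⇑Q (L₀ * M * L₀⁻¹ * M⁻¹) ∈ Cfsg.psoAut F ⇑Q := by
  classical
  rcases isEmpty_or_nonempty ι with hι | hι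
  · have hsub : Subsingleton (Cfsg.POmega F ⇑Q) := by
      have : Subsingleton (GL ι F) := inferInstance
      infer_instance
    have h1 : Theta ⇑Q (L₀ * M * L₀⁻¹ * M⁻¹) = 1 :=
      MulEquiv.ext fun t => Subsingleton.elim _ _
    rw [h1]; exact one_mem _
  have hpp : p.Prime := Fact.out
  -- Frobenius
  set σ : F ≃+* F := frobeniusEquiv F p with hσ
  have hσc : ∀ c : F, σ c = c ^ p := fun c => frobeniusEquiv_apply F p c
  have hL : ∀ (c : F) (x : ι → F), toAdd ⇑Q L₀ (c • x) = σ c • toAdd ⇑Q L₀ x := by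
    intro c x; rw [toAdd_apply, toAdd_apply, hL₀, hσc]
  have hsig : sig ⇑Q L₀ = σ :=
    Cfsg.Agent.Helper14.OrthAutCount.sig_unique ⇑Q L₀ σ (fun c x => by rw [hL₀, hσc])
  have hlin' : ∀ (c : F) (x : ι → F),
      toAdd ⇑Q M (c • x) = (RingEquiv.refl F) c • toAdd ⇑Q M x := hM
  set G₀ : GL ι F := colGL σ (toAdd ⇑Q L₀) hL with hG₀
  set g : GL ι F := colGL (RingEquiv.refl F) (toAdd ⇑Q M) hlin' with hgdef
  have hg : ∀ x, (M : Equiv.Perm (ι → F)) x = (g : Matrix ι ι F) *ᵥ x := by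
    intro x
    have := colMat_mulVec (RingEquiv.refl F) (toAdd ⇑Q M) hlin' x
    rw [hgdef, colGL_coe]
    exact this.symm
  have hsigM : sig ⇑Q M = 1 := Cfsg.Agent.Helper14.OrthAutCount.sig_unique ⇑Q M 1 hM
  have hsimM : ∀ x, Q ((g : Matrix ι ι F) *ᵥ x) = (mu ⇑Q M : F) * Q x := by
    intro x
    rw [← hg]
    have := mu_spec ⇑Q M x
    rw [hsigM, toAdd_apply] at this
    exact this
  have hgGO : g ∈ GO Q := ⟨mu ⇑Q M, hsimM⟩
  set m : F := (mult Q ⟨g, hgGO⟩ : F) with hm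
  have hm0 : m ≠ 0 := Units.ne_zero _
  have hmM : ∀ x, Q ((M : Equiv.Perm (ι → F)) x) = m * Q x := by
    intro x; rw [hg]; exact mult_spec Q ⟨g, hgGO⟩ x
  have hν : ∀ x, Q ((L₀ : Equiv.Perm (ι → F)) x) = (mu ⇑Q L₀ : F) * (Q x) ^ p := by
    intro x
    have := mu_spec ⇑Q L₀ x
    rw [hsig, hσc, toAdd_apply] at this
    exact this
  have hhx : ∀ z, ((L₀ * M * L₀⁻¹ * M⁻¹ : GamO ⇑Q) : Equiv.Perm (ι → F))
      ((M : Equiv.Perm _) ((L₀ : Equiv.Perm _) z)) =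
      (L₀ : Equiv.Perm _) ((M : Equiv.Perm _) z) := by
    intro z
    show (L₀ : Equiv.Perm _) ((M : Equiv.Perm _) ((L₀ : Equiv.Perm _).symm
      ((M : Equiv.Perm _).symm ((M : Equiv.Perm _) ((L₀ : Equiv.Perm _) z))))) = _
    rw [Equiv.symm_apply_apply, Equiv.symm_apply_apply]
  -- multiplier of the commutator
  have hmult : ∀ x, Q (((L₀ * M * L₀⁻¹ * M⁻¹ : GamO ⇑Q) : Equiv.Perm (ι → F)) x) =
      m ^ (p - 1) * Q x := by
    intro x
    obtain ⟨y, rfl⟩ := (M : Equiv.Perm (ι → F)).surjective x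
    obtain ⟨z, rfl⟩ := (L₀ : Equiv.Perm (ι → F)).surjective y
    rw [hhx, hν, hmM, hmM, hν, mul_pow]
    have e : m ^ p = m ^ (p - 1) * m := by
      rw [← pow_succ, Nat.sub_add_cancel hpp.one_le]
    rw [e]; ring
  -- matrix of the commutator
  set H : GL ι F := semiGL G₀ σ g * g⁻¹ with hHdef
  have hH : ∀ x, ((L₀ * M * L₀⁻¹ * M⁻¹ : GamO ⇑Q) : Equiv.Perm (ι → F)) x =
      (H : Matrix ι ι F) *ᵥ x := by
    intro x
    obtain ⟨y, rfl⟩ := (M : Equiv.Perm (ι → F)).surjective x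
    obtain ⟨z, rfl⟩ := (L₀ : Equiv.Perm (ι → F)).surjective y
    rw [hhx, hg ((L₀ : Equiv.Perm _) z), hHdef, Units.val_mul, ← Matrix.mulVec_mulVec,
      Matrix.mulVec_mulVec _ ((g⁻¹ : GL ι F) : Matrix ι ι F), ← Units.val_mul, inv_mul_cancel,
      Units.val_one, Matrix.one_mulVec]
    have := semiGL_mulVec σ (toAdd ⇑Q L₀) hL g z
    rw [toAdd_apply, toAdd_apply] at this
    rw [hG₀, this, hg]
  -- determinants
  obtain ⟨t, ht⟩ : ∃ t, p = 2 * t + 1 := by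
    have := hpp.odd_of_ne_two hp
    obtain ⟨t, ht⟩ := this
    exact ⟨t, ht⟩
  have hp1 : p - 1 = 2 * t := by omega
  set d : F := (g : Matrix ι ι F).det with hd
  have hdsq : d ^ 2 = m ^ (Fintype.card ι) := det_sq Q hQ ⟨g, hgGO⟩
  have hd0 : d ≠ 0 := by
    intro h0
    rw [h0] at hdsq
    have : m ^ Fintype.card ι ≠ 0 := pow_ne_zero _ hm0
    apply this
    rw [← hdsq]; ring
  have hginv : ((g⁻¹ : GL ι F) : Matrix ι ι F).det = d⁻¹ := by
    have e : d * ((g⁻¹ : GL ι F) : Matrix ι ι F).det = 1 := by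
      rw [hd, ← Matrix.det_mul, ← Units.val_mul, mul_inv_cancel, Units.val_one, Matrix.det_one]
    exact eq_inv_of_mul_eq_one_right e
  have hG0inv : (G₀ : Matrix ι ι F).det * ((G₀⁻¹ : GL ι F) : Matrix ι ι F).det = 1 := by
    rw [← Matrix.det_mul, ← Units.val_mul, mul_inv_cancel, Units.val_one, Matrix.det_one]
  set c : F := m ^ t with hc
  have hc0 : c ≠ 0 := pow_ne_zero _ hm0
  have hcsq : c ^ 2 = m ^ (p - 1) := by rw [hc, hp1, ← pow_mul, mul_comm]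
  have hdetH : (H : Matrix ι ι F).det = c ^ (Fintype.card ι) := by
    have e1 : ((g : Matrix ι ι F).map σ).det = d ^ p := by
      have := RingEquiv.map_det σ (g : Matrix ι ι F)
      rw [← hσc, hd, this]
      rfl
    rw [hHdef, Units.val_mul, Matrix.det_mul, semiGL_coe, Matrix.det_mul, Matrix.det_mul, e1,
      hginv]
    have e2 : d ^ p * d⁻¹ = d ^ (p - 1) := by
      have : d ^ p = d ^ (p - 1) * d := by
        rw [← pow_succ, Nat.sub_add_cancel hpp.one_le]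
      rw [this, mul_assoc, mul_inv_cancel₀ hd0, mul_one]
    have e3 : d ^ (p - 1) = c ^ (Fintype.card ι) := by
      rw [hp1, pow_mul, hdsq, hc, ← pow_mul, ← pow_mul, mul_comm]
    calc (G₀ : Matrix ι ι F).det * d ^ p * ((G₀⁻¹ : GL ι F) : Matrix ι ι F).det * d⁻¹
        = ((G₀ : Matrix ι ι F).det * ((G₀⁻¹ : GL ι F) : Matrix ι ι F).det) * (d ^ p * d⁻¹) := by
          ring
      _ = c ^ (Fintype.card ι) := by rw [hG0inv, one_mul, e2, e3]
  -- the isometry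
  set cu : Fˣ := Units.mk0 c hc0 with hcu
  set S : GL ι F := (sclHom cu)⁻¹ * H with hS
  have hSmv : ∀ x, (S : Matrix ι ι F) *ᵥ x = c⁻¹ • ((H : Matrix ι ι F) *ᵥ x) := by
    intro x
    rw [hS, Units.val_mul, ← Matrix.mulVec_mulVec, ← map_inv, sclHom_mulVec]
    simp [hcu]
  have hSO : S ∈ Cfsg.isometryGroup F ⇑Q := by
    rw [mem_iso_iff]
    intro x
    rw [hSmv, QuadraticMap.map_smul, smul_eq_mul, ← hH, hmult, ← hcsq]
    field_simp
  have hSdet : (S : Matrix ι ι F).det = 1 := by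
    rw [hS, Units.val_mul, Matrix.det_mul, ← map_inv, sclHom_det, hdetH, ← mul_pow]
    have : ((cu⁻¹ : Fˣ) : F) * c = 1 := by
      rw [hcu]; simp [hc0]
    rw [this, one_pow]
  have hS_NO : S ∈ NO ⇑Q := Subgroup.le_normalizer hSO
  have hΘ : Theta ⇑Q (L₀ * M * L₀⁻¹ * M⁻¹) = Phi ⇑Q ⟨S, hS_NO⟩ :=
    Theta_eq_Phi ⇑Q _ ⟨S, hS_NO⟩ c (fun x => by
      rw [hH]
      show _ = c • ((S : Matrix ι ι F) *ᵥ x)
      rw [hSmv, smul_smul, mul_inv_cancel₀ hc0, one_smul])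
  rw [hΘ, psoAut_eq]
  exact ⟨⟨S, hS_NO⟩, Subgroup.mem_subgroupOf.2 ((mem_SOG_iff Q S).2 ⟨hSO, hSdet⟩), rfl⟩

end Cfsg.Agent.Helper13.OMinOddCM
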