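import Mathlib
import Cfsg.Agent.Lib.Helper43.Tri.Rel

/-!
# S2608 (X6), Rel-level symmetries of related triples of the split octonions

`kO` = octonion conjugation as an isometry; `hatO g = kO * g * kO`.
* `Rel.swap01 : Rel g₀ g₁ g₂ → Rel g₁ g₀ (hatO g₂)`
* `Rel.hat    : Rel g₀ g₁ g₂ → Rel (hatO g₀) (hatO g₂) (hatO g₁)`
-/

set_option autoImplicit false
set_option linter.unusedSectionVars false
set_option linter.unusedVariables false

namespace Cfsg.Agent.Helper13.OP8

open Matrix QuadraticMap Cfsg.Agent.Helper13 Cfsg.Agent.Helper43 Cfsg.Agent.Helper5.OAut Module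
open Cfsg.Agent.Helper43.Tri

variable {F : Type*} [Field F]

/-- octonion conjugation as an isometry of the norm -/
noncomputable def kO : O8 F :=
  mkIso (stdPlus F 4) Km Km
    (LinearMap.ext fun x => by
      rw [LinearMap.comp_apply, Km_apply, Km_apply, oconj_oconj, LinearMap.id_apply])
    (LinearMap.ext fun x => by
      rw [LinearMap.comp_apply, Km_apply, Km_apply, oconj_oconj, LinearMap.id_apply])
    (fun x => by rw [Km_apply]; exact N_oconj x)

theorem kO_smul (x : OV F) : (kO : O8 F) • x = oconj x := by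
  unfold kO
  rw [mkIso_smul, Km_apply]

theorem kO_mul_kO : (kO : O8 F) * kO = 1 := by
  apply O_ext
  intro x
  show (kO * kO : O8 F) • x = (1 : O8 F) • x
  rw [mul_smul, kO_smul, kO_smul, oconj_oconj, one_smul]

theorem kO_inv : (kO : O8 F)⁻¹ = kO := inv_eq_of_mul_eq_one_right kO_mul_kO

/-- `κ g κ` -/
noncomputable def hatO (g : O8 F) : O8 F := kO * g * kO

theorem hatO_smul (g : O8 F) (x : OV F) : hatO g • x = oconj (g • oconj x) := by
  unfold hatO
  rw [mul_smul, mul_smul, kO_smul, kO_smul]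

theorem hatO_hatO (g : O8 F) : hatO (hatO g) = g := by
  unfold hatO
  rw [← mul_assoc, ← mul_assoc, kO_mul_kO, one_mul, mul_assoc, kO_mul_kO, mul_one]

theorem hatO_mul (g h : O8 F) : hatO (g * h) = hatO g * hatO h := by
  unfold hatO
  have : kO * g * kO * (kO * h * kO) = kO * g * (kO * kO) * h * kO := by group
  rw [this, kO_mul_kO, mul_one, mul_assoc kO g h]

theorem O_smul_add' (g : O8 F) (u v : OV F) : g • (u + v) = g • u + g • v := smul_add g u v

theorem O_smul_neg' (g : O8 F) (u : OV F) : g • (-u) = -(g • u) := smul_neg g u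

/-- `Rel g₀ g₁ g₂ → Rel (κ g₀ κ) (κ g₂ κ) (κ g₁ κ)` -/
theorem Rel.hat {g₀ g₁ g₂ : O8 F} (h : Rel g₀ g₁ g₂) : Rel (hatO g₀) (hatO g₂) (hatO g₁) := by
  intro x y
  rw [hatO_smul, hatO_smul, hatO_smul, oconj_omul, h, oconj_omul]

/-- the key identity: for nonsingular `y`, `g₁ (z ȳ) = g₀ z · conj (g₂ y)` -/
theorem rel_key {g₀ g₁ g₂ : O8 F} (h : Rel g₀ g₁ g₂) (z y : OV F) (hy : stdPlus F 4 y ≠ 0) :
    g₁ • omul z (oconj y) = omul (g₀ • z) (oconj (g₂ • y)) := by
  have h1 := h (omul z (oconj y)) y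
  rw [omul_oconj_omul_right] at h1
  have hc : g₀ • ((stdPlus F 4) y • z) = (stdPlus F 4) y • (g₀ • z) :=
    O_smul_smul_comm (stdPlus F 4) g₀ _ z
  rw [hc] at h1
  have h2 : omul ((stdPlus F 4) y • g₀ • z) (oconj (g₂ • y)) =
      omul (omul (g₁ • omul z (oconj y)) (g₂ • y)) (oconj (g₂ • y)) := by rw [h1]
  have hN : (stdPlus F 4) (g₂ • y) = (stdPlus F 4) y := O_Q_smul (stdPlus F 4) g₂ y
  rw [omul_omul_oconj, hN, omul_smul_left] at h2
  -- cancel the norm
  have h3 : (stdPlus F 4 y)⁻¹ • (stdPlus F 4 y • omul (g₀ • z) (oconj (g₂ • y))) =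
      (stdPlus F 4 y)⁻¹ • (stdPlus F 4 y • g₁ • omul z (oconj y)) := by rw [h2]
  rw [smul_smul, smul_smul, inv_mul_cancel₀ hy, one_smul, one_smul] at h3
  exact h3.symm

/-- two linear maps of the octonions agreeing on all nonsingular vectors are equal -/
theorem lin_ext_nonsing (A B : OV F →ₗ[F] OV F)
    (h : ∀ y : OV F, stdPlus F 4 y ≠ 0 → A y = B y) : A = B := by
  classical
  -- the vectors `e_i + f_i`
  have hv : ∀ i : Fin 4, stdPlus F 4
      ((Pi.single (Sum.inl i) 1 + Pi.single (Sum.inr i) 1 : OV F)) = 1 := by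
    intro i
    rw [N_eq]
    fin_cases i <;> simp [Pi.single_apply]
  have hw : ∀ (i : Fin 4) (k : Fin 4 ⊕ Fin 4) (c : F), k ≠ Sum.inl i → k ≠ Sum.inr i →
      stdPlus F 4 ((Pi.single (Sum.inl i) 1 + Pi.single (Sum.inr i) 1 : OV F) +
        Pi.single k c) = 1 := by
    intro i k c h1 h2
    rw [N_eq]
    rcases k with k | k <;> fin_cases i <;> fin_cases k <;>
      first
      | (exfalso; exact h1 rfl)
      | (exfalso; exact h2 rfl)
      | simp [Pi.single_apply]
  apply LinearMap.pi_ext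
  intro k c
  -- choose `i` away from `k`
  obtain ⟨i, h1, h2⟩ : ∃ i : Fin 4, k ≠ Sum.inl i ∧ k ≠ Sum.inr i := by
    rcases k with k | k
    · by_cases hk : k = 0
      · exact ⟨1, by rw [hk]; simp, by simp⟩
      · exact ⟨0, by simpa using hk, by simp⟩
    · by_cases hk : k = 0
      · exact ⟨1, by simp, by rw [hk]; simp⟩
      · exact ⟨0, by simp, by simpa using hk⟩
  have e1 := h _ (by rw [hv i]; exact one_ne_zero)
  have e2 := h _ (by rw [hw i k c h1 h2]; exact one_ne_zero)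
  rw [map_add, map_add (f := B), e1] at e2
  exact add_left_cancel e2

/-- an isometry as a linear map -/
noncomputable def linO (g : O8 F) : OV F →ₗ[F] OV F :=
  Matrix.toLin' ((g : GL (Fin 4 ⊕ Fin 4) F) : Matrix (Fin 4 ⊕ Fin 4) (Fin 4 ⊕ Fin 4) F)

theorem linO_apply (g : O8 F) (x : OV F) : linO g x = g • x := by
  unfold linO
  rw [Matrix.toLin'_apply]
  rfl

/-- `Rel g₀ g₁ g₂ → Rel g₁ g₀ (κ g₂ κ)` -/
theorem Rel.swap01 {g₀ g₁ g₂ : O8 F} (h : Rel g₀ g₁ g₂) : Rel g₁ g₀ (hatO g₂) := by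
  intro z y
  rw [hatO_smul]
  -- linear in `y`
  have key : ∀ z : OV F, (linO g₁) ∘ₗ (Lm z) ∘ₗ Km =
      (Lm (g₀ • z)) ∘ₗ Km ∘ₗ (linO g₂) := by
    intro z
    apply lin_ext_nonsing
    intro y hy
    simp only [LinearMap.comp_apply, Km_apply, Lm_apply, linO_apply]
    exact rel_key h z y hy
  have := LinearMap.congr_fun (key z) (oconj y)
  simp only [LinearMap.comp_apply, Km_apply, Lm_apply, linO_apply, oconj_oconj] at this
  exact this

end Cfsg.Agent.Helper13.OP8
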