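import Mathlib
import Cfsg.Agent.Lib.Helper5.PFADefs
import Cfsg.Agent.S0786

/-! PFA (SO), helper5's lemma server for S2715: a class-preserving isometry over the subfield `F₀`
lies in `Ω(F)` when every element of `F₀` is a square in `F`. -/

set_option autoImplicit false
set_option linter.unusedSectionVars false
set_option linter.unusedVariables false

namespace Cfsg.Agent.Helper13.PFA

open Matrix QuadraticMap Cfsg.Agent.Helper43 Cfsg.Agent.Helper5.OrthAut Cfsg.Agent.Helper40.AutPOm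
  Cfsg.Agent.Helper40.FieldCent Cfsg.Agent.Helper5.PFA

universe u u₀

variable {F₀ : Type u₀} [Field F₀] [Fintype F₀] {F : Type u} [Field F] [Fintype F]

theorem emb_iso_mem_omega_core (h2 : (2 : F) ≠ 0) {m : ℕ} (hm : 3 ≤ m) (emb : F₀ →+* F)
    (hsq : ∀ a : F₀, IsSquare (emb a)) (s₀ : GL (Fin m ⊕ Fin m) F₀)
    (hs₀O : s₀ ∈ Cfsg.isometryGroup F₀ ⇑(stdPlus F₀ m))
    (hdet : (s₀ : Matrix (Fin m ⊕ Fin m) (Fin m ⊕ Fin m) F₀).det = 1) :
    Matrix.GeneralLinearGroup.map emb s₀ ∈ OmGL ⇑(stdPlus F m) := by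
  classical
  have h2₀ : (2 : F₀) ≠ 0 := two_ne_zero_of_emb emb h2
  have hB : IsBC emb ⇑(stdPlus F₀ m) ⇑(stdPlus F m) := isBC_stdPlus m emb
  have hnd₀ := stdPlus_nondegenerate F₀ m
  have hnd := stdPlus_nondegenerate F m
  have hcard : Fintype.card (Fin m ⊕ Fin m) = 2 * m := by
    simp; ring
  set s : GL (Fin m ⊕ Fin m) F := Matrix.GeneralLinearGroup.map emb s₀ with hs
  have hsO : s ∈ Cfsg.isometryGroup F ⇑(stdPlus F m) := emb_mem_iso hB h2 s₀ hs₀O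
  have hexc : Fintype.card F₀ ≠ 2 ∨ Fintype.card (Fin m ⊕ Fin m) ≠ 4 := by
    right; rw [hcard]; omega
  obtain ⟨l, hl, hsl⟩ := Cfsg.Agent.S0786.matrix_cd_all (stdPlus F₀ m) hnd₀ hexc
    (s₀ : Matrix (Fin m ⊕ Fin m) (Fin m ⊕ Fin m) F₀)
    (fun u => (mem_iso_iff (⇑(stdPlus F₀ m)) s₀).1 hs₀O u)
  have hlen : Even l.length := by
    have h3 := det_list_reflection (stdPlus F₀ m) l hl
    rw [← hsl, hdet] at h3
    have hneg : (-1 : F₀) ≠ 1 := by
      intro h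
      apply h2₀
      have : (1 : F₀) + 1 = 0 := by
        nth_rewrite 1 [← h]
        exact neg_add_cancel 1
      rw [← one_add_one_eq_two]
      exact this
    exact (neg_one_pow_eq_one_iff_even hneg).1 h3.symm
  set vs : List (Fin m ⊕ Fin m → F) := l.map (mapV emb) with hvs
  have hvs0 : ∀ v ∈ vs, stdPlus F m v ≠ 0 := by
    intro v hv
    obtain ⟨w, hw, rfl⟩ := List.mem_map.1 hv
    have h3 : stdPlus F m (mapV emb w) = emb (stdPlus F₀ m w) := hB w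
    rw [h3, Ne, map_eq_zero_iff emb emb.injective]
    exact hl w hw
  have hsmat : (((⟨s, hsO⟩ : ↥(Cfsg.isometryGroup F ⇑(stdPlus F m))) : GL (Fin m ⊕ Fin m) F) :
      Matrix (Fin m ⊕ Fin m) (Fin m ⊕ Fin m) F) =
      (vs.map (fun v => Cfsg.reflectionMatrix (⇑(stdPlus F m)) v)).prod := by
    show ((s₀ : Matrix (Fin m ⊕ Fin m) (Fin m ⊕ Fin m) F₀)).map emb = _
    rw [hsl, map_list_prod_matrix, hvs, List.map_map, List.map_map]
    congr 1
    apply List.map_congr_left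
    intro w _
    exact hB.reflectionMatrix w
  have hmem := (mem_Omega_iff_of_list (stdPlus F m) h2 (by rw [hcard]; omega) hnd ⟨s, hsO⟩ vs hvs0
    hsmat).2 (by
    constructor
    · rw [hvs, List.length_map]; exact hlen
    · have h4 : (vs.map (fun v => stdPlus F m v)).prod =
          emb ((l.map (fun w => stdPlus F₀ m w)).prod) := by
        rw [hvs, List.map_map, map_list_prod, List.map_map]
        congr 1
        apply List.map_congr_left
        intro w _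
        exact hB w
      rw [h4]
      exact hsq _)
  show s ∈ OmGL ⇑(stdPlus F m)
  exact (mem_OmGL _ _).2 ⟨⟨⟨s, hsO⟩, hmem⟩, rfl⟩

theorem emb_iso_mem_omega (h2 : (2 : F) ≠ 0) {m : ℕ} (hm : 3 ≤ m) (emb : F₀ →+* F)
    (hsq : ∀ a : F₀, IsSquare (emb a)) (s₀ : GL (Fin m ⊕ Fin m) F₀)
    (hs₀ : s₀ ∈ Cfsg.isometryGroup F₀ (Cfsg.quadFormPlus m F₀))
    (hp : Cfsg.PreservesSingularClasses (Cfsg.quadFormPlus m F₀)
      (s₀ : Matrix (Fin m ⊕ Fin m) (Fin m ⊕ Fin m) F₀)) :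
    Matrix.GeneralLinearGroup.map emb s₀ ∈ OmGL (Cfsg.quadFormPlus m F) := by
  classical
  have h2₀ : (2 : F₀) ≠ 0 := two_ne_zero_of_emb emb h2
  have hs₀O : s₀ ∈ Cfsg.isometryGroup F₀ ⇑(stdPlus F₀ m) := hs₀
  have hQ0 : ∃ v : Fin m ⊕ Fin m → F₀, stdPlus F₀ m v ≠ 0 :=
    hQ0_of_hyp (stdPlus F₀ m) (stdPlus_isHypFamily F₀ m) (by omega)
  have hd := (preserves_iff_dHom_plus m h2₀ hQ0 s₀ (iso_le_sim _ hs₀O)).1 hp
  have hdet : (s₀ : Matrix (Fin m ⊕ Fin m) (Fin m ⊕ Fin m) F₀).det = 1 := by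
    have h3 := dHom_isoGO (stdPlus F₀ m) hQ0 m ⟨s₀, hs₀O⟩
    have h4 : isoGO (stdPlus F₀ m) ⟨s₀, hs₀O⟩ = ⟨s₀, iso_le_sim _ hs₀O⟩ := rfl
    rw [h4, hd] at h3
    rw [← h3]
    rfl
  exact emb_iso_mem_omega_core h2 hm emb hsq s₀ hs₀O hdet

end Cfsg.Agent.Helper13.PFA
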