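import Mathlib
import Cfsg.Agent.Lib.Helper40.OPF.Defs
import Cfsg.Agent.Lib.Helper13.PFASO

/-! OPF (SO), helper40's lemma server for S2715: a special isometry over the subfield `F₀`
lies in `Ω(F)` when every element of `F₀` is a square in `F`. -/

set_option autoImplicit false
set_option linter.unusedSectionVars false
set_option linter.unusedVariables false

namespace Cfsg.Agent.Helper13.OPF

open Matrix QuadraticMap Cfsg.Agent.Helper5.OrthAut Cfsg.Agent.Helper40.AutPOm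
  Cfsg.Agent.Helper40.OrthEven Cfsg.Agent.Helper43 Cfsg.Agent.Helper40.OPF

variable {F₀ : Type*} [Field F₀] [Fintype F₀] {F : Type*} [Field F] [Fintype F]

theorem emb_SO_mem_Omega (emb : F₀ →+* F) (hsq : ∀ a : F₀, IsSquare (emb a)) (h2 : (2 : F) ≠ 0)
    {m : ℕ} (hm : 3 ≤ m) (s₀ : GL (Fin m ⊕ Fin m) F₀) (hs₀ : s₀ ∈ SOG (stdPlus F₀ m)) :
    Matrix.GeneralLinearGroup.map emb s₀ ∈ OmGL (⇑(stdPlus F m)) :=
  Cfsg.Agent.Helper13.PFA.emb_iso_mem_omega_core h2 hm emb hsq s₀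
    ((mem_SOG_iff (stdPlus F₀ m) s₀).1 hs₀).1 ((mem_SOG_iff (stdPlus F₀ m) s₀).1 hs₀).2

end Cfsg.Agent.Helper13.OPF
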