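import Mathlib
import Cfsg.Agent.Lib.Helper43.SpinorNorm
import Cfsg.Agent.Lib.Helper5.OrthAut

set_option autoImplicit false

/-! S2721 (P4): an isometry `t` with `t^r = 1`, `r ≠ 0` in `F`, fixing a nonzero vector fixes a
nonsingular vector, and the reflection in it commutes with `t`. -/

namespace Cfsg.Agent.Helper13.OSSP4

open Matrix QuadraticMap Cfsg.Agent.Helper5.OrthAut Cfsg.Agent.Helper43

variable {F : Type*} [Field F] {ι : Type} [Fintype ι] [DecidableEq ι]

theorem polar_iso (Q : QuadraticForm F (ι → F)) (T : Matrix ι ι F)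
    (hT : ∀ u, Q (T *ᵥ u) = Q u) (a b : ι → F) :
    polar (⇑Q) (T *ᵥ a) (T *ᵥ b) = polar (⇑Q) a b := by
  unfold polar
  rw [← Matrix.mulVec_add, hT, hT, hT]

theorem exists_fixed_refl (Q : QuadraticForm F (ι → F)) (hQ : (polarBilin Q).Nondegenerate)
    (t : GL ι F) (ht : t ∈ Cfsg.isometryGroup F ⇑Q) (r : ℕ) (hrF : (r : F) ≠ 0)
    (htr : t ^ r = 1) (v₀ : ι → F) (hv₀ : v₀ ≠ 0) (hfix : (t : Matrix ι ι F) *ᵥ v₀ = v₀) :
    ∃ v : ι → F, Q v ≠ 0 ∧ (t : Matrix ι ι F) *ᵥ v = v ∧
      Cfsg.reflectionMatrix (⇑Q) v * (t : Matrix ι ι F) =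
        (t : Matrix ι ι F) * Cfsg.reflectionMatrix (⇑Q) v := by
  classical
  set T : Matrix ι ι F := (t : Matrix ι ι F) with hTdef
  have hTiso : ∀ u, Q (T *ᵥ u) = Q u := (mem_iso_iff (⇑Q) t).1 ht
  have hTr : T ^ r = 1 := by
    have := congrArg (fun u : GL ι F => (u : Matrix ι ι F)) htr
    simpa using this
  have hpowiso : ∀ (i : ℕ) (u : ι → F), Q ((T ^ i) *ᵥ u) = Q u := by
    intro i
    induction i with
    | zero => intro u; simp
    | succ i ih =>
      intro u
      rw [pow_succ, ← Matrix.mulVec_mulVec, ih, hTiso]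
  set N : Matrix ι ι F := ∑ i ∈ Finset.range r, T ^ i with hN
  have hTN : T * N = N := by
    have h1 : T * N = ∑ i ∈ Finset.range r, T ^ (i + 1) := by
      rw [hN, Finset.mul_sum]
      apply Finset.sum_congr rfl
      intro i _
      rw [pow_succ']
    have h2 : ∑ i ∈ Finset.range (r + 1), T ^ i = N + T ^ r := Finset.sum_range_succ _ _
    have h3 : ∑ i ∈ Finset.range (r + 1), T ^ i = (∑ i ∈ Finset.range r, T ^ (i + 1)) + T ^ 0 :=
      Finset.sum_range_succ' _ _
    rw [h1]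
    rw [h2, hTr, pow_zero] at h3
    exact (add_right_cancel h3).symm
  have hNfix : ∀ w : ι → F, T *ᵥ (N *ᵥ w) = N *ᵥ w := by
    intro w
    rw [Matrix.mulVec_mulVec, hTN]
  have hpowfix : ∀ i : ℕ, (T ^ i) *ᵥ v₀ = v₀ := by
    intro i
    induction i with
    | zero => simp
    | succ i ih => rw [pow_succ, ← Matrix.mulVec_mulVec, hfix, ih]
  -- a nonsingular fixed vector
  have hex : ∃ v : ι → F, Q v ≠ 0 ∧ T *ᵥ v = v := by
    by_contra hcon
    push Not at hcon
    have hzero : ∀ v : ι → F, T *ᵥ v = v → Q v = 0 := by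
      intro v hv
      by_contra hne
      exact hcon v hne hv
    apply hv₀
    have hker : ∀ w : ι → F, polarBilin Q v₀ w = 0 := by
      intro w
      have h1 : polar (⇑Q) v₀ (N *ᵥ w) = (r : F) * polar (⇑Q) v₀ w := by
        have hsum : N *ᵥ w = ∑ i ∈ Finset.range r, (T ^ i) *ᵥ w := by
          rw [hN, Matrix.sum_mulVec]
        have hlin : polar (⇑Q) v₀ (N *ᵥ w) =
            ∑ i ∈ Finset.range r, polar (⇑Q) v₀ ((T ^ i) *ᵥ w) := by
          rw [hsum]
          exact map_sum (polarBilin Q v₀) _ _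
        rw [hlin]
        have : ∀ i ∈ Finset.range r, polar (⇑Q) v₀ ((T ^ i) *ᵥ w) = polar (⇑Q) v₀ w := by
          intro i _
          have h := polar_iso Q (T ^ i) (hpowiso i) v₀ w
          rw [hpowfix i] at h
          exact h
        rw [Finset.sum_congr rfl this, Finset.sum_const, Finset.card_range, nsmul_eq_mul]
      have h2 : polar (⇑Q) v₀ (N *ᵥ w) = 0 := by
        unfold polar
        have ha : T *ᵥ (v₀ + N *ᵥ w) = v₀ + N *ᵥ w := by
          rw [Matrix.mulVec_add, hfix, hNfix]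
        rw [hzero _ ha, hzero _ hfix, hzero _ (hNfix w)]
        ring
      rw [h2] at h1
      rcases mul_eq_zero.1 h1.symm with h | h
      · exact absurd h hrF
      · exact h
    have hnd := hQ.1
    exact hnd v₀ (fun w => hker w)
  obtain ⟨v, hv, hvfix⟩ := hex
  refine ⟨v, hv, hvfix, ?_⟩
  apply matrix_ext_mulVec
  intro u
  rw [← Matrix.mulVec_mulVec, ← Matrix.mulVec_mulVec, Cfsg.Agent.Helper13.reflectionMatrix_mulVec,
    Cfsg.Agent.Helper13.reflectionMatrix_mulVec, Matrix.mulVec_sub, Matrix.mulVec_smul, hvfix]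
  have h := polar_iso Q T hTiso v u
  rw [hvfix] at h
  rw [h]

end Cfsg.Agent.Helper13.OSSP4
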