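import Mathlib

set_option autoImplicit false

namespace Cfsg.Agent.Helper13

open Module Submodule

section Frames

variable {K V : Type*} [Field K] [AddCommGroup V] [Module K V] (B : LinearMap.BilinForm K V)

/-- linearly independent families of pairwise orthogonal isotropic vectors -/
abbrev TIFrame (k : ℕ) : Type _ :=
  {s : Fin k → V // LinearIndependent K s ∧ ∀ i j, B (s i) (s j) = 0}

/-- the vectors that may be added to a frame -/
abbrev TIExt {k : ℕ} (s : TIFrame B k) : Type _ :=
  {v : V // v ∉ span K (Set.range s.1) ∧ ∀ i, B (s.1 i) v = 0}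

theorem cons_ti (hA : B.IsAlt) {k : ℕ} (s : TIFrame B k) (v : TIExt B s) :
    ∀ i j : Fin (k + 1), B ((Fin.cons v.1 s.1 : Fin (k + 1) → V) i)
      ((Fin.cons v.1 s.1 : Fin (k + 1) → V) j) = 0 := by
  intro i j
  refine Fin.cases ?_ (fun i' => ?_) i <;> refine Fin.cases ?_ (fun j' => ?_) j
  · simp only [Fin.cons_zero]; exact hA _
  · simp only [Fin.cons_zero, Fin.cons_succ]
    rw [← LinearMap.IsAlt.neg hA, v.2.2 j', neg_zero]
  · simp only [Fin.cons_zero, Fin.cons_succ]
    exact v.2.2 i'
  · simp only [Fin.cons_succ]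
    exact s.2.2 i' j'

/-- a frame of length `k + 1` is a frame of length `k` with an admissible extra vector -/
def frameEquiv (hA : B.IsAlt) (k : ℕ) : TIFrame B (k + 1) ≃ Σ s : TIFrame B k, TIExt B s where
  toFun s := ⟨⟨Fin.tail s.1, (linearIndependent_finSucc.mp s.2.1).1,
      fun i j => s.2.2 i.succ j.succ⟩,
    ⟨s.1 0, (linearIndependent_finSucc.mp s.2.1).2, fun i => s.2.2 i.succ 0⟩⟩
  invFun x := ⟨Fin.cons x.2.1 x.1.1, linearIndependent_finCons.mpr ⟨x.1.2.1, x.2.2.1⟩,
    cons_ti B hA x.1 x.2⟩
  left_inv s := by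
    apply Subtype.ext
    exact Fin.cons_self_tail s.1
  right_inv := by
    rintro ⟨⟨s, hs⟩, ⟨v, hv⟩⟩
    simp only [Fin.cons_zero, Sigma.mk.inj_iff, Fin.tail_cons, true_and]
    rfl

theorem span_le_orthogonal {k : ℕ} (s : TIFrame B k) :
    span K (Set.range s.1) ≤ B.orthogonal (span K (Set.range s.1)) := by
  rw [span_le]
  rintro _ ⟨j, rfl⟩
  rw [SetLike.mem_coe, LinearMap.BilinForm.mem_orthogonal_iff]
  intro n hn
  have : span K (Set.range s.1) ≤ LinearMap.ker (LinearMap.flip B (s.1 j)) := by
    rw [span_le]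
    rintro _ ⟨i, rfl⟩
    rw [SetLike.mem_coe, LinearMap.mem_ker, LinearMap.flip_apply]
    exact s.2.2 i j
  have h2 := this hn
  rwa [LinearMap.mem_ker, LinearMap.flip_apply] at h2

theorem mem_orthogonal_span_iff {k : ℕ} (s : Fin k → V) (v : V) :
    v ∈ B.orthogonal (span K (Set.range s)) ↔ ∀ i, B (s i) v = 0 := by
  rw [LinearMap.BilinForm.mem_orthogonal_iff]
  constructor
  · intro h i
    exact h _ (subset_span ⟨i, rfl⟩)
  · intro h n hn
    have : span K (Set.range s) ≤ LinearMap.ker (LinearMap.flip B v) := by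
      rw [span_le]
      rintro _ ⟨i, rfl⟩
      rw [SetLike.mem_coe, LinearMap.mem_ker, LinearMap.flip_apply]
      exact h i
    have h2 := this hn
    rwa [LinearMap.mem_ker, LinearMap.flip_apply] at h2

theorem card_TIExt [Finite K] [FiniteDimensional K V] (hB : B.Nondegenerate) {k : ℕ}
    (s : TIFrame B k) :
    Nat.card (TIExt B s) = Nat.card K ^ (finrank K V - k) - Nat.card K ^ k := by
  have : Finite V := Module.finite_of_finite K
  set U := span K (Set.range s.1) with hU
  have hUk : finrank K U = k := by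
    rw [hU, finrank_span_eq_card s.2.1, Fintype.card_fin]
  have hU' : finrank K (B.orthogonal U) = finrank K V - k := by
    rw [LinearMap.BilinForm.finrank_orthogonal hB, hUk]
  have hset : {v : V | v ∉ U ∧ ∀ i, B (s.1 i) v = 0} =
      ((B.orthogonal U : Submodule K V) : Set V) \ (U : Set V) := by
    ext v
    simp only [Set.mem_ofPred_eq, Set.mem_sdiff, SetLike.mem_coe]
    rw [hU, mem_orthogonal_span_iff]
    tauto
  have h1 : Nat.card (TIExt B s) = Set.ncard {v : V | v ∉ U ∧ ∀ i, B (s.1 i) v = 0} := rfl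
  rw [h1, hset, Set.ncard_sdiff (span_le_orthogonal B s) (Set.toFinite _), ← Nat.card_coe_set_eq,
    ← Nat.card_coe_set_eq]
  change Nat.card (B.orthogonal U) - Nat.card U = _
  rw [Module.natCard_eq_pow_finrank (K := K) (V := B.orthogonal U),
    Module.natCard_eq_pow_finrank (K := K) (V := U), hU', hUk]

theorem card_TIFrame [Finite K] [FiniteDimensional K V] (hB : B.Nondegenerate) (hA : B.IsAlt)
    (k : ℕ) : Nat.card (TIFrame B k) =
      ∏ i ∈ Finset.range k, (Nat.card K ^ (finrank K V - i) - Nat.card K ^ i) := by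
  have : Finite V := Module.finite_of_finite K
  induction k with
  | zero =>
    rw [Finset.range_zero, Finset.prod_empty]
    have : Unique (TIFrame B 0) :=
      { default := ⟨Fin.elim0, linearIndependent_empty_type, fun i => i.elim0⟩
        uniq := by
          intro s
          apply Subtype.ext
          funext i
          exact i.elim0 }
    exact Nat.card_unique
  | succ k ih =>
    haveI : Fintype (TIFrame B k) := Fintype.ofFinite _
    rw [Nat.card_congr (frameEquiv B hA k), Nat.card_sigma, Finset.prod_range_succ, ← ih]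
    simp only [card_TIExt B hB]
    rw [Finset.sum_const, Finset.card_univ, smul_eq_mul, ← Nat.card_eq_fintype_card]

end Frames

end Cfsg.Agent.Helper13
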