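import Mathlib
import Cfsg.Prelude.Def_ClassicalGeometry

set_option autoImplicit false

namespace Cfsg.Agent.Helper13

open Matrix

section Parabolic

variable {F : Type*} [Field F]

/-- an invertible matrix that maps a subspace into itself maps it onto itself -/
theorem mem_of_mulVec_mem {ι : Type} [Fintype ι] [DecidableEq ι]
    (S : Submodule F (ι → F)) (g : Matrix.GeneralLinearGroup ι F)
    (hS : ∀ v ∈ S, g.val *ᵥ v ∈ S) : ∀ v, g.val *ᵥ v ∈ S → v ∈ S := by
  have hinj : Function.Injective g.val.mulVec := by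
    rw [Matrix.mulVec_injective_iff_isUnit]
    exact g.isUnit
  let φ : S →ₗ[F] S := (Matrix.toLin' g.val).restrict (p := S) (q := S) (fun v hv => by
    rw [Matrix.toLin'_apply]; exact hS v hv)
  have hφinj : Function.Injective φ := by
    intro a b hab
    have h1 := congrArg Subtype.val hab
    simp only [φ, LinearMap.restrict_coe_apply, Matrix.toLin'_apply] at h1
    exact Subtype.ext (hinj h1)
  have hφsurj : Function.Surjective φ := LinearMap.injective_iff_surjective.mp hφinj
  intro v hv
  obtain ⟨s, hs⟩ := hφsurj ⟨g.val *ᵥ v, hv⟩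
  have h1 := congrArg Subtype.val hs
  simp only [φ, LinearMap.restrict_coe_apply, Matrix.toLin'_apply] at h1
  have := hinj h1
  rw [← this]
  exact s.2

theorem mem_stabilizing_iff {ι : Type} [Fintype ι] [DecidableEq ι]
    (S : Submodule F (ι → F)) (g : Matrix.GeneralLinearGroup ι F) :
    g ∈ Cfsg.stabilizing (Cfsg.glToMat ι F) (S : Set (ι → F)) ↔ ∀ v ∈ S, g.val *ᵥ v ∈ S := by
  constructor
  · intro h v hv
    exact (h v).mp hv
  · intro h v
    exact ⟨fun hv => h v hv, fun hv => mem_of_mulVec_mem S g h v hv⟩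

/-- the coordinate subspace spanned by the first `k` basis vectors -/
def coordSub (F : Type*) [Field F] (n k : ℕ) : Submodule F (Fin n → F) where
  carrier := {v | ∀ i : Fin n, k ≤ (i : ℕ) → v i = 0}
  add_mem' := by
    intro a b ha hb i hi
    simp [ha i hi, hb i hi]
  zero_mem' := by intro i _; rfl
  smul_mem' := by
    intro c a ha i hi
    simp [ha i hi]

theorem coe_coordSub (n k : ℕ) :
    (coordSub F n k : Set (Fin n → F)) = {v | ∀ i : Fin n, k ≤ (i : ℕ) → v i = 0} := rfl

theorem mem_coordSub {n k : ℕ} (v : Fin n → F) :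
    v ∈ coordSub F n k ↔ ∀ i : Fin n, k ≤ (i : ℕ) → v i = 0 := Iff.rfl

/-- the stabiliser of the coordinate subspace consists of the matrices with vanishing lower left block -/
theorem mem_stab_coord_iff {n k : ℕ} (g : Matrix.GeneralLinearGroup (Fin n) F) :
    g ∈ Cfsg.stabilizing (Cfsg.glToMat (Fin n) F) {v : Fin n → F | ∀ i : Fin n, k ≤ (i : ℕ) → v i = 0}
      ↔ ∀ i j : Fin n, k ≤ (i : ℕ) → (j : ℕ) < k → g.val i j = 0 := by
  rw [← coe_coordSub, mem_stabilizing_iff]
  constructor
  · intro h i j hi hj
    have h1 : (Pi.single j 1 : Fin n → F) ∈ coordSub F n k := by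
      intro i' hi'
      rw [Pi.single_apply, if_neg]
      intro e; rw [e] at hi'; omega
    have h2 := h _ h1 i hi
    rw [Matrix.mulVec_single_one] at h2
    exact h2
  · intro h v hv i hi
    rw [Matrix.mulVec, dotProduct]
    apply Finset.sum_eq_zero
    intro j _
    by_cases hj : (j : ℕ) < k
    · rw [h i j hi hj, zero_mul]
    · rw [hv j (by omega), mul_zero]

/-- split `Fin n` into the first `k` and the last `n - k` indices -/
def splitEquiv {n k : ℕ} (hk : k ≤ n) : Fin n ≃ Fin k ⊕ Fin (n - k) :=
  (finCongr (by omega : n = k + (n - k))).trans finSumFinEquiv.symm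

theorem splitEquiv_symm_inl_val {n k : ℕ} (hk : k ≤ n) (a : Fin k) :
    (((splitEquiv hk).symm (Sum.inl a) : Fin n) : ℕ) = a := by
  simp [splitEquiv]

theorem splitEquiv_symm_inr_val {n k : ℕ} (hk : k ≤ n) (b : Fin (n - k)) :
    (((splitEquiv hk).symm (Sum.inr b) : Fin n) : ℕ) = k + b := by
  simp [splitEquiv]

theorem lowerLeft_iff {n k : ℕ} (hk : k ≤ n) (M : Matrix (Fin n) (Fin n) F) :
    (∀ i j : Fin n, k ≤ (i : ℕ) → (j : ℕ) < k → M i j = 0) ↔
      (M.submatrix (splitEquiv hk).symm (splitEquiv hk).symm).toBlocks₂₁ = 0 := by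
  constructor
  · intro h
    ext b a
    simp only [Matrix.toBlocks₂₁, Matrix.of_apply, Matrix.submatrix_apply, Matrix.zero_apply]
    apply h
    · rw [splitEquiv_symm_inr_val]; omega
    · rw [splitEquiv_symm_inl_val]; exact a.2
  · intro h i j hi hj
    have hi' : ∃ b, i = (splitEquiv hk).symm (Sum.inr b) := by
      rcases hei : splitEquiv hk i with a | b
      · exfalso
        have : i = (splitEquiv hk).symm (Sum.inl a) := by rw [← hei, Equiv.symm_apply_apply]
        have h2 := splitEquiv_symm_inl_val hk a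
        rw [← this] at h2
        have := a.2
        omega
      · exact ⟨b, by rw [← hei, Equiv.symm_apply_apply]⟩
    have hj' : ∃ a, j = (splitEquiv hk).symm (Sum.inl a) := by
      rcases hej : splitEquiv hk j with a | b
      · exact ⟨a, by rw [← hej, Equiv.symm_apply_apply]⟩
      · exfalso
        have : j = (splitEquiv hk).symm (Sum.inr b) := by rw [← hej, Equiv.symm_apply_apply]
        have h2 := splitEquiv_symm_inr_val hk b
        rw [← this] at h2
        omega
    obtain ⟨b, rfl⟩ := hi'
    obtain ⟨a, rfl⟩ := hj'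
    have := congrFun (congrFun h b) a
    simpa [Matrix.toBlocks₂₁] using this

end Parabolic

end Cfsg.Agent.Helper13
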