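import Mathlib
import Cfsg.Agent.Lib.Helper5.OrthLag12
import Cfsg.Agent.Lib.Helper94.OSSP1
import Cfsg.Agent.Lib.Helper91.OSSP2
import Cfsg.Agent.Lib.Helper50.OSSP3
import Cfsg.Agent.Lib.Helper13.OSSP4
import Cfsg.Agent.Lib.Helper43.SpinorNorm

set_option autoImplicit false

/-! S2721, core lemma: a semisimple isometry of odd prime order commutes with a similarity with
non-square multiplier and discriminant character 1. -/

namespace Cfsg.Agent.Helper13.OSS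

open Matrix QuadraticMap Cfsg.Agent.Helper5.OrthAut Cfsg.Agent.Helper43

variable {F : Type*} [Field F] {ι : Type} [Fintype ι] [DecidableEq ι]

theorem orderOf_odd_coprime {G : Type*} [Group G] (t : G) {r p : ℕ} (hr : r.Prime) (hro : Odd r)
    (hp : p.Prime) (hrp : r ≠ p) (htr : t ^ r = 1) : Odd (orderOf t) ∧ (orderOf t).Coprime p := by
  have hd : orderOf t ∣ r := orderOf_dvd_of_pow_eq_one htr
  rcases (Nat.dvd_prime hr).1 hd with h | h
  · rw [h]; exact ⟨odd_one, Nat.coprime_one_left p⟩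
  · rw [h]; exact ⟨hro, (Nat.coprime_primes hr hp).2 hrp⟩

/-- (P5) the core lemma: a semisimple isometry of odd prime order commutes with a similarity with
non-square multiplier and `det = mult^k`. -/
theorem exists_commuting_sim [Fintype F] {p : ℕ} [Fact p.Prime] [CharP F p] (hp : p ≠ 2)
    (Q : QuadraticForm F (ι → F)) (hQ : (polarBilin Q).Nondegenerate)
    (hQ0 : ∃ v : ι → F, Q v ≠ 0) (k : ℕ) (hcard : Fintype.card ι = 2 * k)
    (t : GL ι F) (ht : t ∈ Cfsg.isometryGroup F ⇑Q) (r : ℕ) (hr : r.Prime) (hro : Odd r)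
    (hrp : r ≠ p) (htr : t ^ r = 1)
    (δ : GL ι F) (hδ : δ ∈ GO Q) (hδ1 : ¬ IsSquare ((mult Q ⟨δ, hδ⟩ : Fˣ) : F)) :
    ∃ (g : GL ι F) (hg : g ∈ GO Q), g * t = t * g ∧
      ¬ IsSquare ((mult Q ⟨g, hg⟩ : Fˣ) : F) ∧ dHom Q hQ0 k ⟨g, hg⟩ = 1 := by
  classical
  have h2 : (2 : F) ≠ 0 := by
    intro h
    have h3 : ((2 : ℕ) : F) = 0 := by exact_mod_cast h
    rw [CharP.cast_eq_zero_iff F p] at h3
    exact hp ((Nat.prime_dvd_prime_iff_eq (Fact.out) Nat.prime_two).1 h3)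
  have hrF : (r : F) ≠ 0 := by
    intro h
    rw [CharP.cast_eq_zero_iff F p] at h
    exact hrp ((Nat.prime_dvd_prime_iff_eq (Fact.out) hr).1 h).symm
  obtain ⟨hoo, hcop⟩ := orderOf_odd_coprime t hr hro (Fact.out : p.Prime) hrp htr
  obtain ⟨k0, hk0, hcomm⟩ := Cfsg.Agent.Helper94.OSS.exists_iso_commuting Q hQ t δ ht hδ hoo hcop
  have hg0 : δ * k0 ∈ GO Q := Subgroup.mul_mem _ hδ (iso_le_sim (⇑Q) hk0)
  have hmul : mult Q ⟨δ * k0, hg0⟩ = mult Q ⟨δ, hδ⟩ := by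
    have h1 : (⟨δ * k0, hg0⟩ : ↥(GO Q)) = ⟨δ, hδ⟩ * isoGO Q ⟨k0, hk0⟩ := rfl
    rw [h1, ← multHom_apply Q hQ0, map_mul, multHom_apply, multHom_apply, mult_isoGO Q hQ0,
      mul_one]
  have hns : ¬ IsSquare ((mult Q ⟨δ * k0, hg0⟩ : Fˣ) : F) := by rw [hmul]; exact hδ1
  by_cases hfix : ∀ v : ι → F, (t : Matrix ι ι F) *ᵥ v = v → v = 0
  · -- no fixed vector: the determinant is automatically right
    obtain ⟨β, hA, hnd, hβ⟩ := Cfsg.Agent.Helper50.OSS.exists_alt_form Q hQ h2 t ht r hro htr hfix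
    refine ⟨δ * k0, hg0, hcomm, hns, ?_⟩
    have hdet := Cfsg.Agent.Helper91.OSS.det_of_alt_sim β hA hnd k hcard ((δ * k0 : GL ι F) : Matrix ι ι F)
      ((mult Q ⟨δ * k0, hg0⟩ : Fˣ) : F) (Units.ne_zero _)
      (hβ (δ * k0) _ hcomm (fun v => mult_spec Q ⟨δ * k0, hg0⟩ v))
    apply Units.ext
    rw [dHom_coe, Units.val_one]
    show ((δ * k0 : GL ι F) : Matrix ι ι F).det * _ = 1
    rw [hdet]
    exact mul_inv_cancel₀ (pow_ne_zero _ (Units.ne_zero _))
  · push Not at hfix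
    obtain ⟨v₀, hv₀fix, hv₀⟩ := hfix
    obtain ⟨v, hv, hvfix, hvcomm⟩ := Cfsg.Agent.Helper13.OSSP4.exists_fixed_refl Q hQ t ht r hrF htr v₀ hv₀ hv₀fix
    rcases dHom_sq Q hQ0 hQ k hcard ⟨δ * k0, hg0⟩ with h1 | h1
    · exact ⟨δ * k0, hg0, hcomm, hns, h1⟩
    · -- correct the sign by the reflection in `v`
      set ρ : ↥(Cfsg.isometryGroup F ⇑Q) := reflIso Q hv with hρ
      have hρcomm : (ρ : GL ι F) * t = t * (ρ : GL ι F) := by
        apply Units.ext
        show Cfsg.reflectionMatrix (⇑Q) v * (t : Matrix ι ι F) =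
          (t : Matrix ι ι F) * Cfsg.reflectionMatrix (⇑Q) v
        exact hvcomm
      have hg1 : δ * k0 * (ρ : GL ι F) ∈ GO Q := Subgroup.mul_mem _ hg0 (iso_le_sim (⇑Q) ρ.2)
      have he : (⟨δ * k0 * (ρ : GL ι F), hg1⟩ : ↥(GO Q)) = ⟨δ * k0, hg0⟩ * isoGO Q ρ := rfl
      refine ⟨δ * k0 * (ρ : GL ι F), hg1, ?_, ?_, ?_⟩
      · rw [mul_assoc, hρcomm, ← mul_assoc, hcomm, mul_assoc]
      · rw [he, ← multHom_apply Q hQ0, map_mul, multHom_apply, multHom_apply, mult_isoGO Q hQ0,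
          mul_one]
        exact hns
      · rw [he, map_mul, h1]
        have h3 : dHom Q hQ0 k (isoGO Q ρ) = -1 := by
          apply Units.ext
          rw [dHom_isoGO, Units.val_neg, Units.val_one]
          show (Cfsg.reflectionMatrix (⇑Q) v).det = -1
          exact reflectionMatrix_det Q hv
        rw [h3]
        simp

end Cfsg.Agent.Helper13.OSS
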