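import Mathlib
import Cfsg.Agent.Lib.Helper13.OSSCore
import Cfsg.Agent.Lib.Helper41.OSSP6

set_option autoImplicit false
set_option linter.unusedSectionVars false

namespace Cfsg.Agent.Helper13.OSS

open Matrix QuadraticMap Cfsg.Agent.Helper5.OrthAut Cfsg.Agent.Helper43

section abstract

/-- descend a homomorphism through `Φ`, remembering its values -/
theorem exists_hom_of_map' {N A B : Type*} [Group N] [Group A] [Group B] (Φ : N →* A)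
    (X : Subgroup N) (ψ : ↥X →* B) (hK : ∀ x : ↥X, Φ x = 1 → ψ x = 1) (P : Subgroup A)
    (hP : P = X.map Φ) :
    ∃ φ : ↥P →* B, ∀ (x : ↥X) (hx : Φ x ∈ P), φ ⟨Φ x, hx⟩ = ψ x := by
  subst hP
  let f : ↥X →* ↥(X.map Φ) := Φ.subgroupMap X
  have hf : Function.Surjective f := Φ.subgroupMap_surjective X
  have hker : f.ker ≤ ψ.ker := by
    intro x hx
    rw [MonoidHom.mem_ker] at hx ⊢
    apply hK
    exact congrArg Subtype.val hx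
  refine ⟨f.liftOfSurjective hf ⟨ψ, hker⟩, ?_⟩
  intro x hx
  exact f.liftOfRightInverse_comp_apply _ _ ⟨ψ, hker⟩ x

theorem gen_or_sq4 (z : Multiplicative (ZMod 4)) :
    (∀ w : Multiplicative (ZMod 4), ∃ j : ℕ, w = z ^ j) ∨ ∃ w, z = w * w := by
  have h : ∀ z : Multiplicative (ZMod 4),
      (∀ w : Multiplicative (ZMod 4), ∃ j : Fin 4, w = z ^ (j : ℕ)) ∨ ∃ w, z = w * w := by
    decide
  rcases h z with h1 | h1
  · left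
    intro w
    obtain ⟨j, hj⟩ := h1 w
    exact ⟨j, hj⟩
  · right; exact h1

theorem gen_or_sq2 (z : Multiplicative (ZMod 2)) :
    (∀ w : Multiplicative (ZMod 2), ∃ j : ℕ, w = z ^ j) ∨ ∃ w, z = w * w := by
  have h : ∀ z : Multiplicative (ZMod 2),
      (∀ w : Multiplicative (ZMod 2), ∃ j : Fin 2, w = z ^ (j : ℕ)) ∨ ∃ w, z = w * w := by
    decide
  rcases h z with h1 | h1
  · left
    intro w
    obtain ⟨j, hj⟩ := h1 w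
    exact ⟨j, hj⟩
  · right; exact h1

/-- if `D/I` is "cyclic of 2-power order" (every element generates or is a square) and `c ∈ D`
commutes with `x` and is not of the form `i h₀ h₀` with `i ∈ I`, `h₀ ∈ D`, then `D`-conjugacy of
`x` is `I`-conjugacy. -/
theorem conj_of_cyclic {A : Type*} [Group A] (I D : Subgroup A) {B : Type*} [Group B]
    (φ : ↥D →* B) (hφ : Function.Surjective φ) (hker : φ.ker = I.subgroupOf D)
    (hB : ∀ z : B, (∀ w : B, ∃ j : ℕ, w = z ^ j) ∨ ∃ w, z = w * w)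
    (c : A) (hc : c ∈ D) (hcns : ¬ ∃ i ∈ I, ∃ h₀ ∈ D, c = i * h₀ * h₀)
    (x : A) (hcx : c * x = x * c) (y : A) (hy : Cfsg.IsConjUnder D x y) :
    Cfsg.IsConjUnder I x y := by
  obtain ⟨h, hh, rfl⟩ := hy
  rcases hB (φ ⟨c, hc⟩) with hgen | ⟨w, hw⟩
  · obtain ⟨j, hj⟩ := hgen (φ ⟨h, hh⟩)
    have h1 : (⟨h, hh⟩ : ↥D) * (⟨c, hc⟩ ^ j)⁻¹ ∈ φ.ker := by
      rw [MonoidHom.mem_ker, map_mul, map_inv, map_pow, ← hj, mul_inv_cancel]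
    rw [hker, Subgroup.mem_subgroupOf] at h1
    have h1' : h * (c ^ j)⁻¹ ∈ I := by simpa using h1
    have hcj : c ^ j * x = x * c ^ j := by
      have : Commute c x := hcx
      exact (this.pow_left j).eq
    refine ⟨h * (c ^ j)⁻¹, h1', ?_⟩
    have : (c ^ j)⁻¹ * x * (c ^ j) = x := by
      rw [mul_assoc, ← hcj, ← mul_assoc, inv_mul_cancel, one_mul]
    calc h * x * h⁻¹ = h * ((c ^ j)⁻¹ * x * (c ^ j)) * h⁻¹ := by rw [this]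
      _ = h * (c ^ j)⁻¹ * x * (h * (c ^ j)⁻¹)⁻¹ := by group
  · exfalso
    obtain ⟨h₀, rfl⟩ := hφ w
    apply hcns
    have h1 : (⟨c, hc⟩ : ↥D) * (h₀ * h₀)⁻¹ ∈ φ.ker := by
      rw [MonoidHom.mem_ker, map_mul, map_inv, map_mul, hw, mul_inv_cancel]
    rw [hker, Subgroup.mem_subgroupOf] at h1
    have h1' : c * ((h₀ : A) * (h₀ : A))⁻¹ ∈ I := by simpa using h1
    refine ⟨_, h1', (h₀ : A), h₀.2, ?_⟩
    group

end abstract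

section main

variable {F : Type*} [Field F] [Fintype F] [DecidableEq F] {ι : Type} [Fintype ι] [DecidableEq ι]
  (Q : QuadraticForm F (ι → F))
  (hperf : commutator ↥(Cfsg.Omega F ⇑Q) = ⊤)
  (hcent : ∀ Z : Matrix ι ι F, (∀ s : ↥(Cfsg.Omega F ⇑Q), Z * omat (⇑Q) s = omat (⇑Q) s * Z) →
    ∃ c : F, Z = c • (1 : Matrix ι ι F))
  (hQ0 : ∃ v : ι → F, Q v ≠ 0)

include hperf hcent in
theorem Phi_scl (c : Fˣ) (h : sclHom (ι := ι) c ∈ NO (⇑Q)) : Phi (⇑Q) ⟨sclHom c, h⟩ = 1 := by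
  rw [← MonoidHom.mem_ker, ker_Phi (⇑Q) hperf hcent, Subgroup.mem_subgroupOf]
  exact sclHom_mem c

include hperf hcent in
/-- the square class of the multiplier as a character of the PGO-image -/
theorem exists_chi : ∃ ψ : ↥(Cfsg.pgoAut F ⇑Q) →* ℤˣ,
    ∀ (g : GL ι F) (hg : g ∈ GO Q), ψ (pP Q g hg) = chiHom Q hQ0 ⟨g, hg⟩ := by
  set X : Subgroup ↥(NO (⇑Q)) := (GO Q).subgroupOf (NO (⇑Q)) with hX
  let e : ↥X ≃* ↥(GO Q) := Subgroup.subgroupOfEquivOfLe (sim_le_NO (⇑Q))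
  have he : ∀ x : ↥X, ((e x : ↥(GO Q)) : GL ι F) = ((x : ↥(NO (⇑Q))) : GL ι F) := fun x => rfl
  let ψ : ↥X →* ℤˣ := (chiHom Q hQ0).comp e.toMonoidHom
  have hker := ker_Phi (⇑Q) hperf hcent
  obtain ⟨φ, hφ⟩ := exists_hom_of_map' (Phi (⇑Q)) X ψ (by
    intro x hx
    rw [← MonoidHom.mem_ker, hker, Subgroup.mem_subgroupOf] at hx
    obtain ⟨c, hc⟩ := exists_sclHom_of_mem hx
    show chiHom Q hQ0 (e x) = 1
    rw [chiHom_eq_one_iff]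
    have hm : mult Q (e x) = c * c := by
      apply mult_unique Q hQ0
      intro v
      show Q (((e x : ↥(GO Q)) : GL ι F).1 *ᵥ v) = _
      rw [he, hc, sclHom_mulVec, QuadraticMap.map_smul, Units.val_mul, smul_eq_mul]
    rw [hm, Units.val_mul]
    exact ⟨_, rfl⟩) (Cfsg.pgoAut F ⇑Q) (pgoAut_eq (⇑Q))
  refine ⟨φ, ?_⟩
  intro g hg
  have := hφ ⟨⟨g, sim_le_NO (⇑Q) hg⟩, Subgroup.mem_subgroupOf.2 hg⟩ (pP Q g hg).2
  exact this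

include hperf hcent in
/-- an element of the PGO-image induced by a similarity with square multiplier lies in the
PO-image -/
theorem mem_poAut_of_sq (g : GL ι F) (hg : g ∈ GO Q)
    (hsq : IsSquare ((mult Q ⟨g, hg⟩ : Fˣ) : F)) :
    Phi (⇑Q) ⟨g, sim_le_NO (⇑Q) hg⟩ ∈ Cfsg.poAut F ⇑Q := by
  obtain ⟨c, hc⟩ := hsq
  have hc0 : c ≠ 0 := by
    rintro rfl
    rw [mul_zero] at hc
    exact Units.ne_zero _ hc
  set u : Fˣ := Units.mk0 c hc0 with hu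
  have hscl : sclHom (ι := ι) u ∈ NO (⇑Q) := sim_le_NO (⇑Q) (sclHom_mem_GO Q u)
  have hiso : (sclHom u)⁻¹ * g ∈ Cfsg.isometryGroup F ⇑Q := by
    rw [mem_iso_iff]
    intro v
    rw [Units.val_mul, ← Matrix.mulVec_mulVec, ← map_inv, sclHom_mulVec, QuadraticMap.map_smul]
    have := mult_spec Q ⟨g, hg⟩ v
    rw [gmat] at this
    show (u⁻¹ : Fˣ).1 * (u⁻¹ : Fˣ).1 * Q ((g : Matrix ι ι F) *ᵥ v) = Q v
    rw [this, hc, Units.val_inv_eq_inv_val, hu, Units.val_mk0]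
    field_simp
  rw [poAut_eq]
  refine ⟨⟨(sclHom u)⁻¹ * g, Subgroup.le_normalizer hiso⟩, hiso, ?_⟩
  have h1 : (⟨g, sim_le_NO (⇑Q) hg⟩ : ↥(NO (⇑Q))) =
      ⟨sclHom u, hscl⟩ * ⟨(sclHom u)⁻¹ * g, Subgroup.le_normalizer hiso⟩ := by
    apply Subtype.ext
    show g = sclHom u * ((sclHom u)⁻¹ * g)
    group
  rw [h1, map_mul, Phi_scl Q hperf hcent u hscl, one_mul]

theorem psoAut_le_poAut : Cfsg.psoAut F ⇑Q ≤ Cfsg.poAut F ⇑Q := by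
  rw [psoAut_eq, poAut_eq]
  apply Subgroup.map_mono
  intro x hx
  exact SOG_le_OG Q hx

theorem poAut_le_pgoAut : Cfsg.poAut F ⇑Q ≤ Cfsg.pgoAut F ⇑Q := by
  rw [poAut_eq, pgoAut_eq]
  apply Subgroup.map_mono
  intro x hx
  exact iso_le_sim (⇑Q) hx

theorem inD_le_pgoAut (k : ℕ) : inD Q hQ0 k ≤ Cfsg.pgoAut F ⇑Q := by
  rw [pgoAut_eq, inD]
  apply Subgroup.map_mono
  intro x hx
  exact GO1_le_GO Q hQ0 k hx

include hperf hcent in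
/-- generic form of S2721 -/
theorem class_fusion {p : ℕ} [Fact p.Prime] [CharP F p] (hp : p ≠ 2)
    (hQ : (polarBilin Q).Nondegenerate) (k : ℕ) (hcard : Fintype.card ι = 2 * k)
    (hcyc : (∃ φ : ↥(inD Q hQ0 k) →* Multiplicative (ZMod 4), Function.Surjective φ ∧
        φ.ker = (Cfsg.Inn (Cfsg.POmega F ⇑Q)).subgroupOf (inD Q hQ0 k)) ∨
      (∃ φ : ↥(inD Q hQ0 k) →* Multiplicative (ZMod 2), Function.Surjective φ ∧
        φ.ker = (Cfsg.Inn (Cfsg.POmega F ⇑Q)).subgroupOf (inD Q hQ0 k)))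
    (δ : GL ι F) (hδ : δ ∈ GO Q) (hδ1 : ¬ IsSquare ((mult Q ⟨δ, hδ⟩ : Fˣ) : F))
    (x : MulAut (Cfsg.POmega F ⇑Q)) (hx : x ∈ Cfsg.pgoAut F ⇑Q) {r : ℕ} (hr : r.Prime)
    (hro : Odd r) (hrp : r ≠ p) (hxr : orderOf x = r) :
    (∀ y : MulAut (Cfsg.POmega F ⇑Q),
      (Cfsg.IsConjUnder (Cfsg.Inn (Cfsg.POmega F ⇑Q)) x y ↔
        Cfsg.IsConjUnder (inD Q hQ0 k) x y) ∧
      (Cfsg.IsConjUnder (Cfsg.psoAut F ⇑Q) x y ↔ Cfsg.IsConjUnder (inD Q hQ0 k) x y)) ∧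
    (∀ y : MulAut (Cfsg.POmega F ⇑Q),
      Cfsg.IsConjUnder (Cfsg.poAut F ⇑Q) x y ↔ Cfsg.IsConjUnder (Cfsg.pgoAut F ⇑Q) x y) := by
  classical
  obtain ⟨t, ht, htr, hPhit⟩ := Cfsg.Agent.Helper41.OSS.exists_iso_lift Q hperf hcent hQ0 x hx r hro
    (by rw [← hxr]; exact pow_orderOf_eq_one x)
  obtain ⟨g, hg, hcomm, hns, hd⟩ :=
    exists_commuting_sim hp Q hQ hQ0 k hcard t ht r hr hro hrp htr δ hδ hδ1
  set c : MulAut (Cfsg.POmega F ⇑Q) := Phi (⇑Q) ⟨g, sim_le_NO (⇑Q) hg⟩ with hc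
  have hcx : c * x = x * c := by
    rw [← hPhit, hc, ← map_mul, ← map_mul]
    congr 1
    exact Subtype.ext hcomm
  have hcD : c ∈ inD Q hQ0 k :=
    ⟨⟨g, sim_le_NO (⇑Q) hg⟩, Subgroup.mem_subgroupOf.2 ((mem_GO1 Q hQ0 k g).2 ⟨hg, hd⟩), rfl⟩
  have hcP : c ∈ Cfsg.pgoAut F ⇑Q := (pP Q g hg).2
  obtain ⟨ψ, hψ⟩ := exists_chi Q hperf hcent hQ0
  have hψc : ψ ⟨c, hcP⟩ = -1 := by
    have h1 : ψ ⟨c, hcP⟩ = chiHom Q hQ0 ⟨g, hg⟩ := hψ g hg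
    rcases Int.units_eq_one_or (ψ ⟨c, hcP⟩) with h | h
    · exfalso
      rw [h1, chiHom_eq_one_iff] at h
      exact hns h
    · exact h
  have hψpo : ∀ (h : MulAut (Cfsg.POmega F ⇑Q)) (hh : h ∈ Cfsg.pgoAut F ⇑Q),
      ψ ⟨h, hh⟩ = 1 → h ∈ Cfsg.poAut F ⇑Q := by
    intro h hh h1
    have hh' := hh
    rw [pgoAut_eq] at hh'
    obtain ⟨n, hn, rfl⟩ := hh'
    have hn' : (n : GL ι F) ∈ GO Q := hn
    have h2 : ψ ⟨Phi (⇑Q) n, hh⟩ = chiHom Q hQ0 ⟨(n : GL ι F), hn'⟩ := hψ (n : GL ι F) hn'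
    rw [h2, chiHom_eq_one_iff] at h1
    exact mem_poAut_of_sq Q hperf hcent (n : GL ι F) hn' h1
  have hpoψ : ∀ (h : MulAut (Cfsg.POmega F ⇑Q)) (hh : h ∈ Cfsg.pgoAut F ⇑Q),
      h ∈ Cfsg.poAut F ⇑Q → ψ ⟨h, hh⟩ = 1 := by
    intro h hh hpo
    rw [poAut_eq] at hpo
    obtain ⟨n, hn, rfl⟩ := hpo
    have hn' : (n : GL ι F) ∈ Cfsg.isometryGroup F ⇑Q := hn
    have h2 : ψ ⟨Phi (⇑Q) n, hh⟩ = chiHom Q hQ0 ⟨(n : GL ι F), iso_le_sim (⇑Q) hn'⟩ :=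
      hψ (n : GL ι F) (iso_le_sim (⇑Q) hn')
    rw [h2, chiHom_eq_one_iff]
    have : mult Q ⟨(n : GL ι F), iso_le_sim (⇑Q) hn'⟩ = 1 := mult_isoGO Q hQ0 ⟨(n : GL ι F), hn'⟩
    rw [this, Units.val_one]
    exact ⟨1, by simp⟩
  have hcinv : c⁻¹ * x * c = x := by
    rw [mul_assoc, ← hcx, ← mul_assoc, inv_mul_cancel, one_mul]
  -- the first part
  have hA : ∀ y : MulAut (Cfsg.POmega F ⇑Q), Cfsg.IsConjUnder (inD Q hQ0 k) x y →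
      Cfsg.IsConjUnder (Cfsg.Inn (Cfsg.POmega F ⇑Q)) x y := by
    intro y hy
    have hcns : ¬ ∃ i ∈ Cfsg.Inn (Cfsg.POmega F ⇑Q), ∃ h₀ ∈ inD Q hQ0 k, c = i * h₀ * h₀ := by
      rintro ⟨i, hi, h₀, hh₀, hch⟩
      have hiP : i ∈ Cfsg.pgoAut F ⇑Q :=
        poAut_le_pgoAut Q (psoAut_le_poAut Q (inn_le_psoAut Q hi))
      have hhP : h₀ ∈ Cfsg.pgoAut F ⇑Q := inD_le_pgoAut Q hQ0 k hh₀
      have h1 : (⟨c, hcP⟩ : ↥(Cfsg.pgoAut F ⇑Q)) = ⟨i, hiP⟩ * ⟨h₀, hhP⟩ * ⟨h₀, hhP⟩ :=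
        Subtype.ext hch
      have h2 : ψ ⟨i, hiP⟩ = 1 := hpoψ i hiP (psoAut_le_poAut Q (inn_le_psoAut Q hi))
      rw [h1, map_mul, map_mul, h2, one_mul, Int.units_mul_self] at hψc
      exact absurd hψc (by decide)
    rcases hcyc with ⟨φ, hφ, hker⟩ | ⟨φ, hφ, hker⟩
    · exact conj_of_cyclic _ _ φ hφ hker gen_or_sq4 c hcD hcns x hcx y hy
    · exact conj_of_cyclic _ _ φ hφ hker gen_or_sq2 c hcD hcns x hcx y hy
  refine ⟨fun y => ⟨⟨?_, hA y⟩, ⟨?_, ?_⟩⟩, fun y => ⟨?_, ?_⟩⟩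
  · rintro ⟨h, hh, rfl⟩
    exact ⟨h, inn_le_inD Q hQ0 k hh, rfl⟩
  · rintro ⟨h, hh, rfl⟩
    exact ⟨h, psoAut_le_inD Q hQ0 k hh, rfl⟩
  · intro hy
    obtain ⟨h, hh, rfl⟩ := hA y hy
    exact ⟨h, inn_le_psoAut Q hh, rfl⟩
  · rintro ⟨h, hh, rfl⟩
    exact ⟨h, poAut_le_pgoAut Q hh, rfl⟩
  · rintro ⟨h, hh, rfl⟩
    rcases Int.units_eq_one_or (ψ ⟨h, hh⟩) with h1 | h1
    · exact ⟨h, hψpo h hh h1, rfl⟩
    · have hhc : h * c⁻¹ ∈ Cfsg.pgoAut F ⇑Q := Subgroup.mul_mem _ hh (Subgroup.inv_mem _ hcP)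
      have h2 : ψ ⟨h * c⁻¹, hhc⟩ = 1 := by
        have : (⟨h * c⁻¹, hhc⟩ : ↥(Cfsg.pgoAut F ⇑Q)) = ⟨h, hh⟩ * ⟨c, hcP⟩⁻¹ := rfl
        rw [this, map_mul, map_inv, h1, hψc]
        decide
      refine ⟨h * c⁻¹, hψpo _ hhc h2, ?_⟩
      calc h * x * h⁻¹ = h * (c⁻¹ * x * c) * h⁻¹ := by rw [hcinv]
        _ = h * c⁻¹ * x * (h * c⁻¹)⁻¹ := by group

end main

end Cfsg.Agent.Helper13.OSS
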