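import Mathlib
import Cfsg.Agent.Lib.Helper13.OSSMain
import Cfsg.Agent.Lib.Helper5.OrthAut6

set_option autoImplicit false
set_option linter.unusedSectionVars false

/-! S2720, top layer: class fusion when `Inndiag/Inn` is a Klein four group, given an element of
`C_SO(t) ∖ Ω`. -/

namespace Cfsg.Agent.Helper13.OSP

open Matrix QuadraticMap Cfsg.Agent.Helper5.OrthAut Cfsg.Agent.Helper43 Cfsg.Agent.Helper13.OSS

section abstract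

theorem klein_cases (a b z : Multiplicative (ZMod 2 × ZMod 2)) (ha : a ≠ 1) (hb : b ≠ 1)
    (hab : a ≠ b) : z = 1 ∨ z = a ∨ z = b ∨ z = a * b := by
  revert a b z
  decide

/-- `D/I` embeds in a Klein four group; `c, c'` commute with `x` and have distinct nontrivial
images: `D`-conjugacy of `x` is `I`-conjugacy. -/
theorem conj_of_klein {A : Type*} [Group A] (I D : Subgroup A)
    (φ : ↥D →* Multiplicative (ZMod 2 × ZMod 2))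
    (hker : φ.ker = I.subgroupOf D) (c c' : A) (hc : c ∈ D) (hc' : c' ∈ D)
    (h1 : φ ⟨c, hc⟩ ≠ 1) (h2 : φ ⟨c', hc'⟩ ≠ 1) (h3 : φ ⟨c, hc⟩ ≠ φ ⟨c', hc'⟩)
    (x : A) (hcx : c * x = x * c) (hcx' : c' * x = x * c') (y : A)
    (hy : Cfsg.IsConjUnder D x y) : Cfsg.IsConjUnder I x y := by
  obtain ⟨h, hh, rfl⟩ := hy
  -- a general step: if `e ∈ D` commutes with `x` and `φ h = φ e` then done
  have step : ∀ (e : A) (he : e ∈ D), e * x = x * e → φ ⟨h, hh⟩ = φ ⟨e, he⟩ →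
      Cfsg.IsConjUnder I x (h * x * h⁻¹) := by
    intro e he hex hφ
    have hk : (⟨h, hh⟩ : ↥D) * (⟨e, he⟩)⁻¹ ∈ φ.ker := by
      rw [MonoidHom.mem_ker, map_mul, map_inv, hφ, mul_inv_cancel]
    rw [hker, Subgroup.mem_subgroupOf] at hk
    have hk' : h * e⁻¹ ∈ I := by simpa using hk
    refine ⟨h * e⁻¹, hk', ?_⟩
    have : e⁻¹ * x * e = x := by
      rw [mul_assoc, ← hex, ← mul_assoc, inv_mul_cancel, one_mul]
    calc h * x * h⁻¹ = h * (e⁻¹ * x * e) * h⁻¹ := by rw [this]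
      _ = h * e⁻¹ * x * (h * e⁻¹)⁻¹ := by group
  rcases klein_cases _ _ (φ ⟨h, hh⟩) h1 h2 h3 with h0 | h0 | h0 | h0
  · exact step 1 D.one_mem (by simp) (by rw [h0]; exact (map_one φ).symm)
  · exact step c hc hcx h0
  · exact step c' hc' hcx' h0
  · refine step (c * c') (D.mul_mem hc hc') ?_ ?_
    · rw [mul_assoc, hcx', ← mul_assoc, hcx, mul_assoc]
    · rw [h0, ← map_mul]
      rfl

end abstract

section main

variable {F : Type*} [Field F] [Fintype F] [DecidableEq F] {ι : Type} [Fintype ι] [DecidableEq ι]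
  (Q : QuadraticForm F (ι → F))
  (hperf : commutator ↥(Cfsg.Omega F ⇑Q) = ⊤)
  (hcent : ∀ Z : Matrix ι ι F, (∀ s : ↥(Cfsg.Omega F ⇑Q), Z * omat (⇑Q) s = omat (⇑Q) s * Z) →
    ∃ c : F, Z = c • (1 : Matrix ι ι F))
  (hQ0 : ∃ v : ι → F, Q v ≠ 0)

include hperf hcent in
/-- generic form of S2720 in the Klein four case: the key input is, for every isometry `t` of order
dividing `r` and every similarity `g` with non-square multiplier commuting with `t`, an element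
`s` of `SO(Q)` commuting with `t` which does not induce an inner automorphism. -/
theorem class_fusion_klein {p : ℕ} [Fact p.Prime] [CharP F p] (hp : p ≠ 2)
    (hQ : (polarBilin Q).Nondegenerate) (k : ℕ) (hcard : Fintype.card ι = 2 * k)
    (hkl : ∃ φ : ↥(inD Q hQ0 k) →* Multiplicative (ZMod 2 × ZMod 2),
        φ.ker = (Cfsg.Inn (Cfsg.POmega F ⇑Q)).subgroupOf (inD Q hQ0 k))
    (δ : GL ι F) (hδ : δ ∈ GO Q) (hδ1 : ¬ IsSquare ((mult Q ⟨δ, hδ⟩ : Fˣ) : F))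
    {r : ℕ} (hr : r.Prime) (hro : Odd r) (hrp : r ≠ p)
    (hkey : ∀ (t : GL ι F) (_ht : t ∈ Cfsg.isometryGroup F ⇑Q), t ^ r = 1 →
      ∀ (g : GL ι F) (hg : g ∈ GO Q), g * t = t * g →
        ¬ IsSquare ((mult Q ⟨g, hg⟩ : Fˣ) : F) →
      ∃ (s : GL ι F) (hs : s ∈ SOG Q), s * t = t * s ∧
        Phi (⇑Q) ⟨s, Subgroup.le_normalizer (SOG_le_OG Q hs)⟩ ∉ Cfsg.Inn (Cfsg.POmega F ⇑Q))
    (x : MulAut (Cfsg.POmega F ⇑Q)) (hx : x ∈ Cfsg.pgoAut F ⇑Q) (hxr : orderOf x = r) :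
    (∀ y : MulAut (Cfsg.POmega F ⇑Q),
      (Cfsg.IsConjUnder (Cfsg.Inn (Cfsg.POmega F ⇑Q)) x y ↔
        Cfsg.IsConjUnder (inD Q hQ0 k) x y) ∧
      (Cfsg.IsConjUnder (Cfsg.psoAut F ⇑Q) x y ↔ Cfsg.IsConjUnder (inD Q hQ0 k) x y)) ∧
    (∀ y : MulAut (Cfsg.POmega F ⇑Q),
      Cfsg.IsConjUnder (Cfsg.poAut F ⇑Q) x y ↔ Cfsg.IsConjUnder (Cfsg.pgoAut F ⇑Q) x y) := by
  classical
  have h2 : (2 : F) ≠ 0 := by
    intro h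
    have h3 : ((2 : ℕ) : F) = 0 := by exact_mod_cast h
    rw [CharP.cast_eq_zero_iff F p] at h3
    exact hp ((Nat.prime_dvd_prime_iff_eq (Fact.out) Nat.prime_two).1 h3)
  obtain ⟨t, ht, htr, hPhit⟩ := Cfsg.Agent.Helper41.OSS.exists_iso_lift Q hperf hcent hQ0 x hx r hro
    (by rw [← hxr]; exact pow_orderOf_eq_one x)
  obtain ⟨g, hg, hcomm, hns, hd⟩ :=
    exists_commuting_sim hp Q hQ hQ0 k hcard t ht r hr hro hrp htr δ hδ hδ1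
  obtain ⟨s, hsS, hst, hsI⟩ := hkey t ht htr g hg hcomm hns
  have hs : s ∈ Cfsg.isometryGroup F ⇑Q := SOG_le_OG Q hsS
  have hsdet : (s : Matrix ι ι F).det = 1 := ((mem_SOG_iff Q s).1 hsS).2
  set c : MulAut (Cfsg.POmega F ⇑Q) := Phi (⇑Q) ⟨g, sim_le_NO (⇑Q) hg⟩ with hc
  set c' : MulAut (Cfsg.POmega F ⇑Q) :=
    Phi (⇑Q) ⟨s, sim_le_NO (⇑Q) (iso_le_sim (⇑Q) hs)⟩ with hc'
  have hcx : c * x = x * c := by
    rw [← hPhit, hc, ← map_mul, ← map_mul]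
    congr 1
    exact Subtype.ext hcomm
  have hcx' : c' * x = x * c' := by
    rw [← hPhit, hc', ← map_mul, ← map_mul]
    congr 1
    exact Subtype.ext hst
  have hcD : c ∈ inD Q hQ0 k :=
    ⟨⟨g, sim_le_NO (⇑Q) hg⟩, Subgroup.mem_subgroupOf.2 ((mem_GO1 Q hQ0 k g).2 ⟨hg, hd⟩), rfl⟩
  have hsd : dHom Q hQ0 k ⟨s, iso_le_sim (⇑Q) hs⟩ = 1 := by
    apply Units.ext
    have := dHom_isoGO Q hQ0 k ⟨s, hs⟩
    rw [Units.val_one, ← hsdet]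
    exact this
  have hcD' : c' ∈ inD Q hQ0 k :=
    ⟨⟨s, sim_le_NO (⇑Q) (iso_le_sim (⇑Q) hs)⟩,
      Subgroup.mem_subgroupOf.2 ((mem_GO1 Q hQ0 k s).2 ⟨iso_le_sim (⇑Q) hs, hsd⟩), rfl⟩
  have hcP : c ∈ Cfsg.pgoAut F ⇑Q := (pP Q g hg).2
  have hcP' : c' ∈ Cfsg.pgoAut F ⇑Q := (pP Q s (iso_le_sim (⇑Q) hs)).2
  have hcPO' : c' ∈ Cfsg.poAut F ⇑Q := by
    rw [poAut_eq]
    exact ⟨⟨s, sim_le_NO (⇑Q) (iso_le_sim (⇑Q) hs)⟩, Subgroup.mem_subgroupOf.2 hs, rfl⟩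
  obtain ⟨ψ, hψ⟩ := exists_chi Q hperf hcent hQ0
  have hψc : ψ ⟨c, hcP⟩ = -1 := by
    have h1 : ψ ⟨c, hcP⟩ = chiHom Q hQ0 ⟨g, hg⟩ := hψ g hg
    rcases Int.units_eq_one_or (ψ ⟨c, hcP⟩) with h | h
    · exfalso
      rw [h1, chiHom_eq_one_iff] at h
      exact hns h
    · exact h
  have hψpo : ∀ (h : MulAut (Cfsg.POmega F ⇑Q)) (hh : h ∈ Cfsg.pgoAut F ⇑Q),
      ψ ⟨h, hh⟩ = 1 → h ∈ Cfsg.poAut F ⇑Q := by
    intro h hh h1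
    have hh' := hh
    rw [pgoAut_eq] at hh'
    obtain ⟨n, hn, rfl⟩ := hh'
    have hn' : (n : GL ι F) ∈ GO Q := hn
    have h2 : ψ ⟨Phi (⇑Q) n, hh⟩ = chiHom Q hQ0 ⟨(n : GL ι F), hn'⟩ := hψ (n : GL ι F) hn'
    rw [h2, chiHom_eq_one_iff] at h1
    exact mem_poAut_of_sq Q hperf hcent (n : GL ι F) hn' h1
  have hpoψ : ∀ (h : MulAut (Cfsg.POmega F ⇑Q)) (hh : h ∈ Cfsg.pgoAut F ⇑Q),
      h ∈ Cfsg.poAut F ⇑Q → ψ ⟨h, hh⟩ = 1 := by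
    intro h hh hpo
    rw [poAut_eq] at hpo
    obtain ⟨n, hn, rfl⟩ := hpo
    have hn' : (n : GL ι F) ∈ Cfsg.isometryGroup F ⇑Q := hn
    have h2 : ψ ⟨Phi (⇑Q) n, hh⟩ = chiHom Q hQ0 ⟨(n : GL ι F), iso_le_sim (⇑Q) hn'⟩ :=
      hψ (n : GL ι F) (iso_le_sim (⇑Q) hn')
    rw [h2, chiHom_eq_one_iff]
    have : mult Q ⟨(n : GL ι F), iso_le_sim (⇑Q) hn'⟩ = 1 := mult_isoGO Q hQ0 ⟨(n : GL ι F), hn'⟩
    rw [this, Units.val_one]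
    exact ⟨1, by simp⟩
  have hinnψ : ∀ (i : MulAut (Cfsg.POmega F ⇑Q)) (hi : i ∈ Cfsg.Inn (Cfsg.POmega F ⇑Q))
      (hiP : i ∈ Cfsg.pgoAut F ⇑Q), ψ ⟨i, hiP⟩ = 1 := fun i hi hiP =>
    hpoψ i hiP (psoAut_le_poAut Q (inn_le_psoAut Q hi))
  have hcinv : c⁻¹ * x * c = x := by
    rw [mul_assoc, ← hcx, ← mul_assoc, inv_mul_cancel, one_mul]
  -- the first part
  have hA : ∀ y : MulAut (Cfsg.POmega F ⇑Q), Cfsg.IsConjUnder (inD Q hQ0 k) x y →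
      Cfsg.IsConjUnder (Cfsg.Inn (Cfsg.POmega F ⇑Q)) x y := by
    intro y hy
    obtain ⟨φ, hker⟩ := hkl
    have hmemker : ∀ (e : MulAut (Cfsg.POmega F ⇑Q)) (he : e ∈ inD Q hQ0 k),
        φ ⟨e, he⟩ = 1 → e ∈ Cfsg.Inn (Cfsg.POmega F ⇑Q) := by
      intro e he h1
      have : (⟨e, he⟩ : ↥(inD Q hQ0 k)) ∈ φ.ker := h1
      rw [hker, Subgroup.mem_subgroupOf] at this
      exact this
    have h1 : φ ⟨c, hcD⟩ ≠ 1 := by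
      intro h
      have hi := hmemker c hcD h
      have := hinnψ c hi hcP
      rw [hψc] at this
      exact absurd this (by decide)
    have h2' : φ ⟨c', hcD'⟩ ≠ 1 := by
      intro h
      exact hsI (hmemker c' hcD' h)
    have h3 : φ ⟨c, hcD⟩ ≠ φ ⟨c', hcD'⟩ := by
      intro h
      have hk : (⟨c, hcD⟩ : ↥(inD Q hQ0 k)) * (⟨c', hcD'⟩)⁻¹ ∈ φ.ker := by
        rw [MonoidHom.mem_ker, map_mul, map_inv, h, mul_inv_cancel]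
      rw [hker, Subgroup.mem_subgroupOf] at hk
      have hk' : c * c'⁻¹ ∈ Cfsg.Inn (Cfsg.POmega F ⇑Q) := by simpa using hk
      have hkP : c * c'⁻¹ ∈ Cfsg.pgoAut F ⇑Q :=
        Subgroup.mul_mem _ hcP (Subgroup.inv_mem _ hcP')
      have h4 := hinnψ _ hk' hkP
      have h5 : (⟨c * c'⁻¹, hkP⟩ : ↥(Cfsg.pgoAut F ⇑Q)) = ⟨c, hcP⟩ * ⟨c', hcP'⟩⁻¹ := rfl
      rw [h5, map_mul, map_inv, hψc, hpoψ c' hcP' hcPO'] at h4
      exact absurd h4 (by decide)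
    exact conj_of_klein _ _ φ hker c c' hcD hcD' h1 h2' h3 x hcx hcx' y hy
  refine ⟨fun y => ⟨⟨?_, hA y⟩, ⟨?_, ?_⟩⟩, fun y => ⟨?_, ?_⟩⟩
  · rintro ⟨h, hh, rfl⟩
    exact ⟨h, inn_le_inD Q hQ0 k hh, rfl⟩
  · rintro ⟨h, hh, rfl⟩
    exact ⟨h, psoAut_le_inD Q hQ0 k hh, rfl⟩
  · intro hy
    obtain ⟨h, hh, rfl⟩ := hA y hy
    exact ⟨h, inn_le_psoAut Q hh, rfl⟩
  · rintro ⟨h, hh, rfl⟩
    exact ⟨h, poAut_le_pgoAut Q hh, rfl⟩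
  · rintro ⟨h, hh, rfl⟩
    rcases Int.units_eq_one_or (ψ ⟨h, hh⟩) with h1 | h1
    · exact ⟨h, hψpo h hh h1, rfl⟩
    · have hhc : h * c⁻¹ ∈ Cfsg.pgoAut F ⇑Q := Subgroup.mul_mem _ hh (Subgroup.inv_mem _ hcP)
      have h2 : ψ ⟨h * c⁻¹, hhc⟩ = 1 := by
        have : (⟨h * c⁻¹, hhc⟩ : ↥(Cfsg.pgoAut F ⇑Q)) = ⟨h, hh⟩ * ⟨c, hcP⟩⁻¹ := rfl
        rw [this, map_mul, map_inv, h1, hψc]
        decide
      refine ⟨h * c⁻¹, hψpo _ hhc h2, ?_⟩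
      calc h * x * h⁻¹ = h * (c⁻¹ * x * c) * h⁻¹ := by rw [hcinv]
        _ = h * c⁻¹ * x * (h * c⁻¹)⁻¹ := by group

include hperf hcent in
/-- variant: the key element is given as an element of `SO(Q) ∖ Ω(Q)` (needs `-1 ∈ Ω`). -/
theorem class_fusion_klein_of_not_omega {p : ℕ} [Fact p.Prime] [CharP F p] (hp : p ≠ 2)
    (hQ : (polarBilin Q).Nondegenerate) (k : ℕ) (hcard : Fintype.card ι = 2 * k)
    (hkl : ∃ φ : ↥(inD Q hQ0 k) →* Multiplicative (ZMod 2 × ZMod 2),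
        φ.ker = (Cfsg.Inn (Cfsg.POmega F ⇑Q)).subgroupOf (inD Q hQ0 k))
    (hneg : ∃ g : ↥(Cfsg.isometryGroup F ⇑Q), g ∈ Cfsg.Omega F ⇑Q ∧
        ((g : GL ι F) : Matrix ι ι F) = -1)
    (δ : GL ι F) (hδ : δ ∈ GO Q) (hδ1 : ¬ IsSquare ((mult Q ⟨δ, hδ⟩ : Fˣ) : F))
    {r : ℕ} (hr : r.Prime) (hro : Odd r) (hrp : r ≠ p)
    (hkey : ∀ t : GL ι F, t ∈ Cfsg.isometryGroup F ⇑Q → t ^ r = 1 →
      ∃ (s : GL ι F) (hs : s ∈ Cfsg.isometryGroup F ⇑Q), s * t = t * s ∧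
        (s : Matrix ι ι F).det = 1 ∧
        (⟨s, hs⟩ : ↥(Cfsg.isometryGroup F ⇑Q)) ∉ Cfsg.Omega F ⇑Q)
    (x : MulAut (Cfsg.POmega F ⇑Q)) (hx : x ∈ Cfsg.pgoAut F ⇑Q) (hxr : orderOf x = r) :
    (∀ y : MulAut (Cfsg.POmega F ⇑Q),
      (Cfsg.IsConjUnder (Cfsg.Inn (Cfsg.POmega F ⇑Q)) x y ↔
        Cfsg.IsConjUnder (inD Q hQ0 k) x y) ∧
      (Cfsg.IsConjUnder (Cfsg.psoAut F ⇑Q) x y ↔ Cfsg.IsConjUnder (inD Q hQ0 k) x y)) ∧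
    (∀ y : MulAut (Cfsg.POmega F ⇑Q),
      Cfsg.IsConjUnder (Cfsg.poAut F ⇑Q) x y ↔ Cfsg.IsConjUnder (Cfsg.pgoAut F ⇑Q) x y) := by
  refine class_fusion_klein Q hperf hcent hQ0 hp hQ k hcard hkl δ hδ hδ1 hr hro hrp ?_ x hx hxr
  intro t ht htr g hg _ _
  obtain ⟨s, hs, hst, hsdet, hsΩ⟩ := hkey t ht htr
  refine ⟨s, (mem_SOG_iff Q s).2 ⟨hs, hsdet⟩, hst, ?_⟩
  intro hi
  have hsO : s ∈ OmGL (⇑Q) := mem_OmGL_of_Phi_mem_inn Q hperf hcent hQ0 hneg s hs hi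
  obtain ⟨s', hs'⟩ := (mem_OmGL (⇑Q) s).1 hsO
  apply hsΩ
  have : (⟨s, hs⟩ : ↥(Cfsg.isometryGroup F ⇑Q)) = (s' : ↥(Cfsg.isometryGroup F ⇑Q)) :=
    Subtype.ext hs'.symm
  rw [this]
  exact s'.2

end main

end Cfsg.Agent.Helper13.OSP
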