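import Mathlib
import Cfsg.Agent.Lib.Helper13.OSSMain

set_option autoImplicit false

namespace Cfsg.Agent.Helper13.OSS

open Matrix QuadraticMap Cfsg.Agent.Helper5.OrthAut Cfsg.Agent.Helper43 Cfsg.Agent.Helper5.OrthLag

section minus

universe u

variable {F : Type u} [Field F]

/-- the inner-diagonal group of the minus form, as a function of the form -/
def iD (m : ℕ) (a b : F) (Q' : ((Fin m ⊕ Fin m) ⊕ Fin 2 → F) → F) :
    Subgroup (MulAut (Cfsg.POmega F Q')) :=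
  Cfsg.autSubgroupOf (fun β : Cfsg.POmega F Q' ≃* Cfsg.POmega F Q' =>
    ∃ g : GL ((Fin m ⊕ Fin m) ⊕ Fin 2) F,
      g ∈ Cfsg.Geo.quadSimilarityGroup (F := F) Q' ∧
      Cfsg.PreservesSingularClassesMinus m a b
        (g : Matrix ((Fin m ⊕ Fin m) ⊕ Fin 2) ((Fin m ⊕ Fin m) ⊕ Fin 2) F) ∧
      Cfsg.IsInducedBySemilinearPOmega Q' g (RingEquiv.refl F) β)

/-- "`D / Inn` is cyclic of order 4 or 2" -/
def CycStmt {ι : Type} [Fintype ι] [DecidableEq ι] (Q' : (ι → F) → F)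
    (D : Subgroup (MulAut (Cfsg.POmega F Q'))) : Prop :=
  (∃ φ : ↥D →* Multiplicative (ZMod 4), Function.Surjective φ ∧
      φ.ker = (Cfsg.Inn (Cfsg.POmega F Q')).subgroupOf D) ∨
  (∃ φ : ↥D →* Multiplicative (ZMod 2), Function.Surjective φ ∧
      φ.ker = (Cfsg.Inn (Cfsg.POmega F Q')).subgroupOf D)

/-- the conclusion of S2721 as a function of the form -/
def FusStmt {ι : Type} [Fintype ι] [DecidableEq ι] (Q' : (ι → F) → F)
    (D : Subgroup (MulAut (Cfsg.POmega F Q'))) (x : MulAut (Cfsg.POmega F Q')) : Prop :=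
  (∀ y : MulAut (Cfsg.POmega F Q'),
    (Cfsg.IsConjUnder (Cfsg.Inn (Cfsg.POmega F Q')) x y ↔ Cfsg.IsConjUnder D x y) ∧
    (Cfsg.IsConjUnder (Cfsg.psoAut F Q') x y ↔ Cfsg.IsConjUnder D x y)) ∧
  (∀ y : MulAut (Cfsg.POmega F Q'),
    Cfsg.IsConjUnder (Cfsg.poAut F Q') x y ↔ Cfsg.IsConjUnder (Cfsg.pgoAut F Q') x y)

variable [Fintype F]

theorem minus_class_fusion {p : ℕ} [Fact p.Prime] [CharP F p] (hp : p ≠ 2) {m : ℕ} (hm : 3 ≤ m)
    (a b : F)
    (hab : ∀ z₁ z₂ : F, z₁ ^ 2 + a * z₁ * z₂ + b * z₂ ^ 2 = 0 → z₁ = 0 ∧ z₂ = 0)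
    (x : MulAut (Cfsg.POmega F (Cfsg.quadFormMinus m F a b)))
    (hx : x ∈ Cfsg.pgoAut F (Cfsg.quadFormMinus m F a b)) {r : ℕ} (hr : r.Prime) (hro : Odd r)
    (hrp : r ≠ p) (hxr : orderOf x = r) :
    FusStmt (Cfsg.quadFormMinus m F a b) (Cfsg.inndiagPOmegaMinus m F a b) x := by
  classical
  have hodd : Odd (Fintype.card F) := by
    obtain ⟨n, -, hn⟩ := FiniteField.card F p
    rw [hn]
    exact ((Fact.out : p.Prime).eq_two_or_odd'.resolve_left hp).pow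
  have h2 := two_ne_zero_of_odd_card hodd
  have hab' : AnisoPair a b := hab
  have hfam := stdMinus_isHypFamily F m a b
  have hnd := stdMinus_nondegenerate (F := F) m hab'
  have hcard : Fintype.card ((Fin m ⊕ Fin m) ⊕ Fin 2) = 2 * (m + 1) := by simp; ring
  have hQ0 := hQ0_of_hyp (stdMinus F m a b) hfam (by omega)
  have hperf := hperf_of_hyp (stdMinus F m a b) hnd _ _ hfam (by omega) (by rw [hcard]; omega)
  have hcent := hcent_of_hyp (stdMinus F m a b) hfam (by omega)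
    (Cfsg.Agent.Lead.POmegaCard.hspan_minus m a b)
  obtain ⟨ν, hν⟩ := exists_nonsquare_unit h2
  obtain ⟨w, hw⟩ := hab'.exists_nrm_eq (ν : F)
  obtain ⟨v, hv⟩ := hQ0
  have hmu : mult (stdMinus F m a b)
      ⟨deltaMinus m a b ν w hw, deltaMinus_mem m a b ν w hw⟩ = ν :=
    mult_unique _ ⟨v, hv⟩ _ _ (fun v => by
      show stdMinus F m a b (deltaMinusMat m a b ν w *ᵥ v) = _
      exact deltaMinusMat_sim m a b ν w hw v)
  have haux : iD m a b ⇑(stdMinus F m a b) = inD (stdMinus F m a b) ⟨v, hv⟩ (m + 1) :=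
    inndiag_minus_aux hodd m a b hab ⟨v, hv⟩
  -- the cyclic structure, transported to `stdMinus`
  have hcyc1 : CycStmt (Cfsg.quadFormMinus m F a b) (iD m a b (Cfsg.quadFormMinus m F a b)) := by
    have h := inndiag_mod_inn_minus hodd hm a b hab
    by_cases hc : Even m ∧ Fintype.card F % 4 = 3
    · exact Or.inl (h.1 hc)
    · exact Or.inr (h.2 hc)
  have hcyc2 : ∀ Q' : ((Fin m ⊕ Fin m) ⊕ Fin 2 → F) → F, Q' = Cfsg.quadFormMinus m F a b →
      CycStmt Q' (iD m a b Q') := by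
    intro Q' hQ'
    subst hQ'
    exact hcyc1
  have hcyc3 : CycStmt ⇑(stdMinus F m a b) (inD (stdMinus F m a b) ⟨v, hv⟩ (m + 1)) := by
    rw [← haux]
    exact hcyc2 _ (coe_stdMinus F m a b)
  -- transport of the goal
  have key : ∀ Q' : ((Fin m ⊕ Fin m) ⊕ Fin 2 → F) → F, Q' = Cfsg.quadFormMinus m F a b →
      (∀ x' : MulAut (Cfsg.POmega F Q'), x' ∈ Cfsg.pgoAut F Q' → orderOf x' = r →
        FusStmt Q' (iD m a b Q') x') →
      FusStmt (Cfsg.quadFormMinus m F a b) (Cfsg.inndiagPOmegaMinus m F a b) x := by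
    intro Q' hQ' h
    subst hQ'
    exact h x hx hxr
  apply key _ (coe_stdMinus F m a b)
  intro x' hx' hxr'
  rw [haux]
  exact class_fusion (stdMinus F m a b) hperf hcent ⟨v, hv⟩ hp hnd (m + 1) hcard hcyc3
    (deltaMinus m a b ν w hw) (deltaMinus_mem m a b ν w hw) (by rw [hmu]; exact hν)
    x' hx' hr hro hrp hxr'

end minus

end Cfsg.Agent.Helper13.OSS
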