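import Mathlib
import Cfsg.Agent.Lib.Helper13.OSPTop
import Cfsg.Agent.Lib.Helper13.OSSMinus
import Cfsg.Agent.Lib.Helper5.OrthLag8

set_option autoImplicit false

/-! S2720: instantiation of the class fusion theorems for the plus-type form, given the key element
of `C_SO(t) ∖ Ω` in the case `m` even. -/

namespace Cfsg.Agent.Helper13.OSP

open Matrix QuadraticMap Cfsg.Agent.Helper5.OrthAut Cfsg.Agent.Helper43 Cfsg.Agent.Helper13.OSS

universe u

variable {F : Type u} [Field F] [Fintype F]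

theorem plus_class_fusion_of_key {p : ℕ} [Fact p.Prime] [CharP F p] (hp : p ≠ 2) {m : ℕ} (hm : 4 ≤ m)
    {r : ℕ} (hr : r.Prime) (hro : Odd r) (hrp : r ≠ p)
    (hkey : Even m →
      commutator ↥(Cfsg.Omega F ⇑(stdPlus F m)) = ⊤ →
      (∀ Z : Matrix (Fin m ⊕ Fin m) (Fin m ⊕ Fin m) F,
        (∀ s : ↥(Cfsg.Omega F ⇑(stdPlus F m)),
          Z * omat (⇑(stdPlus F m)) s = omat (⇑(stdPlus F m)) s * Z) →
        ∃ c : F, Z = c • (1 : Matrix (Fin m ⊕ Fin m) (Fin m ⊕ Fin m) F)) →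
      (∃ g : ↥(Cfsg.isometryGroup F ⇑(stdPlus F m)), g ∈ Cfsg.Omega F ⇑(stdPlus F m) ∧
        ((g : GL (Fin m ⊕ Fin m) F) : Matrix (Fin m ⊕ Fin m) (Fin m ⊕ Fin m) F) = -1) →
      ∀ (t : GL (Fin m ⊕ Fin m) F) (_ht : t ∈ Cfsg.isometryGroup F ⇑(stdPlus F m)), t ^ r = 1 →
      ∀ (g : GL (Fin m ⊕ Fin m) F) (hg : g ∈ GO (stdPlus F m)), g * t = t * g →
        ¬ IsSquare ((mult (stdPlus F m) ⟨g, hg⟩ : Fˣ) : F) →
      ∃ (s : GL (Fin m ⊕ Fin m) F) (hs : s ∈ SOG (stdPlus F m)), s * t = t * s ∧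
        Phi (⇑(stdPlus F m)) ⟨s, Subgroup.le_normalizer (SOG_le_OG (stdPlus F m) hs)⟩ ∉
          Cfsg.Inn (Cfsg.POmega F ⇑(stdPlus F m)))
    (x : MulAut (Cfsg.POmega F (Cfsg.quadFormPlus m F)))
    (hx : x ∈ Cfsg.pgoAut F (Cfsg.quadFormPlus m F)) (hxr : orderOf x = r) :
    FusStmt (Cfsg.quadFormPlus m F) (Cfsg.inndiagPOmegaPlus m F) x := by
  classical
  have hodd : Odd (Fintype.card F) := by
    obtain ⟨n, -, hn⟩ := FiniteField.card F p
    rw [hn]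
    exact ((Fact.out : p.Prime).eq_two_or_odd'.resolve_left hp).pow
  have h2 := two_ne_zero_of_odd_card hodd
  have hfam := stdPlus_isHypFamily F m
  have hnd := stdPlus_nondegenerate F m
  have hcard : Fintype.card (Fin m ⊕ Fin m) = 2 * m := by simp; ring
  have hQ0 := hQ0_of_hyp (stdPlus F m) hfam (by omega)
  have hperf := hperf_of_hyp (stdPlus F m) hnd _ _ hfam (by omega) (by rw [hcard]; omega)
  have hcent := hcent_of_hyp (stdPlus F m) hfam (by omega)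
    (Cfsg.Agent.Lead.POmegaCard.hspan_plus m)
  have hq : Fintype.card F % 2 = 1 := Nat.odd_iff.1 hodd
  obtain ⟨ν, hν⟩ := exists_nonsquare_unit h2
  obtain ⟨v, hv⟩ := hQ0
  have hmu : mult (stdPlus F m) ⟨deltaPlus m ν, deltaPlus_mem m ν⟩ = ν :=
    mult_unique _ ⟨v, hv⟩ _ _ (deltaPlus_sim m ν)
  have hstr := inndiag_mod_inn_plus (F := F) hodd hm
  have haux : Cfsg.inndiagPOmegaPlus m F = inD (stdPlus F m) ⟨v, hv⟩ m :=
    inndiag_eq_inD_plus m h2 ⟨v, hv⟩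
  show FusStmt (⇑(stdPlus F m)) (Cfsg.inndiagPOmegaPlus m F) x
  rcases Nat.even_or_odd m with hme | hmo
  · -- Klein four
    obtain ⟨φ, -, hker⟩ := hstr.2.2 hme
    have hneg : ∃ g : ↥(Cfsg.isometryGroup F ⇑(stdPlus F m)), g ∈ Cfsg.Omega F ⇑(stdPlus F m) ∧
        ((g : GL (Fin m ⊕ Fin m) F) : Matrix (Fin m ⊕ Fin m) (Fin m ⊕ Fin m) F) = -1 := by
      apply (Cfsg.Agent.S0790.result (F := F) rfl hodd m (by omega)).2
      rw [pow_mod_four_eq_one_iff _ _ hq]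
      rintro ⟨h3, _⟩
      exact (Nat.not_even_iff_odd.2 h3) hme
    have hkl : ∃ φ : ↥(inD (stdPlus F m) ⟨v, hv⟩ m) →* Multiplicative (ZMod 2 × ZMod 2),
        φ.ker = (Cfsg.Inn (Cfsg.POmega F ⇑(stdPlus F m))).subgroupOf
          (inD (stdPlus F m) ⟨v, hv⟩ m) := by
      rw [← haux]
      exact ⟨φ, hker⟩
    rw [haux]
    exact class_fusion_klein (stdPlus F m) hperf hcent ⟨v, hv⟩ hp hnd m hcard hkl
      (deltaPlus m ν) (deltaPlus_mem m ν) (by rw [hmu]; exact hν) hr hro hrp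
      (hkey hme hperf hcent hneg) x hx hxr
  · -- cyclic
    have hcyc : (∃ φ : ↥(inD (stdPlus F m) ⟨v, hv⟩ m) →* Multiplicative (ZMod 4),
          Function.Surjective φ ∧
          φ.ker = (Cfsg.Inn (Cfsg.POmega F ⇑(stdPlus F m))).subgroupOf
            (inD (stdPlus F m) ⟨v, hv⟩ m)) ∨
        (∃ φ : ↥(inD (stdPlus F m) ⟨v, hv⟩ m) →* Multiplicative (ZMod 2),
          Function.Surjective φ ∧
          φ.ker = (Cfsg.Inn (Cfsg.POmega F ⇑(stdPlus F m))).subgroupOf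
            (inD (stdPlus F m) ⟨v, hv⟩ m)) := by
      rw [← haux]
      have h4 : Fintype.card F % 4 = 1 ∨ Fintype.card F % 4 = 3 := by omega
      rcases h4 with h4 | h4
      · exact Or.inl (hstr.2.1 ⟨hmo, h4⟩)
      · exact Or.inr (hstr.1 ⟨hmo, h4⟩)
    rw [haux]
    exact class_fusion (stdPlus F m) hperf hcent ⟨v, hv⟩ hp hnd m hcard hcyc
      (deltaPlus m ν) (deltaPlus_mem m ν) (by rw [hmu]; exact hν) x hx hr hro hrp hxr

end Cfsg.Agent.Helper13.OSP
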