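import Mathlib
import Cfsg.Agent.Lib.Helper13.OSSMinus

set_option autoImplicit false
set_option linter.unusedSectionVars false

/-! `Inndiag(PΩ⁻) = Inn · ⟨c⟩` for `c` induced by any class-preserving similarity with non-square
multiplier (consequence of `Inndiag / Inn` cyclic of order 4 or 2). -/

namespace Cfsg.Agent.Helper13.OSS

open Matrix QuadraticMap Cfsg.Agent.Helper5.OrthAut Cfsg.Agent.Helper43 Cfsg.Agent.Helper5.OrthLag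

/-- abstract: if `D / I` is "cyclic of 2-power order" and `c ∈ D` is not of the form `i h₀ h₀`,
then `D = I ⟨c⟩`. -/
theorem exists_pow_mem {A : Type*} [Group A] (I D : Subgroup A) {B : Type*} [Group B]
    (φ : ↥D →* B) (hφ : Function.Surjective φ) (hker : φ.ker = I.subgroupOf D)
    (hB : ∀ z : B, (∀ w : B, ∃ j : ℕ, w = z ^ j) ∨ ∃ w, z = w * w)
    (c : A) (hc : c ∈ D) (hcns : ¬ ∃ i ∈ I, ∃ h₀ ∈ D, c = i * h₀ * h₀) (h : A) (hh : h ∈ D) :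
    ∃ j : ℕ, h * (c ^ j)⁻¹ ∈ I := by
  rcases hB (φ ⟨c, hc⟩) with hgen | ⟨w, hw⟩
  · obtain ⟨j, hj⟩ := hgen (φ ⟨h, hh⟩)
    have h1 : (⟨h, hh⟩ : ↥D) * (⟨c, hc⟩ ^ j)⁻¹ ∈ φ.ker := by
      rw [MonoidHom.mem_ker, map_mul, map_inv, map_pow, ← hj, mul_inv_cancel]
    rw [hker, Subgroup.mem_subgroupOf] at h1
    exact ⟨j, by simpa using h1⟩
  · exfalso
    obtain ⟨h₀, rfl⟩ := hφ w
    apply hcns
    have h1 : (⟨c, hc⟩ : ↥D) * (h₀ * h₀)⁻¹ ∈ φ.ker := by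
      rw [MonoidHom.mem_ker, map_mul, map_inv, map_mul, hw, mul_inv_cancel]
    rw [hker, Subgroup.mem_subgroupOf] at h1
    have h1' : c * ((h₀ : A) * (h₀ : A))⁻¹ ∈ I := by simpa using h1
    refine ⟨_, h1', (h₀ : A), h₀.2, ?_⟩
    group

section generic

variable {F : Type*} [Field F] [Fintype F] [DecidableEq F] {ι : Type} [Fintype ι] [DecidableEq ι]
  (Q : QuadraticForm F (ι → F))
  (hperf : commutator ↥(Cfsg.Omega F ⇑Q) = ⊤)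
  (hcent : ∀ Z : Matrix ι ι F, (∀ s : ↥(Cfsg.Omega F ⇑Q), Z * omat (⇑Q) s = omat (⇑Q) s * Z) →
    ∃ c : F, Z = c • (1 : Matrix ι ι F))
  (hQ0 : ∃ v : ι → F, Q v ≠ 0)

include hperf hcent in
theorem inD_eq_inn_mul_pow (k : ℕ)
    (hcyc : (∃ φ : ↥(inD Q hQ0 k) →* Multiplicative (ZMod 4), Function.Surjective φ ∧
        φ.ker = (Cfsg.Inn (Cfsg.POmega F ⇑Q)).subgroupOf (inD Q hQ0 k)) ∨
      (∃ φ : ↥(inD Q hQ0 k) →* Multiplicative (ZMod 2), Function.Surjective φ ∧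
        φ.ker = (Cfsg.Inn (Cfsg.POmega F ⇑Q)).subgroupOf (inD Q hQ0 k)))
    (g : GL ι F) (hg : g ∈ GO Q) (hns : ¬ IsSquare ((mult Q ⟨g, hg⟩ : Fˣ) : F))
    (hd : dHom Q hQ0 k ⟨g, hg⟩ = 1) :
    Phi (⇑Q) ⟨g, sim_le_NO (⇑Q) hg⟩ ∈ inD Q hQ0 k ∧
    ∀ δ ∈ inD Q hQ0 k, ∃ (j : ℕ) (t : MulAut (Cfsg.POmega F ⇑Q)),
      t ∈ Cfsg.Inn (Cfsg.POmega F ⇑Q) ∧ δ = t * (Phi (⇑Q) ⟨g, sim_le_NO (⇑Q) hg⟩) ^ j := by
  classical
  set c : MulAut (Cfsg.POmega F ⇑Q) := Phi (⇑Q) ⟨g, sim_le_NO (⇑Q) hg⟩ with hc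
  have hcD : c ∈ inD Q hQ0 k :=
    ⟨⟨g, sim_le_NO (⇑Q) hg⟩, Subgroup.mem_subgroupOf.2 ((mem_GO1 Q hQ0 k g).2 ⟨hg, hd⟩), rfl⟩
  have hcP : c ∈ Cfsg.pgoAut F ⇑Q := (pP Q g hg).2
  obtain ⟨ψ, hψ⟩ := exists_chi Q hperf hcent hQ0
  have hψc : ψ ⟨c, hcP⟩ = -1 := by
    have h1 : ψ ⟨c, hcP⟩ = chiHom Q hQ0 ⟨g, hg⟩ := hψ g hg
    rcases Int.units_eq_one_or (ψ ⟨c, hcP⟩) with h | h
    · exfalso
      rw [h1, chiHom_eq_one_iff] at h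
      exact hns h
    · exact h
  have hpoψ : ∀ (h : MulAut (Cfsg.POmega F ⇑Q)) (hh : h ∈ Cfsg.pgoAut F ⇑Q),
      h ∈ Cfsg.poAut F ⇑Q → ψ ⟨h, hh⟩ = 1 := by
    intro h hh hpo
    rw [poAut_eq] at hpo
    obtain ⟨n, hn, rfl⟩ := hpo
    have hn' : (n : GL ι F) ∈ Cfsg.isometryGroup F ⇑Q := hn
    have h2 : ψ ⟨Phi (⇑Q) n, hh⟩ = chiHom Q hQ0 ⟨(n : GL ι F), iso_le_sim (⇑Q) hn'⟩ :=
      hψ (n : GL ι F) (iso_le_sim (⇑Q) hn')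
    rw [h2, chiHom_eq_one_iff]
    have : mult Q ⟨(n : GL ι F), iso_le_sim (⇑Q) hn'⟩ = 1 := mult_isoGO Q hQ0 ⟨(n : GL ι F), hn'⟩
    rw [this, Units.val_one]
    exact ⟨1, by simp⟩
  have hcns : ¬ ∃ i ∈ Cfsg.Inn (Cfsg.POmega F ⇑Q), ∃ h₀ ∈ inD Q hQ0 k, c = i * h₀ * h₀ := by
    rintro ⟨i, hi, h₀, hh₀, hch⟩
    have hiP : i ∈ Cfsg.pgoAut F ⇑Q :=
      poAut_le_pgoAut Q (psoAut_le_poAut Q (inn_le_psoAut Q hi))
    have hhP : h₀ ∈ Cfsg.pgoAut F ⇑Q := inD_le_pgoAut Q hQ0 k hh₀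
    have h1 : (⟨c, hcP⟩ : ↥(Cfsg.pgoAut F ⇑Q)) = ⟨i, hiP⟩ * ⟨h₀, hhP⟩ * ⟨h₀, hhP⟩ :=
      Subtype.ext hch
    have h2 : ψ ⟨i, hiP⟩ = 1 := hpoψ i hiP (psoAut_le_poAut Q (inn_le_psoAut Q hi))
    rw [h1, map_mul, map_mul, h2, one_mul, Int.units_mul_self] at hψc
    exact absurd hψc (by decide)
  refine ⟨hcD, ?_⟩
  intro δ hδ
  have key : ∃ j : ℕ, δ * (c ^ j)⁻¹ ∈ Cfsg.Inn (Cfsg.POmega F ⇑Q) := by
    rcases hcyc with ⟨φ, hφ, hker⟩ | ⟨φ, hφ, hker⟩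
    · exact exists_pow_mem _ _ φ hφ hker gen_or_sq4 c hcD hcns δ hδ
    · exact exists_pow_mem _ _ φ hφ hker gen_or_sq2 c hcD hcns δ hδ
  obtain ⟨j, hj⟩ := key
  exact ⟨j, δ * (c ^ j)⁻¹, hj, by group⟩

end generic

section minus

universe u

variable {F : Type u} [Field F] [Fintype F]

/-- `Inndiag(PΩ⁻_{2m+2}(F)) = Inn · ⟨Phi g⟩` for every similarity `g` of the minus form with
non-square multiplier `μ` and `det g = μ^(m+1)`. -/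
theorem minus_inndiag_eq_inn_mul_pow (hodd : Odd (Fintype.card F)) {m : ℕ} (hm : 3 ≤ m)
    (a b : F)
    (hab : ∀ z₁ z₂ : F, z₁ ^ 2 + a * z₁ * z₂ + b * z₂ ^ 2 = 0 → z₁ = 0 ∧ z₂ = 0)
    (g : GL ((Fin m ⊕ Fin m) ⊕ Fin 2) F) (hgN : g ∈ NO (Cfsg.quadFormMinus m F a b)) (μ : Fˣ)
    (hμ : ∀ v, Cfsg.quadFormMinus m F a b
      ((g : Matrix ((Fin m ⊕ Fin m) ⊕ Fin 2) ((Fin m ⊕ Fin m) ⊕ Fin 2) F) *ᵥ v) =
        (μ : F) * Cfsg.quadFormMinus m F a b v)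
    (hns : ¬ IsSquare (μ : F))
    (hdet : (g : Matrix ((Fin m ⊕ Fin m) ⊕ Fin 2) ((Fin m ⊕ Fin m) ⊕ Fin 2) F).det =
      (μ : F) ^ (m + 1)) :
    Phi (Cfsg.quadFormMinus m F a b) ⟨g, hgN⟩ ∈ Cfsg.inndiagPOmegaMinus m F a b ∧
    ∀ δ ∈ Cfsg.inndiagPOmegaMinus m F a b,
      ∃ (j : ℕ) (t : MulAut (Cfsg.POmega F (Cfsg.quadFormMinus m F a b))),
        t ∈ Cfsg.Inn (Cfsg.POmega F (Cfsg.quadFormMinus m F a b)) ∧
        δ = t * (Phi (Cfsg.quadFormMinus m F a b) ⟨g, hgN⟩) ^ j := by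
  classical
  have h2 := two_ne_zero_of_odd_card hodd
  have hab' : AnisoPair a b := hab
  have hfam := stdMinus_isHypFamily F m a b
  have hnd := stdMinus_nondegenerate (F := F) m hab'
  have hcard : Fintype.card ((Fin m ⊕ Fin m) ⊕ Fin 2) = 2 * (m + 1) := by simp; ring
  have hQ0 := hQ0_of_hyp (stdMinus F m a b) hfam (by omega)
  have hperf := hperf_of_hyp (stdMinus F m a b) hnd _ _ hfam (by omega) (by rw [hcard]; omega)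
  have hcent := hcent_of_hyp (stdMinus F m a b) hfam (by omega)
    (Cfsg.Agent.Lead.POmegaCard.hspan_minus m a b)
  obtain ⟨v, hv⟩ := hQ0
  have haux : iD m a b ⇑(stdMinus F m a b) = inD (stdMinus F m a b) ⟨v, hv⟩ (m + 1) :=
    inndiag_minus_aux hodd m a b hab ⟨v, hv⟩
  have hcyc1 : CycStmt (Cfsg.quadFormMinus m F a b) (iD m a b (Cfsg.quadFormMinus m F a b)) := by
    have h := inndiag_mod_inn_minus hodd hm a b hab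
    by_cases hc : Even m ∧ Fintype.card F % 4 = 3
    · exact Or.inl (h.1 hc)
    · exact Or.inr (h.2 hc)
  have hcyc2 : ∀ Q' : ((Fin m ⊕ Fin m) ⊕ Fin 2 → F) → F, Q' = Cfsg.quadFormMinus m F a b →
      CycStmt Q' (iD m a b Q') := by
    intro Q' hQ'
    subst hQ'
    exact hcyc1
  have hcyc3 : CycStmt ⇑(stdMinus F m a b) (inD (stdMinus F m a b) ⟨v, hv⟩ (m + 1)) := by
    rw [← haux]
    exact hcyc2 _ (coe_stdMinus F m a b)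
  have key : ∀ Q' : ((Fin m ⊕ Fin m) ⊕ Fin 2 → F) → F, Q' = Cfsg.quadFormMinus m F a b →
      (∀ (hgN' : g ∈ NO Q'),
        (∀ v, Q' ((g : Matrix ((Fin m ⊕ Fin m) ⊕ Fin 2) ((Fin m ⊕ Fin m) ⊕ Fin 2) F) *ᵥ v) =
          (μ : F) * Q' v) →
        (Phi Q' ⟨g, hgN'⟩ ∈ iD m a b Q' ∧
          ∀ δ ∈ iD m a b Q', ∃ (j : ℕ) (t : MulAut (Cfsg.POmega F Q')),
            t ∈ Cfsg.Inn (Cfsg.POmega F Q') ∧ δ = t * (Phi Q' ⟨g, hgN'⟩) ^ j)) →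
      (Phi (Cfsg.quadFormMinus m F a b) ⟨g, hgN⟩ ∈ Cfsg.inndiagPOmegaMinus m F a b ∧
        ∀ δ ∈ Cfsg.inndiagPOmegaMinus m F a b,
          ∃ (j : ℕ) (t : MulAut (Cfsg.POmega F (Cfsg.quadFormMinus m F a b))),
            t ∈ Cfsg.Inn (Cfsg.POmega F (Cfsg.quadFormMinus m F a b)) ∧
            δ = t * (Phi (Cfsg.quadFormMinus m F a b) ⟨g, hgN⟩) ^ j) := by
    intro Q' hQ' h
    subst hQ'
    exact h hgN hμ
  apply key _ (coe_stdMinus F m a b)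
  intro hgN' hμ'
  have hg : g ∈ GO (stdMinus F m a b) := ⟨μ, hμ'⟩
  have hmu : mult (stdMinus F m a b) ⟨g, hg⟩ = μ := mult_unique _ ⟨v, hv⟩ _ _ hμ'
  have hd : dHom (stdMinus F m a b) ⟨v, hv⟩ (m + 1) ⟨g, hg⟩ = 1 := by
    apply Units.ext
    rw [dHom_coe, hmu, Units.val_one]
    show (g : Matrix ((Fin m ⊕ Fin m) ⊕ Fin 2) ((Fin m ⊕ Fin m) ⊕ Fin 2) F).det * _ = 1
    rw [hdet]
    exact mul_inv_cancel₀ (pow_ne_zero _ (Units.ne_zero _))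
  rw [haux]
  exact inD_eq_inn_mul_pow (stdMinus F m a b) hperf hcent ⟨v, hv⟩ (m + 1) hcyc3 g hg
    (by rw [hmu]; exact hns) hd

end minus

end Cfsg.Agent.Helper13.OSS
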