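import Mathlib
import Cfsg.Agent.Lib.Helper13.OrthMax

/-!
# Maximality of the stabiliser of an orthogonal decomposition `V = U ⊥ U'`

`EG_le_of_decomp`: a subgroup `M` of isometries containing all Eichler transformations of `U` and of
`U'` (both "hyperbolic-rich", e.g. nondegenerate of dimension at least 7 over a finite field), and an
element `g` mapping neither `U` nor `U'` into `U`, contains all Eichler transformations.
-/

set_option autoImplicit false
set_option linter.unusedSectionVars false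

namespace Cfsg.Agent.Helper13

open Matrix QuadraticMap Cfsg.Geo
open Cfsg.Agent.S0794 Cfsg.Agent.Helper14.ReflGen Cfsg.Agent.Helper93 Cfsg.Agent.Helper43

section OrthDecomp

variable {F : Type*} [Field F] {ι : Type} [Fintype ι] [DecidableEq ι]
  (Q : QuadraticForm F (ι → F))

/-- every pair of vectors of the ambient space is orthogonal to a hyperbolic pair inside `N` -/
def HypRich (N : Submodule F (ι → F)) : Prop :=
  ∀ a b : ι → F, ∃ t t' : ι → F, t ∈ N ∧ t' ∈ N ∧ Q t = 0 ∧ Q t' = 0 ∧ polar (⇑Q) t t' = 1 ∧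
    polar (⇑Q) a t = 0 ∧ polar (⇑Q) b t = 0 ∧ polar (⇑Q) a t' = 0 ∧ polar (⇑Q) b t' = 0

/-- a nondegenerate subspace of dimension at least 7 over a finite field is hyperbolic-rich -/
theorem hypRich_of_nondeg [Finite F] (N : Submodule F (ι → F))
    (hN : ∀ y ∈ N, y ≠ 0 → ∃ z ∈ N, polar (⇑Q) z y ≠ 0) (hdim : 7 ≤ Module.finrank F N) :
    HypRich Q N := by
  have hnd : (polarBilin (qrestrict Q N)).Nondegenerate := by
    constructor
    · intro x hx
      by_contra hx0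
      have hx0' : (x : ι → F) ≠ 0 := fun h => hx0 (Subtype.ext h)
      obtain ⟨z, hz, hzx⟩ := hN x x.2 hx0'
      apply hzx
      have h1 := hx ⟨z, hz⟩
      rw [polarBilin_apply_apply, polar_qrestrict] at h1
      rw [polar_comm]
      exact h1
    · intro y hy
      by_contra hy0
      have hy0' : (y : ι → F) ≠ 0 := fun h => hy0 (Subtype.ext h)
      obtain ⟨z, hz, hzy⟩ := hN y y.2 hy0'
      apply hzy
      have h1 := hy ⟨z, hz⟩
      rwa [polarBilin_apply_apply, polar_qrestrict] at h1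
  obtain ⟨k, e, f, hef, -, -, hd, hle, -⟩ := witt_decomp_finite (qrestrict Q N) hnd
  have hk : 3 ≤ k := by omega
  have hrep : ∀ a : ι → F, ∃ a₁ : N, ∀ y : N,
      polar (⇑(qrestrict Q N)) a₁ y = polar (⇑Q) a (y : ι → F) := by
    intro a
    obtain ⟨φ, hφ⟩ : ∃ φ : N →ₗ[F] F, φ = (polarBilin Q a).comp N.subtype := ⟨_, rfl⟩
    obtain ⟨a₁, ha₁⟩ : ∃ a₁, a₁ = (LinearMap.BilinForm.toDual (polarBilin (qrestrict Q N)) hnd).symm φ :=
      ⟨_, rfl⟩
    refine ⟨a₁, fun y => ?_⟩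
    have h1 : polarBilin (qrestrict Q N) a₁ y = φ y := by
      rw [ha₁, ← LinearMap.BilinForm.toDual_def hnd, LinearEquiv.apply_symm_apply]
    rw [polarBilin_apply_apply] at h1
    rw [h1, hφ]
    rfl
  intro a b
  obtain ⟨a₁, ha₁⟩ := hrep a
  obtain ⟨b₁, hb₁⟩ := hrep b
  obtain ⟨t, t', hQt, hQt', htt', hat, hbt, hat', hbt'⟩ :=
    hyp_perp (qrestrict Q N) hnd e f hef hk a₁ b₁
  refine ⟨t, t', t.2, t'.2, hQt, hQt', htt', ?_, ?_, ?_, ?_⟩
  · rw [← ha₁]; exact hat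
  · rw [← hb₁]; exact hbt
  · rw [← ha₁]; exact hat'
  · rw [← hb₁]; exact hbt'

variable {Q}

/-- first half of the irreducibility lemma: a single singular `s ∈ N` not orthogonal to `y` puts
`s^⊥ ∩ N` inside `T` -/
lemma eich_invariant_perp {N : Submodule F (ι → F)} (hN : HypRich Q N) (T : AddSubgroup (ι → F))
    (hT : ∀ s w, s ∈ N → w ∈ N → Q s = 0 → polar (⇑Q) s w = 0 → ∀ y ∈ T, eichM Q s w *ᵥ y ∈ T)
    (s : ι → F) (hsN : s ∈ N) (hs : Q s = 0) (y : ι → F) (hy : ∀ c : F, c • y ∈ T)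
    (hsy : polar (⇑Q) s y ≠ 0) : ∀ w ∈ N, polar (⇑Q) s w = 0 → w ∈ T := by
  obtain ⟨t, t', htN, ht'N, hQt, hQt', htt', hst, -, hst', -⟩ := hN s s
  obtain ⟨β, hβ⟩ : ∃ β, β = polar (⇑Q) s y := ⟨_, rfl⟩
  have hβ0 : β ≠ 0 := by rw [hβ]; exact hsy
  have D : ∀ (c : F) (w : ι → F), w ∈ N → polar (⇑Q) s w = 0 →
      c • (β • w - (polar (⇑Q) w y + Q w * β) • s) ∈ T := by
    intro c w hwN hsw
    have h1 := hT s w hsN hwN hs hsw (c • y) (hy c)
    have h2 := T.sub_mem h1 (hy c)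
    have e : eichM Q s w *ᵥ (c • y) - c • y = c • (β • w - (polar (⇑Q) w y + Q w * β) • s) := by
      rw [eichM_mulVec, polar_smul_right, polar_smul_right, ← hβ]
      simp only [smul_eq_mul]
      module
    rwa [e] at h2
  have hQtt : Q (t + t') = 1 := by
    rw [Q_add', hQt, hQt', htt']
    ring
  have Fs : ∀ c : F, c • s ∈ T := by
    intro c
    have h1 := D (-(c * β⁻¹)) (t + t') (N.add_mem htN ht'N)
      (by rw [polar_add_right, hst, hst', add_zero])
    have h2 := D (-(c * β⁻¹)) t htN hst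
    have h3 := D (-(c * β⁻¹)) t' ht'N hst'
    have h4 := T.sub_mem (T.sub_mem h1 h2) h3
    have hb : β⁻¹ * β = 1 := inv_mul_cancel₀ hβ0
    have e : -(c * β⁻¹) • (β • (t + t') - (polar (⇑Q) (t + t') y + Q (t + t') * β) • s)
        - -(c * β⁻¹) • (β • t - (polar (⇑Q) t y + Q t * β) • s)
        - -(c * β⁻¹) • (β • t' - (polar (⇑Q) t' y + Q t' * β) • s) = c • s := by
      rw [hQtt, hQt, hQt', polar_add_left]
      have e2 : c • s = (c * (β⁻¹ * β)) • s := by rw [hb, mul_one]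
      rw [e2]
      module
    rwa [e] at h4
  intro w hwN hsw
  have h1 := D β⁻¹ w hwN hsw
  have h2 := Fs (β⁻¹ * (polar (⇑Q) w y + Q w * β))
  have h3 := T.add_mem h1 h2
  have e : β⁻¹ • (β • w - (polar (⇑Q) w y + Q w * β) • s)
      + (β⁻¹ * (polar (⇑Q) w y + Q w * β)) • s = w := by
    rw [smul_sub, smul_smul, smul_smul, inv_mul_cancel₀ hβ0, one_smul]
    abel
  rwa [e] at h3

/-- irreducibility lemma: an additive subgroup `T` invariant under the Eichler transformations of a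
hyperbolic-rich subspace `N`, containing a line `F y` not orthogonal to `N`, contains `N` -/
theorem eich_invariant_ge {N : Submodule F (ι → F)} (hN : HypRich Q N) (T : AddSubgroup (ι → F))
    (hT : ∀ s w, s ∈ N → w ∈ N → Q s = 0 → polar (⇑Q) s w = 0 → ∀ y ∈ T, eichM Q s w *ᵥ y ∈ T)
    (y : ι → F) (hy : ∀ c : F, c • y ∈ T) (z : ι → F) (hz : z ∈ N) (hzy : polar (⇑Q) z y ≠ 0) :
    ∀ x ∈ N, x ∈ T := by
  obtain ⟨t, t', htN, ht'N, hQt, hQt', htt', hzt, hyt, hzt', hyt'⟩ := hN z y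
  obtain ⟨s, hsdef⟩ : ∃ s, s = z + (t + (-(Q z)) • t') := ⟨_, rfl⟩
  have hsN : s ∈ N := by
    rw [hsdef]
    exact N.add_mem hz (N.add_mem htN (N.smul_mem _ ht'N))
  have hs : Q s = 0 := by
    rw [hsdef, Q_add', Q_add', Q_smul', hQt, hQt', polar_smul_right, htt', polar_add_right,
      polar_smul_right, hzt, hzt']
    simp only [smul_eq_mul]
    ring
  have hsy : polar (⇑Q) s y ≠ 0 := by
    rw [hsdef, polar_add_left, polar_add_left, polar_smul_left, polar_comm (⇑Q) t y, hyt,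
      polar_comm (⇑Q) t' y, hyt']
    simpa using hzy
  have h1 := eich_invariant_perp hN T hT s hsN hs y hy hsy
  obtain ⟨t₂, t₂', ht₂N, ht₂'N, hQt₂, hQt₂', htt₂, hst₂, -, hst₂', -⟩ := hN s s
  have h2 : ∀ c : F, c • t₂' ∈ T := fun c =>
    h1 _ (N.smul_mem c ht₂'N) (by rw [polar_smul_right, hst₂', smul_zero])
  have h3 := eich_invariant_perp hN T hT t₂ ht₂N hQt₂ t₂' h2 (by rw [htt₂]; exact one_ne_zero)
  intro x hx
  have h4 : x - polar (⇑Q) t₂ x • t₂' ∈ T := by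
    apply h3 _ (N.sub_mem hx (N.smul_mem _ ht₂'N))
    rw [polar_sub_right, polar_smul_right, htt₂]
    simp
  have h5 := T.add_mem h4 (h2 (polar (⇑Q) t₂ x))
  rwa [sub_add_cancel] at h5

variable (Q)

/-- the additive group of second arguments `a ⊥ u` with `E(u,a) ∈ M` -/
def ACtr (M : Subgroup (GL ι F)) (u : ι → F) (hu : Q u = 0) : AddSubgroup (ι → F) where
  carrier := {a | polar (⇑Q) u a = 0 ∧ ∃ g ∈ M, (g : Matrix ι ι F) = eichM Q u a}
  zero_mem' := ⟨polar_zero_right _ _, 1, M.one_mem, by rw [Units.val_one, eichM_zero]⟩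
  add_mem' := fun {a b} ha hb => ⟨by rw [polar_add_right, ha.1, hb.1, add_zero],
    eich_add_mem Q hu ha.1 hb.1 ha.2 hb.2⟩
  neg_mem' := fun {a} ha => by
    obtain ⟨hua, g, hgM, hg⟩ := ha
    have h' : polar (⇑Q) u (-a) = 0 := by rw [polar_neg_right, hua, neg_zero]
    refine ⟨h', eichGL Q u (-a) hu h', ?_, rfl⟩
    have h1 : g * eichGL Q u (-a) hu h' = 1 := by
      apply Units.ext
      rw [Units.val_mul, hg, Units.val_one]
      change eichM Q u a * eichM Q u (-a) = 1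
      rw [eichM_mul Q u a (-a) hu hua h', add_neg_cancel, eichM_zero]
    have h2 : eichGL Q u (-a) hu h' = g⁻¹ := eq_inv_of_mul_eq_one_right h1
    rw [h2]
    exact M.inv_mem hgM

variable {Q}

lemma mem_ACtr {M : Subgroup (GL ι F)} {u : ι → F} {hu : Q u = 0} {a : ι → F} :
    a ∈ ACtr Q M u hu ↔ polar (⇑Q) u a = 0 ∧ ∃ g ∈ M, (g : Matrix ι ι F) = eichM Q u a := Iff.rfl

/-- an Eichler transformation of `M` fixing `u` maps `ACtr M u` into itself -/
lemma ACtr_conj {M : Subgroup (GL ι F)} {u : ι → F} (hu : Q u = 0) (p r : ι → F) (hp : Q p = 0)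
    (hpr : polar (⇑Q) p r = 0) (hm : ∃ m ∈ M, (m : Matrix ι ι F) = eichM Q p r)
    (hfix : eichM Q p r *ᵥ u = u) :
    ∀ a ∈ ACtr Q M u hu, eichM Q p r *ᵥ a ∈ ACtr Q M u hu := by
  rintro a ⟨hua, g', hg'M, hg'⟩
  obtain ⟨m, hmM, hm⟩ := hm
  have hI := eichM_isometry Q p r hp hpr
  refine ⟨?_, m * g' * m⁻¹, M.mul_mem (M.mul_mem hmM hg'M) (M.inv_mem hmM), ?_⟩
  · have h1 := polar_of_isometry Q _ hI u a
    rw [hfix] at h1
    rw [h1]
    exact hua
  · have hMM' : eichM Q p r * ((m⁻¹ : GL ι F) : Matrix ι ι F) = 1 := by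
      rw [← hm, ← Units.val_mul, mul_inv_cancel, Units.val_one]
    rw [Units.val_mul, Units.val_mul, hg', hm, eichM_conj Q _ _ hMM' hI, hfix]

/-- **Main criterion.** `V = U ⊥ U'` with `U, U'` nondegenerate and hyperbolic-rich; `M` a group of
isometries containing the Eichler transformations of `U` and of `U'`, and an element mapping
neither `U` nor `U'` into `U`. Then `M` contains all Eichler transformations. -/
theorem EG_le_of_decomp (hQ : (polarBilin Q).Nondegenerate) (U U' : Submodule F (ι → F))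
    (horth : ∀ x ∈ U, ∀ y ∈ U', polar (⇑Q) x y = 0) (hsup : U ⊔ U' = ⊤)
    (hU : HypRich Q U) (hU' : HypRich Q U')
    (hUnd : ∀ y ∈ U, y ≠ 0 → ∃ z ∈ U, polar (⇑Q) z y ≠ 0)
    (hU'nd : ∀ y ∈ U', y ≠ 0 → ∃ z ∈ U', polar (⇑Q) z y ≠ 0)
    (M : Subgroup (GL ι F)) (hMI : ∀ g ∈ M, ∀ x, Q ((g : Matrix ι ι F) *ᵥ x) = Q x)
    (hMU : ∀ s w, s ∈ U → w ∈ U → Q s = 0 → polar (⇑Q) s w = 0 →
      ∃ g ∈ M, (g : Matrix ι ι F) = eichM Q s w)
    (hMU' : ∀ s w, s ∈ U' → w ∈ U' → Q s = 0 → polar (⇑Q) s w = 0 →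
      ∃ g ∈ M, (g : Matrix ι ι F) = eichM Q s w)
    (g : GL ι F) (hgM : g ∈ M) (hg1 : ∃ x ∈ U, (g : Matrix ι ι F) *ᵥ x ∉ U)
    (hg2 : ∃ x ∈ U', (g : Matrix ι ι F) *ᵥ x ∉ U) : EG Q ≤ M := by
  have hdec : ∀ y : ι → F, ∃ a ∈ U, ∃ b ∈ U', a + b = y := by
    intro y
    have : y ∈ U ⊔ U' := by rw [hsup]; exact Submodule.mem_top
    exact Submodule.mem_sup.1 this
  have hperpU : ∀ y, (∀ z ∈ U, polar (⇑Q) z y = 0) → y ∈ U' := by
    intro y hy
    obtain ⟨a, ha, b, hb, rfl⟩ := hdec y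
    have ha0 : a = 0 := by
      by_contra h
      obtain ⟨z, hz, hza⟩ := hUnd a ha h
      apply hza
      have h1 := hy z hz
      rwa [polar_add_right, horth z hz b hb, add_zero] at h1
    rw [ha0, zero_add]
    exact hb
  have hperpU' : ∀ y, (∀ z ∈ U', polar (⇑Q) z y = 0) → y ∈ U := by
    intro y hy
    obtain ⟨a, ha, b, hb, rfl⟩ := hdec y
    have hb0 : b = 0 := by
      by_contra h
      obtain ⟨z, hz, hzb⟩ := hU'nd b hb h
      apply hzb
      have h1 := hy z hz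
      rwa [polar_add_right, polar_comm (⇑Q) z a, horth a ha z hz, zero_add] at h1
    rw [hb0, add_zero]
    exact ha
  have hgI := hMI g hgM
  have hMM' : (g : Matrix ι ι F) * ((g⁻¹ : GL ι F) : Matrix ι ι F) = 1 := by
    rw [← Units.val_mul, mul_inv_cancel, Units.val_one]
  -- Step 0: an Eichler transformation in `M` not mapping `U` into itself
  have step0 : ∃ p r, Q p = 0 ∧ polar (⇑Q) p r = 0 ∧
      (∃ m ∈ M, (m : Matrix ι ι F) = eichM Q p r) ∧ ∃ x ∈ U, eichM Q p r *ᵥ x ∉ U := by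
    by_contra hcon
    push Not at hcon
    obtain ⟨Y, hYdef⟩ : ∃ Y : Submodule F (ι → F),
        Y = U.comap (Matrix.toLin' (g : Matrix ι ι F)) := ⟨_, rfl⟩
    have hYmem : ∀ y, y ∈ Y ↔ (g : Matrix ι ι F) *ᵥ y ∈ U := by
      intro y
      rw [hYdef, Submodule.mem_comap, Matrix.toLin'_apply]
    have hYinv : ∀ s w, Q s = 0 → polar (⇑Q) s w = 0 →
        (∃ m ∈ M, (m : Matrix ι ι F) = eichM Q s w) → ∀ y ∈ Y, eichM Q s w *ᵥ y ∈ Y := by
      rintro s w hs hsw ⟨m, hmM, hm⟩ y hy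
      rw [hYmem] at hy ⊢
      have hconj := eichM_conj Q _ _ hMM' hgI s w
      have h1 : (g : Matrix ι ι F) *ᵥ (eichM Q s w *ᵥ y)
          = eichM Q ((g : Matrix ι ι F) *ᵥ s) ((g : Matrix ι ι F) *ᵥ w)
            *ᵥ ((g : Matrix ι ι F) *ᵥ y) := by
        rw [← hconj, ← Matrix.mulVec_mulVec, ← Matrix.mulVec_mulVec, gl_inv_apply_apply]
      rw [h1]
      exact hcon _ _ (by rw [hgI, hs]) (by rw [polar_of_isometry Q _ hgI, hsw])
        ⟨g * m * g⁻¹, M.mul_mem (M.mul_mem hgM hmM) (M.inv_mem hgM),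
          by rw [Units.val_mul, Units.val_mul, hm, hconj]⟩ _ hy
    obtain ⟨x1, hx1U, hx1⟩ := hg1
    obtain ⟨x2, hx2U', hx2⟩ := hg2
    obtain ⟨y₀, hy₀def⟩ : ∃ y₀, y₀ = ((g⁻¹ : GL ι F) : Matrix ι ι F) *ᵥ x1 := ⟨_, rfl⟩
    have hgy₀ : (g : Matrix ι ι F) *ᵥ y₀ = x1 := by rw [hy₀def, gl_apply_inv_apply]
    have hy₀Y : y₀ ∈ Y := by rw [hYmem, hgy₀]; exact hx1U
    have hy₀0 : y₀ ≠ 0 := by
      intro h
      apply hx1
      rw [← hgy₀, h, Matrix.mulVec_zero, Matrix.mulVec_zero]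
      exact U.zero_mem
    by_cases hcase : ∃ z ∈ U, polar (⇑Q) z y₀ ≠ 0
    · obtain ⟨z, hz, hzy⟩ := hcase
      have h1 := eich_invariant_ge hU Y.toAddSubgroup
        (fun s w hs hw hQs hsw y hy => hYinv s w hQs hsw (hMU s w hs hw hQs hsw) y hy) y₀
        (fun c => Y.smul_mem c hy₀Y) z hz hzy
      exact hx1 ((hYmem x1).1 (h1 x1 hx1U))
    · push Not at hcase
      have hy₀U' : y₀ ∈ U' := hperpU y₀ hcase
      obtain ⟨z, hz, hzy⟩ := hU'nd y₀ hy₀U' hy₀0
      have h1 := eich_invariant_ge hU' Y.toAddSubgroup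
        (fun s w hs hw hQs hsw y hy => hYinv s w hQs hsw (hMU' s w hs hw hQs hsw) y hy) y₀
        (fun c => Y.smul_mem c hy₀Y) z hz hzy
      exact hx2 ((hYmem x2).1 (h1 x2 hx2U'))
  obtain ⟨p, r, hp, hpr, hm, x₀, hx₀U, hmx₀⟩ := step0
  -- Step 1: a singular centre `t ∈ U` fixed by `m` and `x ∈ t^⊥ ∩ U` with `m x ∉ U`
  obtain ⟨t, t', htU, ht'U, hQt, hQt', htt', hpt, hrt, hpt', hrt'⟩ := hU p r
  have hmt : eichM Q p r *ᵥ t = t := by
    rw [eichM_mulVec, hpt, hrt]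
    simp
  have hmt' : eichM Q p r *ᵥ t' = t' := by
    rw [eichM_mulVec, hpt', hrt']
    simp
  obtain ⟨x, hxdef⟩ : ∃ x, x = x₀ - polar (⇑Q) t x₀ • t' := ⟨_, rfl⟩
  have hxU : x ∈ U := by
    rw [hxdef]
    exact U.sub_mem hx₀U (U.smul_mem _ ht'U)
  have htx : polar (⇑Q) t x = 0 := by
    rw [hxdef, polar_sub_right, polar_smul_right, htt']
    simp
  have hmx : eichM Q p r *ᵥ x ∉ U := by
    rw [hxdef, Matrix.mulVec_sub, Matrix.mulVec_smul, hmt']
    intro h
    apply hmx₀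
    have h1 := U.add_mem h (U.smul_mem (polar (⇑Q) t x₀) ht'U)
    rwa [sub_add_cancel] at h1
  have hA1 : ∀ a ∈ U, polar (⇑Q) t a = 0 → a ∈ ACtr Q M t hQt :=
    fun a ha hta => ⟨hta, hMU t a htU ha hQt hta⟩
  have hA2 := ACtr_conj (M := M) hQt p r hp hpr hm hmt
  obtain ⟨y, hydef⟩ : ∃ y, y = eichM Q p r *ᵥ x - x := ⟨_, rfl⟩
  have hyA : ∀ c : F, c • y ∈ ACtr Q M t hQt := by
    intro c
    have h1 : c • x ∈ ACtr Q M t hQt :=
      hA1 _ (U.smul_mem c hxU) (by rw [polar_smul_right, htx, smul_zero])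
    have h2 := hA2 _ h1
    have h3 := (ACtr Q M t hQt).sub_mem h2 h1
    rwa [Matrix.mulVec_smul, ← smul_sub, ← hydef] at h3
  have hyU : y ∉ U := by
    intro h
    apply hmx
    have h1 := U.add_mem h hxU
    rwa [hydef, sub_add_cancel] at h1
  obtain ⟨z, hzU', hzy⟩ : ∃ z ∈ U', polar (⇑Q) z y ≠ 0 := by
    by_contra hcon
    push Not at hcon
    exact hyU (hperpU' y hcon)
  -- Step 2: `U' ⊆ ACtr M t`
  have hAinv : ∀ s w, s ∈ U' → w ∈ U' → Q s = 0 → polar (⇑Q) s w = 0 →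
      ∀ a ∈ ACtr Q M t hQt, eichM Q s w *ᵥ a ∈ ACtr Q M t hQt := by
    intro s w hsU' hwU' hQs hsw
    apply ACtr_conj hQt s w hQs hsw (hMU' s w hsU' hwU' hQs hsw)
    rw [eichM_mulVec, polar_comm (⇑Q) s t, horth t htU s hsU', polar_comm (⇑Q) w t,
      horth t htU w hwU']
    simp
  have hU'A := eich_invariant_ge hU' (ACtr Q M t hQt) hAinv y hyA z hzU' hzy
  -- Step 3: `t` is a full centre; conjugate it to a non-orthogonal one
  have hC : ECtr Q M t := by
    refine ⟨hQt, fun w htw => ?_⟩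
    obtain ⟨a, ha, b, hb, rfl⟩ := hdec w
    have hta : polar (⇑Q) t a = 0 := by
      rw [polar_add_right, horth t htU b hb, add_zero] at htw
      exact htw
    exact ((ACtr Q M t hQt).add_mem (hA1 a ha hta) (hU'A b hb)).2
  obtain ⟨t₂, t₂', ht₂U, ht₂'U, hQt₂, hQt₂', htt₂, h1, h2, h3, h4⟩ := hU t t'
  obtain ⟨w₁, hw₁def⟩ : ∃ w₁, w₁ = t₂ + t₂' := ⟨_, rfl⟩
  have hw₁U : w₁ ∈ U := by rw [hw₁def]; exact U.add_mem ht₂U ht₂'U
  have hQw₁ : Q w₁ = 1 := by
    rw [hw₁def, Q_add', hQt₂, hQt₂', htt₂]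
    ring
  have htw₁ : polar (⇑Q) t w₁ = 0 := by rw [hw₁def, polar_add_right, h1, h3, add_zero]
  have ht'w₁ : polar (⇑Q) t' w₁ = 0 := by rw [hw₁def, polar_add_right, h2, h4, add_zero]
  obtain ⟨h, hhM, hh⟩ := hMU t' w₁ ht'U hw₁U hQt' ht'w₁
  have hC' := hC.conj h hhM (hMI h hhM)
  have hht : (h : Matrix ι ι F) *ᵥ t = t + w₁ - t' := by
    rw [hh, eichM_mulVec, polar_comm (⇑Q) t' t, htt', polar_comm (⇑Q) w₁ t, htw₁, hQw₁]
    simp
  have hβ : polar (⇑Q) t ((h : Matrix ι ι F) *ᵥ t) ≠ 0 := by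
    rw [hht, polar_sub_right, polar_add_right, polar_self', hQt, htw₁, htt']
    simp
  exact EG_le_of_all Q (ECtr.all hQ hC hC' hβ)

/-- injectivity of the linear map of an invertible matrix -/
lemma toLin_gl_injective (g : GL ι F) :
    Function.Injective (Matrix.toLin' (g : Matrix ι ι F)) := by
  intro x y hxy
  rw [Matrix.toLin'_apply, Matrix.toLin'_apply] at hxy
  have := congrArg (fun z => ((g⁻¹ : GL ι F) : Matrix ι ι F) *ᵥ z) hxy
  simpa only [gl_inv_apply_apply] using this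

lemma finrank_map_gl (g : GL ι F) (W : Submodule F (ι → F)) :
    Module.finrank F (W.map (Matrix.toLin' (g : Matrix ι ι F))) = Module.finrank F W :=
  (Submodule.equivMapOfInjective _ (toLin_gl_injective g) W).finrank_eq.symm

/-- an invertible matrix mapping `W` into `W'` of the same dimension maps `W` onto `W'` -/
lemma map_gl_eq_of_maps (g : GL ι F) (W W' : Submodule F (ι → F))
    (hdim : Module.finrank F W = Module.finrank F W')
    (h : ∀ x ∈ W, (g : Matrix ι ι F) *ᵥ x ∈ W') :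
    W.map (Matrix.toLin' (g : Matrix ι ι F)) = W' := by
  apply Submodule.eq_of_le_of_finrank_eq
  · rintro y ⟨x, hx, rfl⟩
    rw [Matrix.toLin'_apply]
    exact h x hx
  · rw [finrank_map_gl, hdim]

/-- **Stabiliser of `V = D 0 ⊥ D 1`.** For a decomposition of the space into two orthogonal
nondegenerate subspaces of dimension `k ≥ 7`, the stabiliser of the decomposition in `Ω` is a
maximal subgroup of `Ω` (finite field, any characteristic). -/
theorem decomp2_stab_max [Finite F] (hQ : (polarBilin Q).Nondegenerate)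
    (D : Fin 2 → Submodule F (ι → F)) (k : ℕ) (hk7 : 7 ≤ k)
    (hD : IsNondegenerateMDecomposition (polar (⇑Q)) k D) :
    IsMaximalIn (omegaGL ⇑Q) (decompositionStabilizer D ⊓ omegaGL ⇑Q) := by
  obtain ⟨U, hUdef⟩ : ∃ U, U = D 0 := ⟨_, rfl⟩
  obtain ⟨U', hU'def⟩ : ∃ U', U' = D 1 := ⟨_, rfl⟩
  have hfU : Module.finrank F U = k := by rw [hUdef]; exact hD.decomp.finrank_eq 0
  have hfU' : Module.finrank F U' = k := by rw [hU'def]; exact hD.decomp.finrank_eq 1
  have hn5 : 5 ≤ Fintype.card ι := by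
    have h1 := Submodule.finrank_le U
    rw [Module.finrank_fintype_fun_eq_card, hfU] at h1
    omega
  have horth : ∀ x ∈ U, ∀ y ∈ U', polar (⇑Q) x y = 0 := by
    rw [hUdef, hU'def]
    exact hD.orthogonal 0 1 (by decide)
  have hsup : U ⊔ U' = ⊤ := by
    apply le_antisymm le_top
    rw [← hD.decomp.iSup_eq_top]
    apply iSup_le
    intro i
    fin_cases i
    · rw [hUdef]; exact le_sup_left
    · rw [hU'def]; exact le_sup_right
  have hUnd : ∀ y ∈ U, y ≠ 0 → ∃ z ∈ U, polar (⇑Q) z y ≠ 0 := by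
    rw [hUdef]
    exact fun y hy hy0 => (hD.nondegenerate 0 y hy hy0).1
  have hU'nd : ∀ y ∈ U', y ≠ 0 → ∃ z ∈ U', polar (⇑Q) z y ≠ 0 := by
    rw [hU'def]
    exact fun y hy hy0 => (hD.nondegenerate 1 y hy hy0).1
  have hU : HypRich Q U := hypRich_of_nondeg Q U hUnd (by rw [hfU]; exact hk7)
  have hU' : HypRich Q U' := hypRich_of_nondeg Q U' hU'nd (by rw [hfU']; exact hk7)
  have hdisj : ∀ x, x ∈ U → x ∈ U' → x = 0 := by
    intro x hxU hxU'
    by_contra hx0
    obtain ⟨z, hz, hzx⟩ := hUnd x hxU hx0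
    exact hzx (horth z hz x hxU')
  have hdec : ∀ y : ι → F, ∃ a ∈ U, ∃ b ∈ U', a + b = y := by
    intro y
    have : y ∈ U ⊔ U' := by rw [hsup]; exact Submodule.mem_top
    exact Submodule.mem_sup.1 this
  have hperpU : ∀ y, (∀ z ∈ U, polar (⇑Q) z y = 0) → y ∈ U' := by
    intro y hy
    obtain ⟨a, ha, b, hb, rfl⟩ := hdec y
    have ha0 : a = 0 := by
      by_contra h
      obtain ⟨z, hz, hza⟩ := hUnd a ha h
      apply hza
      have h1 := hy z hz
      rwa [polar_add_right, horth z hz b hb, add_zero] at h1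
    rw [ha0, zero_add]
    exact hb
  have hΩE := omegaGL_le_EG Q hQ hn5
  have hΩI : ∀ g ∈ omegaGL ⇑Q, ∀ x, Q ((g : Matrix ι ι F) *ᵥ x) = Q x := by
    intro g hg x
    obtain ⟨g', _, rfl⟩ := Subgroup.mem_map.1 hg
    exact g'.2 x x
  -- membership in the decomposition stabiliser
  have hstab_id : ∀ g : GL ι F, (∀ x ∈ U, (g : Matrix ι ι F) *ᵥ x ∈ U) →
      (∀ x ∈ U', (g : Matrix ι ι F) *ᵥ x ∈ U') → g ∈ decompositionStabilizer D := by
    intro g h1 h2
    refine ⟨1, fun i => ?_⟩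
    fin_cases i
    · change (D 0).map _ = D 0
      rw [← hUdef]
      exact map_gl_eq_of_maps g U U rfl h1
    · change (D 1).map _ = D 1
      rw [← hU'def]
      exact map_gl_eq_of_maps g U' U' rfl h2
  have hstab_swap : ∀ g : GL ι F, (∀ x ∈ U, (g : Matrix ι ι F) *ᵥ x ∈ U') →
      (∀ x ∈ U', (g : Matrix ι ι F) *ᵥ x ∈ U) → g ∈ decompositionStabilizer D := by
    intro g h1 h2
    refine ⟨Equiv.swap 0 1, fun i => ?_⟩
    fin_cases i
    · change (D 0).map _ = D (Equiv.swap 0 1 0)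
      rw [Equiv.swap_apply_left, ← hUdef, ← hU'def]
      exact map_gl_eq_of_maps g U U' (by rw [hfU, hfU']) h1
    · change (D 1).map _ = D (Equiv.swap 0 1 1)
      rw [Equiv.swap_apply_right, ← hUdef, ← hU'def]
      exact map_gl_eq_of_maps g U' U (by rw [hfU, hfU']) h2
  -- Eichler transformations of `U` and of `U'` lie in `H`
  have hEH : ∀ s w (hs : Q s = 0) (hsw : polar (⇑Q) s w = 0), s ∈ U → w ∈ U →
      eichGL Q s w hs hsw ∈ decompositionStabilizer D ⊓ omegaGL ⇑Q := by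
    intro s w hs hsw hsU hwU
    refine ⟨hstab_id _ ?_ ?_, eichGL_mem_omegaGL Q hQ hn5 s w hs hsw⟩
    · intro x hx
      change eichM Q s w *ᵥ x ∈ U
      rw [eichM_mulVec]
      exact U.sub_mem (U.sub_mem (U.add_mem hx (U.smul_mem _ hwU)) (U.smul_mem _ hsU))
        (U.smul_mem _ hsU)
    · intro x hx
      change eichM Q s w *ᵥ x ∈ U'
      rw [eichM_mulVec, horth s hsU x hx, horth w hwU x hx]
      simpa using hx
  have hEH' : ∀ s w (hs : Q s = 0) (hsw : polar (⇑Q) s w = 0), s ∈ U' → w ∈ U' →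
      eichGL Q s w hs hsw ∈ decompositionStabilizer D ⊓ omegaGL ⇑Q := by
    intro s w hs hsw hsU' hwU'
    refine ⟨hstab_id _ ?_ ?_, eichGL_mem_omegaGL Q hQ hn5 s w hs hsw⟩
    · intro x hx
      change eichM Q s w *ᵥ x ∈ U
      rw [eichM_mulVec, polar_comm (⇑Q) s x, horth x hx s hsU', polar_comm (⇑Q) w x,
        horth x hx w hwU']
      simpa using hx
    · intro x hx
      change eichM Q s w *ᵥ x ∈ U'
      rw [eichM_mulVec]
      exact U'.sub_mem (U'.sub_mem (U'.add_mem hx (U'.smul_mem _ hwU')) (U'.smul_mem _ hsU'))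
        (U'.smul_mem _ hsU')
  constructor
  · refine SetLike.lt_iff_le_and_exists.2 ⟨inf_le_right, ?_⟩
    obtain ⟨t, t', htU, ht'U, hQt, hQt', htt', -, -, -, -⟩ := hU 0 0
    obtain ⟨t₂, t₂', ht₂U', ht₂'U', hQt₂, hQt₂', htt₂, -, -, -, -⟩ := hU' 0 0
    obtain ⟨w, hwdef⟩ : ∃ w, w = t₂ + t₂' := ⟨_, rfl⟩
    have hwU' : w ∈ U' := by rw [hwdef]; exact U'.add_mem ht₂U' ht₂'U'
    have hQw : Q w = 1 := by
      rw [hwdef, Q_add', hQt₂, hQt₂', htt₂]
      ring
    have htw : polar (⇑Q) t w = 0 := horth t htU w hwU'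
    refine ⟨eichGL Q t w hQt htw, eichGL_mem_omegaGL Q hQ hn5 t w hQt htw, ?_⟩
    rintro ⟨⟨σ, hσ⟩, -⟩
    have h1 : eichM Q t w *ᵥ t' ∈ D (σ 0) := by
      rw [← hσ 0]
      refine ⟨t', ?_, ?_⟩
      · rw [← hUdef]; exact ht'U
      · rw [Matrix.toLin'_apply]; rfl
    rw [eichM_mulVec, htt', polar_comm (⇑Q) w t', horth t' ht'U w hwU', hQw] at h1
    simp only [one_smul, zero_smul, sub_zero, mul_one] at h1
    have hσ0 : σ 0 = 0 ∨ σ 0 = 1 := by
      rcases Fin.exists_fin_two.1 ⟨σ 0, rfl⟩ with h | h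
      · left; exact h
      · right; exact h
    rcases hσ0 with h0 | h0
    · rw [h0, ← hUdef] at h1
      have h2 : w ∈ U := by
        have := U.add_mem (U.sub_mem h1 ht'U) htU
        have e : t' + w - t - t' + t = w := by abel
        rwa [e] at this
      have h3 := hdisj w h2 hwU'
      rw [h3, QuadraticMap.map_zero] at hQw
      exact zero_ne_one hQw
    · rw [h0, ← hU'def] at h1
      have h2 : t' - t ∈ U' := by
        have := U'.sub_mem h1 hwU'
        have e : t' + w - t - w = t' - t := by abel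
        rwa [e] at this
      have h3 := hdisj _ (U.sub_mem ht'U htU) h2
      have h4 : t' = t := sub_eq_zero.1 h3
      rw [h4, polar_self', hQt, mul_zero] at htt'
      exact zero_ne_one htt'
  · intro M hHM hMG
    by_cases hMH : M ≤ decompositionStabilizer D ⊓ omegaGL ⇑Q
    · left; exact le_antisymm hMH hHM
    · right
      apply le_antisymm hMG
      obtain ⟨g, hgM, hgH⟩ := SetLike.not_le_iff_exists.1 hMH
      have hgI := hΩI g (hMG hgM)
      have hgS : g ∉ decompositionStabilizer D := fun h => hgH ⟨h, hMG hgM⟩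
      have hpre : ∀ (W W' : Submodule F (ι → F)), Module.finrank F W = Module.finrank F W' →
          (∀ x ∈ W, (g : Matrix ι ι F) *ᵥ x ∈ W') →
          ∀ z ∈ W', ∃ z₀ ∈ W, (g : Matrix ι ι F) *ᵥ z₀ = z := by
        intro W W' hdim h z hz
        have h1 := map_gl_eq_of_maps g W W' hdim h
        rw [← h1] at hz
        obtain ⟨z₀, hz₀, hz₀z⟩ := hz
        exact ⟨z₀, hz₀, by rw [← hz₀z, Matrix.toLin'_apply]⟩
      refine le_trans hΩE (EG_le_of_decomp hQ U U' horth hsup hU hU' hUnd hU'nd M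
        (fun g' hg' => hΩI g' (hMG hg'))
        (fun s w hsU hwU hs hsw => ⟨eichGL Q s w hs hsw, hHM (hEH s w hs hsw hsU hwU), rfl⟩)
        (fun s w hsU' hwU' hs hsw => ⟨eichGL Q s w hs hsw, hHM (hEH' s w hs hsw hsU' hwU'), rfl⟩)
        g hgM ?_ ?_)
      · by_contra hcon
        push Not at hcon
        apply hgS
        apply hstab_id g hcon
        intro x' hx'
        apply hperpU
        intro z hz
        obtain ⟨z₀, hz₀, rfl⟩ := hpre U U rfl hcon z hz
        rw [polar_of_isometry Q _ hgI]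
        exact horth z₀ hz₀ x' hx'
      · by_contra hcon
        push Not at hcon
        apply hgS
        apply hstab_swap g _ hcon
        intro x hx
        apply hperpU
        intro z hz
        obtain ⟨z₀, hz₀, rfl⟩ := hpre U' U (by rw [hfU, hfU']) hcon z hz
        rw [polar_of_isometry Q _ hgI, polar_comm]
        exact horth x hx z₀ hz₀

end OrthDecomp

end Cfsg.Agent.Helper13
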