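import Mathlib
import Cfsg.Agent.Lib.Helper13.OrthDecomp

/-!
# Maximality of the stabiliser of a nondegenerate subspace in `Ω`

`V = U ⊥ U'` with `U` of dimension at least 7 and `U'` an arbitrary nondegenerate subspace
(irreducible under its reflections and Eichler transformations: `ReflIrr`).
-/

set_option autoImplicit false
set_option linter.unusedSectionVars false

namespace Cfsg.Agent.Helper13

open Matrix QuadraticMap Cfsg.Geo Module
open Cfsg.Agent.S0794 Cfsg.Agent.Helper14.ReflGen Cfsg.Agent.Helper93 Cfsg.Agent.Helper43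

section OrthNondeg

variable {F : Type*} [Field F] {ι : Type} [Fintype ι] [DecidableEq ι]
  (Q : QuadraticForm F (ι → F))

/-- nondegeneracy on a subspace, bundled -/
theorem nondeg_restrict (N : Submodule F (ι → F))
    (hN : ∀ y ∈ N, y ≠ 0 → ∃ z ∈ N, polar (⇑Q) z y ≠ 0) :
    (polarBilin (qrestrict Q N)).Nondegenerate := by
  constructor
  · intro x hx
    by_contra hx0
    have hx0' : (x : ι → F) ≠ 0 := fun h => hx0 (Subtype.ext h)
    obtain ⟨z, hz, hzx⟩ := hN x x.2 hx0'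
    apply hzx
    have h1 := hx ⟨z, hz⟩
    rw [polarBilin_apply_apply, polar_qrestrict] at h1
    rw [polar_comm]
    exact h1
  · intro y hy
    by_contra hy0
    have hy0' : (y : ι → F) ≠ 0 := fun h => hy0 (Subtype.ext h)
    obtain ⟨z, hz, hzy⟩ := hN y y.2 hy0'
    apply hzy
    have h1 := hy ⟨z, hz⟩
    rwa [polarBilin_apply_apply, polar_qrestrict] at h1

/-- hyperbolic partner inside a nondegenerate subspace -/
theorem exists_partner_in (N : Submodule F (ι → F))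
    (hN : ∀ y ∈ N, y ≠ 0 → ∃ z ∈ N, polar (⇑Q) z y ≠ 0) (s : ι → F) (hsN : s ∈ N) (hs0 : s ≠ 0)
    (hs : Q s = 0) : ∃ f ∈ N, Q f = 0 ∧ polar (⇑Q) s f = 1 := by
  obtain ⟨f, hf, hsf⟩ := exists_hyperbolic_partner (qrestrict Q N) (nondeg_restrict Q N hN)
    ⟨s, hsN⟩ (fun h => hs0 (congrArg Subtype.val h)) hs
  exact ⟨f, f.2, hf, hsf⟩

variable {Q}

/-- first half of the irreducibility lemma, with an explicit pair `w₀, w₁ ∈ s^⊥ ∩ N` -/
lemma eich_invariant_perp' {N : Submodule F (ι → F)} (T : AddSubgroup (ι → F))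
    (hT : ∀ s w, s ∈ N → w ∈ N → Q s = 0 → polar (⇑Q) s w = 0 → ∀ y ∈ T, eichM Q s w *ᵥ y ∈ T)
    (s : ι → F) (hsN : s ∈ N) (hs : Q s = 0) (y : ι → F) (hy : ∀ c : F, c • y ∈ T)
    (hsy : polar (⇑Q) s y ≠ 0) (w₀ w₁ : ι → F) (hw₀N : w₀ ∈ N) (hw₁N : w₁ ∈ N)
    (hsw₀ : polar (⇑Q) s w₀ = 0) (hsw₁ : polar (⇑Q) s w₁ = 0) (hw : polar (⇑Q) w₀ w₁ ≠ 0) :
    ∀ w ∈ N, polar (⇑Q) s w = 0 → w ∈ T := by
  obtain ⟨β, hβ⟩ : ∃ β, β = polar (⇑Q) s y := ⟨_, rfl⟩
  obtain ⟨γ, hγ⟩ : ∃ γ, γ = polar (⇑Q) w₀ w₁ := ⟨_, rfl⟩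
  have hβ0 : β ≠ 0 := by rw [hβ]; exact hsy
  have hγ0 : γ ≠ 0 := by rw [hγ]; exact hw
  have D : ∀ (c : F) (w : ι → F), w ∈ N → polar (⇑Q) s w = 0 →
      c • (β • w - (polar (⇑Q) w y + Q w * β) • s) ∈ T := by
    intro c w hwN hsw
    have h1 := hT s w hsN hwN hs hsw (c • y) (hy c)
    have h2 := T.sub_mem h1 (hy c)
    have e : eichM Q s w *ᵥ (c • y) - c • y = c • (β • w - (polar (⇑Q) w y + Q w * β) • s) := by
      rw [eichM_mulVec, polar_smul_right, polar_smul_right, ← hβ]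
      simp only [smul_eq_mul]
      module
    rwa [e] at h2
  have Fs : ∀ c : F, c • s ∈ T := by
    intro c
    have h1 := D (-(c * β⁻¹ * γ⁻¹)) (w₀ + w₁) (N.add_mem hw₀N hw₁N)
      (by rw [polar_add_right, hsw₀, hsw₁, add_zero])
    have h2 := D (-(c * β⁻¹ * γ⁻¹)) w₀ hw₀N hsw₀
    have h3 := D (-(c * β⁻¹ * γ⁻¹)) w₁ hw₁N hsw₁
    have h4 := T.sub_mem (T.sub_mem h1 h2) h3
    have hb : β⁻¹ * β = 1 := inv_mul_cancel₀ hβ0
    have hg : γ⁻¹ * γ = 1 := inv_mul_cancel₀ hγ0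
    have e : -(c * β⁻¹ * γ⁻¹) • (β • (w₀ + w₁) - (polar (⇑Q) (w₀ + w₁) y + Q (w₀ + w₁) * β) • s)
        - -(c * β⁻¹ * γ⁻¹) • (β • w₀ - (polar (⇑Q) w₀ y + Q w₀ * β) • s)
        - -(c * β⁻¹ * γ⁻¹) • (β • w₁ - (polar (⇑Q) w₁ y + Q w₁ * β) • s) = c • s := by
      rw [Q_add', ← hγ, polar_add_left]
      have e2 : c • s = (c * (β⁻¹ * β) * (γ⁻¹ * γ)) • s := by rw [hb, hg, mul_one, mul_one]
      rw [e2]
      module
    rwa [e] at h4
  intro w hwN hsw
  have h1 := D β⁻¹ w hwN hsw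
  have h2 := Fs (β⁻¹ * (polar (⇑Q) w y + Q w * β))
  have h3 := T.add_mem h1 h2
  have e : β⁻¹ • (β • w - (polar (⇑Q) w y + Q w * β) • s)
      + (β⁻¹ * (polar (⇑Q) w y + Q w * β)) • s = w := by
    rw [smul_sub, smul_smul, smul_smul, inv_mul_cancel₀ hβ0, one_smul]
    abel
  rwa [e] at h3

/-- irreducibility lemma for a nondegenerate subspace of dimension at least 3 over a finite field -/
theorem eich_invariant_ge' [Finite F] {N : Submodule F (ι → F)}
    (hN : ∀ y ∈ N, y ≠ 0 → ∃ z ∈ N, polar (⇑Q) z y ≠ 0) (hdim : 3 ≤ finrank F N)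
    (T : AddSubgroup (ι → F))
    (hT : ∀ s w, s ∈ N → w ∈ N → Q s = 0 → polar (⇑Q) s w = 0 → ∀ y ∈ T, eichM Q s w *ᵥ y ∈ T)
    (y : ι → F) (hy : ∀ c : F, c • y ∈ T) (z : ι → F) (hz : z ∈ N) (hzy : polar (⇑Q) z y ≠ 0) :
    ∀ x ∈ N, x ∈ T := by
  obtain ⟨s₀', hs₀'0, hQs₀'⟩ := exists_singular (qrestrict Q N) (nondeg_restrict Q N hN) hdim
  obtain ⟨s₀, hs₀def⟩ : ∃ s₀ : ι → F, s₀ = (s₀' : ι → F) := ⟨_, rfl⟩
  have hs₀N : s₀ ∈ N := by rw [hs₀def]; exact s₀'.2
  have hs₀0 : s₀ ≠ 0 := by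
    rw [hs₀def]
    exact fun h => hs₀'0 (Subtype.ext h)
  have hQs₀ : Q s₀ = 0 := by rw [hs₀def]; exact hQs₀'
  obtain ⟨f₀, hf₀N, hQf₀, hsf₀⟩ := exists_partner_in Q N hN s₀ hs₀N hs₀0 hQs₀
  have hs₀s₀ : polar (⇑Q) s₀ s₀ = 0 := by rw [polar_self', hQs₀, mul_zero]
  have hf₀f₀ : polar (⇑Q) f₀ f₀ = 0 := by rw [polar_self', hQf₀, mul_zero]
  have hfs₀ : polar (⇑Q) f₀ s₀ = 1 := by rw [polar_comm]; exact hsf₀
  -- a singular vector of `N` not orthogonal to `y`
  obtain ⟨s, hsN, hQs, hsy⟩ : ∃ s ∈ N, Q s = 0 ∧ polar (⇑Q) s y ≠ 0 := by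
    by_cases h1 : polar (⇑Q) s₀ y ≠ 0
    · exact ⟨s₀, hs₀N, hQs₀, h1⟩
    by_cases h2 : polar (⇑Q) f₀ y ≠ 0
    · exact ⟨f₀, hf₀N, hQf₀, h2⟩
    push Not at h1 h2
    obtain ⟨z₁, hz₁def⟩ : ∃ z₁, z₁ = z - polar (⇑Q) f₀ z • s₀ - polar (⇑Q) s₀ z • f₀ := ⟨_, rfl⟩
    have hz₁N : z₁ ∈ N := by
      rw [hz₁def]
      exact N.sub_mem (N.sub_mem hz (N.smul_mem _ hs₀N)) (N.smul_mem _ hf₀N)
    have hs₀z₁ : polar (⇑Q) s₀ z₁ = 0 := by
      rw [hz₁def, polar_sub_right, polar_sub_right, polar_smul_right, polar_smul_right, hs₀s₀,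
        hsf₀]
      simp
    have hf₀z₁ : polar (⇑Q) f₀ z₁ = 0 := by
      rw [hz₁def, polar_sub_right, polar_sub_right, polar_smul_right, polar_smul_right, hf₀f₀,
        hfs₀]
      simp
    have hz₁y : polar (⇑Q) z₁ y = polar (⇑Q) z y := by
      rw [hz₁def, polar_sub_left, polar_sub_left, polar_smul_left, polar_smul_left, h1, h2]
      simp
    refine ⟨f₀ + (z₁ + (-(Q z₁)) • s₀), N.add_mem hf₀N (N.add_mem hz₁N (N.smul_mem _ hs₀N)),
      ?_, ?_⟩
    · rw [Q_add', Q_add', Q_smul', hQf₀, hQs₀, polar_smul_right, polar_comm (⇑Q) z₁ s₀, hs₀z₁,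
        polar_add_right, polar_smul_right, hf₀z₁, hfs₀]
      simp only [smul_eq_mul]
      ring
    · rw [polar_add_left, polar_add_left, polar_smul_left, h1, h2, hz₁y]
      simpa using hzy
  have hs0 : s ≠ 0 := by
    rintro rfl
    apply hsy
    exact polar_zero_left _ _
  obtain ⟨f, hfN, hQf, hsf⟩ := exists_partner_in Q N hN s hsN hs0 hQs
  have hss : polar (⇑Q) s s = 0 := by rw [polar_self', hQs, mul_zero]
  have hff : polar (⇑Q) f f = 0 := by rw [polar_self', hQf, mul_zero]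
  have hfs : polar (⇑Q) f s = 1 := by rw [polar_comm]; exact hsf
  -- projection to `{s, f}^⊥`
  have hproj : ∀ x ∈ N, ∃ x₀ ∈ N, x₀ = x - polar (⇑Q) f x • s - polar (⇑Q) s x • f ∧
      polar (⇑Q) s x₀ = 0 ∧ polar (⇑Q) f x₀ = 0 := by
    intro x hx
    refine ⟨_, N.sub_mem (N.sub_mem hx (N.smul_mem _ hsN)) (N.smul_mem _ hfN), rfl, ?_, ?_⟩
    · rw [polar_sub_right, polar_sub_right, polar_smul_right, polar_smul_right, hss, hsf]
      simp
    · rw [polar_sub_right, polar_sub_right, polar_smul_right, polar_smul_right, hff, hfs]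
      simp
  -- a vector of `N` outside `span {s, f}`
  obtain ⟨x, hxN, hxsf⟩ : ∃ x ∈ N, x ∉ Submodule.span F ({s, f} : Set (ι → F)) := by
    by_contra hcon
    push Not at hcon
    have hle : N ≤ Submodule.span F ({s, f} : Set (ι → F)) := fun x hx => hcon x hx
    have h1 := Submodule.finrank_mono hle
    have hspan : finrank F (Submodule.span F ({s, f} : Set (ι → F))) ≤ 2 := by
      classical
      have := finrank_span_finset_le_card (R := F) ({s, f} : Finset (ι → F))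
      rw [Finset.coe_insert, Finset.coe_singleton] at this
      exact le_trans this Finset.card_le_two
    omega
  obtain ⟨w₀, hw₀N, hw₀def, hsw₀, hfw₀⟩ := hproj x hxN
  have hw₀0 : w₀ ≠ 0 := by
    intro h
    apply hxsf
    have e : x = polar (⇑Q) f x • s + polar (⇑Q) s x • f := by
      have h1 : x - polar (⇑Q) f x • s - polar (⇑Q) s x • f = 0 := by rw [← hw₀def, h]
      have h2 := sub_eq_zero.1 h1
      have h3 := sub_eq_iff_eq_add.1 h2
      rw [add_comm]
      exact h3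
    rw [e]
    exact Submodule.add_mem _ (Submodule.smul_mem _ _ (Submodule.subset_span (by simp)))
      (Submodule.smul_mem _ _ (Submodule.subset_span (by simp)))
  obtain ⟨z', hz'N, hz'w₀⟩ := hN w₀ hw₀N hw₀0
  obtain ⟨w₁, hw₁N, hw₁def, hsw₁, hfw₁⟩ := hproj z' hz'N
  have hw₀w₁ : polar (⇑Q) w₀ w₁ ≠ 0 := by
    rw [hw₁def, polar_sub_right, polar_sub_right, polar_smul_right, polar_smul_right,
      polar_comm (⇑Q) w₀ s, hsw₀, polar_comm (⇑Q) w₀ f, hfw₀, polar_comm (⇑Q) w₀ z']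
    simpa using hz'w₀
  have h1 := eich_invariant_perp' T hT s hsN hQs y hy hsy w₀ w₁ hw₀N hw₁N hsw₀ hsw₁ hw₀w₁
  have hFs : ∀ c : F, c • s ∈ T := fun c =>
    h1 _ (N.smul_mem c hsN) (by rw [polar_smul_right, hss, smul_zero])
  have h2 := eich_invariant_perp' T hT f hfN hQf s hFs (by rw [hfs]; exact one_ne_zero) w₀ w₁
    hw₀N hw₁N hfw₀ hfw₁ hw₀w₁
  intro x' hx'
  have h4 : x' - polar (⇑Q) f x' • s ∈ T := by
    apply h2 _ (N.sub_mem hx' (N.smul_mem _ hsN))
    rw [polar_sub_right, polar_smul_right, hfs]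
    simp
  have h5 := T.add_mem h4 (hFs (polar (⇑Q) f x'))
  rwa [sub_add_cancel] at h5

variable (Q)

/-- `N` is irreducible under its reflections and Eichler transformations (additive-subgroup
version, as needed for the Eichler centre argument) -/
def ReflIrr (N : Submodule F (ι → F)) : Prop :=
  ∀ T : AddSubgroup (ι → F),
    (∀ a ∈ N, Q a ≠ 0 → ∀ y ∈ T, y ∈ N → Cfsg.reflectionMatrix (⇑Q) a *ᵥ y ∈ T) →
    (∀ s w, s ∈ N → w ∈ N → Q s = 0 → polar (⇑Q) s w = 0 → ∀ y ∈ T, eichM Q s w *ᵥ y ∈ T) →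
    ∀ y ∈ N, y ≠ 0 → (∀ c : F, c • y ∈ T) → ∀ x ∈ N, x ∈ T

theorem reflIrr_of_three_le [Finite F] (N : Submodule F (ι → F))
    (hN : ∀ y ∈ N, y ≠ 0 → ∃ z ∈ N, polar (⇑Q) z y ≠ 0) (hdim : 3 ≤ finrank F N) :
    ReflIrr Q N := by
  intro T _ hE y hyN hy0 hyT
  obtain ⟨z, hz, hzy⟩ := hN y hyN hy0
  exact eich_invariant_ge' hN hdim T hE y hyT z hz hzy

theorem reflIrr_of_finrank_one (N : Submodule F (ι → F)) (hdim : finrank F N = 1) :
    ReflIrr Q N := by
  intro T _ _ y hyN hy0 hyT x hx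
  have h1 := (finrank_eq_one_iff_of_nonzero' (⟨y, hyN⟩ : N)
    (fun h => hy0 (congrArg Subtype.val h))).1 hdim ⟨x, hx⟩
  obtain ⟨c, hc⟩ := h1
  have h2 : c • y = x := congrArg Subtype.val hc
  rw [← h2]
  exact hyT c

/-- a 2-dimensional nondegenerate subspace, not a hyperbolic plane over a field with at most 3
elements, is irreducible under its reflections -/
theorem reflIrr_of_finrank_two [Fintype F] (N : Submodule F (ι → F))
    (hN : ∀ y ∈ N, y ≠ 0 → ∃ z ∈ N, polar (⇑Q) z y ≠ 0) (hdim : finrank F N = 2)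
    (hq : (∃ s ∈ N, s ≠ 0 ∧ Q s = 0) → 4 ≤ Fintype.card F) : ReflIrr Q N := by
  intro T hR _ y hyN hy0 hyT
  -- a nonsingular `a ∈ N`, not orthogonal to `y` and not a multiple of `y`
  obtain ⟨a, haN, hQa, hay, hnot⟩ : ∃ a ∈ N, Q a ≠ 0 ∧ polar (⇑Q) a y ≠ 0 ∧
      ∀ μ : F, a ≠ μ • y := by
    by_cases hsing : ∃ s ∈ N, s ≠ 0 ∧ Q s = 0
    · have hq4 := hq hsing
      obtain ⟨s, hsN, hs0, hQs⟩ := hsing
      obtain ⟨f, hfN, hQf, hsf⟩ := exists_partner_in Q N hN s hsN hs0 hQs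
      have hss : polar (⇑Q) s s = 0 := by rw [polar_self', hQs, mul_zero]
      have hff : polar (⇑Q) f f = 0 := by rw [polar_self', hQf, mul_zero]
      have hfs : polar (⇑Q) f s = 1 := by rw [polar_comm]; exact hsf
      obtain ⟨α, hα⟩ : ∃ α, α = polar (⇑Q) f y := ⟨_, rfl⟩
      obtain ⟨β, hβ⟩ : ∃ β, β = polar (⇑Q) s y := ⟨_, rfl⟩
      have key : ∀ lam : F, lam ≠ 0 → β + lam * α ≠ 0 → (α ≠ 0 → lam * α ≠ β) →
          ∃ a ∈ N, Q a ≠ 0 ∧ polar (⇑Q) a y ≠ 0 ∧ ∀ μ : F, a ≠ μ • y := by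
        intro lam hlam h1 h2
        refine ⟨s + lam • f, N.add_mem hsN (N.smul_mem _ hfN), ?_, ?_, ?_⟩
        · rw [Q_add', Q_smul', hQs, hQf, polar_smul_right, hsf]
          simpa using hlam
        · rw [polar_add_left, polar_smul_left, ← hα, ← hβ]
          exact h1
        · intro μ hμ
          have e1 : polar (⇑Q) f (s + lam • f) = 1 := by
            rw [polar_add_right, polar_smul_right, hfs, hff]
            simp
          have e2 : polar (⇑Q) s (s + lam • f) = lam := by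
            rw [polar_add_right, polar_smul_right, hss, hsf]
            simp
          rw [hμ, polar_smul_right, ← hα, smul_eq_mul] at e1
          rw [hμ, polar_smul_right, ← hβ, smul_eq_mul] at e2
          have hα0 : α ≠ 0 := by
            rintro h
            rw [h, mul_zero] at e1
            exact zero_ne_one e1
          apply h2 hα0
          rw [← e2]
          calc μ * β * α = (μ * α) * β := by ring
            _ = β := by rw [e1, one_mul]
      by_cases hα0 : α = 0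
      · have hβ0 : β ≠ 0 := by
          intro hβ0
          obtain ⟨z, hzN, hzy⟩ := hN y hyN hy0
          -- `y ⊥ s, f`, and `N = span {s, f}` is 2-dimensional: contradiction
          have hli : LinearIndependent F ![s, f, y] := by
            rw [Fintype.linearIndependent_iff]
            intro c hc
            rw [Fin.sum_univ_three] at hc
            simp only [Matrix.cons_val_zero, Matrix.cons_val_one, Matrix.cons_val_two,
              Matrix.head_cons, Matrix.tail_cons] at hc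
            have h0 : c 0 = 0 := by
              have h1 := congrArg (fun v => polar (⇑Q) f v) hc
              simp only [polar_add_right, polar_smul_right, hfs, hff, ← hα, hα0,
                polar_zero_right, smul_eq_mul, mul_one, mul_zero, add_zero] at h1
              exact h1
            have h1 : c 1 = 0 := by
              have h1 := congrArg (fun v => polar (⇑Q) s v) hc
              simp only [polar_add_right, polar_smul_right, hss, hsf, ← hβ, hβ0,
                polar_zero_right, smul_eq_mul, mul_one, mul_zero, add_zero, zero_add] at h1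
              exact h1
            rw [h0, h1, zero_smul, zero_smul, zero_add, zero_add] at hc
            have h2 : c 2 = 0 := (smul_eq_zero.1 hc).resolve_right hy0
            intro i
            fin_cases i
            · exact h0
            · exact h1
            · exact h2
          have hli' : LinearIndependent F (fun i : Fin 3 =>
              (⟨![s, f, y] i, by
                fin_cases i
                · exact hsN
                · exact hfN
                · exact hyN⟩ : N)) := by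
            apply LinearIndependent.of_comp N.subtype
            convert hli using 1
            funext i
            fin_cases i <;> rfl
          have := hli'.fintype_card_le_finrank
          rw [hdim, Fintype.card_fin] at this
          omega
        exact key 1 one_ne_zero (by rw [hα0, mul_zero, add_zero]; exact hβ0)
          (fun h => absurd hα0 h)
      · -- choose `lam` outside `{0, -β/α, β/α}`
        classical
        obtain ⟨lam, hlam⟩ : ∃ lam : F, lam ∉ ({0, -β / α, β / α} : Finset F) := by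
          by_contra hcon
          push Not at hcon
          have h1 : (Finset.univ : Finset F) ⊆ {0, -β / α, β / α} := fun x _ => hcon x
          have h2 := Finset.card_le_card h1
          rw [Finset.card_univ] at h2
          have h3 : ({0, -β / α, β / α} : Finset F).card ≤ 3 := Finset.card_le_three
          omega
        simp only [Finset.mem_insert, Finset.mem_singleton, not_or] at hlam
        obtain ⟨hl0, hl1, hl2⟩ := hlam
        refine key lam hl0 ?_ ?_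
        · intro h
          apply hl1
          field_simp
          linear_combination h
        · intro _ h
          apply hl2
          field_simp
          exact h
    · push Not at hsing
      have haniso : ∀ a ∈ N, a ≠ 0 → Q a ≠ 0 := fun a ha ha0 h => ha0 (by
        by_contra h0
        exact hsing a ha h0 h)
      obtain ⟨z, hzN, hzy⟩ := hN y hyN hy0
      by_cases hzm : ∀ μ : F, z ≠ μ • y
      · refine ⟨z, hzN, haniso z hzN ?_, hzy, hzm⟩
        rintro rfl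
        exact hzy (polar_zero_left _ _)
      · push Not at hzm
        obtain ⟨μ₀, hμ₀⟩ := hzm
        have hyy : polar (⇑Q) y y ≠ 0 := by
          intro h
          apply hzy
          rw [hμ₀, polar_smul_left, h, smul_zero]
        obtain ⟨x, hxN, hx⟩ : ∃ x ∈ N, ∀ μ : F, x ≠ μ • y := by
          by_contra hcon
          push Not at hcon
          have hle : N ≤ Submodule.span F {y} := by
            intro x hx
            obtain ⟨μ, hμ⟩ := hcon x hx
            rw [hμ]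
            exact Submodule.smul_mem _ _ (Submodule.mem_span_singleton_self y)
          have h1 := Submodule.finrank_mono hle
          have h2 : finrank F (Submodule.span F {y}) = 1 := finrank_span_singleton hy0
          omega
        by_cases hxy : polar (⇑Q) x y ≠ 0
        · refine ⟨x, hxN, haniso x hxN ?_, hxy, hx⟩
          rintro rfl
          exact hxy (polar_zero_left _ _)
        · push Not at hxy
          have hne : ∀ μ : F, x + y ≠ μ • y := by
            intro μ hμ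
            apply hx (μ - 1)
            rw [sub_smul, one_smul, ← hμ]
            abel
          refine ⟨x + y, N.add_mem hxN hyN, haniso _ (N.add_mem hxN hyN) ?_, ?_, hne⟩
          · intro h
            apply hne 0
            rw [h, zero_smul]
          · rw [polar_add_left, hxy, zero_add]
            exact hyy
  -- `F a ⊆ T`
  have hFa : ∀ c : F, c • a ∈ T := by
    intro c
    obtain ⟨c', hc'⟩ : ∃ c', c' = -(c * (polar (⇑Q) a y)⁻¹ * Q a) := ⟨_, rfl⟩
    have h1 := hR a haN hQa (c' • y) (hyT c') (N.smul_mem _ hyN)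
    have h2 := T.sub_mem h1 (hyT c')
    rw [reflectionMatrix_mulVec, polar_smul_right, smul_eq_mul] at h2
    have e : c' • y - ((Q a)⁻¹ * (c' * polar (⇑Q) a y)) • a - c' • y = c • a := by
      have h3 : (Q a)⁻¹ * (c' * polar (⇑Q) a y) = -c := by
        rw [hc']
        field_simp
      rw [h3]
      module
    rwa [e] at h2
  -- `N = span {y, a}`
  intro x hx
  have hli : LinearIndependent F ![y, a] := by
    rw [LinearIndependent.pair_iff' hy0]
    intro μ hμ
    exact hnot μ hμ.symm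
  have hspan : Submodule.span F (Set.range ![y, a]) = N := by
    apply Submodule.eq_of_le_of_finrank_eq
    · rw [Submodule.span_le]
      rintro v ⟨i, rfl⟩
      fin_cases i
      · exact hyN
      · exact haN
    · rw [finrank_span_eq_card hli, hdim, Fintype.card_fin]
  rw [← hspan] at hx
  have hx' : x ∈ Submodule.span F ({y, a} : Set (ι → F)) := by
    have e : Set.range ![y, a] = ({y, a} : Set (ι → F)) := by
      ext v
      simp [eq_comm, or_comm]
    rwa [e] at hx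
  obtain ⟨c₁, c₂, rfl⟩ := Submodule.mem_span_pair.1 hx'
  exact T.add_mem (hyT c₁) (hFa c₂)

variable {Q}

/-- an isometry in `M` fixing `u` maps `ACtr M u` into itself -/
lemma ACtr_conj_gl {M : Subgroup (GL ι F)} {u : ι → F} (hu : Q u = 0) (m : GL ι F) (hmM : m ∈ M)
    (hI : ∀ x, Q ((m : Matrix ι ι F) *ᵥ x) = Q x) (hfix : (m : Matrix ι ι F) *ᵥ u = u) :
    ∀ a ∈ ACtr Q M u hu, (m : Matrix ι ι F) *ᵥ a ∈ ACtr Q M u hu := by
  rintro a ⟨hua, g', hg'M, hg'⟩
  refine ⟨?_, m * g' * m⁻¹, M.mul_mem (M.mul_mem hmM hg'M) (M.inv_mem hmM), ?_⟩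
  · have h1 := polar_of_isometry Q _ hI u a
    rw [hfix] at h1
    rw [h1]
    exact hua
  · have hMM' : (m : Matrix ι ι F) * ((m⁻¹ : GL ι F) : Matrix ι ι F) = 1 := by
      rw [← Units.val_mul, mul_inv_cancel, Units.val_one]
    rw [Units.val_mul, Units.val_mul, hg', eichM_conj Q _ _ hMM' hI, hfix]

/-- **Main criterion, general complement.** `V = U ⊥ U'` with `U` nondegenerate and
hyperbolic-rich, `U'` nondegenerate and irreducible under its reflections and Eichler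
transformations; `M` a group of isometries containing the Eichler transformations of `U` and of
`U'` and the products `r_a r_b` (`a ∈ U'`, `b ∈ U`, `Q a = Q b ≠ 0`), and an element `g` with
`g U ⊄ U` and `g⁻¹ U ⊄ U'`. Then `M` contains all Eichler transformations. -/
theorem EG_le_of_nondeg (hQ : (polarBilin Q).Nondegenerate) (U U' : Submodule F (ι → F))
    (horth : ∀ x ∈ U, ∀ y ∈ U', polar (⇑Q) x y = 0) (hsup : U ⊔ U' = ⊤)
    (hU : HypRich Q U)
    (hUnd : ∀ y ∈ U, y ≠ 0 → ∃ z ∈ U, polar (⇑Q) z y ≠ 0)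
    (hU'nd : ∀ y ∈ U', y ≠ 0 → ∃ z ∈ U', polar (⇑Q) z y ≠ 0)
    (hU'irr : ReflIrr Q U')
    (M : Subgroup (GL ι F)) (hMI : ∀ g ∈ M, ∀ x, Q ((g : Matrix ι ι F) *ᵥ x) = Q x)
    (hMU : ∀ s w, s ∈ U → w ∈ U → Q s = 0 → polar (⇑Q) s w = 0 →
      ∃ g ∈ M, (g : Matrix ι ι F) = eichM Q s w)
    (hMU' : ∀ s w, s ∈ U' → w ∈ U' → Q s = 0 → polar (⇑Q) s w = 0 →
      ∃ g ∈ M, (g : Matrix ι ι F) = eichM Q s w)
    (hMR : ∀ a b, a ∈ U' → b ∈ U → Q a ≠ 0 → Q b = Q a → ∃ g ∈ M, (g : Matrix ι ι F) =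
      Cfsg.reflectionMatrix (⇑Q) a * Cfsg.reflectionMatrix (⇑Q) b)
    (g : GL ι F) (hgM : g ∈ M) (hg1 : ∃ x ∈ U, (g : Matrix ι ι F) *ᵥ x ∉ U)
    (hg2 : ∃ y, (g : Matrix ι ι F) *ᵥ y ∈ U ∧ y ∉ U') : EG Q ≤ M := by
  have hdec : ∀ y : ι → F, ∃ a ∈ U, ∃ b ∈ U', a + b = y := by
    intro y
    have : y ∈ U ⊔ U' := by rw [hsup]; exact Submodule.mem_top
    exact Submodule.mem_sup.1 this
  have hperpU : ∀ y, (∀ z ∈ U, polar (⇑Q) z y = 0) → y ∈ U' := by
    intro y hy
    obtain ⟨a, ha, b, hb, rfl⟩ := hdec y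
    have ha0 : a = 0 := by
      by_contra h
      obtain ⟨z, hz, hza⟩ := hUnd a ha h
      apply hza
      have h1 := hy z hz
      rwa [polar_add_right, horth z hz b hb, add_zero] at h1
    rw [ha0, zero_add]
    exact hb
  have hgI := hMI g hgM
  have hMM' : (g : Matrix ι ι F) * ((g⁻¹ : GL ι F) : Matrix ι ι F) = 1 := by
    rw [← Units.val_mul, mul_inv_cancel, Units.val_one]
  -- Step 0: an Eichler transformation in `M` not mapping `U` into itself
  have step0 : ∃ p r, Q p = 0 ∧ polar (⇑Q) p r = 0 ∧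
      (∃ m ∈ M, (m : Matrix ι ι F) = eichM Q p r) ∧ ∃ x ∈ U, eichM Q p r *ᵥ x ∉ U := by
    by_contra hcon
    push Not at hcon
    obtain ⟨Y, hYdef⟩ : ∃ Y : Submodule F (ι → F),
        Y = U.comap (Matrix.toLin' (g : Matrix ι ι F)) := ⟨_, rfl⟩
    have hYmem : ∀ y, y ∈ Y ↔ (g : Matrix ι ι F) *ᵥ y ∈ U := by
      intro y
      rw [hYdef, Submodule.mem_comap, Matrix.toLin'_apply]
    have hYinv : ∀ s w, Q s = 0 → polar (⇑Q) s w = 0 →
        (∃ m ∈ M, (m : Matrix ι ι F) = eichM Q s w) → ∀ y ∈ Y, eichM Q s w *ᵥ y ∈ Y := by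
      rintro s w hs hsw ⟨m, hmM, hm⟩ y hy
      rw [hYmem] at hy ⊢
      have hconj := eichM_conj Q _ _ hMM' hgI s w
      have h1 : (g : Matrix ι ι F) *ᵥ (eichM Q s w *ᵥ y)
          = eichM Q ((g : Matrix ι ι F) *ᵥ s) ((g : Matrix ι ι F) *ᵥ w)
            *ᵥ ((g : Matrix ι ι F) *ᵥ y) := by
        rw [← hconj, ← Matrix.mulVec_mulVec, ← Matrix.mulVec_mulVec, gl_inv_apply_apply]
      rw [h1]
      exact hcon _ _ (by rw [hgI, hs]) (by rw [polar_of_isometry Q _ hgI, hsw])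
        ⟨g * m * g⁻¹, M.mul_mem (M.mul_mem hgM hmM) (M.inv_mem hgM),
          by rw [Units.val_mul, Units.val_mul, hm, hconj]⟩ _ hy
    obtain ⟨x1, hx1U, hx1⟩ := hg1
    obtain ⟨y₀, hy₀U, hy₀U'⟩ := hg2
    have hy₀Y : y₀ ∈ Y := (hYmem y₀).2 hy₀U
    obtain ⟨z, hz, hzy⟩ : ∃ z ∈ U, polar (⇑Q) z y₀ ≠ 0 := by
      by_contra hc
      push Not at hc
      exact hy₀U' (hperpU y₀ hc)
    have h1 := eich_invariant_ge hU Y.toAddSubgroup
      (fun s w hs hw hQs hsw y hy => hYinv s w hQs hsw (hMU s w hs hw hQs hsw) y hy) y₀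
      (fun c => Y.smul_mem c hy₀Y) z hz hzy
    exact hx1 ((hYmem x1).1 (h1 x1 hx1U))
  obtain ⟨p, r, hp, hpr, hm, x₀, hx₀U, hmx₀⟩ := step0
  -- Step 1: a singular centre `t ∈ U` fixed by `m` and `x ∈ t^⊥ ∩ U` with `m x ∉ U`
  obtain ⟨t, t', htU, ht'U, hQt, hQt', htt', hpt, hrt, hpt', hrt'⟩ := hU p r
  have hmt : eichM Q p r *ᵥ t = t := by
    rw [eichM_mulVec, hpt, hrt]
    simp
  have hmt' : eichM Q p r *ᵥ t' = t' := by
    rw [eichM_mulVec, hpt', hrt']
    simp
  obtain ⟨x, hxdef⟩ : ∃ x, x = x₀ - polar (⇑Q) t x₀ • t' := ⟨_, rfl⟩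
  have hxU : x ∈ U := by
    rw [hxdef]
    exact U.sub_mem hx₀U (U.smul_mem _ ht'U)
  have htx : polar (⇑Q) t x = 0 := by
    rw [hxdef, polar_sub_right, polar_smul_right, htt']
    simp
  have hmx : eichM Q p r *ᵥ x ∉ U := by
    rw [hxdef, Matrix.mulVec_sub, Matrix.mulVec_smul, hmt']
    intro h
    apply hmx₀
    have h1 := U.add_mem h (U.smul_mem (polar (⇑Q) t x₀) ht'U)
    rwa [sub_add_cancel] at h1
  have hA1 : ∀ a ∈ U, polar (⇑Q) t a = 0 → a ∈ ACtr Q M t hQt :=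
    fun a ha hta => ⟨hta, hMU t a htU ha hQt hta⟩
  have hA2 := ACtr_conj (M := M) hQt p r hp hpr hm hmt
  obtain ⟨y, hydef⟩ : ∃ y, y = eichM Q p r *ᵥ x - x := ⟨_, rfl⟩
  have hyA : ∀ c : F, c • y ∈ ACtr Q M t hQt := by
    intro c
    have h1 : c • x ∈ ACtr Q M t hQt :=
      hA1 _ (U.smul_mem c hxU) (by rw [polar_smul_right, htx, smul_zero])
    have h2 := hA2 _ h1
    have h3 := (ACtr Q M t hQt).sub_mem h2 h1
    rwa [Matrix.mulVec_smul, ← smul_sub, ← hydef] at h3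
  have hyU : y ∉ U := by
    intro h
    apply hmx
    have h1 := U.add_mem h hxU
    rwa [hydef, sub_add_cancel] at h1
  -- the `U'`-component of `y`
  obtain ⟨y₁, hy₁U, y₂, hy₂U', hy12⟩ := hdec y
  have hy₂0 : y₂ ≠ 0 := by
    rintro rfl
    apply hyU
    rw [← hy12, add_zero]
    exact hy₁U
  have hty : polar (⇑Q) t y = 0 := by
    have := hyA 1
    rw [one_smul] at this
    exact this.1
  have hty₁ : polar (⇑Q) t y₁ = 0 := by
    rw [← hy12, polar_add_right, horth t htU y₂ hy₂U', add_zero] at hty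
    exact hty
  have hy₂A : ∀ c : F, c • y₂ ∈ ACtr Q M t hQt := by
    intro c
    have h1 : c • y₁ ∈ ACtr Q M t hQt :=
      hA1 _ (U.smul_mem c hy₁U) (by rw [polar_smul_right, hty₁, smul_zero])
    have h2 := (ACtr Q M t hQt).sub_mem (hyA c) h1
    rwa [← hy12, smul_add, add_sub_cancel_left] at h2
  -- Step 2: `U' ⊆ ACtr M t`
  have hAinv : ∀ s w, s ∈ U' → w ∈ U' → Q s = 0 → polar (⇑Q) s w = 0 →
      ∀ a ∈ ACtr Q M t hQt, eichM Q s w *ᵥ a ∈ ACtr Q M t hQt := by
    intro s w hsU' hwU' hQs hsw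
    apply ACtr_conj hQt s w hQs hsw (hMU' s w hsU' hwU' hQs hsw)
    rw [eichM_mulVec, polar_comm (⇑Q) s t, horth t htU s hsU', polar_comm (⇑Q) w t,
      horth t htU w hwU']
    simp
  obtain ⟨t₃, t₃', ht₃U, ht₃'U, hQt₃, hQt₃', htt₃, ht3a, -, ht3b, -⟩ := hU t t
  have hAR : ∀ a ∈ U', Q a ≠ 0 → ∀ v ∈ ACtr Q M t hQt, v ∈ U' →
      Cfsg.reflectionMatrix (⇑Q) a *ᵥ v ∈ ACtr Q M t hQt := by
    intro a haU' hQa v hvA hvU'
    obtain ⟨b, hbdef⟩ : ∃ b, b = t₃ + Q a • t₃' := ⟨_, rfl⟩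
    have hbU : b ∈ U := by rw [hbdef]; exact U.add_mem ht₃U (U.smul_mem _ ht₃'U)
    have hQb : Q b = Q a := by
      rw [hbdef, Q_add', Q_smul', hQt₃, hQt₃', polar_smul_right, htt₃]
      simp
    have htb : polar (⇑Q) t b = 0 := by
      rw [hbdef, polar_add_right, polar_smul_right, ht3a, ht3b]
      simp
    obtain ⟨g', hg'M, hg'⟩ := hMR a b haU' hbU hQa hQb
    have hb_t : Cfsg.reflectionMatrix (⇑Q) b *ᵥ t = t := by
      rw [reflectionMatrix_mulVec, polar_comm (⇑Q) b t, htb, mul_zero, zero_smul, sub_zero]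
    have ha_t : Cfsg.reflectionMatrix (⇑Q) a *ᵥ t = t := by
      rw [reflectionMatrix_mulVec, polar_comm (⇑Q) a t, horth t htU a haU', mul_zero, zero_smul,
        sub_zero]
    have hfix : (g' : Matrix ι ι F) *ᵥ t = t := by
      rw [hg', ← Matrix.mulVec_mulVec, hb_t, ha_t]
    have h1 := ACtr_conj_gl hQt g' hg'M (hMI g' hg'M) hfix v hvA
    rwa [hg', ← Matrix.mulVec_mulVec, reflectionMatrix_mulVec Q b v, horth b hbU v hvU', mul_zero,
      zero_smul, sub_zero] at h1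
  have hU'A := hU'irr (ACtr Q M t hQt) hAR hAinv y₂ hy₂U' hy₂0 hy₂A
  -- Step 3: `t` is a full centre; conjugate it to a non-orthogonal one
  have hC : ECtr Q M t := by
    refine ⟨hQt, fun w htw => ?_⟩
    obtain ⟨a, ha, b, hb, rfl⟩ := hdec w
    have hta : polar (⇑Q) t a = 0 := by
      rw [polar_add_right, horth t htU b hb, add_zero] at htw
      exact htw
    exact ((ACtr Q M t hQt).add_mem (hA1 a ha hta) (hU'A b hb)).2
  obtain ⟨t₂, t₂', ht₂U, ht₂'U, hQt₂, hQt₂', htt₂, h1, h2, h3, h4⟩ := hU t t'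
  obtain ⟨w₁, hw₁def⟩ : ∃ w₁, w₁ = t₂ + t₂' := ⟨_, rfl⟩
  have hw₁U : w₁ ∈ U := by rw [hw₁def]; exact U.add_mem ht₂U ht₂'U
  have hQw₁ : Q w₁ = 1 := by
    rw [hw₁def, Q_add', hQt₂, hQt₂', htt₂]
    ring
  have htw₁ : polar (⇑Q) t w₁ = 0 := by rw [hw₁def, polar_add_right, h1, h3, add_zero]
  have ht'w₁ : polar (⇑Q) t' w₁ = 0 := by rw [hw₁def, polar_add_right, h2, h4, add_zero]
  obtain ⟨h, hhM, hh⟩ := hMU t' w₁ ht'U hw₁U hQt' ht'w₁
  have hC' := hC.conj h hhM (hMI h hhM)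
  have hht : (h : Matrix ι ι F) *ᵥ t = t + w₁ - t' := by
    rw [hh, eichM_mulVec, polar_comm (⇑Q) t' t, htt', polar_comm (⇑Q) w₁ t, htw₁, hQw₁]
    simp
  have hβ : polar (⇑Q) t ((h : Matrix ι ι F) *ᵥ t) ≠ 0 := by
    rw [hht, polar_sub_right, polar_add_right, polar_self', hQt, htw₁, htt']
    simp
  exact EG_le_of_all Q (ECtr.all hQ hC hC' hβ)

variable (Q)

/-- **Stabiliser of a nondegenerate subspace.** `V = U ⊥ U'`, both nondegenerate, with
`dim U ≥ 7`, `0 < dim U' < dim U`, and `U'` not a hyperbolic plane over a field with at most 3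
elements: the stabiliser of `U` in `Ω` is a maximal subgroup of `Ω`. -/
theorem nondeg_stab_max_aux [Fintype F] (hQ : (polarBilin Q).Nondegenerate)
    (U U' : Submodule F (ι → F))
    (horth : ∀ x ∈ U, ∀ y ∈ U', polar (⇑Q) x y = 0) (hsup : U ⊔ U' = ⊤)
    (hUnd : ∀ y ∈ U, y ≠ 0 → ∃ z ∈ U, polar (⇑Q) z y ≠ 0)
    (hU'nd : ∀ y ∈ U', y ≠ 0 → ∃ z ∈ U', polar (⇑Q) z y ≠ 0)
    (hUdim : 7 ≤ finrank F U) (hU'0 : U' ≠ ⊥) (hlt : finrank F U' < finrank F U)
    (hexc : finrank F U' = 2 → (∃ s ∈ U', s ≠ 0 ∧ Q s = 0) → 4 ≤ Fintype.card F) :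
    IsMaximalIn (omegaGL ⇑Q) (subspaceStabilizer U ⊓ omegaGL ⇑Q) := by
  have hn5 : 5 ≤ Fintype.card ι := by
    have h1 := Submodule.finrank_le U
    rw [Module.finrank_fintype_fun_eq_card] at h1
    omega
  have hU : HypRich Q U := hypRich_of_nondeg Q U hUnd hUdim
  have hU'irr : ReflIrr Q U' := by
    have h0 : finrank F U' ≠ 0 := fun h => hU'0 (Submodule.finrank_eq_zero.1 h)
    by_cases h1 : finrank F U' = 1
    · exact reflIrr_of_finrank_one Q U' h1
    by_cases h2 : finrank F U' = 2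
    · exact reflIrr_of_finrank_two Q U' hU'nd h2 (hexc h2)
    exact reflIrr_of_three_le Q U' hU'nd (by omega)
  have hdisj : ∀ x, x ∈ U → x ∈ U' → x = 0 := by
    intro x hxU hxU'
    by_contra hx0
    obtain ⟨z, hz, hzx⟩ := hUnd x hxU hx0
    exact hzx (horth z hz x hxU')
  have hΩE := omegaGL_le_EG Q hQ hn5
  have hΩI : ∀ g ∈ omegaGL ⇑Q, ∀ x, Q ((g : Matrix ι ι F) *ᵥ x) = Q x := by
    intro g hg x
    obtain ⟨g', _, rfl⟩ := Subgroup.mem_map.1 hg
    exact g'.2 x x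
  have hEH : ∀ s w (hs : Q s = 0) (hsw : polar (⇑Q) s w = 0), s ∈ U → w ∈ U →
      eichGL Q s w hs hsw ∈ subspaceStabilizer U ⊓ omegaGL ⇑Q := by
    intro s w hs hsw hsU hwU
    refine ⟨mem_stab_of_maps_le U _ ?_, eichGL_mem_omegaGL Q hQ hn5 s w hs hsw⟩
    intro x hx
    change eichM Q s w *ᵥ x ∈ U
    rw [eichM_mulVec]
    exact U.sub_mem (U.sub_mem (U.add_mem hx (U.smul_mem _ hwU)) (U.smul_mem _ hsU))
      (U.smul_mem _ hsU)
  have hEH' : ∀ s w (hs : Q s = 0) (hsw : polar (⇑Q) s w = 0), s ∈ U' → w ∈ U' →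
      eichGL Q s w hs hsw ∈ subspaceStabilizer U ⊓ omegaGL ⇑Q := by
    intro s w hs hsw hsU' hwU'
    refine ⟨mem_stab_of_maps_le U _ ?_, eichGL_mem_omegaGL Q hQ hn5 s w hs hsw⟩
    intro x hx
    change eichM Q s w *ᵥ x ∈ U
    rw [eichM_mulVec, polar_comm (⇑Q) s x, horth x hx s hsU', polar_comm (⇑Q) w x,
      horth x hx w hwU']
    simpa using hx
  have hRH : ∀ a b, a ∈ U' → b ∈ U → Q a ≠ 0 → Q b = Q a →
      ∃ g ∈ subspaceStabilizer U ⊓ omegaGL ⇑Q, (g : Matrix ι ι F) =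
        Cfsg.reflectionMatrix (⇑Q) a * Cfsg.reflectionMatrix (⇑Q) b := by
    intro a b haU' hbU hQa hQb
    obtain ⟨g, hgE, hg⟩ := refl_mul_refl_mem_EG Q hQ hn5 a b hQa hQb
    refine ⟨g, ⟨mem_stab_of_maps_le U _ ?_, EG_le_omegaGL Q hQ hn5 hgE⟩, hg⟩
    intro x hx
    rw [hg, ← Matrix.mulVec_mulVec, reflectionMatrix_mulVec Q b x]
    have h1 : x - ((Q b)⁻¹ * polar (⇑Q) b x) • b ∈ U := U.sub_mem hx (U.smul_mem _ hbU)
    rw [reflectionMatrix_mulVec, polar_comm (⇑Q) a _, horth _ h1 a haU', mul_zero, zero_smul,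
      sub_zero]
    exact h1
  constructor
  · refine SetLike.lt_iff_le_and_exists.2 ⟨inf_le_right, ?_⟩
    obtain ⟨t, t', htU, ht'U, hQt, hQt', htt', -, -, -, -⟩ := hU 0 0
    obtain ⟨w, hwU', hw0⟩ := Submodule.exists_mem_ne_zero_of_ne_bot hU'0
    have htw : polar (⇑Q) t w = 0 := horth t htU w hwU'
    refine ⟨eichGL Q t w hQt htw, eichGL_mem_omegaGL Q hQ hn5 t w hQt htw, ?_⟩
    rintro ⟨hstab, -⟩
    have h1 := ((mem_subspaceStabilizer_iff U _).1 hstab t').1 ht'U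
    change eichM Q t w *ᵥ t' ∈ U at h1
    rw [eichM_mulVec, htt', polar_comm (⇑Q) w t', horth t' ht'U w hwU'] at h1
    simp only [one_smul, zero_smul, sub_zero, mul_one] at h1
    have h2 : w ∈ U := by
      have := U.add_mem (U.sub_mem h1 ht'U) (U.smul_mem (Q w) htU)
      have e : t' + w - Q w • t - t' + Q w • t = w := by abel
      rwa [e] at this
    exact hw0 (hdisj w h2 hwU')
  · intro M hHM hMG
    by_cases hMH : M ≤ subspaceStabilizer U ⊓ omegaGL ⇑Q
    · left; exact le_antisymm hMH hHM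
    · right
      apply le_antisymm hMG
      obtain ⟨g, hgM, hgH⟩ := SetLike.not_le_iff_exists.1 hMH
      have hgS : g ∉ subspaceStabilizer U := fun h => hgH ⟨h, hMG hgM⟩
      refine le_trans hΩE (EG_le_of_nondeg hQ U U' horth hsup hU hUnd hU'nd hU'irr M
        (fun g' hg' => hΩI g' (hMG hg'))
        (fun s w hsU hwU hs hsw => ⟨eichGL Q s w hs hsw, hHM (hEH s w hs hsw hsU hwU), rfl⟩)
        (fun s w hsU' hwU' hs hsw => ⟨eichGL Q s w hs hsw, hHM (hEH' s w hs hsw hsU' hwU'), rfl⟩)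
        (fun a b haU' hbU hQa hQb => by
          obtain ⟨g', hg'H, hg'⟩ := hRH a b haU' hbU hQa hQb
          exact ⟨g', hHM hg'H, hg'⟩)
        g hgM ?_ ?_)
      · by_contra hcon
        push Not at hcon
        exact hgS (mem_stab_of_maps_le U g hcon)
      · by_contra hcon
        push Not at hcon
        have hle : U.map (Matrix.toLin' ((g⁻¹ : GL ι F) : Matrix ι ι F)) ≤ U' := by
          rintro y ⟨x, hx, rfl⟩
          apply hcon
          rw [Matrix.toLin'_apply, gl_apply_inv_apply]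
          exact hx
        have h1 := Submodule.finrank_mono hle
        rw [finrank_map_gl] at h1
        omega

/-- the orthogonal complement of a nondegenerate subspace -/
theorem orth_compl_props (hQ : (polarBilin Q).Nondegenerate) (W : Submodule F (ι → F))
    (hWnd : ∀ y ∈ W, y ≠ 0 → ∃ z ∈ W, polar (⇑Q) z y ≠ 0) :
    (∀ y, y ∈ LinearMap.BilinForm.orthogonal (polarBilin Q) W ↔ ∀ x ∈ W, polar (⇑Q) x y = 0) ∧
    W ⊔ LinearMap.BilinForm.orthogonal (polarBilin Q) W = ⊤ ∧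
    (∀ y ∈ LinearMap.BilinForm.orthogonal (polarBilin Q) W, y ≠ 0 →
      ∃ z ∈ LinearMap.BilinForm.orthogonal (polarBilin Q) W, polar (⇑Q) z y ≠ 0) ∧
    finrank F (LinearMap.BilinForm.orthogonal (polarBilin Q) W)
      = Fintype.card ι - finrank F W := by
  obtain ⟨W', hW'def⟩ : ∃ W', W' = LinearMap.BilinForm.orthogonal (polarBilin Q) W := ⟨_, rfl⟩
  rw [← hW'def]
  have hmemW' : ∀ y, y ∈ W' ↔ ∀ x ∈ W, polar (⇑Q) x y = 0 := by
    intro y
    rw [hW'def, LinearMap.BilinForm.mem_orthogonal_iff]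
    constructor
    · intro h x hx
      have := h x hx
      rwa [polarBilin_apply_apply] at this
    · intro h x hx
      rw [polarBilin_apply_apply]
      exact h x hx
  have hdisj : Disjoint W W' := by
    rw [Submodule.disjoint_def]
    intro x hxW hxW'
    by_contra hx0
    obtain ⟨z, hz, hzx⟩ := hWnd x hxW hx0
    exact hzx ((hmemW' x).1 hxW' z hz)
  have hprops := orthogonal_props Q hQ W (by rw [← hW'def]; exact hdisj)
  rw [← hW'def] at hprops
  obtain ⟨hcompl, hW'ndB, hfr⟩ := hprops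
  rw [Module.finrank_fintype_fun_eq_card] at hfr
  refine ⟨hmemW', hcompl.sup_eq_top, ?_, hfr⟩
  intro y hy hy0
  by_contra hcon
  push Not at hcon
  apply hy0
  have h1 := hW'ndB.2 ⟨y, hy⟩ (fun x => by
    rw [polarBilin_apply_apply, polar_qrestrict]
    exact hcon x x.2)
  exact congrArg Subtype.val h1

/-- **Stabiliser of a nondegenerate subspace `W`** (`W ≠ ⊥, ⊤`, `2 dim W ≠ n`, `n ≥ 13`), with the
two exceptions (`W` or `W^⊥` a hyperbolic plane over a field with at most 3 elements) excluded. -/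
theorem nondeg_stab_max [Fintype F] (hQ : (polarBilin Q).Nondegenerate)
    (hn : 13 ≤ Fintype.card ι) (W : Submodule F (ι → F))
    (hWnd : ∀ y ∈ W, y ≠ 0 → ∃ z ∈ W, polar (⇑Q) z y ≠ 0) (hW0 : W ≠ ⊥) (hW1 : W ≠ ⊤)
    (hdim : 2 * finrank F W ≠ Fintype.card ι)
    (hexW : finrank F W = 2 → (∃ s ∈ W, s ≠ 0 ∧ Q s = 0) → 4 ≤ Fintype.card F)
    (hexW' : finrank F W + 2 = Fintype.card ι →
      (∃ s, s ≠ 0 ∧ Q s = 0 ∧ ∀ x ∈ W, polar (⇑Q) x s = 0) → 4 ≤ Fintype.card F) :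
    IsMaximalIn (omegaGL ⇑Q) (subspaceStabilizer W ⊓ omegaGL ⇑Q) := by
  obtain ⟨hmemW'0, hsup0, hW'nd0, hfr0⟩ := orth_compl_props Q hQ W hWnd
  obtain ⟨W', hW'def⟩ : ∃ W', W' = LinearMap.BilinForm.orthogonal (polarBilin Q) W := ⟨_, rfl⟩
  have hmemW' : ∀ y, y ∈ W' ↔ ∀ x ∈ W, polar (⇑Q) x y = 0 := by rw [hW'def]; exact hmemW'0
  have hsup : W ⊔ W' = ⊤ := by rw [hW'def]; exact hsup0
  have hW'nd : ∀ y ∈ W', y ≠ 0 → ∃ z ∈ W', polar (⇑Q) z y ≠ 0 := by rw [hW'def]; exact hW'nd0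
  have hfr : finrank F W' = Fintype.card ι - finrank F W := by rw [hW'def]; exact hfr0
  have horth : ∀ x ∈ W, ∀ y ∈ W', polar (⇑Q) x y = 0 := fun x hx y hy => (hmemW' y).1 hy x hx
  have horth' : ∀ x ∈ W', ∀ y ∈ W, polar (⇑Q) x y = 0 := fun x hx y hy => by
    rw [polar_comm]
    exact horth y hy x hx
  have hsup' : W' ⊔ W = ⊤ := by rw [sup_comm]; exact hsup
  have hfW : finrank F W ≤ Fintype.card ι := by
    have h1 := Submodule.finrank_le W
    rwa [Module.finrank_fintype_fun_eq_card] at h1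
  have hW'0 : W' ≠ ⊥ := by
    intro h
    rw [h, finrank_bot] at hfr
    apply hW1
    apply Submodule.eq_top_of_finrank_eq
    rw [Module.finrank_fintype_fun_eq_card]
    omega
  have hn5 : 5 ≤ Fintype.card ι := by omega
  have hΩI : ∀ g ∈ omegaGL ⇑Q, ∀ x, Q ((g : Matrix ι ι F) *ᵥ x) = Q x := by
    intro g hg x
    obtain ⟨g', _, rfl⟩ := Subgroup.mem_map.1 hg
    exact g'.2 x x
  have hstab : ∀ (A B : Submodule F (ι → F)),
      (∀ y, (∀ x ∈ A, polar (⇑Q) x y = 0) → y ∈ B) → (∀ x ∈ A, ∀ y ∈ B, polar (⇑Q) x y = 0) →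
      ∀ g : GL ι F, (∀ x, Q ((g : Matrix ι ι F) *ᵥ x) = Q x) → g ∈ subspaceStabilizer A →
      g ∈ subspaceStabilizer B := by
    intro A B hAB horthAB g hgI hgA
    apply mem_stab_of_maps_le
    intro y hy
    apply hAB
    intro x hx
    have hx₀ : ((g⁻¹ : GL ι F) : Matrix ι ι F) *ᵥ x ∈ A :=
      ((mem_subspaceStabilizer_iff A g).1 hgA _).2 (by rw [gl_apply_inv_apply]; exact hx)
    have h1 := polar_of_isometry Q _ hgI (((g⁻¹ : GL ι F) : Matrix ι ι F) *ᵥ x) y
    rw [gl_apply_inv_apply] at h1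
    rw [h1]
    exact horthAB _ hx₀ y hy
  have hperpW' : ∀ y, (∀ x ∈ W', polar (⇑Q) x y = 0) → y ∈ W := by
    intro y hy
    have hy' : y ∈ W ⊔ W' := by rw [hsup]; exact Submodule.mem_top
    obtain ⟨a, ha, b, hb, rfl⟩ := Submodule.mem_sup.1 hy'
    have hb0 : b = 0 := by
      by_contra h
      obtain ⟨z, hz, hzb⟩ := hW'nd b hb h
      apply hzb
      have h1 := hy z hz
      rwa [polar_add_right, horth' z hz a ha, zero_add] at h1
    rw [hb0, add_zero]
    exact ha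
  have hHeq : subspaceStabilizer W ⊓ omegaGL ⇑Q = subspaceStabilizer W' ⊓ omegaGL ⇑Q := by
    ext g
    constructor
    · rintro ⟨h1, h2⟩
      exact ⟨hstab W W' (fun y hy => (hmemW' y).2 hy) horth g (hΩI g h2) h1, h2⟩
    · rintro ⟨h1, h2⟩
      exact ⟨hstab W' W hperpW' horth' g (hΩI g h2) h1, h2⟩
  by_cases hcase : finrank F W' < finrank F W
  · refine nondeg_stab_max_aux Q hQ W W' horth hsup hWnd hW'nd (by omega) hW'0 hcase ?_
    intro h2 hs
    apply hexW' (by omega)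
    obtain ⟨s, hsW', hs0, hQs⟩ := hs
    exact ⟨s, hs0, hQs, fun x hx => horth x hx s hsW'⟩
  · rw [hHeq]
    have hlt : finrank F W < finrank F W' := by omega
    exact nondeg_stab_max_aux Q hQ W' W horth' hsup' hW'nd hWnd (by omega) hW0 hlt
      (fun h2 hs => hexW h2 hs)

/-- function-level version with the exceptions phrased as in the frozen statements -/
theorem nondeg_stab_max_fn [Fintype F] (hn : 13 ≤ Fintype.card ι) (Q₀ : (ι → F) → F)
    (hQ₀ : IsNondegenerateQuadraticForm Q₀) (W : Submodule F (ι → F)) (hW0 : W ≠ ⊥) (hW1 : W ≠ ⊤)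
    (hdim : 2 * finrank F W ≠ Fintype.card ι) (hW : IsNondegenerateOn (polar Q₀) W)
    (hex : ¬ (Fintype.card F ≤ 3 ∧ (∃ U : Submodule F (ι → F), finrank F U = 2 ∧
      IsNondegenerateOn (polar Q₀) U ∧ IsPlusTypeOn Q₀ U ∧
      (U = W ∨ (AreOrthogonalFor (polar Q₀) U W ∧
        finrank F U + finrank F W = Fintype.card ι))))) :
    IsMaximalIn (omegaGL Q₀) (subspaceStabilizer W ⊓ omegaGL Q₀) := by
  have hWnd : ∀ y ∈ W, y ≠ 0 → ∃ z ∈ W, polar (⇑(bundleQ hQ₀)) z y ≠ 0 :=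
    fun y hy hy0 => (hW y hy hy0).1
  have hplane : ∀ (U : Submodule F (ι → F)) (s : ι → F), s ∈ U → s ≠ 0 → Q₀ s = 0 →
      finrank F U = 2 → IsPlusTypeOn Q₀ U := by
    intro U s hsU hs0 hQs h2
    refine ⟨Submodule.span F {s}, ?_, ?_, ?_⟩
    · rw [Submodule.span_le]
      exact Set.singleton_subset_iff.2 hsU
    · intro w hw
      obtain ⟨c, rfl⟩ := Submodule.mem_span_singleton.1 hw
      rw [hQ₀.smul, hQs, mul_zero]
    · rw [finrank_span_singleton hs0, h2]
  apply nondeg_stab_max (bundleQ hQ₀) (bundleQ_nondeg hQ₀) hn W hWnd hW0 hW1 hdim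
  · rintro h2 ⟨s, hsW, hs0, hQs⟩
    by_contra hlt
    apply hex
    exact ⟨by omega, W, h2, hW, hplane W s hsW hs0 hQs h2, Or.inl rfl⟩
  · rintro h2 ⟨s, hs0, hQs, hsW⟩
    by_contra hlt
    apply hex
    obtain ⟨hmemW', hsup, hW'nd, hfr⟩ := orth_compl_props (bundleQ hQ₀) (bundleQ_nondeg hQ₀) W hWnd
    have hfr2 : finrank F (LinearMap.BilinForm.orthogonal (polarBilin (bundleQ hQ₀)) W) = 2 := by
      rw [hfr]
      omega
    refine ⟨by omega, LinearMap.BilinForm.orthogonal (polarBilin (bundleQ hQ₀)) W, hfr2, ?_,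
      hplane _ s ((hmemW' s).2 hsW) hs0 hQs hfr2, Or.inr ⟨?_, ?_⟩⟩
    · intro w hw hw0
      obtain ⟨z, hz, hzw⟩ := hW'nd w hw hw0
      refine ⟨⟨z, hz, hzw⟩, ⟨z, hz, ?_⟩⟩
      rw [polar_comm]
      exact hzw
    · intro u hu v hv
      rw [polar_comm]
      exact (hmemW' u).1 hu v hv
    · rw [hfr2]
      omega

end OrthNondeg

end Cfsg.Agent.Helper13
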