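import Mathlib
import Cfsg.Agent.Lib.Helper13.OrthNondeg
import Cfsg.Agent.Lib.Helper43.AnisoPlane

/-!
# The half-dimensional nondegenerate subspaces

* `exists_anti_isometry`: an even-dimensional nondegenerate quadratic space over a finite field has
  a linear endomorphism `θ` with `q (θ x) = - q x`.
* `swap_totally_singular`: if an isometry maps `W'` into `W ⊥ W'`, with `dim W'` even, then the
  space has a totally singular subspace of dimension `dim W'`.
* `nondeg_half_stab_max`: maximality in `Ω` of the stabiliser of a nondegenerate subspace of half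
  the dimension, when there is no totally singular subspace of half the dimension.
-/

set_option autoImplicit false
set_option linter.unusedSectionVars false

namespace Cfsg.Agent.Helper13

open Matrix QuadraticMap Cfsg.Geo Module
open Cfsg.Agent.S0794 Cfsg.Agent.Helper14.ReflGen Cfsg.Agent.Helper93 Cfsg.Agent.Helper43

universe u

section Anti

variable {F : Type*} [Field F] [Fintype F]

theorem exists_anti_isometry : ∀ (n : ℕ) (E : Type u) [AddCommGroup E] [Module F E]
    [FiniteDimensional F E] (q : QuadraticForm F E), finrank F E = n → Even n →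
    (polarBilin q).Nondegenerate → ∃ θ : E →ₗ[F] E, ∀ x, q (θ x) = - q x := by
  intro n
  induction n using Nat.strong_induction_on with
  | _ n ih =>
    intro E _ _ _ q hn hev hq
    by_cases hsing : ∃ v : E, v ≠ 0 ∧ q v = 0
    · obtain ⟨s, hs0, hqs⟩ := hsing
      obtain ⟨f, hqf, hsf⟩ := exists_hyperbolic_partner q hq s hs0 hqs
      obtain ⟨hdisj, hli⟩ := pair_disjoint_orthogonal q s f hqs hqf hsf
      obtain ⟨P, hPdef⟩ : ∃ P, P = Submodule.span F ({s, f} : Set E) := ⟨_, rfl⟩
      rw [← hPdef] at hdisj
      obtain ⟨hcompl, hPnd, hPdim⟩ := orthogonal_props q hq P hdisj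
      have hP2 : finrank F P = 2 := by
        have : ({s, f} : Set E) = Set.range ![s, f] := by
          ext x; simp [eq_comm, or_comm]
        rw [hPdef, this, finrank_span_eq_card hli]; simp
      have hle : finrank F P ≤ finrank F E := Submodule.finrank_le P
      have hev' : Even (n - 2) := by
        rcases hev with ⟨r, hr⟩
        exact ⟨r - 1, by omega⟩
      obtain ⟨θ', hθ'⟩ := ih (n - 2) (by omega)
        (LinearMap.BilinForm.orthogonal (polarBilin q) P)
        (qrestrict q (LinearMap.BilinForm.orthogonal (polarBilin q) P))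
        (by rw [hPdim, hP2, hn]) hev' hPnd
      have hss : polar q s s = 0 := by rw [polar_self, hqs]; simp
      have hff : polar q f f = 0 := by rw [polar_self, hqf]; simp
      have hfs : polar q f s = 1 := by rw [polar_comm]; exact hsf
      obtain ⟨π₀, hπ₀def⟩ : ∃ π₀ : E →ₗ[F] E, π₀ = LinearMap.id
          - (polarBilin q f).smulRight s - (polarBilin q s).smulRight f := ⟨_, rfl⟩
      have hπ₀ : ∀ x, π₀ x = x - polar q f x • s - polar q s x • f := by
        intro x
        rw [hπ₀def]
        simp [LinearMap.smulRight_apply, polarBilin_apply_apply]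
      have hπ₀s : ∀ x, polar q s (π₀ x) = 0 := by
        intro x
        rw [hπ₀, polar_sub_right, polar_sub_right, polar_smul_right, polar_smul_right, hss, hsf]
        simp
      have hπ₀f : ∀ x, polar q f (π₀ x) = 0 := by
        intro x
        rw [hπ₀, polar_sub_right, polar_sub_right, polar_smul_right, polar_smul_right, hff, hfs]
        simp
      have hmemO : ∀ y : E, polar q s y = 0 → polar q f y = 0 →
          y ∈ LinearMap.BilinForm.orthogonal (polarBilin q) P := by
        intro y h1 h2
        rw [LinearMap.BilinForm.mem_orthogonal_iff]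
        intro p hp
        rw [hPdef] at hp
        obtain ⟨a, b, rfl⟩ := Submodule.mem_span_pair.1 hp
        show polarBilin q (a • s + b • f) y = 0
        rw [polarBilin_apply_apply, polar_add_left, polar_smul_left, polar_smul_left, h1, h2]
        simp
      have hOs : ∀ y ∈ LinearMap.BilinForm.orthogonal (polarBilin q) P, polar q s y = 0 := by
        intro y hy
        have := (LinearMap.BilinForm.mem_orthogonal_iff.1 hy) s
          (by rw [hPdef]; exact Submodule.subset_span (by simp))
        rwa [polarBilin_apply_apply] at this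
      have hOf : ∀ y ∈ LinearMap.BilinForm.orthogonal (polarBilin q) P, polar q f y = 0 := by
        intro y hy
        have := (LinearMap.BilinForm.mem_orthogonal_iff.1 hy) f
          (by rw [hPdef]; exact Submodule.subset_span (by simp))
        rwa [polarBilin_apply_apply] at this
      obtain ⟨π', hπ'def⟩ : ∃ π' : E →ₗ[F] LinearMap.BilinForm.orthogonal (polarBilin q) P,
          π' = π₀.codRestrict _ (fun x => hmemO _ (hπ₀s x) (hπ₀f x)) := ⟨_, rfl⟩
      have hπ' : ∀ x, ((π' x : LinearMap.BilinForm.orthogonal (polarBilin q) P) : E) = π₀ x := by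
        intro x
        rw [hπ'def]
        rfl
      refine ⟨(polarBilin q f).smulRight s - (polarBilin q s).smulRight f
        + (Submodule.subtype _).comp (θ'.comp π'), fun x => ?_⟩
      obtain ⟨y, hydef⟩ : ∃ y : E, y = ((θ' (π' x) :
          LinearMap.BilinForm.orthogonal (polarBilin q) P) : E) := ⟨_, rfl⟩
      have hyO : y ∈ LinearMap.BilinForm.orthogonal (polarBilin q) P := by
        rw [hydef]; exact (θ' (π' x)).2
      have hqy : q y = - q (π₀ x) := by
        have := hθ' (π' x)
        rw [qrestrict_apply, qrestrict_apply, hπ'] at this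
        rw [hydef]
        exact this
      have e1 : ((polarBilin q f).smulRight s - (polarBilin q s).smulRight f
          + (Submodule.subtype _).comp (θ'.comp π')) x
          = (polar q f x • s + (-(polar q s x)) • f) + y := by
        rw [hydef]
        simp [LinearMap.smulRight_apply, polarBilin_apply_apply, sub_eq_add_neg]
      have e2 : x = (polar q f x • s + polar q s x • f) + π₀ x := by
        rw [hπ₀]
        abel
      have e3 : ∀ (a b : F) (z : E), polar q s z = 0 → polar q f z = 0 →
          q ((a • s + b • f) + z) = a * b + q z := by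
        intro a b z h1 h2
        rw [map_add_eq, map_add_eq, QuadraticMap.map_smul, QuadraticMap.map_smul, hqs, hqf,
          polar_smul_left, polar_smul_right, hsf, polar_add_left, polar_smul_left,
          polar_smul_left, h1, h2]
        simp only [smul_eq_mul]
        ring
      rw [e1, e3 _ _ y (hOs y hyO) (hOf y hyO), hqy]
      have e4 := e3 (polar q f x) (polar q s x) (π₀ x) (hπ₀s x) (hπ₀f x)
      rw [← e2] at e4
      rw [e4]
      ring
    · push Not at hsing
      have hle2 : n ≤ 2 := by
        by_contra hgt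
        push Not at hgt
        obtain ⟨v, hv0, hqv⟩ := exists_singular q hq (by omega)
        exact hsing v hv0 hqv
      have hcases : n = 0 ∨ n = 2 := by
        rcases hev with ⟨r, hr⟩
        omega
      rcases hcases with h0 | h2
      · refine ⟨0, fun x => ?_⟩
        have hsub : Subsingleton E := by
          rw [← Module.finrank_zero_iff (R := F), hn, h0]
        have hx : x = 0 := Subsingleton.elim _ _
        rw [hx]
        simp
      · have hdim : finrank F E = 2 := by rw [hn, h2]
        have haniso : ∀ w, q w = 0 → w = 0 := by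
          intro w hw
          by_contra hw0
          exact hsing w hw0 hw
        obtain ⟨z1, hz1⟩ := exists_eq_one q hq (by omega)
        have hz10 : z1 ≠ 0 := by
          rintro rfl
          simp at hz1
        obtain ⟨w, hw1, hw2⟩ := exists_indep_partner q hq (by omega) z1 hz10
        have hqlin : ∀ a b : F, q (a • z1 + b • w) = a ^ 2 + 1 * a * b + q w * b ^ 2 := by
          intro a b
          rw [map_add_eq, QuadraticMap.map_smul, QuadraticMap.map_smul, polar_smul_left,
            polar_smul_right, hz1, hw1]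
          simp only [smul_eq_mul]
          ring
        have hAP : AnisoPair (1 : F) (q w) := by
          intro a b hab
          have h1 : a • z1 + b • w = 0 := haniso _ (by rw [hqlin]; exact hab)
          have hb : b = 0 := by
            by_contra hb
            have h3 : b • w = -(a • z1) := eq_neg_of_add_eq_zero_right h1
            have h4 : w = b⁻¹ • (b • w) := by rw [smul_smul, inv_mul_cancel₀ hb, one_smul]
            have h5 : w = (-(a / b)) • z1 := by
              calc w = b⁻¹ • (b • w) := h4
                _ = b⁻¹ • (-(a • z1)) := by rw [h3]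
                _ = (-(a / b)) • z1 := by rw [smul_neg, smul_smul, neg_smul, div_eq_inv_mul]
            exact hw2 _ h5.symm
          rw [hb, zero_smul, add_zero] at h1
          exact ⟨(smul_eq_zero.1 h1).resolve_right hz10, hb⟩
        have hpn : ∀ x y : E, polar (⇑(-q)) x y = -polar (⇑q) x y := by
          intro x y
          rw [FunLike.coe_neg, polar_neg]
        have hq' : (polarBilin (-q)).Nondegenerate := by
          constructor
          · intro x hx
            apply hq.1 x
            intro y
            have := hx y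
            rw [polarBilin_apply_apply, hpn] at this
            rw [polarBilin_apply_apply]
            exact neg_eq_zero.1 this
          · intro y hy
            apply hq.2 y
            intro x
            have := hy x
            rw [polarBilin_apply_apply, hpn] at this
            rw [polarBilin_apply_apply]
            exact neg_eq_zero.1 this
        have haniso' : ∀ w, (-q) w = 0 → w = 0 := by
          intro w hw
          apply haniso
          rw [_root_.neg_apply] at hw
          exact neg_eq_zero.1 hw
        have hcard := card_aniso_frames (-q) hq' hdim haniso' hAP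
        have hne : Nonempty {zz : E × E // (-q) zz.1 = 1 ∧ (-q) zz.2 = q w ∧
            polar (⇑(-q)) zz.1 zz.2 = 1} := by
          have : Nat.card {zz : E × E // (-q) zz.1 = 1 ∧ (-q) zz.2 = q w ∧
              polar (⇑(-q)) zz.1 zz.2 = 1} ≠ 0 := by
            rw [hcard]
            omega
          exact (Nat.card_ne_zero.1 this).1
        obtain ⟨⟨⟨z1', z2'⟩, h1, h2', h3⟩⟩ := hne
        simp only at h1 h2' h3
        have hq1 : q z1' = -1 := by
          rw [_root_.neg_apply] at h1
          exact neg_eq_iff_eq_neg.1 h1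
        have hq2 : q z2' = -(q w) := by
          rw [_root_.neg_apply] at h2'
          exact neg_eq_iff_eq_neg.1 h2'
        have hq3 : polar q z1' z2' = -1 := by
          rw [hpn] at h3
          exact neg_eq_iff_eq_neg.1 h3
        have hli : LinearIndependent F ![z1, w] := by
          rw [LinearIndependent.pair_iff' hz10]
          exact hw2
        obtain ⟨b₀, hb₀⟩ : ∃ b₀ : Module.Basis (Fin 2) F E, ⇑b₀ = ![z1, w] :=
          ⟨basisOfLinearIndependentOfCardEqFinrank hli (by rw [Fintype.card_fin, hdim]),
            coe_basisOfLinearIndependentOfCardEqFinrank hli _⟩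
        refine ⟨b₀.constr F ![z1', z2'], fun x => ?_⟩
        have hx : x = b₀.repr x 0 • z1 + b₀.repr x 1 • w := by
          have := b₀.sum_repr x
          rw [Fin.sum_univ_two, hb₀] at this
          simpa using this.symm
        have hθx : b₀.constr F ![z1', z2'] x = b₀.repr x 0 • z1' + b₀.repr x 1 • z2' := by
          rw [Module.Basis.constr_apply_fintype, Fin.sum_univ_two]
          simp [Module.Basis.equivFun_apply]
        rw [hθx]
        conv_rhs => rw [hx]
        rw [hqlin, map_add_eq, QuadraticMap.map_smul, QuadraticMap.map_smul, polar_smul_left,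
          polar_smul_right, hq1, hq2, hq3]
        simp only [smul_eq_mul]
        ring

end Anti

section Half

variable {F : Type*} [Field F] [Fintype F] {ι : Type} [Fintype ι] [DecidableEq ι]
  (Q : QuadraticForm F (ι → F))

/-- if an isometry maps the nondegenerate even-dimensional `W'` into `W ⊥ W'`, the space has a
totally singular subspace of dimension `dim W'` -/
theorem swap_totally_singular (W W' : Submodule F (ι → F))
    (horth : ∀ x ∈ W, ∀ y ∈ W', polar (⇑Q) x y = 0)
    (hdisj : ∀ x, x ∈ W → x ∈ W' → x = 0)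
    (hW'nd : ∀ y ∈ W', y ≠ 0 → ∃ z ∈ W', polar (⇑Q) z y ≠ 0)
    (hev : Even (finrank F W')) (g : GL ι F)
    (hgI : ∀ x, Q ((g : Matrix ι ι F) *ᵥ x) = Q x)
    (hg : ∀ x ∈ W', (g : Matrix ι ι F) *ᵥ x ∈ W) :
    ∃ U : Submodule F (ι → F), (∀ u ∈ U, Q u = 0) ∧ finrank F U = finrank F W' := by
  obtain ⟨θ, hθ⟩ := exists_anti_isometry (finrank F W') W' (qrestrict Q W') rfl hev
    (nondeg_restrict Q W' hW'nd)
  obtain ⟨Ψ, hΨdef⟩ : ∃ Ψ : W' →ₗ[F] (ι → F), Ψ = W'.subtype
      + (Matrix.toLin' (g : Matrix ι ι F)).comp (W'.subtype.comp θ) := ⟨_, rfl⟩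
  have hΨ : ∀ x : W', Ψ x = (x : ι → F) + (g : Matrix ι ι F) *ᵥ ((θ x : W') : ι → F) := by
    intro x
    rw [hΨdef]
    simp [Matrix.toLin'_apply]
  have hinj : Function.Injective Ψ := by
    rw [← LinearMap.ker_eq_bot, LinearMap.ker_eq_bot']
    intro x hx
    rw [hΨ] at hx
    have h1 : (x : ι → F) = -((g : Matrix ι ι F) *ᵥ ((θ x : W') : ι → F)) :=
      eq_neg_of_add_eq_zero_left hx
    have h2 : (x : ι → F) ∈ W := by
      rw [h1]
      exact W.neg_mem (hg _ (θ x).2)
    exact Subtype.ext (hdisj _ h2 x.2)
  refine ⟨LinearMap.range Ψ, ?_, LinearMap.finrank_range_of_inj hinj⟩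
  rintro u ⟨x, rfl⟩
  rw [hΨ, Q_add', hgI, polar_comm, horth _ (hg _ (θ x).2) _ x.2, add_zero]
  have := hθ x
  rw [qrestrict_apply, qrestrict_apply] at this
  rw [this]
  ring

/-- **Stabiliser of a nondegenerate subspace of half the dimension** (`dim W = n/2 ≥ 7` even),
when the space has no totally singular subspace of dimension `n/2`. -/
theorem nondeg_half_stab_max (hQ : (polarBilin Q).Nondegenerate) (W : Submodule F (ι → F))
    (hWnd : ∀ y ∈ W, y ≠ 0 → ∃ z ∈ W, polar (⇑Q) z y ≠ 0)
    (hhalf : 2 * finrank F W = Fintype.card ι) (hk7 : 7 ≤ finrank F W) (hev : Even (finrank F W))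
    (hminus : ¬ ∃ U : Submodule F (ι → F), (∀ u ∈ U, Q u = 0) ∧ finrank F U = finrank F W) :
    IsMaximalIn (omegaGL ⇑Q) (subspaceStabilizer W ⊓ omegaGL ⇑Q) := by
  obtain ⟨hmemW'0, hsup0, hW'nd0, hfr0⟩ := orth_compl_props Q hQ W hWnd
  obtain ⟨W', hW'def⟩ : ∃ W', W' = LinearMap.BilinForm.orthogonal (polarBilin Q) W := ⟨_, rfl⟩
  have hmemW' : ∀ y, y ∈ W' ↔ ∀ x ∈ W, polar (⇑Q) x y = 0 := by rw [hW'def]; exact hmemW'0
  have hsup : W ⊔ W' = ⊤ := by rw [hW'def]; exact hsup0
  have hW'nd : ∀ y ∈ W', y ≠ 0 → ∃ z ∈ W', polar (⇑Q) z y ≠ 0 := by rw [hW'def]; exact hW'nd0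
  have hfr : finrank F W' = finrank F W := by
    rw [hW'def, hfr0]
    omega
  have horth : ∀ x ∈ W, ∀ y ∈ W', polar (⇑Q) x y = 0 := fun x hx y hy => (hmemW' y).1 hy x hx
  have horth' : ∀ x ∈ W', ∀ y ∈ W, polar (⇑Q) x y = 0 := fun x hx y hy => by
    rw [polar_comm]
    exact horth y hy x hx
  have hn5 : 5 ≤ Fintype.card ι := by omega
  have hU : HypRich Q W := hypRich_of_nondeg Q W hWnd hk7
  have hU' : HypRich Q W' := hypRich_of_nondeg Q W' hW'nd (by rw [hfr]; exact hk7)
  have hdisj : ∀ x, x ∈ W → x ∈ W' → x = 0 := by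
    intro x hxU hxU'
    by_contra hx0
    obtain ⟨z, hz, hzx⟩ := hWnd x hxU hx0
    exact hzx (horth z hz x hxU')
  have hΩE := omegaGL_le_EG Q hQ hn5
  have hΩI : ∀ g ∈ omegaGL ⇑Q, ∀ x, Q ((g : Matrix ι ι F) *ᵥ x) = Q x := by
    intro g hg x
    obtain ⟨g', _, rfl⟩ := Subgroup.mem_map.1 hg
    exact g'.2 x x
  have hEH : ∀ s w (hs : Q s = 0) (hsw : polar (⇑Q) s w = 0), s ∈ W → w ∈ W →
      eichGL Q s w hs hsw ∈ subspaceStabilizer W ⊓ omegaGL ⇑Q := by
    intro s w hs hsw hsU hwU
    refine ⟨mem_stab_of_maps_le W _ ?_, eichGL_mem_omegaGL Q hQ hn5 s w hs hsw⟩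
    intro x hx
    change eichM Q s w *ᵥ x ∈ W
    rw [eichM_mulVec]
    exact W.sub_mem (W.sub_mem (W.add_mem hx (W.smul_mem _ hwU)) (W.smul_mem _ hsU))
      (W.smul_mem _ hsU)
  have hEH' : ∀ s w (hs : Q s = 0) (hsw : polar (⇑Q) s w = 0), s ∈ W' → w ∈ W' →
      eichGL Q s w hs hsw ∈ subspaceStabilizer W ⊓ omegaGL ⇑Q := by
    intro s w hs hsw hsU' hwU'
    refine ⟨mem_stab_of_maps_le W _ ?_, eichGL_mem_omegaGL Q hQ hn5 s w hs hsw⟩
    intro x hx
    change eichM Q s w *ᵥ x ∈ W
    rw [eichM_mulVec, polar_comm (⇑Q) s x, horth x hx s hsU', polar_comm (⇑Q) w x,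
      horth x hx w hwU']
    simpa using hx
  constructor
  · refine SetLike.lt_iff_le_and_exists.2 ⟨inf_le_right, ?_⟩
    obtain ⟨t, t', htU, ht'U, hQt, hQt', htt', -, -, -, -⟩ := hU 0 0
    obtain ⟨t₂, t₂', ht₂U', -, -, -, htt₂, -, -, -, -⟩ := hU' 0 0
    have ht₂0 : t₂ ≠ 0 := by
      rintro rfl
      rw [polar_zero_left] at htt₂
      exact zero_ne_one htt₂
    have htw : polar (⇑Q) t t₂ = 0 := horth t htU t₂ ht₂U'
    refine ⟨eichGL Q t t₂ hQt htw, eichGL_mem_omegaGL Q hQ hn5 t t₂ hQt htw, ?_⟩
    rintro ⟨hstab, -⟩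
    have h1 := ((mem_subspaceStabilizer_iff W _).1 hstab t').1 ht'U
    change eichM Q t t₂ *ᵥ t' ∈ W at h1
    rw [eichM_mulVec, htt', polar_comm (⇑Q) t₂ t', horth t' ht'U t₂ ht₂U'] at h1
    simp only [one_smul, zero_smul, sub_zero, mul_one] at h1
    have h2 : t₂ ∈ W := by
      have := W.add_mem (W.sub_mem h1 ht'U) (W.smul_mem (Q t₂) htU)
      have e : t' + t₂ - Q t₂ • t - t' + Q t₂ • t = t₂ := by abel
      rwa [e] at this
    exact ht₂0 (hdisj t₂ h2 ht₂U')
  · intro M hHM hMG
    by_cases hMH : M ≤ subspaceStabilizer W ⊓ omegaGL ⇑Q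
    · left; exact le_antisymm hMH hHM
    · right
      apply le_antisymm hMG
      obtain ⟨g, hgM, hgH⟩ := SetLike.not_le_iff_exists.1 hMH
      have hgS : g ∉ subspaceStabilizer W := fun h => hgH ⟨h, hMG hgM⟩
      refine le_trans hΩE (EG_le_of_decomp hQ W W' horth hsup hU hU' hWnd hW'nd M
        (fun g' hg' => hΩI g' (hMG hg'))
        (fun s w hsU hwU hs hsw => ⟨eichGL Q s w hs hsw, hHM (hEH s w hs hsw hsU hwU), rfl⟩)
        (fun s w hsU' hwU' hs hsw => ⟨eichGL Q s w hs hsw, hHM (hEH' s w hs hsw hsU' hwU'), rfl⟩)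
        g hgM ?_ ?_)
      · by_contra hcon
        push Not at hcon
        exact hgS (mem_stab_of_maps_le W g hcon)
      · by_contra hcon
        push Not at hcon
        apply hminus
        obtain ⟨U, hU1, hU2⟩ := swap_totally_singular Q W W' horth hdisj hW'nd
          (by rw [hfr]; exact hev) g (hΩI g (hMG hgM)) hcon
        exact ⟨U, hU1, by rw [hU2, hfr]⟩

end Half

end Cfsg.Agent.Helper13
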