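import Mathlib
import Cfsg.Agent.Lib.Helper5.PFADefs
import Cfsg.Agent.Lib.Helper5.OMFChar2

/-! PFA (C2), helper5's lemma server for S2715: `Inndiag(PΩ⁺) = Inn` in characteristic two. -/

set_option autoImplicit false
set_option linter.unusedSectionVars false
set_option linter.unusedVariables false

namespace Cfsg.Agent.Helper13.PFA

open Matrix QuadraticMap Cfsg.Agent.Helper43 Cfsg.Agent.Helper5.OrthAut Cfsg.Agent.Helper40.AutPOm
  Cfsg.Agent.Helper40.FieldCent Cfsg.Agent.Helper5.PFA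

universe u u₀

variable {F₀ : Type u₀} [Field F₀] [Fintype F₀] {F : Type u} [Field F] [Fintype F]

theorem inndiag_eq_inn_char2 (h2 : (2 : F) = 0) {m : ℕ} (hm : 3 ≤ m) : HP m F = KP m F := by
  classical
  have hfam := stdPlus_isHypFamily F m
  have hnd := stdPlus_nondegenerate F m
  have hcard : Fintype.card (Fin m ⊕ Fin m) = 2 * m := by
    simp; ring
  have hexc : Fintype.card F ≠ 2 ∨ Fintype.card (Fin m ⊕ Fin m) ≠ 4 := by
    right; rw [hcard]; omega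
  have hperf := hperf_of_hyp (stdPlus F m) hnd _ _ hfam (by omega) (by rw [hcard]; omega)
  have hcent := hcent_of_hyp (stdPlus F m) hfam (by omega)
    (Cfsg.Agent.Lead.POmegaCard.hspan_plus m)
  have hex : ∃ U₀ : Submodule F (Fin m ⊕ Fin m → F),
      Cfsg.Agent.Helper40.OrthEven.IsTSLag (stdPlus F m) U₀ := by
    refine ⟨lagPlus F m, isLag_lagPlus F m, ?_⟩
    intro v hv
    rw [stdPlus_apply]
    unfold Cfsg.quadFormPlus
    apply Finset.sum_eq_zero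
    intro i _
    rw [(mem_lagPlus F m v).1 hv i, mul_zero]
  obtain ⟨χ, hχ1, hχ2, hχ3⟩ := Cfsg.Agent.Helper40.OEV.A3.exists_classChar
    (stdPlus F m) hnd hex hexc
  let C : Cfsg.Agent.Helper40.OrthEven.ClassChar (stdPlus F m) := ⟨χ, hχ1, hχ2, hχ3⟩
  have hHP : HP m F = Cfsg.Agent.Helper40.OrthEven.inD (stdPlus F m) C :=
    Cfsg.Agent.Helper40.OrthEven.autSubgroupOf_eq_inD (stdPlus F m) C
  have hidx := Cfsg.Agent.Lead.POmegaCard.index_omega_even h2 (stdPlus F m) hnd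
    (by rw [hcard]; omega) hexc
  obtain ⟨v, hv⟩ := hQ0_of_hyp (stdPlus F m) hfam (by omega)
  set ρ := Cfsg.Agent.S0792.reflG (stdPlus F m) v hv with hρ
  have hρn : ρ ∉ Cfsg.Omega F ⇑(stdPlus F m) :=
    Cfsg.Agent.Helper43.OMin.refl_not_mem_omega _ hnd hexc v hv ρ rfl
  -- `χ` is trivial on `Ω`
  have hχΩ : ∀ s : ↥(Cfsg.isometryGroup F ⇑(stdPlus F m)), s ∈ Cfsg.Omega F ⇑(stdPlus F m) →
      χ ⟨s.1, iso_le_sim _ s.2⟩ = 1 := by
    intro s hs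
    let ψ : ↥(Cfsg.Omega F ⇑(stdPlus F m)) →* ℤˣ :=
      { toFun := fun t => χ ⟨t.1.1, iso_le_sim _ t.1.2⟩
        map_one' := map_one χ
        map_mul' := fun a b => map_mul χ ⟨a.1.1, iso_le_sim _ a.1.2⟩ ⟨b.1.1, iso_le_sim _ b.1.2⟩ }
    have hk : ψ.ker = ⊤ := by
      rw [eq_top_iff, ← hperf]
      exact Abelianization.commutator_subset_ker ψ
    have : (⟨s, hs⟩ : ↥(Cfsg.Omega F ⇑(stdPlus F m))) ∈ ψ.ker := hk ▸ Subgroup.mem_top _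
    exact this
  -- an isometry with `χ = 1` lies in `Ω`
  have hχO : ∀ s : ↥(Cfsg.isometryGroup F ⇑(stdPlus F m)),
      χ ⟨s.1, iso_le_sim _ s.2⟩ = 1 → s ∈ Cfsg.Omega F ⇑(stdPlus F m) := by
    intro s hs
    by_contra hnot
    have hmul : s * ρ ∈ Cfsg.Omega F ⇑(stdPlus F m) := by
      rw [Subgroup.mul_mem_iff_of_index_two hidx]
      exact ⟨fun h' => absurd h' hnot, fun h' => absurd h' hρn⟩
    have h3 := hχΩ (s * ρ) hmul
    have h4 : (⟨(s * ρ).1, iso_le_sim _ (s * ρ).2⟩ : ↥(GO (stdPlus F m))) =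
        ⟨s.1, iso_le_sim _ s.2⟩ * ⟨ρ.1, iso_le_sim _ ρ.2⟩ := rfl
    rw [h4, map_mul, hs, one_mul] at h3
    have h5 : χ ⟨ρ.1, iso_le_sim _ ρ.2⟩ = -1 :=
      hχ2 v ⟨ρ.1, iso_le_sim _ ρ.2⟩ hv (Cfsg.Agent.S0792.coe_reflG (stdPlus F m) v hv)
    rw [h5] at h3
    exact absurd h3 (by decide)
  rw [hHP]
  show Cfsg.Agent.Helper40.OrthEven.inD (stdPlus F m) C =
    Cfsg.Inn (Cfsg.POmega F ⇑(stdPlus F m))
  apply le_antisymm
  · intro β hβ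
    obtain ⟨g, hg, rfl⟩ := (Cfsg.Agent.Helper40.OrthEven.mem_inD_iff (stdPlus F m) C β).1 hβ
    obtain ⟨c, h, hh, hgc⟩ := Cfsg.Agent.Helper5.OMF.exists_scl_mul_iso_char2 h2 (stdPlus F m) g.1 g.2
    have hgeq : g = scGO (stdPlus F m) c * ⟨h, iso_le_sim _ hh⟩ := Subtype.ext hgc
    have hχh : χ ⟨h, iso_le_sim _ hh⟩ = 1 := by
      have h1 : χ g = 1 := hg
      rw [hgeq, map_mul] at h1
      have h2' : χ (scGO (stdPlus F m) c) = 1 := C.scalar c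
      rw [h2', one_mul] at h1
      exact h1
    have hmem : (⟨h, hh⟩ : ↥(Cfsg.isometryGroup F ⇑(stdPlus F m))) ∈
        Cfsg.Omega F ⇑(stdPlus F m) := hχO ⟨h, hh⟩ hχh
    have hOm : h ∈ OmGL ⇑(stdPlus F m) := (mem_OmGL _ _).2 ⟨⟨⟨h, hh⟩, hmem⟩, rfl⟩
    rw [hgeq, map_mul, PhiGO_scGO (stdPlus F m) hperf hcent, one_mul, PhiGO_apply]
    show _ ∈ Cfsg.Inn (Cfsg.POmega F ⇑(stdPlus F m))
    rw [inn_eq]
    exact Subgroup.mem_map_of_mem _ (show (⟨h, OmGL_le_NO _ hOm⟩ : ↥(NO ⇑(stdPlus F m))) ∈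
      (OmGL ⇑(stdPlus F m)).subgroupOf (NO ⇑(stdPlus F m)) from hOm)
  · intro β hβ
    have hβ' : β ∈ Cfsg.Inn (Cfsg.POmega F ⇑(stdPlus F m)) := hβ
    rw [inn_eq] at hβ'
    obtain ⟨g, hg, rfl⟩ := hβ'
    have hg' : g.1 ∈ OmGL ⇑(stdPlus F m) := hg
    obtain ⟨s, hs⟩ := (mem_OmGL _ _).1 hg'
    have hgGO : g.1 ∈ GO (stdPlus F m) := iso_le_sim _ (OmGL_le_iso _ hg')
    refine (Cfsg.Agent.Helper40.OrthEven.mem_inD_iff (stdPlus F m) C _).2 ⟨⟨g.1, hgGO⟩, ?_, rfl⟩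
    have h1 := hχΩ s.1 s.2
    have h2' : (⟨(s.1 : ↥(Cfsg.isometryGroup F ⇑(stdPlus F m))).1, iso_le_sim _ s.1.2⟩ :
        ↥(GO (stdPlus F m))) = ⟨g.1, hgGO⟩ := Subtype.ext hs
    rw [h2'] at h1
    exact h1

end Cfsg.Agent.Helper13.PFA
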