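import Mathlib
import Cfsg.Agent.Lib.Helper13.PSLAut
import Cfsg.Agent.Lib.Helper13.DotForm

/-!
# The centralizer of the inverse-transpose automorphism in `Inndiag(PSL_n(F))`

`cent_invT_equiv_pgo_dot`: it is `PGO` of the dot form `Σ xᵢ²` (char ≠ 2).
`dot_fin_iso_plus`, `dot_fin_iso_minus`: the dot form on `Fin (2m)` is isometric to the plus form
(when `m` is even or `-1` is a square) and to `Σ xᵢ yᵢ + z₁² + z₂²` (when `m` is odd).
-/

set_option autoImplicit false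

namespace Cfsg.Agent.Helper13.PSLInvT

open Matrix Cfsg.Agent.Helper13.PSLAut Cfsg.Agent.Helper13.DotForm

variable {F : Type*} [Field F] {n : ℕ}

theorem cent_invT_equiv_pgo_dot (hn : 0 < n) (h2 : (2 : F) ≠ 0)
    {ι : MulAut (Matrix.ProjectiveSpecialLinearGroup (Fin n) F)}
    (hι : Cfsg.IsInverseTransposeAutPSL ι) :
    Nonempty (↥(Cfsg.inndiagPSL n F ⊓ Subgroup.centralizer {ι}) ≃*
      Cfsg.PGO F (dotQ (F := F) (Fin n))) := by
  set N : Subgroup (GL (Fin n) F) := Cfsg.Geo.quadSimilarityGroup (F := F) (dotQ (F := F) (Fin n))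
    with hN
  let ψ : ↥N →* MulAut (Matrix.ProjectiveSpecialLinearGroup (Fin n) F) :=
    (PhiL (F := F) (n := n)).comp N.subtype
  have hrange : ψ.range = Cfsg.inndiagPSL n F ⊓ Subgroup.centralizer {ι} := by
    ext x
    constructor
    · rintro ⟨⟨g, hg⟩, rfl⟩
      refine ⟨?_, ?_⟩
      · rw [inndiagPSL_eq_range]
        exact ⟨g, rfl⟩
      · exact (PhiL_mem_centralizer_iff hn hι g).2 ((mem_sim_dot_iff h2 g).1 hg)
    · rintro ⟨h1, h3⟩
      rw [inndiagPSL_eq_range] at h1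
      obtain ⟨g, rfl⟩ := h1
      exact ⟨⟨g, (mem_sim_dot_iff h2 g).2 ((PhiL_mem_centralizer_iff hn hι g).1 h3)⟩, rfl⟩
  have hker : ψ.ker = (Cfsg.Geo.scalars (Fin n) F).subgroupOf N := by
    ext ⟨g, hg⟩
    rw [MonoidHom.mem_ker, Subgroup.mem_subgroupOf]
    exact PhiL_eq_one_iff hn g
  have e1 : ↥N ⧸ ψ.ker ≃* ψ.range := QuotientGroup.quotientKerEquivRange ψ
  have e2 : ↥N ⧸ ψ.ker ≃* ↥N ⧸ (Cfsg.Geo.scalars (Fin n) F).subgroupOf N :=
    QuotientGroup.quotientMulEquivOfEq hker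
  have e3 : ψ.range ≃* ↥(Cfsg.inndiagPSL n F ⊓ Subgroup.centralizer {ι}) :=
    MulEquiv.subgroupCongr hrange
  exact ⟨(e3.symm.trans e1.symm).trans e2⟩

/-- `a² + b² = -1` is solvable in a finite field of odd order -/
theorem exists_sq_add_sq_eq_neg_one [Fintype F] (hodd : Odd (Fintype.card F)) :
    ∃ a b : F, a * a + b * b = -1 := by
  classical
  have hf : (Polynomial.X ^ 2 : Polynomial F).degree = 2 := Polynomial.degree_X_pow 2
  have hg : (Polynomial.X ^ 2 + Polynomial.C 1 : Polynomial F).degree = 2 :=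
    Polynomial.degree_X_pow_add_C (by norm_num) 1
  obtain ⟨a, b, hab⟩ := FiniteField.exists_root_sum_quadratic hf hg (Nat.odd_iff.mp hodd)
  refine ⟨a, b, ?_⟩
  simp only [Polynomial.eval_pow, Polynomial.eval_X, Polynomial.eval_add, Polynomial.eval_C] at hab
  linear_combination hab

theorem dot_fin_iso_plus [Fintype F] (hodd : Odd (Fintype.card F)) (h2 : (2 : F) ≠ 0) (m : ℕ)
    (h : Even m ∨ IsSquare (-1 : F)) :
    QIso (dotQ (F := F) (Fin (2 * m))) (plusQ (F := F) (Fin m)) := by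
  rcases h with ⟨k, hk⟩ | ⟨i, hi⟩
  · obtain ⟨a, b, hab⟩ := exists_sq_add_sq_eq_neg_one (F := F) hodd
    have h4 := dot_iso_plus_four h2 a b hab (Fin k)
    have σ : Fin (2 * m) ≃ (Fin k ⊕ Fin k) ⊕ (Fin k ⊕ Fin k) :=
      Fintype.equivOfCardEq (by simp only [Fintype.card_sum, Fintype.card_fin]; omega)
    have τ : Fin k ⊕ Fin k ≃ Fin m :=
      Fintype.equivOfCardEq (by simp only [Fintype.card_sum, Fintype.card_fin]; omega)
    exact ((dot_reindex σ).trans h4).trans (plus_reindex τ)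
  · have h4 := dot_iso_plus_sq h2 i hi.symm (Fin m)
    have σ : Fin (2 * m) ≃ Fin m ⊕ Fin m :=
      Fintype.equivOfCardEq (by simp only [Fintype.card_sum, Fintype.card_fin]; omega)
    exact (dot_reindex σ).trans h4

theorem dot_fin_iso_minus [Fintype F] (hodd : Odd (Fintype.card F)) (h2 : (2 : F) ≠ 0) (m : ℕ)
    (h : Odd m) :
    QIso (dotQ (F := F) (Fin (2 * m))) (minusQ (F := F) (Fin (m - 1))) := by
  obtain ⟨k, hk⟩ := h
  obtain ⟨a, b, hab⟩ := exists_sq_add_sq_eq_neg_one (F := F) hodd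
  have h4 := dot_iso_plus_four h2 a b hab (Fin k)
  have τ : Fin k ⊕ Fin k ≃ Fin (m - 1) :=
    Fintype.equivOfCardEq (by simp only [Fintype.card_sum, Fintype.card_fin]; omega)
  have h5 := dot_iso_minus (h4.trans (plus_reindex τ))
  have σ : Fin (2 * m) ≃ ((Fin k ⊕ Fin k) ⊕ (Fin k ⊕ Fin k)) ⊕ Fin 2 :=
    Fintype.equivOfCardEq (by simp only [Fintype.card_sum, Fintype.card_fin]; omega)
  exact (dot_reindex σ).trans h5

/-- `z₁² + z₂²` is anisotropic when `-1` is not a square -/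
theorem aniso_of_not_isSquare (h : ¬ IsSquare (-1 : F)) (z₁ z₂ : F)
    (hz : z₁ ^ 2 + 0 * z₁ * z₂ + 1 * z₂ ^ 2 = 0) : z₁ = 0 ∧ z₂ = 0 := by
  have hz2 : z₂ = 0 := by
    by_contra hne
    apply h
    refine ⟨z₁ / z₂, ?_⟩
    field_simp
    linear_combination -hz
  subst hz2
  refine ⟨?_, rfl⟩
  have : z₁ ^ 2 = 0 := by linear_combination hz
  exact pow_eq_zero_iff (two_ne_zero) |>.mp this

end Cfsg.Agent.Helper13.PSLInvT
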