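import Mathlib
import Cfsg.Agent.Lib.Helper13.HermWitt
import Cfsg.Agent.Lib.Helper13.NormSurj

set_option autoImplicit false
set_option linter.unusedSimpArgs false
set_option linter.unusedVariables false

namespace Cfsg.Agent.Helper13.PSUGeo

open Module Submodule
open Cfsg.Agent.Helper13

section Geo

variable {F V : Type*} [Field F] [Finite F] [AddCommGroup V] [Module F V] (σ : F →+* F)
  (hσ : σ ≠ RingHom.id F) (hσ2 : ∀ a : F, σ (σ a) = a)
  (B : V →ₛₗ[σ] V →ₗ[F] F) (hS : B.IsSymm)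
  (W : Submodule F V) (hW : ∀ w ∈ W, (∀ w' ∈ W, B w w' = 0) → w = 0)

include hσ hσ2 hS hW

/-- an isotropic vector of a non-degenerate subspace has an isotropic partner there -/
theorem exists_partner_in {x : V} (hxW : x ∈ W) (hx : x ≠ 0) (hxx : B x x = 0) :
    ∃ y ∈ W, B x y = 1 ∧ B y y = 0 := by
  obtain ⟨y₁, hy₁W, hy₁⟩ : ∃ y₁ ∈ W, B x y₁ ≠ 0 := by
    by_contra hcon
    push Not at hcon
    exact hx (hW x hxW hcon)
  have h2 : B x ((B x y₁)⁻¹ • y₁) = 1 := by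
    rw [map_smul, smul_eq_mul, inv_mul_cancel₀ hy₁]
  have h2W : (B x y₁)⁻¹ • y₁ ∈ W := W.smul_mem _ hy₁W
  generalize (B x y₁)⁻¹ • y₁ = y₂ at h2 h2W
  have h3 : B y₂ x = 1 := by rw [← hS.eq x y₂, h2, map_one]
  obtain ⟨α, hα⟩ := trace_surj_involution σ hσ hσ2 (-(B y₂ y₂)) (by rw [map_neg, hS.eq])
  refine ⟨y₂ + α • x, W.add_mem h2W (W.smul_mem _ hxW), ?_, ?_⟩
  · rw [map_add, map_smul, hxx, smul_zero, add_zero, h2]
  · simp only [map_add, LinearMap.add_apply, map_smul, LinearMap.map_smulₛₗ, LinearMap.smul_apply,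
      smul_eq_mul, hxx, h2, h3]
    linear_combination hα

/-- in a non-degenerate subspace of dimension at least two every non-zero vector has an
isotropic non-neighbour -/
theorem exists_iso_nonorth (hdim : ∀ k ∈ W, ∃ z ∈ W, ∀ a : F, z ≠ a • k)
    {k : V} (hkW : k ∈ W) (hk : k ≠ 0) : ∃ x ∈ W, B x x = 0 ∧ B x k ≠ 0 := by
  by_cases hkk : B k k = 0
  · obtain ⟨y, hyW, hky, hyy⟩ := exists_partner_in σ hσ hσ2 B hS W hW hkW hk hkk
    refine ⟨y, hyW, hyy, ?_⟩
    rw [← hS.eq k y, hky, map_one]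
    exact one_ne_zero
  obtain ⟨z, hzW, hz⟩ := hdim k hkW
  set y₀ := z - (B k z / B k k) • k with hy₀
  have hy₀W : y₀ ∈ W := W.sub_mem hzW (W.smul_mem _ hkW)
  have hky₀ : B k y₀ = 0 := by
    rw [hy₀, map_sub, map_smul, smul_eq_mul, div_mul_cancel₀ _ hkk, sub_self]
  have hy₀k : B y₀ k = 0 := by rw [← hS.eq k y₀, hky₀, map_zero]
  have hy₀0 : y₀ ≠ 0 := by
    intro h
    exact hz (B k z / B k k) (sub_eq_zero.mp h)
  have hkkfix : σ (B k k) = B k k := hS.eq k k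
  by_cases hyy : B y₀ y₀ = 0
  · obtain ⟨y₁, hy₁W, hy₀y₁, hy₁y₁⟩ := exists_partner_in σ hσ hσ2 B hS W hW hy₀W hy₀0 hyy
    have hy₁y₀ : B y₁ y₀ = 1 := by rw [← hS.eq y₀ y₁, hy₀y₁, map_one]
    by_cases h1 : B y₁ k = 0
    swap
    · exact ⟨y₁, hy₁W, hy₁y₁, h1⟩
    have hky₁ : B k y₁ = 0 := by rw [← hS.eq y₁ k, h1, map_zero]
    obtain ⟨c, hc⟩ := trace_surj_involution σ hσ hσ2 (-(B k k)) (by rw [map_neg, hkkfix])
    refine ⟨k + y₀ + c • y₁, W.add_mem (W.add_mem hkW hy₀W) (W.smul_mem _ hy₁W), ?_, ?_⟩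
    · simp only [map_add, LinearMap.add_apply, map_smul, LinearMap.map_smulₛₗ,
        LinearMap.smul_apply, smul_eq_mul, hyy, hky₀, hy₀k, hky₁, h1, hy₀y₁, hy₁y₀, hy₁y₁]
      linear_combination hc
    · simp only [map_add, LinearMap.add_apply, map_smul, LinearMap.map_smulₛₗ,
        LinearMap.smul_apply, smul_eq_mul, hy₀k, h1, mul_zero, add_zero]
      exact hkk
  · have hyyfix : σ (B y₀ y₀) = B y₀ y₀ := hS.eq y₀ y₀
    obtain ⟨l, hl⟩ := norm_surj_involution σ hσ hσ2 (-(B k k) / B y₀ y₀)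
      (div_ne_zero (neg_ne_zero.mpr hkk) hyy) (by rw [map_div₀, map_neg, hkkfix, hyyfix])
    refine ⟨k + l • y₀, W.add_mem hkW (W.smul_mem _ hy₀W), ?_, ?_⟩
    · simp only [map_add, LinearMap.add_apply, map_smul, LinearMap.map_smulₛₗ,
        LinearMap.smul_apply, smul_eq_mul, hky₀, hy₀k, mul_zero, add_zero, zero_add]
      have : l * σ l * B y₀ y₀ = -(B k k) := by
        rw [hl, div_mul_cancel₀ _ hyy]
      linear_combination this
    · simp only [map_add, LinearMap.add_apply, map_smul, LinearMap.map_smulₛₗ,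
        LinearMap.smul_apply, smul_eq_mul, hy₀k, mul_zero, add_zero]
      exact hkk

/-- two non-zero vectors have a common isotropic non-neighbour -/
theorem exists_iso_common (hdim : ∀ k ∈ W, ∃ z ∈ W, ∀ a : F, z ≠ a • k)
    {x x₁ : V} (hxW : x ∈ W) (hx : x ≠ 0) (hx₁W : x₁ ∈ W) (hx₁ : x₁ ≠ 0) :
    ∃ y ∈ W, B y y = 0 ∧ B y x ≠ 0 ∧ B y x₁ ≠ 0 := by
  obtain ⟨y, hyW, hyy, hyx⟩ := exists_iso_nonorth σ hσ hσ2 B hS W hW hdim hxW hx
  by_cases h1 : B y x₁ = 0
  swap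
  · exact ⟨y, hyW, hyy, hyx, h1⟩
  obtain ⟨y₁, hy₁W, hy₁y₁, hy₁x₁⟩ := exists_iso_nonorth σ hσ hσ2 B hS W hW hdim hx₁W hx₁
  by_cases h2 : B y₁ x = 0
  swap
  · exact ⟨y₁, hy₁W, hy₁y₁, h2, hy₁x₁⟩
  have hy₁y : B y₁ y = σ (B y y₁) := (hS.eq y y₁).symm
  obtain ⟨a, ha0, ha⟩ : ∃ a : F, a ≠ 0 ∧ a * B y y₁ + σ (a * B y y₁) = 0 := by
    by_cases h4 : B y y₁ = 0
    · exact ⟨1, one_ne_zero, by rw [h4, mul_zero, map_zero, add_zero]⟩
    · obtain ⟨c, hc⟩ : ∃ c, σ c ≠ c := by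
        by_contra hcon
        push Not at hcon
        exact hσ (RingHom.ext hcon)
      refine ⟨(c - σ c) / B y y₁, div_ne_zero (sub_ne_zero.mpr (Ne.symm hc)) h4, ?_⟩
      rw [div_mul_cancel₀ _ h4, map_sub, hσ2]
      ring
  refine ⟨y + a • y₁, W.add_mem hyW (W.smul_mem _ hy₁W), ?_, ?_, ?_⟩
  · simp only [map_add, LinearMap.add_apply, map_smul, LinearMap.map_smulₛₗ, LinearMap.smul_apply,
      smul_eq_mul, hyy, hy₁y₁, hy₁y]
    rw [map_mul] at ha
    linear_combination ha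
  · simp only [map_add, LinearMap.add_apply, LinearMap.map_smulₛₗ, LinearMap.smul_apply, h2,
      smul_zero, add_zero]
    exact hyx
  · simp only [map_add, LinearMap.add_apply, LinearMap.map_smulₛₗ, LinearMap.smul_apply, h1,
      zero_add, smul_eq_mul]
    exact mul_ne_zero (by
      intro h
      apply ha0
      have := congrArg σ h
      rw [hσ2, map_zero] at this
      exact this) hy₁x₁

/-- every vector is a sum of two isotropic vectors -/
theorem exists_iso_sum (hdim : ∀ k ∈ W, ∃ z ∈ W, ∀ a : F, z ≠ a • k) {w : V} (hwW : w ∈ W) :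
    ∃ x₁ ∈ W, ∃ x₂ ∈ W, B x₁ x₁ = 0 ∧ B x₂ x₂ = 0 ∧ w = x₁ + x₂ := by
  by_cases hw : w = 0
  · exact ⟨0, W.zero_mem, 0, W.zero_mem, by simp, by simp, by rw [hw, add_zero]⟩
  obtain ⟨x, hxW, hxx, hxw⟩ := exists_iso_nonorth σ hσ hσ2 B hS W hW hdim hwW hw
  have hwx : B w x = σ (B x w) := (hS.eq x w).symm
  have hwwfix : σ (B w w) = B w w := hS.eq w w
  obtain ⟨c, hc⟩ := trace_surj_involution σ hσ hσ2 (-(B w w)) (by rw [map_neg, hwwfix])
  -- `s = c / B w x` makes `w + s x` isotropic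
  have hwx0 : B w x ≠ 0 := by
    rw [hwx]
    intro h
    apply hxw
    have := congrArg σ h
    rw [hσ2, map_zero] at this
    exact this
  refine ⟨w + (c / B w x) • x, W.add_mem hwW (W.smul_mem _ hxW), -((c / B w x) • x),
    W.neg_mem (W.smul_mem _ hxW), ?_, ?_, by abel⟩
  · simp only [map_add, LinearMap.add_apply, map_smul, LinearMap.map_smulₛₗ, LinearMap.smul_apply,
      smul_eq_mul, hxx, mul_zero, add_zero]
    have e1 : c / B w x * B w x = c := div_mul_cancel₀ _ hwx0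
    have e2 : σ (c / B w x) * B x w = σ c := by
      rw [map_div₀, hwx, hσ2, div_mul_cancel₀ _ hxw]
    rw [e1, e2]
    linear_combination hc
  · simp only [map_neg, LinearMap.neg_apply, map_smul, LinearMap.map_smulₛₗ, LinearMap.smul_apply,
      hxx, smul_zero, neg_zero]

/-- a non-zero subspace closed under the moves induced by transvections is everything -/
theorem eq_of_closed_moves (K : Submodule F V) (hKW : K ≤ W) (hK : K ≠ ⊥)
    (hmove : ∀ x ∈ W, B x x = 0 → ∀ k ∈ K, B x k ≠ 0 → x ∈ K) : K = W := by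
  apply le_antisymm hKW
  obtain ⟨k, hkK, hk⟩ := (Submodule.ne_bot_iff K).mp hK
  have hkW : k ∈ W := hKW hkK
  by_cases hdim : ∀ k ∈ W, ∃ z ∈ W, ∀ a : F, z ≠ a • k
  · obtain ⟨x, hxW, hxx, hxk⟩ := exists_iso_nonorth σ hσ hσ2 B hS W hW hdim hkW hk
    have hxK : x ∈ K := hmove x hxW hxx k hkK hxk
    have hx0 : x ≠ 0 := by
      intro h
      rw [h, map_zero, LinearMap.zero_apply] at hxk
      exact hxk rfl
    obtain ⟨x', hx'W, hxx', hx'x'⟩ := exists_partner_in σ hσ hσ2 B hS W hW hxW hx0 hxx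
    have hx'x : B x' x = 1 := by rw [← hS.eq x x', hxx', map_one]
    have hx'K : x' ∈ K := hmove x' hx'W hx'x' x hxK (by rw [hx'x]; exact one_ne_zero)
    intro z hzW
    -- `z₀ = z - B(x',z) x - B(x,z) x'` is orthogonal to `x` and `x'`
    set z₀ := z - B x' z • x - B x z • x' with hz₀
    have hz₀W : z₀ ∈ W := W.sub_mem (W.sub_mem hzW (W.smul_mem _ hxW)) (W.smul_mem _ hx'W)
    have h1 : B x z₀ = 0 := by
      rw [hz₀, map_sub, map_sub, map_smul, map_smul, hxx, hxx']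
      simp
    have h2 : B x' z₀ = 0 := by
      rw [hz₀, map_sub, map_sub, map_smul, map_smul, hx'x, hx'x']
      simp
    have h1' : B z₀ x = 0 := by rw [← hS.eq x z₀, h1, map_zero]
    have h2' : B z₀ x' = 0 := by rw [← hS.eq x' z₀, h2, map_zero]
    have hfix : σ (B z₀ z₀) = B z₀ z₀ := hS.eq z₀ z₀
    obtain ⟨c, hc⟩ := trace_surj_involution σ hσ hσ2 (-(B z₀ z₀)) (by rw [map_neg, hfix])
    set y := z₀ + x + c • x' with hy
    have hyW : y ∈ W := W.add_mem (W.add_mem hz₀W hxW) (W.smul_mem _ hx'W)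
    have hyy : B y y = 0 := by
      rw [hy]
      simp only [map_add, LinearMap.add_apply, map_smul, LinearMap.map_smulₛₗ,
        LinearMap.smul_apply, smul_eq_mul, hxx, hx'x', hxx', hx'x, h1, h2, h1', h2']
      linear_combination hc
    have hyx' : B y x' ≠ 0 := by
      rw [hy]
      simp only [map_add, LinearMap.add_apply, LinearMap.map_smulₛₗ, LinearMap.smul_apply,
        hx'x', h2', hxx', smul_zero, add_zero, zero_add]
      exact one_ne_zero
    have hyK : y ∈ K := hmove y hyW hyy x' hx'K hyx'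
    have hz₀K : z₀ ∈ K := by
      have : z₀ = y - x - c • x' := by rw [hy]; abel
      rw [this]
      exact K.sub_mem (K.sub_mem hyK hxK) (K.smul_mem _ hx'K)
    have : z = z₀ + B x' z • x + B x z • x' := by rw [hz₀]; abel
    rw [this]
    exact K.add_mem (K.add_mem hz₀K (K.smul_mem _ hxK)) (K.smul_mem _ hx'K)
  · push Not at hdim
    obtain ⟨k₀, hk₀W, hk₀⟩ := hdim
    obtain ⟨a, ha⟩ := hk₀ k hkW
    have ha0 : a ≠ 0 := by
      intro h
      rw [h, zero_smul] at ha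
      exact hk ha
    intro z hzW
    obtain ⟨b, hb⟩ := hk₀ z hzW
    have : z = (b * a⁻¹) • k := by
      rw [ha, smul_smul, mul_assoc, inv_mul_cancel₀ ha0, mul_one, hb]
    rw [this]
    exact K.smul_mem _ hkK

end Geo

end Cfsg.Agent.Helper13.PSUGeo
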