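import Mathlib
import Cfsg.Agent.Lib.Helper13.SUPrim

set_option autoImplicit false
set_option linter.unusedSimpArgs false
set_option linter.unusedVariables false

namespace Cfsg.Agent.Helper13.PSUEich

open Module Submodule Matrix
open Cfsg.Agent.Helper13

section Abstract

variable {F V : Type*} [Field F] [AddCommGroup V] [Module F V] {σ : F →+* F}
  (B : V →ₛₗ[σ] V →ₗ[F] F) (hS : B.IsSymm)

include hS in
/-- the general Eichler (Siegel) transformation is an isometry -/
theorem eichler_gen_isometry (u w : V) (c : F) (huu : B u u = 0) (huw : B u w = 0)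
    (hc : c + σ c + B w w = 0) (x y : V) :
    B (x + B u x • w - B w x • u + (c * B u x) • u)
      (y + B u y • w - B w y • u + (c * B u y) • u) = B x y := by
  have hwu : B w u = 0 := by rw [← hS.eq u w, huw, map_zero]
  have e1 : B x u = σ (B u x) := (hS.eq u x).symm
  have e2 : B x w = σ (B w x) := (hS.eq w x).symm
  simp only [map_add, map_sub, LinearMap.add_apply, LinearMap.sub_apply, map_smul,
    LinearMap.map_smulₛₗ, LinearMap.smul_apply, smul_eq_mul, huu, hwu, huw, e1, e2, map_mul]
  linear_combination (σ (B u x) * B u y) * hc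

end Abstract

section Ei

variable {F : Type*} [Field F] [Fintype F] {q n : ℕ} (hF : Fintype.card F = q ^ 2)

/-- validity of Eichler data -/
def Valid (u w : Fin n → F) (c : F) : Prop :=
  stdB hF n u u = 0 ∧ stdB hF n u w = 0 ∧ c + c ^ q + stdB hF n w w = 0

/-- the matrix of the Eichler transformation -/
def eiMat (q : ℕ) (u w : Fin n → F) (c : F) : Matrix (Fin n) (Fin n) F :=
  eichlerMat q u w * M1 q c u u

theorem eiMat_mulVec {u w : Fin n → F} {c : F} (h : Valid hF u w c) (x : Fin n → F) :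
    eiMat q u w c *ᵥ x =
      x + stdB hF n u x • w - stdB hF n w x • u + (c * stdB hF n u x) • u := by
  obtain ⟨huu, huw, hc⟩ := h
  have hwu : stdB hF n w u = 0 := stdB_swap_zero hF _ _ huw
  unfold eiMat
  rw [← Matrix.mulVec_mulVec, M1_mulVec, eichlerMat_mulVec hF u w huu, ← stdB_apply hF]
  simp only [map_add, map_smul, huu, hwu, smul_zero, add_zero, smul_eq_mul, mul_zero]
  abel

theorem eiMat_det {u w : Fin n → F} {c : F} (h : Valid hF u w c) : (eiMat q u w c).det = 1 := by
  obtain ⟨huu, huw, hc⟩ := h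
  have hwu : stdB hF n w u = 0 := stdB_swap_zero hF _ _ huw
  unfold eiMat eichlerMat
  rw [Matrix.det_mul, Matrix.det_mul, M1_det, M1_det, M1_det, ← stdB_apply hF, ← stdB_apply hF,
    ← stdB_apply hF, huw, hwu, huu]
  ring

open Classical in
/-- the Eichler transformation `x ↦ x + B(u,x) w - B(w,x) u + c B(u,x) u` as an element of `SU`
(the identity when the data is not valid) -/
noncomputable def ei (u w : Fin n → F) (c : F) : ↥(Cfsg.SU n F q) :=
  if h : Valid hF u w c then
    mkSU (eiMat q u w c) (eiMat_det hF h) (fun x y => by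
      rw [eiMat_mulVec hF h, eiMat_mulVec hF h, ← stdB_apply hF, ← stdB_apply hF]
      exact eichler_gen_isometry (stdB hF n) (stdB_isSymm hF n) u w c h.1 h.2.1 h.2.2 y x)
  else 1

omit [Fintype F] in
theorem actv_sub_aux (t : ↥(Cfsg.SU n F q)) (x y : Fin n → F) :
    actv t (x - y) = actv t x - actv t y := Matrix.mulVec_sub _ _ _

theorem actv_ei {u w : Fin n → F} {c : F} (h : Valid hF u w c) (x : Fin n → F) :
    actv (ei hF u w c) x =
      x + stdB hF n u x • w - stdB hF n w x • u + (c * stdB hF n u x) • u := by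
  unfold ei actv
  rw [dif_pos h, mkSU_val, eiMat_mulVec hF h]

theorem stdB_conj (x y : Fin n → F) : stdB hF n x y = (stdB hF n y x) ^ q := by
  have := (stdB_isSymm hF n).eq y x
  rw [frobQ_apply] at this
  exact this.symm

theorem valid_zero {u : Fin n → F} (huu : stdB hF n u u = 0) {a : F} (ha : a + a ^ q = 0) :
    Valid hF u 0 a := by
  refine ⟨huu, map_zero _, ?_⟩
  rw [map_zero, add_zero]
  exact ha

theorem valid_mul {u w w' : Fin n → F} {c c' : F} (h : Valid hF u w c) (h' : Valid hF u w' c') :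
    Valid hF u (w + w') (c + c' - stdB hF n w w') := by
  obtain ⟨huu, huw, hc⟩ := h
  obtain ⟨-, huw', hc'⟩ := h'
  refine ⟨huu, by rw [map_add, huw, huw', add_zero], ?_⟩
  have e : stdB hF n w' w = (stdB hF n w w') ^ q := stdB_conj hF w' w
  have e2 : (c + c' - stdB hF n w w') ^ q = c ^ q + c' ^ q - (stdB hF n w w') ^ q := by
    have := map_sub (frobQ hF) (c + c') (stdB hF n w w')
    rw [map_add] at this
    exact this
  simp only [map_add, LinearMap.add_apply, e, e2]
  linear_combination hc + hc'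

theorem ei_mul {u w w' : Fin n → F} {c c' : F} (h : Valid hF u w c) (h' : Valid hF u w' c') :
    ei hF u w c * ei hF u w' c' = ei hF u (w + w') (c + c' - stdB hF n w w') := by
  apply SU_ext
  intro x
  change actv _ x = actv _ x
  rw [actv_mul, actv_ei hF h', actv_ei hF h, actv_ei hF (valid_mul hF h h')]
  obtain ⟨huu, huw, hc⟩ := h
  obtain ⟨-, huw', hc'⟩ := h'
  have hwu : stdB hF n w u = 0 := stdB_swap_zero hF _ _ huw
  simp only [map_add, map_sub, map_smul, LinearMap.add_apply, smul_eq_mul, huu, huw, huw', hwu,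
    mul_zero, add_zero, sub_zero]
  ext i
  simp only [Pi.add_apply, Pi.sub_apply, Pi.smul_apply, smul_eq_mul]
  ring

theorem ei_zero_zero {u : Fin n → F} (huu : stdB hF n u u = 0) : ei hF u 0 0 = 1 := by
  have hv : Valid hF u 0 0 := valid_zero hF huu (by rw [zero_pow (q_pos hF).ne', add_zero])
  apply SU_ext
  intro x
  change actv _ x = actv _ x
  rw [actv_ei hF hv, actv_one]
  simp

theorem valid_inv {u w : Fin n → F} {c : F} (h : Valid hF u w c) : Valid hF u (-w) (c ^ q) := by
  obtain ⟨huu, huw, hc⟩ := h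
  refine ⟨huu, by rw [map_neg, huw, neg_zero], ?_⟩
  rw [frob_frob hF]
  simp only [map_neg, LinearMap.neg_apply, neg_neg]
  linear_combination hc

theorem ei_inv {u w : Fin n → F} {c : F} (h : Valid hF u w c) :
    (ei hF u w c)⁻¹ = ei hF u (-w) (c ^ q) := by
  rw [inv_eq_iff_mul_eq_one, ei_mul hF h (valid_inv hF h)]
  have : c + c ^ q - stdB hF n w (-w) = 0 := by
    rw [map_neg]
    linear_combination h.2.2
  rw [this, add_neg_cancel, ei_zero_zero hF h.1]

/-- conjugation of an Eichler element by an element of `SU` -/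
theorem valid_conj {u w : Fin n → F} {c : F} (h : Valid hF u w c) (g : ↥(Cfsg.SU n F q)) :
    Valid hF (actv g u) (actv g w) c := by
  obtain ⟨huu, huw, hc⟩ := h
  refine ⟨by rw [actv_iso, huu], by rw [actv_iso, huw], by rw [actv_iso]; exact hc⟩

theorem ei_conj {u w : Fin n → F} {c : F} (h : Valid hF u w c) (g : ↥(Cfsg.SU n F q)) :
    g * ei hF u w c * g⁻¹ = ei hF (actv g u) (actv g w) c := by
  apply SU_ext
  intro x
  change actv _ x = actv _ x
  rw [actv_mul, actv_mul, actv_ei hF h, actv_ei hF (valid_conj hF h g)]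
  have e1 : ∀ y, stdB hF n y (actv g⁻¹ x) = stdB hF n (actv g y) x := by
    intro y
    rw [← actv_iso hF g y (actv g⁻¹ x), ← actv_mul, mul_inv_cancel, actv_one]
  rw [e1, e1]
  simp only [actv_add, actv_sub_aux, actv_smul]
  rw [← actv_mul, mul_inv_cancel, actv_one]

/-- rescaling the isotropic vector -/
theorem valid_scale {u w : Fin n → F} {c : F} (h : Valid hF u w c) (l : F) :
    Valid hF u (l ^ q • w) (l * l ^ q * c) := by
  obtain ⟨huu, huw, hc⟩ := h
  refine ⟨huu, by rw [map_smul, huw, smul_zero], ?_⟩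
  have e : (l * l ^ q * c) ^ q = l ^ q * l * c ^ q := by
    rw [mul_pow, mul_pow, frob_frob hF]
  have e2 : frobQ hF (l ^ q) = l := frob_frob hF l
  simp only [map_smul, LinearMap.map_smulₛₗ, LinearMap.smul_apply, smul_eq_mul, e, e2]
  linear_combination (l * l ^ q) * hc

theorem valid_smul_left {u w : Fin n → F} {c : F} (h : Valid hF u w c) (l : F) :
    Valid hF (l • u) w c := by
  obtain ⟨huu, huw, hc⟩ := h
  refine ⟨?_, ?_, hc⟩
  · simp only [map_smul, LinearMap.map_smulₛₗ, LinearMap.smul_apply, huu, smul_zero]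
  · simp only [map_smul, LinearMap.map_smulₛₗ, LinearMap.smul_apply, huw, smul_zero]

theorem ei_smul_left {u w : Fin n → F} {c : F} (h : Valid hF u w c) (l : F) :
    ei hF (l • u) w c = ei hF u (l ^ q • w) (l * l ^ q * c) := by
  apply SU_ext
  intro x
  change actv _ x = actv _ x
  rw [actv_ei hF (valid_smul_left hF h l), actv_ei hF (valid_scale hF h l)]
  have e2 : frobQ hF (l ^ q) = l := frob_frob hF l
  simp only [map_smul, LinearMap.map_smulₛₗ, LinearMap.smul_apply, smul_eq_mul, e2, frobQ_apply]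
  ext i
  simp only [Pi.add_apply, Pi.sub_apply, Pi.smul_apply, smul_eq_mul]
  ring

/-- shifting `w` along `u` -/
theorem valid_shift {u w : Fin n → F} {c : F} (h : Valid hF u w c) (b : F) :
    Valid hF u (w + b • u) (c - b + b ^ q) := by
  obtain ⟨huu, huw, hc⟩ := h
  have hwu : stdB hF n w u = 0 := stdB_swap_zero hF _ _ huw
  refine ⟨huu, by rw [map_add, map_smul, huw, huu, smul_zero, add_zero], ?_⟩
  have e : (c - b + b ^ q) ^ q = c ^ q - b ^ q + b := by
    have := map_add (frobQ hF) (c - b) (b ^ q)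
    rw [map_sub] at this
    simp only [frobQ_apply, frob_frob hF] at this
    exact this
  simp only [map_add, map_smul, LinearMap.map_smulₛₗ, LinearMap.smul_apply, LinearMap.add_apply,
    smul_eq_mul, huu, huw, hwu, e, mul_zero, add_zero]
  linear_combination hc

theorem ei_shift {u w : Fin n → F} {c : F} (h : Valid hF u w c) (b : F) :
    ei hF u (w + b • u) (c - b + b ^ q) = ei hF u w c := by
  apply SU_ext
  intro x
  change actv _ x = actv _ x
  rw [actv_ei hF (valid_shift hF h b), actv_ei hF h]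
  simp only [map_add, map_smul, LinearMap.map_smulₛₗ, LinearMap.smul_apply, LinearMap.add_apply,
    smul_eq_mul, frobQ_apply]
  ext i
  simp only [Pi.add_apply, Pi.sub_apply, Pi.smul_apply, smul_eq_mul]
  ring

/-- with a hyperbolic partner `v`, the parameters `(w, c)` with `w ⟂ v` are determined -/
theorem ei_inj {u v w w' : Fin n → F} {c c' : F} (h : Valid hF u w c) (h' : Valid hF u w' c')
    (huv : stdB hF n u v = 1) (hvw : stdB hF n v w = 0) (hvw' : stdB hF n v w' = 0)
    (he : ei hF u w c = ei hF u w' c') : w = w' ∧ c = c' := by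
  have hvu : stdB hF n v u = 1 := by
    rw [stdB_conj, huv, one_pow]
  have hwv : stdB hF n w v = 0 := stdB_swap_zero hF _ _ hvw
  have hwv' : stdB hF n w' v = 0 := stdB_swap_zero hF _ _ hvw'
  have h1 := congrArg (fun g => actv g v) he
  simp only [actv_ei hF h, actv_ei hF h', huv, hwv, hwv', one_smul, zero_smul, sub_zero,
    mul_one] at h1
  have h2 : w + c • u = w' + c' • u := by
    have := h1
    rw [add_assoc, add_assoc] at this
    exact add_left_cancel this
  have h3 := congrArg (fun y => stdB hF n v y) h2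
  simp only [map_add, map_smul, hvw, hvw', hvu, smul_eq_mul, mul_one, zero_add] at h3
  refine ⟨?_, h3⟩
  rw [h3] at h2
  exact add_right_cancel h2

end Ei

section Groups

variable {F : Type*} [Field F] [Fintype F] {q n : ℕ} (hF : Fintype.card F = q ^ 2)

/-- the unipotent radical of the stabilizer of the point `u`: fixes `u` and acts trivially on
`u^⊥ / u` -/
def Qs (u : Fin n → F) : Subgroup ↥(Cfsg.SU n F q) where
  carrier := {g | actv g u = u ∧ ∀ x, stdB hF n u x = 0 → ∃ b : F, actv g x = x + b • u}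
  one_mem' := ⟨actv_one u, fun x _ => ⟨0, by rw [actv_one, zero_smul, add_zero]⟩⟩
  mul_mem' := by
    rintro g h ⟨hgu, hg⟩ ⟨hhu, hh⟩
    refine ⟨by rw [actv_mul, hhu, hgu], fun x hx => ?_⟩
    obtain ⟨b, hb⟩ := hh x hx
    obtain ⟨b', hb'⟩ := hg x hx
    exact ⟨b' + b, by rw [actv_mul, hb, actv_add, actv_smul, hgu, hb', add_smul, add_assoc]⟩
  inv_mem' := by
    rintro g ⟨hgu, hg⟩
    refine ⟨actv_inv g u u hgu, fun x hx => ?_⟩
    obtain ⟨b, hb⟩ := hg x hx
    refine ⟨-b, ?_⟩
    apply actv_inv g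
    rw [actv_add, actv_smul, hgu, hb, add_assoc, ← add_smul, add_neg_cancel, zero_smul, add_zero]

theorem mem_Qs (u : Fin n → F) (g : ↥(Cfsg.SU n F q)) :
    g ∈ Qs hF u ↔ actv g u = u ∧ ∀ x, stdB hF n u x = 0 → ∃ b : F, actv g x = x + b • u :=
  Iff.rfl

/-- the transvection group with centre `u`: fixes `u^⊥` pointwise -/
def Ts (u : Fin n → F) : Subgroup ↥(Cfsg.SU n F q) where
  carrier := {g | ∀ x, stdB hF n u x = 0 → actv g x = x}
  one_mem' := fun x _ => actv_one x
  mul_mem' := by
    intro g h hg hh x hx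
    rw [actv_mul, hh x hx, hg x hx]
  inv_mem' := by
    intro g hg x hx
    exact actv_inv g x x (hg x hx)

theorem mem_Ts (u : Fin n → F) (g : ↥(Cfsg.SU n F q)) :
    g ∈ Ts hF u ↔ ∀ x, stdB hF n u x = 0 → actv g x = x := Iff.rfl

theorem ei_mem_Qs {u w : Fin n → F} {c : F} (h : Valid hF u w c) : ei hF u w c ∈ Qs hF u := by
  obtain ⟨huu, huw, hc⟩ := h
  have hwu : stdB hF n w u = 0 := stdB_swap_zero hF _ _ huw
  refine ⟨?_, fun x hx => ⟨- stdB hF n w x, ?_⟩⟩
  · rw [actv_ei hF ⟨huu, huw, hc⟩, huu, hwu]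
    simp
  · rw [actv_ei hF ⟨huu, huw, hc⟩, hx]
    simp [sub_eq_add_neg]

theorem ei_mem_Ts {u : Fin n → F} {a : F} (h : Valid hF u 0 a) : ei hF u 0 a ∈ Ts hF u := by
  intro x hx
  rw [actv_ei hF h, hx]
  simp

theorem Ts_le_Qs {u : Fin n → F} (huu : stdB hF n u u = 0) : Ts hF u ≤ Qs hF u := by
  intro g hg
  exact ⟨hg u huu, fun x hx => ⟨0, by rw [hg x hx, zero_smul, add_zero]⟩⟩

/-- decomposition along a hyperbolic pair -/
theorem perp_decomp {u v : Fin n → F} (huv : stdB hF n u v = 1) (z : Fin n → F) :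
    stdB hF n u (z - stdB hF n u z • v) = 0 := by
  rw [map_sub, map_smul, huv, smul_eq_mul, mul_one, sub_self]

/-- a vector orthogonal to `u^⊥` and to `v` vanishes -/
theorem eq_zero_of_perp {u v y : Fin n → F} (huv : stdB hF n u v = 1)
    (h1 : ∀ x, stdB hF n u x = 0 → stdB hF n x y = 0) (h2 : stdB hF n v y = 0) : y = 0 := by
  apply (stdB_nondeg hF n).2 y
  intro z
  have hz : z = (z - stdB hF n u z • v) + stdB hF n u z • v := by abel
  rw [hz, map_add, LinearMap.add_apply, h1 _ (perp_decomp hF huv z), LinearMap.map_smulₛₗ,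
    LinearMap.smul_apply, h2, smul_zero, add_zero]

/-- the elements of the transvection group -/
theorem mem_Ts_iff {u : Fin n → F} (hu : u ≠ 0) (huu : stdB hF n u u = 0)
    (g : ↥(Cfsg.SU n F q)) :
    g ∈ Ts hF u ↔ ∃ a : F, a + a ^ q = 0 ∧ g = ei hF u 0 a := by
  constructor
  swap
  · rintro ⟨a, ha, rfl⟩
    exact ei_mem_Ts hF (valid_zero hF huu ha)
  intro hg
  obtain ⟨v, huv, hvv⟩ := su_exists_partner hF u hu huu
  have hvu : stdB hF n v u = 1 := by rw [stdB_conj, huv, one_pow]
  have hginv : g⁻¹ ∈ Ts hF u := Subgroup.inv_mem _ hg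
  set y := actv g v - v with hy
  set a := stdB hF n v y with ha
  have hy0 : y - a • u = 0 := by
    apply eq_zero_of_perp hF huv
    · intro x hx
      have hxu : stdB hF n x u = 0 := stdB_swap_zero hF _ _ hx
      rw [map_sub, map_smul, hxu, smul_zero, sub_zero, hy, map_sub]
      have : stdB hF n x (actv g v) = stdB hF n x v := by
        rw [← actv_iso hF g⁻¹ x (actv g v), ← actv_mul, inv_mul_cancel, actv_one, hginv x hx]
      rw [this, sub_self]
    · rw [map_sub, map_smul, hvu, smul_eq_mul, mul_one, sub_self]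
  have hy1 : actv g v = v + a • u := by
    have : y = a • u := sub_eq_zero.mp hy0
    rw [← this, hy]
    abel
  have hval : Valid hF u 0 a := by
    apply valid_zero hF huu
    have h1 := actv_iso hF g v v
    rw [hy1, hvv] at h1
    simp only [map_add, map_smul, LinearMap.map_smulₛₗ, LinearMap.add_apply, LinearMap.smul_apply,
      smul_eq_mul, hvv, huu, hvu, huv, frobQ_apply] at h1
    linear_combination h1
  refine ⟨a, ?_, ?_⟩
  · have := hval.2.2
    rw [map_zero, add_zero] at this
    exact this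
  · apply SU_ext
    intro z
    change actv _ z = actv _ z
    rw [actv_ei hF hval]
    have hz : z = (z - stdB hF n u z • v) + stdB hF n u z • v := by abel
    conv_lhs => rw [hz]
    rw [actv_add, actv_smul, hg _ (perp_decomp hF huv z), hy1]
    simp only [map_zero, LinearMap.zero_apply, zero_smul, smul_zero, smul_add, smul_smul]
    ext i
    simp only [Pi.add_apply, Pi.sub_apply, Pi.smul_apply, smul_eq_mul, Pi.zero_apply]
    ring

/-- an element of `Q_u` fixing a vector not orthogonal to `u` is trivial -/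
theorem Qs_eq_one_of_fix {u y : Fin n → F} (huy : stdB hF n u y ≠ 0)
    {g : ↥(Cfsg.SU n F q)} (hg : g ∈ Qs hF u) (hgy : actv g y = y) : g = 1 := by
  obtain ⟨hgu, hgx⟩ := hg
  have hyu : stdB hF n y u ≠ 0 := by
    intro h
    exact huy (stdB_swap_zero hF _ _ h)
  have hfix : ∀ x, stdB hF n u x = 0 → actv g x = x := by
    intro x hx
    obtain ⟨b, hb⟩ := hgx x hx
    have h1 := actv_iso hF g y x
    rw [hgy, hb, map_add, map_smul, smul_eq_mul] at h1
    have hb0 : b = 0 := by
      have : b * stdB hF n y u = 0 := by linear_combination h1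
      rcases mul_eq_zero.mp this with h | h
      · exact h
      · exact absurd h hyu
    rw [hb, hb0, zero_smul, add_zero]
  apply SU_ext
  intro z
  change actv _ z = actv _ z
  rw [actv_one]
  have hz : z = (z - (stdB hF n u z * (stdB hF n u y)⁻¹) • y) +
      (stdB hF n u z * (stdB hF n u y)⁻¹) • y := by abel
  have hz0 : stdB hF n u (z - (stdB hF n u z * (stdB hF n u y)⁻¹) • y) = 0 := by
    rw [map_sub, map_smul, smul_eq_mul, mul_assoc, inv_mul_cancel₀ huy, mul_one, sub_self]
  conv_lhs => rw [hz]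
  rw [actv_add, actv_smul, hfix _ hz0, hgy]
  abel

/-- `Q_u` is transitive on the isotropic vectors `y` with `B(u, y) = 1` -/
theorem exists_ei_map {u v y : Fin n → F} (huu : stdB hF n u u = 0) (hvv : stdB hF n v v = 0)
    (hyy : stdB hF n y y = 0) (huv : stdB hF n u v = 1) (huy : stdB hF n u y = 1) :
    Valid hF u (y - v) (stdB hF n (y - v) v) ∧
      actv (ei hF u (y - v) (stdB hF n (y - v) v)) v = y := by
  have hval : Valid hF u (y - v) (stdB hF n (y - v) v) := by
    refine ⟨huu, by rw [map_sub, huy, huv, sub_self], ?_⟩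
    have e1 : stdB hF n v y = (stdB hF n y v) ^ q := stdB_conj hF v y
    have e2 : (stdB hF n (y - v) v) ^ q = stdB hF n v (y - v) := (stdB_conj hF v (y - v)).symm
    rw [e2]
    simp only [map_sub, LinearMap.sub_apply, hvv, hyy]
    ring
  refine ⟨hval, ?_⟩
  rw [actv_ei hF hval, huv]
  simp only [one_smul, mul_one]
  abel

/-- structure of `Q_u` relative to a hyperbolic partner `v` -/
theorem exists_ei_of_mem_Qs {u v : Fin n → F} (huu : stdB hF n u u = 0)
    (hvv : stdB hF n v v = 0) (huv : stdB hF n u v = 1) {g : ↥(Cfsg.SU n F q)}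
    (hg : g ∈ Qs hF u) :
    ∃ (w : Fin n → F) (c : F), Valid hF u w c ∧ stdB hF n v w = 0 ∧ g = ei hF u w c := by
  have hvu : stdB hF n v u = 1 := by rw [stdB_conj, huv, one_pow]
  set y := actv g v with hy
  have hyy : stdB hF n y y = 0 := by rw [hy, actv_iso, hvv]
  have huy : stdB hF n u y = 1 := by
    have := actv_iso hF g u v
    rw [hg.1] at this
    rw [hy, this, huv]
  obtain ⟨hval, hmap⟩ := exists_ei_map hF huu hvv hyy huv huy
  have hg0 : g = ei hF u (y - v) (stdB hF n (y - v) v) := by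
    have h1 : (ei hF u (y - v) (stdB hF n (y - v) v))⁻¹ * g ∈ Qs hF u :=
      Subgroup.mul_mem _ (Subgroup.inv_mem _ (ei_mem_Qs hF hval)) hg
    have h2 : actv ((ei hF u (y - v) (stdB hF n (y - v) v))⁻¹ * g) v = v := by
      rw [actv_mul]
      exact actv_inv _ _ _ hmap
    have h3 := Qs_eq_one_of_fix hF (by rw [huv]; exact one_ne_zero) h1 h2
    exact (inv_mul_eq_one.mp h3).symm
  set b := stdB hF n v (y - v) with hb
  have hsh := ei_shift hF hval (-b)
  have hvs := valid_shift hF hval (-b)
  refine ⟨y - v + -b • u, _, hvs, ?_, ?_⟩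
  · rw [map_add, map_smul, hvu, smul_eq_mul, mul_one, ← hb, add_neg_cancel]
  · rw [hsh]
    exact hg0

/-- powers of Eichler elements -/
theorem ei_pow {u w : Fin n → F} {c : F} (h : Valid hF u w c) (k : ℕ) :
    ∃ c' : F, Valid hF u (k • w) c' ∧ (ei hF u w c) ^ k = ei hF u (k • w) c' := by
  induction k with
  | zero =>
    refine ⟨0, ?_, ?_⟩
    · rw [zero_smul]
      exact valid_zero hF h.1 (by rw [zero_pow (q_pos hF).ne', add_zero])
    · rw [pow_zero, zero_smul, ei_zero_zero hF h.1]
  | succ k ih =>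
    obtain ⟨c', hv, he⟩ := ih
    refine ⟨c' + c - stdB hF n (k • w) w, ?_, ?_⟩
    · have := valid_mul hF hv h
      rw [succ_nsmul]
      exact this
    · rw [pow_succ, he, ei_mul hF hv h, succ_nsmul]

theorem ei_zero_mul {u : Fin n → F} {a a' : F} (h : Valid hF u 0 a) (h' : Valid hF u 0 a') :
    ei hF u 0 a * ei hF u 0 a' = ei hF u 0 (a + a') := by
  rw [ei_mul hF h h', add_zero, map_zero, sub_zero]

theorem valid_zero_add {u : Fin n → F} {a a' : F} (h : Valid hF u 0 a) (h' : Valid hF u 0 a') :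
    Valid hF u 0 (a + a') := by
  have := valid_mul hF h h'
  rw [add_zero, map_zero, sub_zero] at this
  exact this

theorem ei_zero_pow {u : Fin n → F} {a : F} (h : Valid hF u 0 a) (k : ℕ) :
    Valid hF u 0 (k • a) ∧ (ei hF u 0 a) ^ k = ei hF u 0 (k • a) := by
  induction k with
  | zero =>
    rw [zero_smul, pow_zero, ei_zero_zero hF h.1]
    exact ⟨valid_zero hF h.1 (by rw [zero_pow (q_pos hF).ne', add_zero]), rfl⟩
  | succ k ih =>
    obtain ⟨hv, he⟩ := ih
    rw [succ_nsmul, pow_succ, he, ei_zero_mul hF hv h]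
    exact ⟨valid_zero_add hF hv h, rfl⟩

/-- elements of `Q_u` have order dividing `p^2` -/
theorem Qs_pow_eq_one {p : ℕ} [CharP F p] {u : Fin n → F} (hu : u ≠ 0)
    (huu : stdB hF n u u = 0) {g : ↥(Cfsg.SU n F q)} (hg : g ∈ Qs hF u) : g ^ (p ^ 2) = 1 := by
  obtain ⟨v, huv, hvv⟩ := su_exists_partner hF u hu huu
  obtain ⟨w, c, hval, -, rfl⟩ := exists_ei_of_mem_Qs hF huu hvv huv hg
  obtain ⟨c', hv', he⟩ := ei_pow hF hval p
  have hp0 : (p : F) = 0 := CharP.cast_eq_zero F p
  have hpw : p • w = 0 := by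
    rw [← Nat.cast_smul_eq_nsmul F, hp0, zero_smul]
  rw [hpw] at he hv'
  obtain ⟨-, he'⟩ := ei_zero_pow hF hv' p
  have hpc : p • c' = 0 := by
    rw [← Nat.cast_smul_eq_nsmul F, hp0, zero_smul]
  rw [pow_two, pow_mul, he, he', hpc, ei_zero_zero hF huu]

/-- every `w ⟂ u` occurs in an Eichler element -/
theorem exists_valid {u w : Fin n → F} (huu : stdB hF n u u = 0) (huw : stdB hF n u w = 0) :
    ∃ c : F, Valid hF u w c := by
  obtain ⟨c, hc⟩ := trace_surj_involution (frobQ hF) (frobQ_ne_id hF) (frobQ_frobQ hF)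
    (-(stdB hF n w w)) (by rw [map_neg, (stdB_isSymm hF n).eq])
  refine ⟨c, huu, huw, ?_⟩
  rw [frobQ_apply] at hc
  rw [hc, neg_add_cancel]

/-- the stabilizer of the point `u` normalizes `Q_u` -/
theorem Qs_conj_mem {u : Fin n → F} {h : ↥(Cfsg.SU n F q)} {l : F} (hl : l ≠ 0)
    (hh : actv h u = l • u) {g : ↥(Cfsg.SU n F q)} (hg : g ∈ Qs hF u) :
    h * g * h⁻¹ ∈ Qs hF u := by
  obtain ⟨hgu, hgx⟩ := hg
  have hinv : actv h⁻¹ u = l⁻¹ • u := by
    apply actv_inv h
    rw [actv_smul, hh, smul_smul, inv_mul_cancel₀ hl, one_smul]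
  refine ⟨?_, fun x hx => ?_⟩
  · rw [actv_mul, actv_mul, hinv, actv_smul, hgu, actv_smul, hh, smul_smul, inv_mul_cancel₀ hl,
      one_smul]
  · have hx' : stdB hF n u (actv h⁻¹ x) = 0 := by
      have h1 := actv_iso hF h u (actv h⁻¹ x)
      rw [← actv_mul, mul_inv_cancel, actv_one, hh] at h1
      rw [← h1]
      simp only [LinearMap.map_smulₛₗ, LinearMap.smul_apply, hx, smul_zero]
    obtain ⟨b, hb⟩ := hgx _ hx'
    refine ⟨b * l, ?_⟩
    rw [actv_mul, actv_mul, hb, actv_add, actv_smul, hh, ← actv_mul, mul_inv_cancel, actv_one,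
      smul_smul]

omit [Fintype F] in
theorem actv_zero (t : ↥(Cfsg.SU n F q)) : actv t (0 : Fin n → F) = 0 := Matrix.mulVec_zero _

/-- elements fixing `u` centralize the transvection group `T_u` -/
theorem Ts_comm_of_fix {u : Fin n → F} (hu : u ≠ 0) (huu : stdB hF n u u = 0)
    {s t : ↥(Cfsg.SU n F q)} (hs : actv s u = u) (ht : t ∈ Ts hF u) : s * t = t * s := by
  obtain ⟨a, ha, rfl⟩ := (mem_Ts_iff hF hu huu t).1 ht
  have h := ei_conj hF (valid_zero hF huu ha) s
  rw [hs, actv_zero] at h
  calc s * ei hF u 0 a = (s * ei hF u 0 a * s⁻¹) * s := by group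
    _ = ei hF u 0 a * s := by rw [h]

/-- an element fixing `u` and commuting with all Eichler elements `E(u, w, c)` is a
transvection with centre `u` -/
theorem mem_Ts_of_comm {u : Fin n → F} (hu : u ≠ 0) (huu : stdB hF n u u = 0)
    {z : ↥(Cfsg.SU n F q)} (hzu : actv z u = u)
    (hcomm : ∀ w c, Valid hF u w c → z * ei hF u w c = ei hF u w c * z) : z ∈ Ts hF u := by
  obtain ⟨v, huv, hvv⟩ := su_exists_partner hF u hu huu
  have hvu : stdB hF n v u = 1 := by rw [stdB_conj, huv, one_pow]
  -- first step: `z w = w + b u` with `b` fixed by the Frobenius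
  have step1 : ∀ w, stdB hF n u w = 0 → ∃ b : F, b ^ q = b ∧ actv z w = w + b • u := by
    intro w hw
    obtain ⟨c, hval⟩ := exists_valid hF huu hw
    have hval' := valid_conj hF hval z
    have h1 := ei_conj hF hval z
    rw [hcomm w c hval, mul_inv_cancel_right, hzu] at h1
    rw [hzu] at hval'
    have h2 := congrArg (fun g => actv g v) h1
    simp only [actv_ei hF hval, actv_ei hF hval', huv, one_smul, mul_one] at h2
    set b := stdB hF n (actv z w - w) v with hb
    have h3 : actv z w - w = b • u := by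
      have h4 : actv z w - stdB hF n (actv z w) v • u = w - stdB hF n w v • u := by
        have h5 : v + w - stdB hF n w v • u + c • u =
            v + actv z w - stdB hF n (actv z w) v • u + c • u := h2
        have h6 := add_right_cancel h5
        have h7 : v + (w - stdB hF n w v • u) = v + (actv z w - stdB hF n (actv z w) v • u) := by
          rw [← add_sub_assoc, ← add_sub_assoc]
          exact h6
        exact (add_left_cancel h7).symm
      rw [hb, map_sub, LinearMap.sub_apply, sub_smul]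
      linear_combination (exp := 1) h4
    refine ⟨b, ?_, by rw [← h3]; abel⟩
    have h8 : b = stdB hF n (b • u) v := by rw [← h3]
    rw [LinearMap.map_smulₛₗ, LinearMap.smul_apply, huv, smul_eq_mul, mul_one, frobQ_apply] at h8
    exact h8.symm
  obtain ⟨e, he⟩ : ∃ e, frobQ hF e ≠ e := by
    by_contra hcon
    push Not at hcon
    exact frobQ_ne_id hF (RingHom.ext hcon)
  intro w hw
  obtain ⟨b, hbq, hb⟩ := step1 w hw
  obtain ⟨b', hbq', hb'⟩ := step1 (e • w) (by rw [map_smul, hw, smul_zero])
  rw [actv_smul, hb, smul_add, smul_smul] at hb'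
  have h1 : (e * b) • u = b' • u := add_left_cancel hb'
  have h2 : e * b = b' := by
    by_contra hne
    have : (e * b - b') • u = 0 := by rw [sub_smul, h1, sub_self]
    rcases smul_eq_zero.mp this with h | h
    · exact hne (sub_eq_zero.mp h)
    · exact hu h
  have h3 : (e * b) ^ q = e * b := by rw [h2]; exact hbq'
  rw [mul_pow, hbq] at h3
  have hb0 : b = 0 := by
    have : (e ^ q - e) * b = 0 := by linear_combination h3
    rcases mul_eq_zero.mp this with h | h
    · exact absurd (sub_eq_zero.mp h) he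
    · exact h
  rw [hb, hb0, zero_smul, add_zero]

end Groups

end Cfsg.Agent.Helper13.PSUEich
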