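import Mathlib
import Cfsg.Agent.Lib.Helper13.PSUEich
import Cfsg.Agent.Lib.Helper5.SUCenter

set_option autoImplicit false
set_option linter.unusedSimpArgs false
set_option linter.unusedVariables false

namespace Cfsg.Agent.Helper13.PSUSyl

open Module Submodule Matrix
open Cfsg.Agent.Helper13 Cfsg.Agent.Helper13.PSUEich

section General

/-- a `p`-group acting on a finite set of size prime to `p` has a fixed point -/
theorem exists_fixed_of_pgroup {G : Type*} [Group G] {p : ℕ} [Fact p.Prime] (S : Subgroup G)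
    (hS : IsPGroup p S) {X : Type*} [Finite X] (act : ↥S → X → X) (h1 : ∀ x, act 1 x = x)
    (hmul : ∀ g h x, act (g * h) x = act g (act h x)) (hX : ¬ p ∣ Nat.card X) :
    ∃ x, ∀ g, act g x = x := by
  let _ : MulAction ↥S X := { smul := act, one_smul := h1, mul_smul := hmul }
  obtain ⟨x, hx⟩ := hS.nonempty_fixed_point_of_prime_not_dvd_card X hX
  exact ⟨x, fun g => hx g⟩

end General

section SU

variable {F : Type*} [Field F] [Fintype F] {q n : ℕ} (hF : Fintype.card F = q ^ 2)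

include hF in
/-- central elements of `SU_n(q)` have order dividing `q + 1` -/
theorem center_pow (hn : 3 ≤ n) {z : ↥(Cfsg.SU n F q)}
    (hz : z ∈ Subgroup.center ↥(Cfsg.SU n F q)) : z ^ (q + 1) = 1 := by
  obtain ⟨lam, h1, h2⟩ := Cfsg.Agent.Helper5.exists_norm_one_sq_ne_one hF
  have h3 := Cfsg.Agent.Helper5.center_SU_scalar hn lam h1 h2 z hz
  set c := (z : Matrix.SpecialLinearGroup (Fin n) F).val ⟨0, by omega⟩ ⟨0, by omega⟩ with hc
  have h4 := (Cfsg.Agent.Helper5.scalar_pow_of_mem_SU (by omega) z.1 z.2 c h3).1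
  have hact : ∀ x, actv z x = c • x := by
    intro x
    unfold actv
    have : ((z : Matrix.SpecialLinearGroup (Fin n) F) : Matrix (Fin n) (Fin n) F) =
        c • (1 : Matrix (Fin n) (Fin n) F) := h3
    rw [this, Matrix.smul_mulVec, Matrix.one_mulVec]
  have hpow : ∀ (k : ℕ) x, actv (z ^ k) x = c ^ k • x := by
    intro k
    induction k with
    | zero => intro x; rw [pow_zero, pow_zero, actv_one, one_smul]
    | succ k ih => intro x; rw [pow_succ, actv_mul, hact, ih, smul_smul, pow_succ]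
  apply SU_ext
  intro x
  change actv _ x = actv _ x
  rw [hpow, h4, one_smul, actv_one]

include hF in
/-- elements of `p`-power order with the same image in `PSU` are equal -/
theorem pel_eq {p : ℕ} (hp : p.Prime) (hpq : p ∣ q) (hn : 3 ≤ n) {g g' : ↥(Cfsg.SU n F q)}
    {k k' : ℕ} (hg : g ^ (p ^ k) = 1) (hg' : g' ^ (p ^ k') = 1)
    (h : (QuotientGroup.mk g : Cfsg.PSU n F q) = QuotientGroup.mk g') : g = g' := by
  have hz : g⁻¹ * g' ∈ Subgroup.center ↥(Cfsg.SU n F q) := QuotientGroup.eq.mp h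
  set z := g⁻¹ * g' with hzdef
  have hg'z : g' = g * z := by rw [hzdef]; group
  have hzc : ∀ h : ↥(Cfsg.SU n F q), h * z = z * h := fun h => Subgroup.mem_center_iff.mp hz h
  have hcomm : Commute g⁻¹ g' := by
    have h1 : Commute g g' := by
      change g * g' = g' * g
      rw [hg'z, mul_assoc, hzc g, mul_assoc]
    exact h1.inv_left
  have h1 : z ^ (p ^ (k + k')) = 1 := by
    rw [hzdef, hcomm.mul_pow, inv_pow, pow_add, pow_mul, hg, one_pow, inv_one, one_mul,
      mul_comm (p ^ k), pow_mul, hg', one_pow]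
  have h2 : z ^ (q + 1) = 1 := center_pow hF hn hz
  have h3 : orderOf z ∣ Nat.gcd (p ^ (k + k')) (q + 1) :=
    Nat.dvd_gcd (orderOf_dvd_of_pow_eq_one h1) (orderOf_dvd_of_pow_eq_one h2)
  have h4 : Nat.Coprime (p ^ (k + k')) (q + 1) := by
    apply Nat.Coprime.pow_left
    have : Nat.Coprime q (q + 1) := by simp
    exact Nat.Coprime.coprime_dvd_left hpq this
  rw [h4] at h3
  have h5 : z = 1 := orderOf_eq_one_iff.mp (Nat.dvd_one.mp h3)
  rw [hg'z, h5, mul_one]

/-- the number of non-zero isotropic vectors is prime to `p` -/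
theorem card_iso_not_dvd {p : ℕ} (hp : p.Prime) (hpq : p ∣ q) (hn : 2 ≤ n) :
    ¬ p ∣ Nat.card {v : Fin n → F // v ≠ 0 ∧ stdB hF n v v = 0} := by
  have hq1 : 1 ≤ q := q_pos hF
  have h0 := card_iso_perp hF (n := n) (k := 0) (fun a => a.elim0) linearIndependent_empty_type
    (fun a => a.elim0)
  rw [pow_zero, one_mul, mul_zero, Nat.sub_zero,
    Cfsg.Agent.Helper19.hermCount_at_zero hF] at h0
  have h1 : Nat.card {v : Fin n → F // (∀ a : Fin 0, stdB hF n ((fun a => a.elim0) a) v = 0) ∧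
      stdB hF n v v = 0} =
      Nat.card {v : Fin n → F // v ≠ 0 ∧ stdB hF n v v = 0} + 1 := by
    have e1 : {v : Fin n → F | (∀ a : Fin 0, stdB hF n ((fun a => a.elim0) a) v = 0) ∧
        stdB hF n v v = 0} = insert 0 {v : Fin n → F | v ≠ 0 ∧ stdB hF n v v = 0} := by
      ext v
      simp only [Set.mem_ofPred_eq, Set.mem_insert_iff]
      constructor
      · rintro ⟨-, hv⟩
        by_cases h : v = 0
        · exact Or.inl h
        · exact Or.inr ⟨h, hv⟩
      · rintro (h | h)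
        · subst h
          exact ⟨fun a => a.elim0, by rw [map_zero]⟩
        · exact ⟨fun a => a.elim0, h.2⟩
    change Set.ncard {v : Fin n → F | (∀ a : Fin 0, stdB hF n ((fun a => a.elim0) a) v = 0) ∧
        stdB hF n v v = 0} = Set.ncard {v : Fin n → F | v ≠ 0 ∧ stdB hF n v v = 0} + 1
    rw [e1, Set.ncard_insert_of_notMem (by simp) (Set.toFinite _)]
  rw [h1] at h0
  have h2 := Nat.add_right_cancel h0
  rw [h2]
  set A := q ^ (n - 1) with hA
  have hA1 : 1 ≤ A := Nat.one_le_pow _ _ hq1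
  have hqn : q ^ n = q * A := by
    rw [hA, ← pow_succ']
    congr 1
    omega
  have hpA : p ∣ A := dvd_trans hpq (dvd_pow_self q (by omega))
  rw [hqn]
  have hqA : 1 ≤ q * A := Nat.mul_pos hq1 hA1
  intro hdvd
  split_ifs at hdvd with hev
  · obtain ⟨B, hB⟩ : ∃ B, q * A = B + 1 := ⟨q * A - 1, by omega⟩
    have e : (q * A - 1) * (A + 1) + 1 = A * (B + q) := by
      have : q * A - 1 = B := by omega
      rw [this]
      have : A * (B + q) = A * B + (B + 1) := by rw [← hB]; ring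
      rw [this]; ring
    have h3 : p ∣ (q * A - 1) * (A + 1) + 1 := by
      rw [e]; exact dvd_mul_of_dvd_left hpA _
    have h4 : p ∣ 1 := (Nat.dvd_add_right hdvd).mp h3
    exact hp.one_lt.ne' (Nat.dvd_one.mp h4)
  · obtain ⟨B, hB⟩ : ∃ B, A = B + 1 := ⟨A - 1, by omega⟩
    have e : (q * A + 1) * (A - 1) + 1 = A * (q * B + 1) := by
      have : A - 1 = B := by omega
      rw [this, hB]; ring
    have h3 : p ∣ (q * A + 1) * (A - 1) + 1 := by
      rw [e]; exact dvd_mul_of_dvd_left hpA _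
    have h4 : p ∣ 1 := (Nat.dvd_add_right hdvd).mp h3
    exact hp.one_lt.ne' (Nat.dvd_one.mp h4)

/-- a `p`-subgroup of `SU_n(q)` fixes a non-zero isotropic vector -/
theorem exists_fixed_iso {p : ℕ} [Fact p.Prime] (hpq : p ∣ q) (hn : 2 ≤ n)
    (S : Subgroup ↥(Cfsg.SU n F q)) (hS : IsPGroup p S) :
    ∃ u : Fin n → F, u ≠ 0 ∧ stdB hF n u u = 0 ∧ ∀ s ∈ S, actv s u = u := by
  obtain ⟨x, hx⟩ := exists_fixed_of_pgroup S hS
    (X := {v : Fin n → F // v ≠ 0 ∧ stdB hF n v v = 0})
    (fun g x => ⟨actv g.1 x.1, actv_ne_zero g.1 x.1 x.2.1, by rw [actv_iso]; exact x.2.2⟩)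
    (fun x => Subtype.ext (actv_one x.1))
    (fun g h x => Subtype.ext (actv_mul g.1 h.1 x.1))
    (card_iso_not_dvd hF Fact.out hpq hn)
  exact ⟨x.1, x.2.1, x.2.2, fun s hs => congrArg Subtype.val (hx ⟨s, hs⟩)⟩

/-- `Q_u` is a `p`-group -/
theorem isPGroup_Qs {p : ℕ} [Fact p.Prime] [CharP F p] {u : Fin n → F} (hu : u ≠ 0)
    (huu : stdB hF n u u = 0) : IsPGroup p (Qs hF u) := by
  intro g
  refine ⟨2, ?_⟩
  apply Subtype.ext
  rw [Subgroup.coe_pow, Subgroup.coe_one]
  exact Qs_pow_eq_one hF hu huu g.2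

/-- a Sylow `p`-subgroup fixing `u` contains `Q_u` -/
theorem Qs_le_sylow {p : ℕ} [Fact p.Prime] [CharP F p] {u : Fin n → F} (hu : u ≠ 0)
    (huu : stdB hF n u u = 0) (S : Sylow p ↥(Cfsg.SU n F q))
    (hfix : ∀ s ∈ S, actv s u = u) : Qs hF u ≤ (S : Subgroup ↥(Cfsg.SU n F q)) := by
  have hnorm : (S : Subgroup ↥(Cfsg.SU n F q)) ≤ Subgroup.normalizer (Qs hF u) := by
    intro s hs
    rw [Subgroup.mem_normalizer_iff]
    intro g
    have hsu : actv s u = (1 : F) • u := by rw [one_smul]; exact hfix s hs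
    constructor
    · intro hg
      exact Qs_conj_mem hF one_ne_zero hsu hg
    · intro hg
      have hsu' : actv s⁻¹ u = (1 : F) • u := by
        rw [one_smul]; exact actv_inv s u u (hfix s hs)
      have := Qs_conj_mem hF one_ne_zero hsu' hg
      have e : s⁻¹ * (s * g * s⁻¹) * s⁻¹⁻¹ = g := by group
      rw [e] at this
      exact this
  have hsup := IsPGroup.to_sup_of_normal_right' S.isPGroup' (isPGroup_Qs hF hu huu) hnorm
  have := S.is_maximal' hsup le_sup_left
  rw [← this]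
  exact le_sup_right

/-- the centre of a Sylow `p`-subgroup fixing `u` is the transvection group `T_u` -/
theorem center_sylow {p : ℕ} [Fact p.Prime] [CharP F p] {u : Fin n → F} (hu : u ≠ 0)
    (huu : stdB hF n u u = 0) (S : Sylow p ↥(Cfsg.SU n F q))
    (hfix : ∀ s ∈ S, actv s u = u) (z : ↥(Cfsg.SU n F q)) :
    (z ∈ S ∧ ∀ s ∈ S, s * z = z * s) ↔ z ∈ Ts hF u := by
  have hQ := Qs_le_sylow hF hu huu S hfix
  constructor
  · rintro ⟨hzS, hzc⟩
    apply mem_Ts_of_comm hF hu huu (hfix z hzS)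
    intro w c hval
    exact (hzc _ (hQ (ei_mem_Qs hF hval))).symm
  · intro hz
    refine ⟨hQ (Ts_le_Qs hF huu hz), fun s hs => ?_⟩
    exact Ts_comm_of_fix hF hu huu (hfix s hs) hz

end SU

end Cfsg.Agent.Helper13.PSUSyl
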