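import Mathlib
import Cfsg.Agent.Lib.Helper13.PSUSyl
import Cfsg.Agent.Lib.Helper13.PSUGeo

set_option autoImplicit false
set_option linter.unusedSimpArgs false
set_option linter.unusedVariables false

namespace Cfsg.Agent.Helper13.PSUCan

open Module Submodule Matrix
open Cfsg.Agent.Helper13 Cfsg.Agent.Helper13.PSUEich Cfsg.Agent.Helper13.PSUSyl
  Cfsg.Agent.Helper13.PSUGeo

section W

variable {F : Type*} [Field F] [Fintype F] {q n : ℕ} (hF : Fintype.card F = q ^ 2)

/-- the orthogonal complement of the hyperbolic pair `u, v` -/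
noncomputable def Wsub (u v : Fin n → F) : Submodule F (Fin n → F) :=
  LinearMap.ker (pairMap hF (fun _ : Fin 1 => u) (fun _ : Fin 1 => v))

theorem mem_Wsub (u v x : Fin n → F) :
    x ∈ Wsub hF u v ↔ stdB hF n u x = 0 ∧ stdB hF n v x = 0 := by
  unfold Wsub
  rw [mem_ker_pairMap]
  constructor
  · rintro ⟨h1, h2⟩
    exact ⟨h1 0, h2 0⟩
  · rintro ⟨h1, h2⟩
    exact ⟨fun _ => h1, fun _ => h2⟩

variable {u v : Fin n → F} (huu : stdB hF n u u = 0) (hvv : stdB hF n v v = 0)
  (huv : stdB hF n u v = 1)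

include huv in
theorem hvu_of : stdB hF n v u = 1 := by rw [stdB_conj, huv, one_pow]

include huu huv in
theorem finrank_Wsub : finrank F (Wsub hF u v) = n - 2 := by
  unfold Wsub
  rw [finrank_ker_pairMap hF _ _ (fun _ _ => huu) (fun a b => by
    rw [if_pos (Subsingleton.elim a b)]; exact huv)]

include huu huv in
theorem card_Wsub : Nat.card (Wsub hF u v) = (q ^ 2) ^ (n - 2) := by
  rw [Module.natCard_eq_pow_finrank (K := F) (V := Wsub hF u v), finrank_Wsub hF huu huv,
    Nat.card_eq_fintype_card, hF]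

include huu hvv huv in
/-- projection to `W` -/
theorem proj_mem_Wsub (z : Fin n → F) :
    z - stdB hF n v z • u - stdB hF n u z • v ∈ Wsub hF u v := by
  have hvu := hvu_of hF huv
  rw [mem_Wsub]
  constructor
  · simp only [map_sub, map_smul, huu, huv, smul_eq_mul, mul_zero, mul_one, sub_zero, sub_self]
  · simp only [map_sub, map_smul, hvu, hvv, smul_eq_mul, mul_zero, mul_one, sub_zero, sub_self]

include huu hvv huv in
theorem Wsub_nondeg : ∀ w ∈ Wsub hF u v, (∀ w' ∈ Wsub hF u v, stdB hF n w w' = 0) → w = 0 := by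
  intro w hw h
  have hvu := hvu_of hF huv
  obtain ⟨hw1, hw2⟩ := (mem_Wsub hF u v w).mp hw
  have hwu : stdB hF n w u = 0 := stdB_swap_zero hF _ _ hw1
  have hwv : stdB hF n w v = 0 := stdB_swap_zero hF _ _ hw2
  apply (stdB_nondeg hF n).1 w
  intro z
  have h1 := h _ (proj_mem_Wsub hF huu hvv huv z)
  simp only [map_sub, map_smul, hwu, hwv, smul_zero, sub_zero] at h1
  exact h1

end W

section ClaimC

variable {F : Type*} [Field F] [Fintype F] {q n : ℕ} (hF : Fintype.card F = q ^ 2)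

/-- a `p`-subgroup fixing `u` and normalized by the stabilizer of `u` lies in `Q_u` -/
theorem le_Qs_of_normal {p : ℕ} [Fact p.Prime] (hpq : p ∣ q) (hn : 3 ≤ n) {u : Fin n → F}
    (hu : u ≠ 0) (huu : stdB hF n u u = 0) (I : Subgroup ↥(Cfsg.SU n F q)) (hI : IsPGroup p I)
    (hfix : ∀ g ∈ I, actv g u = u)
    (hnorm : ∀ g ∈ I, ∀ h : ↥(Cfsg.SU n F q), actv h u = u → h * g * h⁻¹ ∈ I) :
    I ≤ Qs hF u := by
  obtain ⟨v, huv, hvv⟩ := su_exists_partner hF u hu huu
  have hvu := hvu_of hF huv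
  -- Step 1: a non-zero vector of `W` fixed modulo `u`
  have hcardX : ¬ p ∣ Nat.card {x : Fin n → F // x ≠ 0 ∧ stdB hF n u x = 0 ∧ stdB hF n v x = 0} := by
    have e1 : {x : Fin n → F | x ≠ 0 ∧ stdB hF n u x = 0 ∧ stdB hF n v x = 0} =
        ((Wsub hF u v : Submodule F (Fin n → F)) : Set (Fin n → F)) \ {0} := by
      ext x
      simp only [Set.mem_ofPred_eq, Set.mem_sdiff, SetLike.mem_coe, mem_Wsub, Set.mem_singleton_iff]
      tauto
    have e2 : Nat.card {x : Fin n → F // x ≠ 0 ∧ stdB hF n u x = 0 ∧ stdB hF n v x = 0} =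
        Set.ncard {x : Fin n → F | x ≠ 0 ∧ stdB hF n u x = 0 ∧ stdB hF n v x = 0} := rfl
    rw [e2, e1, Set.ncard_sdiff_singleton_of_mem (Submodule.zero_mem _)]
    have e3 : Set.ncard ((Wsub hF u v : Submodule F (Fin n → F)) : Set (Fin n → F)) =
        Nat.card (Wsub hF u v) := rfl
    rw [e3, card_Wsub hF huu huv]
    have hp : p.Prime := Fact.out
    have hdvd : p ∣ (q ^ 2) ^ (n - 2) :=
      dvd_trans hpq (dvd_trans (dvd_pow_self q two_ne_zero) (dvd_pow_self _ (by omega)))
    have hpos : 0 < (q ^ 2) ^ (n - 2) := pow_pos (pow_pos (q_pos hF) 2) _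
    intro h
    have h2 : p ∣ 1 := by
      have : (q ^ 2) ^ (n - 2) - 1 + 1 = (q ^ 2) ^ (n - 2) := Nat.sub_add_cancel hpos
      exact (Nat.dvd_add_right h).mp (this ▸ hdvd)
    exact hp.one_lt.ne' (Nat.dvd_one.mp h2)
  obtain ⟨x, hx⟩ := exists_fixed_of_pgroup I hI
    (X := {x : Fin n → F // x ≠ 0 ∧ stdB hF n u x = 0 ∧ stdB hF n v x = 0})
    (fun g x => ⟨actv g.1 x.1 - stdB hF n v (actv g.1 x.1) • u, by
      have hgu := hfix g.1 g.2
      obtain ⟨hx0, hx1, hx2⟩ := x.2
      refine ⟨?_, ?_, ?_⟩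
      · intro h0
        have h1 : actv g.1 x.1 = stdB hF n v (actv g.1 x.1) • u := sub_eq_zero.mp h0
        have h2 : x.1 = stdB hF n v (actv g.1 x.1) • u := by
          have := actv_inv g.1 _ _ h1
          rw [actv_smul, actv_inv g.1 u u hgu] at this
          exact this.symm
        have h3 : stdB hF n v x.1 = stdB hF n v (actv g.1 x.1) := by
          conv_lhs => rw [h2]
          rw [map_smul, hvu, smul_eq_mul, mul_one]
        rw [hx2] at h3
        rw [← h3, zero_smul] at h2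
        exact hx0 h2
      · rw [map_sub, map_smul, huu, smul_zero, sub_zero]
        have := actv_iso hF g.1 u x.1
        rw [hgu] at this
        rw [this, hx1]
      · rw [map_sub, map_smul, hvu, smul_eq_mul, mul_one, sub_self]⟩)
    (fun x => by
      apply Subtype.ext
      change actv (1 : ↥(Cfsg.SU n F q)) x.1 - stdB hF n v (actv (1 : ↥(Cfsg.SU n F q)) x.1) • u = x.1
      rw [actv_one, x.2.2.2, zero_smul, sub_zero])
    (fun g h x => by
      apply Subtype.ext
      have hgu := hfix g.1 g.2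
      change actv (g.1 * h.1) x.1 - stdB hF n v (actv (g.1 * h.1) x.1) • u =
        actv g.1 (actv h.1 x.1 - stdB hF n v (actv h.1 x.1) • u) -
          stdB hF n v (actv g.1 (actv h.1 x.1 - stdB hF n v (actv h.1 x.1) • u)) • u
      rw [actv_mul, actv_sub_aux, actv_smul, hgu]
      simp only [map_sub, map_smul, hvu, smul_eq_mul, mul_one]
      ext i
      simp only [Pi.sub_apply, Pi.smul_apply, smul_eq_mul]
      ring)
    hcardX
  obtain ⟨x, hx0, hx1, hx2⟩ := x
  -- Step 2: the subspace `K`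
  let K : Submodule F (Fin n → F) :=
    { carrier := {y | stdB hF n u y = 0 ∧ stdB hF n v y = 0 ∧
        ∀ g ∈ I, ∃ b : F, actv g y = y + b • u}
      zero_mem' := ⟨map_zero _, map_zero _, fun g _ => ⟨0, by rw [actv_zero, zero_smul, add_zero]⟩⟩
      add_mem' := by
        rintro y y' ⟨h1, h2, h3⟩ ⟨h1', h2', h3'⟩
        refine ⟨by rw [map_add, h1, h1', add_zero], by rw [map_add, h2, h2', add_zero], ?_⟩
        intro g hg
        obtain ⟨b, hb⟩ := h3 g hg
        obtain ⟨b', hb'⟩ := h3' g hg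
        exact ⟨b + b', by rw [actv_add, hb, hb', add_smul]; abel⟩
      smul_mem' := by
        rintro c y ⟨h1, h2, h3⟩
        refine ⟨by rw [map_smul, h1, smul_zero], by rw [map_smul, h2, smul_zero], ?_⟩
        intro g hg
        obtain ⟨b, hb⟩ := h3 g hg
        exact ⟨c * b, by rw [actv_smul, hb, smul_add, smul_smul]⟩ }
  have hKmem : ∀ y, y ∈ K ↔ stdB hF n u y = 0 ∧ stdB hF n v y = 0 ∧
      ∀ g ∈ I, ∃ b : F, actv g y = y + b • u := fun y => Iff.rfl
  have hKW : K ≤ Wsub hF u v := by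
    intro y hy
    rw [mem_Wsub]
    exact ⟨hy.1, hy.2.1⟩
  have hxK : x ∈ K := by
    refine ⟨hx1, hx2, fun g hg => ⟨stdB hF n v (actv g x), ?_⟩⟩
    have := congrArg Subtype.val (hx ⟨g, hg⟩)
    change actv g x - stdB hF n v (actv g x) • u = x at this
    linear_combination (exp := 1) this
  have hKne : K ≠ ⊥ := by
    intro h
    rw [h, Submodule.mem_bot] at hxK
    exact hx0 hxK
  obtain ⟨a, ha0, ha⟩ := exists_trace_zero hF
  have ha' : a + a ^ q = 0 := by rw [add_comm]; exact ha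
  have hmove : ∀ y ∈ Wsub hF u v, stdB hF n y y = 0 → ∀ k ∈ K, stdB hF n y k ≠ 0 → y ∈ K := by
    intro y hyW hyy k hk hyk
    obtain ⟨hy1, hy2⟩ := (mem_Wsub hF u v y).mp hyW
    have hyu : stdB hF n y u = 0 := stdB_swap_zero hF _ _ hy1
    have hval : Valid hF y 0 a := valid_zero hF hyy ha'
    set t := ei hF y 0 a with ht
    have htu : actv t u = u := by
      rw [ht, actv_ei hF hval, hyu]
      simp
    have htk : actv t k = k + (a * stdB hF n y k) • y := by
      rw [ht, actv_ei hF hval]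
      simp
    refine ⟨hy1, hy2, fun g hg => ?_⟩
    have hg' : t⁻¹ * g * t⁻¹⁻¹ ∈ I := hnorm g hg t⁻¹ (actv_inv t u u htu)
    rw [inv_inv] at hg'
    obtain ⟨b, hb⟩ := hk.2.2 _ hg'
    obtain ⟨b', hb'⟩ := hk.2.2 g hg
    have h1 : actv g (actv t k) = actv t k + b • u := by
      have e : g * t = t * (t⁻¹ * g * t) := by group
      rw [← actv_mul, e, actv_mul, hb, actv_add, actv_smul, htu]
    rw [htk, actv_add, actv_smul, hb'] at h1
    set l := a * stdB hF n y k with hl
    have hl0 : l ≠ 0 := mul_ne_zero ha0 hyk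
    refine ⟨l⁻¹ * (b - b'), ?_⟩
    have h2 : l • actv g y = l • y + (b - b') • u := by
      have h3 : k + b' • u + l • actv g y = k + l • y + b • u := h1
      rw [sub_smul]
      linear_combination (exp := 1) h3
    have h4 : actv g y = l⁻¹ • (l • actv g y) := by rw [smul_smul, inv_mul_cancel₀ hl0, one_smul]
    rw [h4, h2, smul_add, smul_smul, smul_smul, inv_mul_cancel₀ hl0, one_smul]
  have hKeq : K = Wsub hF u v :=
    eq_of_closed_moves (frobQ hF) (frobQ_ne_id hF) (frobQ_frobQ hF) (stdB hF n) (stdB_isSymm hF n)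
      (Wsub hF u v) (Wsub_nondeg hF huu hvv huv) K hKW hKne hmove
  -- conclusion
  intro g hg
  refine ⟨hfix g hg, fun z hz => ?_⟩
  have hzW : z - stdB hF n v z • u ∈ K := by
    rw [hKeq, mem_Wsub]
    constructor
    · rw [map_sub, map_smul, hz, huu, smul_zero, sub_zero]
    · rw [map_sub, map_smul, hvu, smul_eq_mul, mul_one, sub_self]
  obtain ⟨b, hb⟩ := hzW.2.2 g hg
  refine ⟨b, ?_⟩
  rw [actv_sub_aux, actv_smul, hfix g hg] at hb
  have : actv g z = (z - stdB hF n v z • u + b • u) + stdB hF n v z • u := by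
    rw [← hb]; abel
  rw [this]
  abel

end ClaimC

end Cfsg.Agent.Helper13.PSUCan
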