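import Mathlib
import Cfsg.Agent.Lib.Helper13.PSUCan

set_option autoImplicit false
set_option linter.unusedSimpArgs false
set_option linter.unusedVariables false

namespace Cfsg.Agent.Helper13.PSUBar

open Module Submodule Matrix
open scoped Pointwise
open Cfsg.Agent.Helper13 Cfsg.Agent.Helper13.PSUEich Cfsg.Agent.Helper13.PSUSyl
  Cfsg.Agent.Helper13.PSUCan

section Bar

variable {F : Type*} [Field F] [Fintype F] {q n : ℕ} (hF : Fintype.card F = q ^ 2)

/-- the quotient map `SU → PSU` -/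
abbrev mkU (n : ℕ) (F : Type*) [Field F] (q : ℕ) : ↥(Cfsg.SU n F q) →* Cfsg.PSU n F q :=
  QuotientGroup.mk' (Subgroup.center ↥(Cfsg.SU n F q))

/-- the image of the transvection group in `PSU` -/
def Tb (u : Fin n → F) : Subgroup (Cfsg.PSU n F q) := (Ts hF u).map (mkU n F q)

/-- the image of `Q_u` in `PSU` -/
def Qb (u : Fin n → F) : Subgroup (Cfsg.PSU n F q) := (Qs hF u).map (mkU n F q)

theorem mem_Tb (u : Fin n → F) (x : Cfsg.PSU n F q) :
    x ∈ Tb hF u ↔ ∃ t ∈ Ts hF u, (QuotientGroup.mk t : Cfsg.PSU n F q) = x := Iff.rfl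

theorem mem_Qb (u : Fin n → F) (x : Cfsg.PSU n F q) :
    x ∈ Qb hF u ↔ ∃ t ∈ Qs hF u, (QuotientGroup.mk t : Cfsg.PSU n F q) = x := Iff.rfl

include hF in
theorem char_dvd_q (p : ℕ) [Fact p.Prime] [CharP F p] : p ∣ q := by
  have h1 : ((Fintype.card F : ℕ) : F) = 0 := Nat.cast_card_eq_zero F
  have h2 : p ∣ Fintype.card F := (CharP.cast_eq_zero_iff F p _).mp h1
  rw [hF] at h2
  exact (Fact.out : p.Prime).dvd_of_dvd_pow h2

theorem exists_sylow_lift {p : ℕ} [Fact p.Prime] (P : Sylow p (Cfsg.PSU n F q)) :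
    ∃ S : Sylow p ↥(Cfsg.SU n F q),
      (S : Subgroup ↥(Cfsg.SU n F q)).map (mkU n F q) = (P : Subgroup (Cfsg.PSU n F q)) := by
  obtain ⟨S, hS⟩ := Sylow.mapSurjective_surjective
    (f := mkU n F q) (QuotientGroup.mk'_surjective _) p P
  refine ⟨S, ?_⟩
  rw [← hS]
  rfl

theorem sylow_pel {p : ℕ} [Fact p.Prime] (S : Sylow p ↥(Cfsg.SU n F q))
    {s : ↥(Cfsg.SU n F q)} (hs : s ∈ S) : ∃ k : ℕ, s ^ (p ^ k) = 1 := by
  obtain ⟨k, hk⟩ := S.isPGroup' ⟨s, hs⟩
  refine ⟨k, ?_⟩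
  have := congrArg Subtype.val hk
  rw [Subgroup.coe_pow] at this
  exact this

variable {p : ℕ} [Fact p.Prime] [CharP F p]

include hF in
/-- a `p`-element whose image lies in the image of a Sylow subgroup lies in it -/
theorem mem_of_mk_mem (hn : 3 ≤ n) (S : Sylow p ↥(Cfsg.SU n F q)) {g : ↥(Cfsg.SU n F q)} {k : ℕ}
    (hg : g ^ (p ^ k) = 1)
    (h : (QuotientGroup.mk g : Cfsg.PSU n F q) ∈ (S : Subgroup ↥(Cfsg.SU n F q)).map (mkU n F q)) :
    g ∈ S := by
  obtain ⟨s, hs, hsg⟩ := h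
  obtain ⟨k', hk'⟩ := sylow_pel S hs
  have := pel_eq hF (Fact.out : p.Prime) (char_dvd_q hF p) hn hk' hg hsg
  rw [← this]
  exact hs

include hF in
theorem comm_of_mk_comm (hn : 3 ≤ n) (S : Sylow p ↥(Cfsg.SU n F q)) {s t : ↥(Cfsg.SU n F q)}
    (hs : s ∈ S) (ht : t ∈ S)
    (h : (QuotientGroup.mk s : Cfsg.PSU n F q) * QuotientGroup.mk t =
      QuotientGroup.mk t * QuotientGroup.mk s) : s * t = t * s := by
  obtain ⟨k, hk⟩ := sylow_pel S (S.mul_mem hs ht)
  obtain ⟨k', hk'⟩ := sylow_pel S (S.mul_mem ht hs)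
  exact pel_eq hF (Fact.out : p.Prime) (char_dvd_q hF p) hn hk hk' h

/-- the centre of the image of a Sylow subgroup fixing `u` -/
theorem center_map_sylow (hn : 3 ≤ n) {u : Fin n → F} (hu : u ≠ 0) (huu : stdB hF n u u = 0)
    (S : Sylow p ↥(Cfsg.SU n F q)) (hfix : ∀ s ∈ S, actv s u = u) (x : Cfsg.PSU n F q) :
    (x ∈ (S : Subgroup ↥(Cfsg.SU n F q)).map (mkU n F q) ∧
      ∀ y ∈ (S : Subgroup ↥(Cfsg.SU n F q)).map (mkU n F q), y * x = x * y) ↔ x ∈ Tb hF u := by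
  constructor
  · rintro ⟨⟨s, hs, rfl⟩, hc⟩
    refine ⟨s, ?_, rfl⟩
    apply (center_sylow hF hu huu S hfix s).1
    refine ⟨hs, fun t ht => ?_⟩
    exact comm_of_mk_comm hF hn S ht hs (hc _ ⟨t, ht, rfl⟩)
  · rintro ⟨t, ht, rfl⟩
    obtain ⟨htS, htc⟩ := (center_sylow hF hu huu S hfix t).2 ht
    refine ⟨⟨t, htS, rfl⟩, ?_⟩
    rintro y ⟨s, hs, rfl⟩
    change (QuotientGroup.mk s : Cfsg.PSU n F q) * QuotientGroup.mk t =
      QuotientGroup.mk t * QuotientGroup.mk s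
    rw [← QuotientGroup.mk_mul, ← QuotientGroup.mk_mul, htc s hs]

/-- a Sylow subgroup fixing a given isotropic vector -/
theorem exists_sylow_fix (hn : 3 ≤ n) {u : Fin n → F} (hu : u ≠ 0) (huu : stdB hF n u u = 0) :
    ∃ S : Sylow p ↥(Cfsg.SU n F q), ∀ s ∈ S, actv s u = u := by
  obtain ⟨S₀⟩ : Nonempty (Sylow p ↥(Cfsg.SU n F q)) := inferInstance
  obtain ⟨u₀, hu₀, hu₀u₀, hfix₀⟩ := exists_fixed_iso hF (char_dvd_q hF p) (by omega)
    (S₀ : Subgroup ↥(Cfsg.SU n F q)) S₀.isPGroup'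
  obtain ⟨g, hg⟩ := exists_SU_iso hF hn u₀ u hu₀ hu hu₀u₀ huu
  refine ⟨g • S₀, ?_⟩
  intro s hs
  rw [← SetLike.mem_coe, Sylow.coe_smul] at hs
  obtain ⟨s₀, hs₀, rfl⟩ := hs
  change actv (g * s₀ * g⁻¹) u = u
  rw [actv_mul, actv_mul, actv_inv g u₀ u hg, hfix₀ s₀ hs₀, hg]

include p in
/-- every automorphism of `PSU` permutes the transvection groups -/
theorem aut_Tb (hn : 3 ≤ n) (α : MulAut (Cfsg.PSU n F q)) {u : Fin n → F} (hu : u ≠ 0)
    (huu : stdB hF n u u = 0) :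
    ∃ u' : Fin n → F, u' ≠ 0 ∧ stdB hF n u' u' = 0 ∧ ∀ x, x ∈ Tb hF u ↔ α x ∈ Tb hF u' := by
  obtain ⟨S, hfix⟩ := exists_sylow_fix hF (p := p) hn hu huu
  set P : Sylow p (Cfsg.PSU n F q) := S.mapSurjective (f := mkU n F q)
    (QuotientGroup.mk'_surjective _) with hP
  have hPc : (P : Subgroup (Cfsg.PSU n F q)) =
      (S : Subgroup ↥(Cfsg.SU n F q)).map (mkU n F q) := rfl
  obtain ⟨S', hS'⟩ := exists_sylow_lift (α • P)
  obtain ⟨u', hu', hu'u', hfix'⟩ := exists_fixed_iso hF (char_dvd_q hF p) (by omega)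
    (S' : Subgroup ↥(Cfsg.SU n F q)) S'.isPGroup'
  refine ⟨u', hu', hu'u', fun x => ?_⟩
  rw [← center_map_sylow hF hn hu huu S hfix, ← center_map_sylow hF hn hu' hu'u' S' hfix', hS',
    ← hPc, Sylow.pointwise_smul_def]
  have e1 : ∀ y, α y ∈ α • (P : Subgroup (Cfsg.PSU n F q)) ↔ y ∈ (P : Subgroup (Cfsg.PSU n F q)) :=
    fun y => Subgroup.smul_mem_pointwise_smul_iff (a := α)
  constructor
  · rintro ⟨h1, h2⟩
    refine ⟨(e1 x).2 h1, fun y hy => ?_⟩
    have hy' : α⁻¹ y ∈ (P : Subgroup (Cfsg.PSU n F q)) := by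
      rw [← e1, MulAut.apply_inv_self]; exact hy
    have := congrArg α (h2 _ hy')
    rw [map_mul, map_mul, MulAut.apply_inv_self] at this
    exact this
  · rintro ⟨h1, h2⟩
    refine ⟨(e1 x).1 h1, fun y hy => ?_⟩
    have := h2 (α y) ((e1 y).2 hy)
    rw [← map_mul, ← map_mul] at this
    exact α.injective this

theorem stdB_smul_left_eq_zero {u x : Fin n → F} {l : F} (hl : l ≠ 0) :
    stdB hF n (l • u) x = 0 ↔ stdB hF n u x = 0 := by
  rw [LinearMap.map_smulₛₗ, LinearMap.smul_apply, smul_eq_mul, frobQ_apply]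
  constructor
  · intro h
    rcases mul_eq_zero.mp h with h | h
    · exact absurd (pow_eq_zero_iff (q_pos hF).ne' |>.mp h) hl
    · exact h
  · intro h
    rw [h, mul_zero]

theorem Qs_smul {u : Fin n → F} {l : F} (hl : l ≠ 0) : Qs hF (l • u) = Qs hF u := by
  ext g
  rw [mem_Qs, mem_Qs]
  constructor
  · rintro ⟨h1, h2⟩
    refine ⟨?_, fun x hx => ?_⟩
    · rw [actv_smul] at h1
      exact smul_right_injective _ hl h1
    · obtain ⟨b, hb⟩ := h2 x ((stdB_smul_left_eq_zero hF hl).2 hx)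
      exact ⟨b * l, by rw [hb, smul_smul]⟩
  · rintro ⟨h1, h2⟩
    refine ⟨by rw [actv_smul, h1], fun x hx => ?_⟩
    obtain ⟨b, hb⟩ := h2 x ((stdB_smul_left_eq_zero hF hl).1 hx)
    exact ⟨b * l⁻¹, by rw [hb, smul_smul, mul_assoc, inv_mul_cancel₀ hl, mul_one]⟩

theorem Ts_smul {u : Fin n → F} {l : F} (hl : l ≠ 0) : Ts hF (l • u) = Ts hF u := by
  ext g
  rw [mem_Ts, mem_Ts]
  constructor
  · intro h x hx
    exact h x ((stdB_smul_left_eq_zero hF hl).2 hx)
  · intro h x hx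
    exact h x ((stdB_smul_left_eq_zero hF hl).1 hx)

/-- containment of transvection groups forces proportional centres -/
theorem smul_of_Ts_le {u u₁ : Fin n → F} (hu : u ≠ 0) (huu : stdB hF n u u = 0) (hu₁ : u₁ ≠ 0)
    (hu₁u₁ : stdB hF n u₁ u₁ = 0) (h : Ts hF u ≤ Ts hF u₁) : ∃ l : F, l ≠ 0 ∧ u = l • u₁ := by
  obtain ⟨a, ha0, ha⟩ := exists_trace_zero hF
  have ha' : a + a ^ q = 0 := by rw [add_comm]; exact ha
  have hval : Valid hF u 0 a := valid_zero hF huu ha'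
  have ht := h (ei_mem_Ts hF hval)
  have hperp : ∀ x, stdB hF n u₁ x = 0 → stdB hF n u x = 0 := by
    intro x hx
    have h1 := ht x hx
    rw [actv_ei hF hval] at h1
    simp only [map_zero, LinearMap.zero_apply, zero_smul, smul_zero, add_zero, sub_zero] at h1
    have h2 : (a * stdB hF n u x) • u = 0 := by
      have : x + (a * stdB hF n u x) • u = x + 0 := by rw [add_zero]; exact h1
      exact add_left_cancel this
    rcases smul_eq_zero.mp h2 with h3 | h3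
    · rcases mul_eq_zero.mp h3 with h4 | h4
      · exact absurd h4 ha0
      · exact h4
    · exact absurd h3 hu
  obtain ⟨v₁, hu₁v₁, hv₁v₁⟩ := su_exists_partner hF u₁ hu₁ hu₁u₁
  have hv₁u₁ : stdB hF n v₁ u₁ = 1 := by rw [stdB_conj, hu₁v₁, one_pow]
  have hy : u - stdB hF n v₁ u • u₁ = 0 := by
    apply eq_zero_of_perp hF hu₁v₁
    · intro x hx
      rw [map_sub, map_smul, stdB_swap_zero hF _ _ hx, stdB_swap_zero hF _ _ (hperp x hx),
        smul_zero, sub_zero]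
    · rw [map_sub, map_smul, hv₁u₁, smul_eq_mul, mul_one, sub_self]
  have hul : u = stdB hF n v₁ u • u₁ := sub_eq_zero.mp hy
  refine ⟨stdB hF n v₁ u, ?_, hul⟩
  intro h0
  rw [h0, zero_smul] at hul
  exact hu hul

include p in
/-- `Q̄_u` is the intersection of the Sylow `p`-subgroups having `T̄_u` in their centre -/
theorem mem_Qb_iff (hn : 3 ≤ n) {u : Fin n → F} (hu : u ≠ 0) (huu : stdB hF n u u = 0)
    (x : Cfsg.PSU n F q) :
    x ∈ Qb hF u ↔ ∀ P : Sylow p (Cfsg.PSU n F q), Tb hF u ≤ (P : Subgroup (Cfsg.PSU n F q)) →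
      (P : Subgroup (Cfsg.PSU n F q)) ≤ Subgroup.centralizer (Tb hF u : Set (Cfsg.PSU n F q)) →
        x ∈ P := by
  have hpq := char_dvd_q hF p
  constructor
  · rintro ⟨g, hg, rfl⟩ P hTP hPc
    obtain ⟨S, hS⟩ := exists_sylow_lift P
    obtain ⟨u₁, hu₁, hu₁u₁, hfix₁⟩ := exists_fixed_iso hF hpq (by omega)
      (S : Subgroup ↥(Cfsg.SU n F q)) S.isPGroup'
    have hTS : ∀ t ∈ Ts hF u, t ∈ S := by
      intro t ht
      have h1 : (QuotientGroup.mk t : Cfsg.PSU n F q) ∈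
          (S : Subgroup ↥(Cfsg.SU n F q)).map (mkU n F q) := by
        rw [hS]
        exact hTP ⟨t, ht, rfl⟩
      exact mem_of_mk_mem hF hn S (Qs_pow_eq_one hF (p := p) hu huu (Ts_le_Qs hF huu ht)) h1
    have hTT : Ts hF u ≤ Ts hF u₁ := by
      intro t ht
      apply (center_sylow hF hu₁ hu₁u₁ S hfix₁ t).1
      refine ⟨hTS t ht, fun s hs => ?_⟩
      apply comm_of_mk_comm hF hn S hs (hTS t ht)
      have h1 : (QuotientGroup.mk s : Cfsg.PSU n F q) ∈ (P : Subgroup (Cfsg.PSU n F q)) := by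
        rw [← hS]
        exact ⟨s, hs, rfl⟩
      have h2 := Subgroup.mem_centralizer_iff.mp (hPc h1) _ (show
        (QuotientGroup.mk t : Cfsg.PSU n F q) ∈ (Tb hF u : Set (Cfsg.PSU n F q)) from ⟨t, ht, rfl⟩)
      exact h2.symm
    obtain ⟨l, hl, hul⟩ := smul_of_Ts_le hF hu huu hu₁ hu₁u₁ hTT
    have hQ : Qs hF u ≤ (S : Subgroup ↥(Cfsg.SU n F q)) := by
      rw [hul, Qs_smul hF hl]
      exact Qs_le_sylow hF hu₁ hu₁u₁ S hfix₁
    rw [← SetLike.mem_coe, ← Sylow.coe_coe, ← hS]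
    exact ⟨g, hQ hg, rfl⟩
  · intro hx
    -- the images of the Sylow subgroups fixing `u` satisfy the conditions
    have hcond : ∀ S : Sylow p ↥(Cfsg.SU n F q), (∀ s ∈ S, actv s u = u) →
        x ∈ (S : Subgroup ↥(Cfsg.SU n F q)).map (mkU n F q) := by
      intro S hfix
      set P : Sylow p (Cfsg.PSU n F q) := S.mapSurjective (f := mkU n F q)
        (QuotientGroup.mk'_surjective _) with hP
      have hQ := Qs_le_sylow hF hu huu S hfix
      have h1 : x ∈ P := by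
        apply hx P
        · rintro y ⟨t, ht, rfl⟩
          exact ⟨t, hQ (Ts_le_Qs hF huu ht), rfl⟩
        · rintro y ⟨s, hs, rfl⟩
          rw [Subgroup.mem_centralizer_iff]
          rintro z ⟨t, ht, rfl⟩
          change (QuotientGroup.mk t : Cfsg.PSU n F q) * QuotientGroup.mk s =
            QuotientGroup.mk s * QuotientGroup.mk t
          rw [← QuotientGroup.mk_mul, ← QuotientGroup.mk_mul,
            Ts_comm_of_fix hF hu huu (hfix s hs) ht]
      exact h1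
    obtain ⟨S₁, hfix₁⟩ := exists_sylow_fix hF (p := p) hn hu huu
    obtain ⟨g, hgS₁, rfl⟩ := hcond S₁ hfix₁
    refine ⟨g, ?_, rfl⟩
    obtain ⟨k, hk⟩ := sylow_pel S₁ hgS₁
    -- the intersection of the Sylow subgroups fixing `u`
    set I : Subgroup ↥(Cfsg.SU n F q) :=
      ⨅ S : {S : Sylow p ↥(Cfsg.SU n F q) // ∀ s ∈ S, actv s u = u},
        ((S.1 : Sylow p ↥(Cfsg.SU n F q)) : Subgroup ↥(Cfsg.SU n F q)) with hIdef
    have hImem : ∀ y, y ∈ I ↔ ∀ S : Sylow p ↥(Cfsg.SU n F q), (∀ s ∈ S, actv s u = u) → y ∈ S := by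
      intro y
      rw [hIdef, Subgroup.mem_iInf]
      constructor
      · intro h S hS
        exact h ⟨S, hS⟩
      · intro h S
        exact h S.1 S.2
    have hgI : g ∈ I := by
      rw [hImem]
      intro S hfix
      exact mem_of_mk_mem hF hn S hk (hcond S hfix)
    have hIS₁ : I ≤ (S₁ : Subgroup ↥(Cfsg.SU n F q)) := fun y hy => (hImem y).1 hy S₁ hfix₁
    have hIle : I ≤ Qs hF u := by
      apply le_Qs_of_normal hF hpq hn hu huu I (S₁.isPGroup'.to_le hIS₁)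
      · intro y hy
        exact hfix₁ y (hIS₁ hy)
      · intro y hy h hhu
        rw [hImem]
        intro S hfix
        have hfix' : ∀ s ∈ (h⁻¹ • S : Sylow p ↥(Cfsg.SU n F q)), actv s u = u := by
          intro s hs
          rw [← SetLike.mem_coe, Sylow.coe_smul] at hs
          obtain ⟨s₀, hs₀, rfl⟩ := hs
          change actv (h⁻¹ * s₀ * h⁻¹⁻¹) u = u
          rw [inv_inv, actv_mul, actv_mul, hhu, hfix s₀ hs₀]
          exact actv_inv h u u hhu
        have h1 := (hImem y).1 hy (h⁻¹ • S) hfix'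
        rw [← SetLike.mem_coe, Sylow.coe_smul] at h1
        obtain ⟨s₀, hs₀, hs₀y⟩ := h1
        have h2 : y = h⁻¹ * s₀ * h⁻¹⁻¹ := hs₀y.symm
        rw [h2]
        have e : h * (h⁻¹ * s₀ * h⁻¹⁻¹) * h⁻¹ = s₀ := by group
        rw [e]
        exact hs₀
    exact hIle hgI

include p in
/-- automorphisms permute the groups `Q̄_u` compatibly with the transvection groups -/
theorem aut_Qb (hn : 3 ≤ n) (α : MulAut (Cfsg.PSU n F q)) {u u' : Fin n → F} (hu : u ≠ 0)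
    (huu : stdB hF n u u = 0) (hu' : u' ≠ 0) (hu'u' : stdB hF n u' u' = 0)
    (hT : ∀ x, x ∈ Tb hF u ↔ α x ∈ Tb hF u') (x : Cfsg.PSU n F q) :
    x ∈ Qb hF u ↔ α x ∈ Qb hF u' := by
  have key : ∀ (β : MulAut (Cfsg.PSU n F q)) (w w' : Fin n → F), w ≠ 0 → stdB hF n w w = 0 →
      w' ≠ 0 → stdB hF n w' w' = 0 → (∀ x, x ∈ Tb hF w ↔ β x ∈ Tb hF w') →
      ∀ x, x ∈ Qb hF w → β x ∈ Qb hF w' := by
    intro β w w' hw hww hw' hw'w' hTw x hx
    rw [mem_Qb_iff hF (p := p) hn hw' hw'w']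
    intro P' hTP' hP'c
    have hx' := (mem_Qb_iff hF (p := p) hn hw hww x).1 hx (β⁻¹ • P')
    have e1 : ∀ y, y ∈ (β⁻¹ • P' : Sylow p (Cfsg.PSU n F q)) ↔ β y ∈ P' := by
      intro y
      change y ∈ ((β⁻¹ • P' : Sylow p (Cfsg.PSU n F q)) : Subgroup (Cfsg.PSU n F q)) ↔
        β y ∈ (P' : Subgroup (Cfsg.PSU n F q))
      rw [Sylow.pointwise_smul_def, Subgroup.mem_inv_pointwise_smul_iff]
      rfl
    rw [← e1]
    apply hx'
    · intro y hy
      exact (e1 y).2 (hTP' ((hTw y).1 hy))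
    · intro y hy
      have hy' : β y ∈ P' := (e1 y).1 hy
      rw [Subgroup.mem_centralizer_iff]
      intro z hz
      have hz' : β z ∈ (Tb hF w' : Set (Cfsg.PSU n F q)) := (hTw z).1 hz
      have := Subgroup.mem_centralizer_iff.mp (hP'c hy') _ hz'
      rw [← map_mul, ← map_mul] at this
      exact β.injective this
  constructor
  · exact key α u u' hu huu hu' hu'u' hT x
  · intro hx
    have := key α⁻¹ u' u hu' hu'u' hu huu (fun y => by
      rw [hT (α⁻¹ y), MulAut.apply_inv_self]) (α x) hx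
    rw [MulAut.inv_apply_self] at this
    exact this

end Bar

end Cfsg.Agent.Helper13.PSUBar
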