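import Mathlib
import Cfsg.Agent.Lib.Helper13.PSUBar
import Cfsg.Agent.Lib.Helper5.PSUGr2

/-!
# Root groups of `PSU_n(q)`: conjugation, normalisers, orthogonality
-/

set_option autoImplicit false
set_option linter.unusedSimpArgs false
set_option linter.unusedVariables false
set_option linter.unusedSectionVars false

namespace Cfsg.Agent.Helper13.PSURoot

open Module Submodule Matrix
open Cfsg.Agent.Helper13 Cfsg.Agent.Helper13.PSUEich Cfsg.Agent.Helper13.PSUSyl
  Cfsg.Agent.Helper13.PSUCan Cfsg.Agent.Helper13.PSUBar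
open Cfsg.Agent.Helper5.PSUAut Cfsg.Agent.Helper5.PSUGr

section Root

variable {F : Type*} [Field F] [Fintype F] {q n : ℕ} (hF : Fintype.card F = q ^ 2)

/-- conjugation moves transvection groups -/
theorem conj_mem_Ts (k : ↥(Cfsg.SU n F q)) {u : Fin n → F} {t : ↥(Cfsg.SU n F q)}
    (ht : t ∈ Ts hF u) : k * t * k⁻¹ ∈ Ts hF (actv k u) := by
  rw [mem_Ts] at ht ⊢
  intro x hx
  have h1 : stdB hF n u (actv k⁻¹ x) = 0 := by
    have := actv_iso hF k⁻¹ (actv k u) x
    rw [actv_inv k u _ rfl] at this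
    rw [this]
    exact hx
  rw [actv_mul, actv_mul, ht _ h1, ← actv_mul, mul_inv_cancel, actv_one]

theorem iso_actv (k : ↥(Cfsg.SU n F q)) {u : Fin n → F} (huu : stdB hF n u u = 0) :
    stdB hF n (actv k u) (actv k u) = 0 := by
  rw [actv_iso]
  exact huu

variable {p : ℕ} [Fact p.Prime] [CharP F p]

include p in
/-- the quotient map is injective on the union of the groups `Q_u` -/
theorem mk_inj_Qs (hn : 3 ≤ n) {u u' : Fin n → F} (hu : u ≠ 0) (huu : stdB hF n u u = 0)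
    (hu' : u' ≠ 0) (hu'u' : stdB hF n u' u' = 0) {g g' : ↥(Cfsg.SU n F q)}
    (hg : g ∈ Qs hF u) (hg' : g' ∈ Qs hF u')
    (h : (QuotientGroup.mk g : Cfsg.PSU n F q) = QuotientGroup.mk g') : g = g' :=
  pel_eq hF (Fact.out : p.Prime) (char_dvd_q hF p) hn (Qs_pow_eq_one hF (p := p) hu huu hg)
    (Qs_pow_eq_one hF (p := p) hu' hu'u' hg') h

include p in
/-- an element conjugating `T̄_u` into `T̄_{u'}` maps `u` into `⟨u'⟩` -/
theorem smul_of_conj_Tb (hn : 3 ≤ n) {u u' : Fin n → F} (hu : u ≠ 0) (huu : stdB hF n u u = 0)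
    (hu' : u' ≠ 0) (hu'u' : stdB hF n u' u' = 0) (k : ↥(Cfsg.SU n F q))
    (h : ∀ x ∈ Tb hF u, (QuotientGroup.mk k : Cfsg.PSU n F q) * x * (QuotientGroup.mk k)⁻¹ ∈
      Tb hF u') : ∃ l : F, l ≠ 0 ∧ actv k u = l • u' := by
  have hku : actv k u ≠ 0 := actv_ne_zero k u hu
  have hkk : stdB hF n (actv k u) (actv k u) = 0 := iso_actv hF k huu
  apply smul_of_Ts_le hF hku hkk hu' hu'u'
  intro t ht
  have h1 : k⁻¹ * t * k ∈ Ts hF u := by
    have := conj_mem_Ts hF k⁻¹ ht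
    rwa [inv_inv, actv_inv k u _ rfl] at this
  have h2 := h _ ⟨_, h1, rfl⟩
  have h3 : (QuotientGroup.mk k : Cfsg.PSU n F q) * (mkU n F q) (k⁻¹ * t * k) *
      (QuotientGroup.mk k)⁻¹ = QuotientGroup.mk t := by
    show (QuotientGroup.mk k : Cfsg.PSU n F q) * QuotientGroup.mk (k⁻¹ * t * k) *
      (QuotientGroup.mk k)⁻¹ = QuotientGroup.mk t
    rw [← QuotientGroup.mk_inv, ← QuotientGroup.mk_mul, ← QuotientGroup.mk_mul]
    congr 1
    group
  rw [h3] at h2
  obtain ⟨t', ht', he⟩ := h2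
  have := mk_inj_Qs hF (p := p) hn hu' hu'u' hku hkk (Ts_le_Qs hF hu'u' ht')
    (Ts_le_Qs hF hkk ht) he
  rw [← this]
  exact ht'

include p in
/-- two transvection groups commute iff their centres are orthogonal -/
theorem orth_iff_comm (hn : 3 ≤ n) {x y : Fin n → F} (hx : x ≠ 0) (hxx : stdB hF n x x = 0)
    (hy : y ≠ 0) (hyy : stdB hF n y y = 0) :
    stdB hF n x y = 0 ↔ ∀ s ∈ Tb hF x, ∀ t ∈ Tb hF y, s * t = t * s := by
  constructor
  · rintro hxy s ⟨s0, hs0, rfl⟩ t ⟨t0, ht0, rfl⟩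
    have h1 : actv s0 y = y := (mem_Ts hF x s0).1 hs0 y hxy
    have h2 := Ts_comm_of_fix hF hy hyy h1 ht0
    show (QuotientGroup.mk s0 : Cfsg.PSU n F q) * QuotientGroup.mk t0 =
      QuotientGroup.mk t0 * QuotientGroup.mk s0
    rw [← QuotientGroup.mk_mul, ← QuotientGroup.mk_mul, h2]
  · intro hcomm
    by_contra hxy
    obtain ⟨a, ha0, ha⟩ := exists_trace_zero hF
    have hva : Valid hF x 0 a := valid_zero hF hxx (by rw [add_comm]; exact ha)
    have hs0 : ei hF x 0 a ∈ Ts hF x := ei_mem_Ts hF hva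
    obtain ⟨l, hl0, hl⟩ := smul_of_conj_Tb hF (p := p) hn hy hyy hy hyy (ei hF x 0 a) (by
      intro t ht
      have := hcomm _ ⟨_, hs0, rfl⟩ t ht
      show (mkU n F q) (ei hF x 0 a) * t * ((mkU n F q) (ei hF x 0 a))⁻¹ ∈ Tb hF y
      rw [this, mul_inv_cancel_right]
      exact ht)
    rw [actv_ei hF hva] at hl
    simp only [smul_zero, add_zero, map_zero, LinearMap.zero_apply, zero_smul, sub_zero] at hl
    have h4 := congrArg (stdB hF n y) hl
    have hyx : stdB hF n y x ≠ 0 := by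
      rw [stdB_conj]
      exact pow_ne_zero _ hxy
    simp only [map_add, map_sub, map_smul, smul_eq_mul, hyy, map_zero, mul_zero, zero_mul,
      sub_zero, add_zero, zero_add] at h4
    have : a * stdB hF n x y * stdB hF n y x = 0 := h4
    exact hyx ((mul_eq_zero.1 this).resolve_left (mul_ne_zero ha0 hxy))

include p in
/-- automorphisms preserve orthogonality of the centres of transvection groups -/
theorem aut_orth (hn : 3 ≤ n) (α : MulAut (Cfsg.PSU n F q)) {x x' y y' : Fin n → F}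
    (hx : x ≠ 0) (hxx : stdB hF n x x = 0) (hy : y ≠ 0) (hyy : stdB hF n y y = 0)
    (hx' : x' ≠ 0) (hx'x' : stdB hF n x' x' = 0) (hy' : y' ≠ 0) (hy'y' : stdB hF n y' y' = 0)
    (hTx : ∀ s, s ∈ Tb hF x ↔ α s ∈ Tb hF x') (hTy : ∀ s, s ∈ Tb hF y ↔ α s ∈ Tb hF y') :
    stdB hF n x y = 0 ↔ stdB hF n x' y' = 0 := by
  rw [orth_iff_comm hF (p := p) hn hx hxx hy hyy, orth_iff_comm hF (p := p) hn hx' hx'x' hy' hy'y']
  constructor
  · intro h s hs t ht
    have hs' : α.symm s ∈ Tb hF x := (hTx _).2 (by rw [MulEquiv.apply_symm_apply]; exact hs)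
    have ht' : α.symm t ∈ Tb hF y := (hTy _).2 (by rw [MulEquiv.apply_symm_apply]; exact ht)
    have := congrArg α (h _ hs' _ ht')
    rwa [map_mul, map_mul, MulEquiv.apply_symm_apply, MulEquiv.apply_symm_apply] at this
  · intro h s hs t ht
    have := h _ ((hTx s).1 hs) _ ((hTy t).1 ht)
    rw [← map_mul, ← map_mul] at this
    exact α.injective this

end Root

section Inner

variable {F : Type*} [Field F] [Fintype F] {q n : ℕ} (hF : Fintype.card F = q ^ 2)

/-- an element of `SU` as a similitude -/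
noncomputable def suCU (g : ↥(Cfsg.SU n F q)) : ↥(CU n F q) :=
  ⟨Matrix.SpecialLinearGroup.toGL g.1, (mem_CU_iff _).2 ⟨1, fun u v => by
    have := g.2 u v
    simpa using this⟩⟩

theorem conjSU_suCU (g s : ↥(Cfsg.SU n F q)) : conjSU (suCU g) s = g * s * g⁻¹ := by
  apply Subtype.ext
  apply Subtype.ext
  rw [conjSU_val]
  have h1 : ((suCU g).1 : Matrix (Fin n) (Fin n) F) = g.1.val := rfl
  have h2 : ((((suCU g).1)⁻¹ : GL (Fin n) F) : Matrix (Fin n) (Fin n) F) = (g⁻¹).1.val := by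
    rw [Matrix.coe_units_inv, h1]
    apply Matrix.inv_eq_right_inv
    have : (g * g⁻¹).1.val = 1 := by rw [mul_inv_cancel]; rfl
    exact this
  rw [h1, h2]
  rfl

theorem PhiU_suCU (g s : ↥(Cfsg.SU n F q)) :
    PhiU (suCU g) (QuotientGroup.mk s : Cfsg.PSU n F q) =
      QuotientGroup.mk g * QuotientGroup.mk s * (QuotientGroup.mk g)⁻¹ := by
  rw [PhiU_mk, conjSU_suCU]
  rfl

/-- the inner automorphism attached to `g` maps `T̄_u` to `T̄_{gu}` -/
theorem PhiU_suCU_Tb (g : ↥(Cfsg.SU n F q)) (u : Fin n → F) (x : Cfsg.PSU n F q) :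
    x ∈ Tb hF u ↔ PhiU (suCU g) x ∈ Tb hF (actv g u) := by
  constructor
  · rintro ⟨t, ht, rfl⟩
    show PhiU (suCU g) (QuotientGroup.mk t : Cfsg.PSU n F q) ∈ Tb hF (actv g u)
    rw [PhiU_mk, conjSU_suCU]
    exact ⟨_, conj_mem_Ts hF g ht, rfl⟩
  · intro h
    obtain ⟨s, rfl⟩ := QuotientGroup.mk_surjective x
    rw [PhiU_mk, conjSU_suCU] at h
    obtain ⟨t, ht, he⟩ := h
    have h1 := conj_mem_Ts hF g⁻¹ ht
    rw [inv_inv, actv_inv g u _ rfl] at h1
    refine ⟨_, h1, ?_⟩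
    have he' : (QuotientGroup.mk t : Cfsg.PSU n F q) = QuotientGroup.mk (g * s * g⁻¹) := he
    show (QuotientGroup.mk (g⁻¹ * t * g) : Cfsg.PSU n F q) = QuotientGroup.mk s
    rw [QuotientGroup.mk_mul, QuotientGroup.mk_mul, he', ← QuotientGroup.mk_mul,
      ← QuotientGroup.mk_mul]
    congr 1
    group

end Inner

end Cfsg.Agent.Helper13.PSURoot
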