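import Mathlib
import Cfsg.Agent.Lib.Helper13.PSURoot

/-!
# The additive map induced on `Q_u / T_u` by a normalised automorphism of `PSU_n(q)`
-/

set_option autoImplicit false
set_option linter.unusedSimpArgs false
set_option linter.unusedVariables false
set_option linter.unusedSectionVars false

namespace Cfsg.Agent.Helper13.PSUPhi

open Module Submodule Matrix
open Cfsg.Agent.Helper13 Cfsg.Agent.Helper13.PSUEich Cfsg.Agent.Helper13.PSUSyl
  Cfsg.Agent.Helper13.PSUCan Cfsg.Agent.Helper13.PSUBar Cfsg.Agent.Helper13.PSURoot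

section Phi

variable {F : Type*} [Field F] [Fintype F] {q n : ℕ}

theorem frob_sub (hF : Fintype.card F = q ^ 2) (a b : F) : (a - b) ^ q = a ^ q - b ^ q :=
  map_sub (frobQ hF) a b

theorem frob_add (hF : Fintype.card F = q ^ 2) (a b : F) : (a + b) ^ q = a ^ q + b ^ q :=
  map_add (frobQ hF) a b

theorem valid_diff (hF : Fintype.card F = q ^ 2) {u w : Fin n → F} {c c0 : F}
    (h : Valid hF u w c) (h0 : Valid hF u w c0) : Valid hF u 0 (c - c0) := by
  apply valid_zero hF h.1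
  rw [frob_sub hF]
  linear_combination h.2.2 - h0.2.2

theorem ei_split (hF : Fintype.card F = q ^ 2) {u w : Fin n → F} {c c0 : F}
    (h : Valid hF u w c) (h0 : Valid hF u w c0) :
    ei hF u w c = ei hF u w c0 * ei hF u 0 (c - c0) := by
  rw [ei_mul hF h0 (valid_diff hF h h0)]
  have e1 : w + 0 = w := add_zero w
  have e2 : c0 + (c - c0) - stdB hF n w 0 = c := by
    rw [map_zero]
    ring
  rw [e1, e2]

/-- conjugating an Eichler element by an element stabilising `⟨u⟩` -/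
theorem conj_ei_stab (hF : Fintype.card F = q ^ 2) {u : Fin n → F} {h : ↥(Cfsg.SU n F q)} {l : F}
    (hl : l ≠ 0) (hh : actv h u = l • u) {w : Fin n → F} {c : F} (hw : Valid hF u w c) :
    Valid hF u (l ^ q • actv h w) (l * l ^ q * c) ∧
      h * ei hF u w c * h⁻¹ = ei hF u (l ^ q • actv h w) (l * l ^ q * c) := by
  have h1 : Valid hF (l • u) (actv h w) c := by
    have := valid_conj hF hw h
    rwa [hh] at this
  have h2 : Valid hF u (actv h w) c :=
    ⟨hw.1, (stdB_smul_left_eq_zero hF hl).1 h1.2.1, h1.2.2⟩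
  refine ⟨valid_scale hF h2 l, ?_⟩
  rw [ei_conj hF hw h, hh, ei_smul_left hF h2 l]

/-- stabilisers of `⟨u⟩` preserve `u^⊥` -/
theorem stab_perp (hF : Fintype.card F = q ^ 2) {u : Fin n → F} {h : ↥(Cfsg.SU n F q)} {l : F}
    (hl : l ≠ 0) (hh : actv h u = l • u) {w : Fin n → F} (hw : stdB hF n u w = 0) :
    stdB hF n u (actv h w) = 0 := by
  have := actv_iso hF h u w
  rw [hh, hw] at this
  exact (stdB_smul_left_eq_zero hF hl).1 this

variable {p : ℕ} [Fact p.Prime] [CharP F p]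

include p in
/-- the image under an automorphism of a stabiliser of `⟨z⟩` stabilises `⟨z'⟩` -/
theorem aut_stab (hF : Fintype.card F = q ^ 2) (hn : 3 ≤ n) (α : MulAut (Cfsg.PSU n F q))
    {z z' : Fin n → F} (hz : z ≠ 0)
    (hzz : stdB hF n z z = 0) (hz' : z' ≠ 0) (hz'z' : stdB hF n z' z' = 0)
    (hT : ∀ x, x ∈ Tb hF z ↔ α x ∈ Tb hF z') {h h' : ↥(Cfsg.SU n F q)}
    (he : α (mkU n F q h) = mkU n F q h') {l : F} (hl : l ≠ 0) (hh : actv h z = l • z) :
    ∃ l' : F, l' ≠ 0 ∧ actv h' z' = l' • z' := by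
  apply smul_of_conj_Tb hF (p := p) hn hz' hz'z' hz' hz'z' h'
  intro x hx
  have hy : α.symm x ∈ Tb hF z := (hT _).2 (by rw [MulEquiv.apply_symm_apply]; exact hx)
  obtain ⟨t, ht, hty⟩ := hy
  have h1 : h * t * h⁻¹ ∈ Ts hF z := by
    have := conj_mem_Ts hF h ht
    rwa [hh, Ts_smul hF hl] at this
  have h2 : mkU n F q (h * t * h⁻¹) ∈ Tb hF z := ⟨_, h1, rfl⟩
  have h3 := (hT _).1 h2
  rw [map_mul, map_mul, map_inv, map_mul, map_mul, map_inv, he, hty,
    MulEquiv.apply_symm_apply] at h3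
  exact h3

/-- normalised automorphism data: `α` fixes the transvection groups of the hyperbolic pair -/
structure NData (p : ℕ) [Fact p.Prime] [CharP F p] (hF : Fintype.card F = q ^ 2)
    (α : MulAut (Cfsg.PSU n F q)) (u v : Fin n → F) : Prop where
  hn : 3 ≤ n
  huu : stdB hF n u u = 0
  hvv : stdB hF n v v = 0
  huv : stdB hF n u v = 1
  hTu : ∀ x, x ∈ Tb hF u ↔ α x ∈ Tb hF u
  hTv : ∀ x, x ∈ Tb hF v ↔ α x ∈ Tb hF v

open Classical in
/-- the induced map on `u^⊥ / ⟨u⟩ ≅ W` -/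
noncomputable def phi (hF : Fintype.card F = q ^ 2) (α : MulAut (Cfsg.PSU n F q))
    (u v w : Fin n → F) : Fin n → F :=
  if h : ∃ w' : Fin n → F, stdB hF n v w' = 0 ∧ ∃ c c' : F, Valid hF u w c ∧ Valid hF u w' c' ∧
      α (mkU n F q (ei hF u w c)) = mkU n F q (ei hF u w' c') then h.choose else 0

open Classical in
/-- the induced map on the third parameter -/
noncomputable def gam (hF : Fintype.card F = q ^ 2) (α : MulAut (Cfsg.PSU n F q))
    (u v w : Fin n → F) (c : F) : F :=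
  if h : ∃ c' : F, Valid hF u (phi hF α u v w) c' ∧
      α (mkU n F q (ei hF u w c)) = mkU n F q (ei hF u (phi hF α u v w) c') then h.choose else 0

namespace NData

variable {hF : Fintype.card F = q ^ 2} {α : MulAut (Cfsg.PSU n F q)} {u v : Fin n → F}
  (D : NData p hF α u v)

include D

theorem hu : u ≠ 0 := by
  rintro rfl
  have := D.huv
  rw [map_zero, LinearMap.zero_apply] at this
  exact zero_ne_one this

theorem hv : v ≠ 0 := by
  rintro rfl
  have := D.huv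
  rw [map_zero] at this
  exact zero_ne_one this

theorem hvu : stdB hF n v u = 1 := by rw [stdB_conj, D.huv, one_pow]

theorem symm : NData p hF α v u := ⟨D.hn, D.hvv, D.huu, D.hvu, D.hTv, D.hTu⟩

theorem hQu (x : Cfsg.PSU n F q) : x ∈ Qb hF u ↔ α x ∈ Qb hF u :=
  aut_Qb hF (p := p) D.hn α D.hu D.huu D.hu D.huu D.hTu x

theorem mk_ei_inj {w w' : Fin n → F} {c c' : F} (h : Valid hF u w c) (h' : Valid hF u w' c')
    (hvw : stdB hF n v w = 0) (hvw' : stdB hF n v w' = 0)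
    (he : mkU n F q (ei hF u w c) = mkU n F q (ei hF u w' c')) : w = w' ∧ c = c' :=
  ei_inj hF h h' D.huv hvw hvw'
    (mk_inj_Qs hF (p := p) D.hn D.hu D.huu D.hu D.huu (ei_mem_Qs hF h) (ei_mem_Qs hF h') he)

theorem exists_image {w : Fin n → F} {c : F} (h : Valid hF u w c) :
    ∃ (w' : Fin n → F) (c' : F), Valid hF u w' c' ∧ stdB hF n v w' = 0 ∧
      α (mkU n F q (ei hF u w c)) = mkU n F q (ei hF u w' c') := by
  have h1 : mkU n F q (ei hF u w c) ∈ Qb hF u := ⟨_, ei_mem_Qs hF h, rfl⟩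
  obtain ⟨g, hg, he⟩ := (D.hQu _).1 h1
  obtain ⟨w', c', hv', hvw', rfl⟩ := exists_ei_of_mem_Qs hF D.huu D.hvv D.huv hg
  exact ⟨w', c', hv', hvw', he.symm⟩

theorem image_Tu {a : F} (h : Valid hF u 0 a) :
    ∃ a' : F, Valid hF u 0 a' ∧ α (mkU n F q (ei hF u 0 a)) = mkU n F q (ei hF u 0 a') := by
  have h1 : mkU n F q (ei hF u 0 a) ∈ Tb hF u := ⟨_, ei_mem_Ts hF h, rfl⟩
  obtain ⟨t, ht, he⟩ := (D.hTu _).1 h1
  obtain ⟨a', ha', rfl⟩ := (mem_Ts_iff hF D.hu D.huu t).1 ht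
  exact ⟨a', valid_zero hF D.huu ha', he.symm⟩

theorem phi_spec {w : Fin n → F} {c : F} (h : Valid hF u w c) :
    stdB hF n v (phi hF α u v w) = 0 ∧ ∃ c' : F, Valid hF u (phi hF α u v w) c' ∧
      α (mkU n F q (ei hF u w c)) = mkU n F q (ei hF u (phi hF α u v w) c') := by
  have hex : ∃ w' : Fin n → F, stdB hF n v w' = 0 ∧ ∃ c c' : F, Valid hF u w c ∧
      Valid hF u w' c' ∧ α (mkU n F q (ei hF u w c)) = mkU n F q (ei hF u w' c') := by
    obtain ⟨w', c', h1, h2, h3⟩ := D.exists_image h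
    exact ⟨w', h2, c, c', h, h1, h3⟩
  have hphi : phi hF α u v w = hex.choose := by
    unfold phi
    rw [dif_pos hex]
  obtain ⟨hv0, c0, c0', hc0, hc0', he0⟩ := hex.choose_spec
  rw [hphi]
  refine ⟨hv0, ?_⟩
  obtain ⟨a', ha', hea⟩ := D.image_Tu (valid_diff hF h hc0)
  refine ⟨c0' + a', ?_, ?_⟩
  · have := valid_mul hF hc0' ha'
    rw [add_zero, map_zero, sub_zero] at this
    exact this
  · rw [ei_split hF h hc0, map_mul, map_mul, hea, he0, ← map_mul, ei_mul hF hc0' ha',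
      add_zero, map_zero, sub_zero]

theorem gam_spec {w : Fin n → F} {c : F} (h : Valid hF u w c) :
    Valid hF u (phi hF α u v w) (gam hF α u v w c) ∧
      α (mkU n F q (ei hF u w c)) =
        mkU n F q (ei hF u (phi hF α u v w) (gam hF α u v w c)) := by
  have hex := (D.phi_spec h).2
  have hg : gam hF α u v w c = hex.choose := by
    unfold gam
    rw [dif_pos hex]
  rw [hg]
  exact hex.choose_spec

theorem phi_perp_v {w : Fin n → F} (hw : stdB hF n u w = 0) :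
    stdB hF n v (phi hF α u v w) = 0 := by
  obtain ⟨c, hc⟩ := exists_valid hF D.huu hw
  exact (D.phi_spec hc).1

theorem phi_perp_u {w : Fin n → F} (hw : stdB hF n u w = 0) :
    stdB hF n u (phi hF α u v w) = 0 := by
  obtain ⟨c, hc⟩ := exists_valid hF D.huu hw
  exact (D.gam_spec hc).1.2.1

/-- uniqueness: the image determines `phi` and `gam` -/
theorem phi_gam_eq {w w' : Fin n → F} {c c' : F} (h : Valid hF u w c) (h' : Valid hF u w' c')
    (hvw' : stdB hF n v w' = 0)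
    (he : α (mkU n F q (ei hF u w c)) = mkU n F q (ei hF u w' c')) :
    phi hF α u v w = w' ∧ gam hF α u v w c = c' := by
  obtain ⟨h1, h2⟩ := D.gam_spec h
  rw [h2] at he
  exact D.mk_ei_inj h1 h' (D.phi_spec h).1 hvw' he

/-- the product rule -/
theorem gam_mul {w₁ w₂ : Fin n → F} {c₁ c₂ : F} (h₁ : Valid hF u w₁ c₁)
    (h₂ : Valid hF u w₂ c₂) :
    phi hF α u v (w₁ + w₂) = phi hF α u v w₁ + phi hF α u v w₂ ∧
      gam hF α u v (w₁ + w₂) (c₁ + c₂ - stdB hF n w₁ w₂) =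
        gam hF α u v w₁ c₁ + gam hF α u v w₂ c₂ -
          stdB hF n (phi hF α u v w₁) (phi hF α u v w₂) := by
  obtain ⟨g1, e1⟩ := D.gam_spec h₁
  obtain ⟨g2, e2⟩ := D.gam_spec h₂
  apply D.phi_gam_eq (valid_mul hF h₁ h₂) (valid_mul hF g1 g2)
  · rw [map_add, (D.phi_spec h₁).1, (D.phi_spec h₂).1, add_zero]
  · rw [← ei_mul hF h₁ h₂, map_mul, map_mul, e1, e2, ← map_mul, ei_mul hF g1 g2]

theorem phi_add {w₁ w₂ : Fin n → F} (h₁ : stdB hF n u w₁ = 0) (h₂ : stdB hF n u w₂ = 0) :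
    phi hF α u v (w₁ + w₂) = phi hF α u v w₁ + phi hF α u v w₂ := by
  obtain ⟨c₁, hc₁⟩ := exists_valid hF D.huu h₁
  obtain ⟨c₂, hc₂⟩ := exists_valid hF D.huu h₂
  exact (D.gam_mul hc₁ hc₂).1

theorem phi_zero : phi hF α u v 0 = 0 := by
  have h0 : stdB hF n u 0 = 0 := map_zero _
  have := D.phi_add h0 h0
  rw [add_zero] at this
  exact left_eq_add.1 this

theorem phi_neg {w : Fin n → F} (hw : stdB hF n u w = 0) :
    phi hF α u v (-w) = - phi hF α u v w := by
  have h2 : stdB hF n u (-w) = 0 := by rw [map_neg, hw, neg_zero]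
  have := D.phi_add hw h2
  rw [add_neg_cancel, D.phi_zero] at this
  exact (neg_eq_of_add_eq_zero_right this.symm).symm

theorem phi_sub {w₁ w₂ : Fin n → F} (h₁ : stdB hF n u w₁ = 0) (h₂ : stdB hF n u w₂ = 0) :
    phi hF α u v (w₁ - w₂) = phi hF α u v w₁ - phi hF α u v w₂ := by
  have h2 : stdB hF n u (-w₂) = 0 := by rw [map_neg, h₂, neg_zero]
  rw [sub_eq_add_neg, D.phi_add h₁ h2, D.phi_neg h₂, ← sub_eq_add_neg]

/-- `phi` has trivial kernel on `W` -/
theorem phi_eq_zero {w : Fin n → F} (hw : stdB hF n u w = 0) (hvw : stdB hF n v w = 0)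
    (h0 : phi hF α u v w = 0) : w = 0 := by
  obtain ⟨c, hc⟩ := exists_valid hF D.huu hw
  obtain ⟨g1, e1⟩ := D.gam_spec hc
  rw [h0] at g1 e1
  have h1 : α (mkU n F q (ei hF u w c)) ∈ Tb hF u := by
    rw [e1]
    exact ⟨_, ei_mem_Ts hF g1, rfl⟩
  obtain ⟨t, ht, he⟩ := (D.hTu _).2 h1
  obtain ⟨a, ha, rfl⟩ := (mem_Ts_iff hF D.hu D.huu t).1 ht
  exact ((D.mk_ei_inj (valid_zero hF D.huu ha) hc (map_zero _) hvw he).1).symm

theorem phi_inj {w₁ w₂ : Fin n → F} (h₁ : stdB hF n u w₁ = 0) (hv₁ : stdB hF n v w₁ = 0)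
    (h₂ : stdB hF n u w₂ = 0) (hv₂ : stdB hF n v w₂ = 0)
    (h : phi hF α u v w₁ = phi hF α u v w₂) : w₁ = w₂ := by
  have h3 := D.phi_sub h₁ h₂
  rw [h, sub_self] at h3
  have := D.phi_eq_zero (by rw [map_sub, h₁, h₂, sub_zero]) (by rw [map_sub, hv₁, hv₂, sub_zero]) h3
  exact sub_eq_zero.1 this

/-- the torus relation -/
theorem phi_torus {h h' : ↥(Cfsg.SU n F q)} (he : α (mkU n F q h) = mkU n F q h')
    {l m l' m' : F} (hl : l ≠ 0) (hm : m ≠ 0) (hl' : l' ≠ 0) (hm' : m' ≠ 0)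
    (hhu : actv h u = l • u) (hhv : actv h v = m • v) (hhu' : actv h' u = l' • u)
    (hhv' : actv h' v = m' • v) {w : Fin n → F} (hw : stdB hF n u w = 0) :
    phi hF α u v (l ^ q • actv h w) = l' ^ q • actv h' (phi hF α u v w) := by
  obtain ⟨c, hc⟩ := exists_valid hF D.huu hw
  obtain ⟨V1, E1⟩ := conj_ei_stab hF hl hhu hc
  obtain ⟨g1, e1⟩ := D.gam_spec hc
  obtain ⟨V2, E2⟩ := conj_ei_stab hF hl' hhu' g1
  have h3 : α (mkU n F q (h * ei hF u w c * h⁻¹)) =
      mkU n F q (h' * ei hF u (phi hF α u v w) (gam hF α u v w c) * h'⁻¹) := by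
    rw [map_mul, map_mul, map_inv, map_mul, map_mul, map_inv, he, e1, map_mul, map_mul, map_inv]
  rw [E1, E2] at h3
  refine (D.phi_gam_eq V1 V2 ?_ h3).1
  rw [map_smul, stab_perp hF hm' hhv' (D.phi_spec hc).1, smul_zero]

end NData

end Phi

end Cfsg.Agent.Helper13.PSUPhi
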