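import Mathlib
import Cfsg.Agent.Lib.Helper13.PSUPhi

/-!
# Semilinearity of the induced map `phi` (algebraic part)
-/

set_option autoImplicit false
set_option linter.unusedSimpArgs false
set_option linter.unusedVariables false
set_option linter.unusedSectionVars false

namespace Cfsg.Agent.Helper13.PSUSemi

open Module Submodule Matrix
open Cfsg.Agent.Helper13 Cfsg.Agent.Helper13.PSUEich Cfsg.Agent.Helper13.PSUSyl
  Cfsg.Agent.Helper13.PSUCan Cfsg.Agent.Helper13.PSUBar Cfsg.Agent.Helper13.PSURoot
  Cfsg.Agent.Helper13.PSUPhi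

section Alg

variable {F : Type*} [Field F] [Fintype F] {q n : ℕ}

/-- a subset closed under `+`, `*` containing `F_q` and one element outside is everything -/
theorem alg_top (hF : Fintype.card F = q ^ 2) (R : Set F)
    (hadd : ∀ a b, a ∈ R → b ∈ R → a + b ∈ R) (hmul : ∀ a b, a ∈ R → b ∈ R → a * b ∈ R)
    (hq : ∀ r : F, r ^ q = r → r ∈ R) (m : F) (hm : m ∈ R) (hmq : m ^ q ≠ m) (a : F) : a ∈ R := by
  have hd : m - m ^ q ≠ 0 := sub_ne_zero.2 (Ne.symm hmq)
  set t : F := (a - a ^ q) / (m - m ^ q) with ht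
  have htq : t ^ q = t := by
    rw [ht, div_pow, frob_sub hF, frob_sub hF, frob_frob hF, frob_frob hF, ← neg_sub a,
      ← neg_sub m, neg_div_neg_eq]
  have hs : (a - t * m) ^ q = a - t * m := by
    rw [frob_sub hF, mul_pow, htq]
    have : t * (m - m ^ q) = a - a ^ q := by
      rw [ht]
      field_simp
    linear_combination this
  have : a = (a - t * m) + t * m := by ring
  rw [this]
  exact hadd _ _ (hq _ hs) (hmul _ _ (hq _ htq) hm)

theorem exists_not_fixed (hF : Fintype.card F = q ^ 2) : ∃ m : F, m ^ q ≠ m := by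
  by_contra hcon
  push Not at hcon
  apply frobQ_ne_id hF
  ext a
  exact hcon a

end Alg

section Semi

variable {F : Type*} [Field F] [Fintype F] {q n : ℕ}

/-- the scalars acting semilinearly along the line `F x` -/
def Rset (hF : Fintype.card F = q ^ 2) (α : MulAut (Cfsg.PSU n F q)) (u v x : Fin n → F) :
    Set F :=
  {a | ∃ a' : F, ∀ b : F, phi hF α u v ((a * b) • x) = a' • phi hF α u v (b • x)}

/-- `τ` is the companion automorphism of `phi` along the line `F x` -/
def IsTau (hF : Fintype.card F = q ^ 2) (α : MulAut (Cfsg.PSU n F q)) (u v x : Fin n → F)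
    (τ : F ≃+* F) : Prop :=
  ∀ a b : F, phi hF α u v ((a * b) • x) = τ a • phi hF α u v (b • x)

variable {p : ℕ} [Fact p.Prime] [CharP F p]
variable {hF : Fintype.card F = q ^ 2} {α : MulAut (Cfsg.PSU n F q)} {u v : Fin n → F}
  (D : NData p hF α u v)

include D

theorem perp_smul {x : Fin n → F} (hux : stdB hF n u x = 0) (b : F) :
    stdB hF n u (b • x) = 0 := by rw [map_smul, hux, smul_zero]

theorem perp_smul_v {x : Fin n → F} (hvx : stdB hF n v x = 0) (b : F) :
    stdB hF n v (b • x) = 0 := by rw [map_smul, hvx, smul_zero]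

theorem Rset_zero (x : Fin n → F) : (0 : F) ∈ Rset hF α u v x :=
  ⟨0, fun b => by rw [zero_mul, zero_smul, zero_smul, D.phi_zero]⟩

theorem Rset_add {x : Fin n → F} (hux : stdB hF n u x = 0) {a b : F}
    (ha : a ∈ Rset hF α u v x) (hb : b ∈ Rset hF α u v x) : a + b ∈ Rset hF α u v x := by
  obtain ⟨a', ha'⟩ := ha
  obtain ⟨b', hb'⟩ := hb
  refine ⟨a' + b', fun c => ?_⟩
  rw [add_mul, add_smul, D.phi_add (perp_smul D hux _) (perp_smul D hux _), ha' c, hb' c,
    add_smul]

theorem Rset_mul {x : Fin n → F} {a b : F}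
    (ha : a ∈ Rset hF α u v x) (hb : b ∈ Rset hF α u v x) : a * b ∈ Rset hF α u v x := by
  obtain ⟨a', ha'⟩ := ha
  obtain ⟨b', hb'⟩ := hb
  refine ⟨a' * b', fun c => ?_⟩
  rw [mul_assoc, ha' (b * c), hb' c, smul_smul]

/-- a torus element scaling `x` gives an element of `Rset` -/
theorem scalar_rel {x x' : Fin n → F} (hux : stdB hF n u x = 0)
    (hL : ∀ b : F, ∃ b' : F, phi hF α u v (b • x) = b' • x')
    {h h' : ↥(Cfsg.SU n F q)} (he : α (mkU n F q h) = mkU n F q h')
    {l m l' m' ν ν' : F} (hl : l ≠ 0) (hm : m ≠ 0) (hl' : l' ≠ 0) (hm' : m' ≠ 0)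
    (hhu : actv h u = l • u) (hhv : actv h v = m • v) (hhu' : actv h' u = l' • u)
    (hhv' : actv h' v = m' • v) (hx : actv h x = ν • x) (hx' : actv h' x' = ν' • x') :
    l ^ q * ν ∈ Rset hF α u v x := by
  refine ⟨l' ^ q * ν', fun b => ?_⟩
  have key := D.phi_torus he hl hm hl' hm' hhu hhv hhu' hhv' (w := b • x) (perp_smul D hux b)
  have e1 : l ^ q • actv h (b • x) = (l ^ q * ν * b) • x := by
    rw [actv_smul, hx, smul_smul, smul_smul]
    congr 1
    ring
  obtain ⟨b', hb'⟩ := hL b
  rw [e1, hb', actv_smul, hx', smul_smul, smul_smul] at key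
  rw [key, hb', smul_smul]
  congr 1
  ring

/-- if every scalar acts semilinearly along `F x`, we get a field automorphism -/
theorem exists_tau_line {x : Fin n → F} (hux : stdB hF n u x = 0) (hvx : stdB hF n v x = 0)
    (hx : x ≠ 0) (hR : ∀ a : F, a ∈ Rset hF α u v x) : ∃ τ : F ≃+* F, IsTau hF α u v x τ := by
  choose f hf using hR
  have hφx : phi hF α u v x ≠ 0 := fun h0 => hx (D.phi_eq_zero hux hvx h0)
  have hf1 : ∀ a, phi hF α u v (a • x) = f a • phi hF α u v x := by
    intro a
    have := hf a 1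
    rwa [mul_one, one_smul] at this
  have h_one : f 1 = 1 := by
    have := hf1 1
    rw [one_smul] at this
    have h2 : (f 1 - 1) • phi hF α u v x = 0 := by rw [sub_smul, one_smul, ← this, sub_self]
    exact sub_eq_zero.1 ((smul_eq_zero.1 h2).resolve_right hφx)
  have h_add : ∀ a b, f (a + b) = f a + f b := by
    intro a b
    have h1 := hf1 (a + b)
    rw [add_smul, D.phi_add (perp_smul D hux _) (perp_smul D hux _), hf1 a, hf1 b,
      ← add_smul] at h1
    have h2 : (f a + f b - f (a + b)) • phi hF α u v x = 0 := by rw [sub_smul, h1, sub_self]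
    exact (sub_eq_zero.1 ((smul_eq_zero.1 h2).resolve_right hφx)).symm
  have h_mul : ∀ a b, f (a * b) = f a * f b := by
    intro a b
    have h1 := hf1 (a * b)
    have h3 := hf a b
    rw [hf1 b, smul_smul] at h3
    rw [h3] at h1
    have h2 : (f a * f b - f (a * b)) • phi hF α u v x = 0 := by rw [sub_smul, h1, sub_self]
    exact (sub_eq_zero.1 ((smul_eq_zero.1 h2).resolve_right hφx)).symm
  have h_zero : f 0 = 0 := by
    have := h_add 0 0
    rw [add_zero] at this
    exact left_eq_add.1 this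
  let g : F →+* F :=
    { toFun := f
      map_one' := h_one
      map_mul' := h_mul
      map_zero' := h_zero
      map_add' := h_add }
  have hinj : Function.Injective g := g.injective
  have hbij : Function.Bijective g := ⟨hinj, Finite.injective_iff_surjective.1 hinj⟩
  refine ⟨RingEquiv.ofBijective g hbij, fun a b => ?_⟩
  exact hf a b

theorem IsTau.apply_one {x : Fin n → F} {τ : F ≃+* F} (h : IsTau hF α u v x τ) (a : F) :
    phi hF α u v (a • x) = τ a • phi hF α u v x := by
  have := h a 1
  rwa [mul_one, one_smul] at this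

/-- two isotropic non-orthogonal vectors of `W` have the same companion automorphism -/
theorem tau_eq_of_nonorth
    (hline : ∀ x : Fin n → F, x ≠ 0 → stdB hF n x x = 0 → stdB hF n u x = 0 →
      stdB hF n v x = 0 → ∃ τ : F ≃+* F, IsTau hF α u v x τ)
    {x z : Fin n → F} (hux : stdB hF n u x = 0) (hvx : stdB hF n v x = 0)
    (huz : stdB hF n u z = 0) (hvz : stdB hF n v z = 0) (hxx : stdB hF n x x = 0)
    (hzz : stdB hF n z z = 0) (hzx : stdB hF n z x ≠ 0) {τx τz : F ≃+* F}
    (hτx : IsTau hF α u v x τx) (hτz : IsTau hF α u v z τz) : τx = τz := by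
  have hxz : stdB hF n x z ≠ 0 := by
    rw [stdB_conj]
    exact pow_ne_zero _ hzx
  obtain ⟨t, ht0, ht⟩ := exists_trace_zero hF
  set c : F := t / stdB hF n x z with hc
  have hcs : c * stdB hF n x z = t := by
    rw [hc]
    field_simp
  have hc0 : c ≠ 0 := by
    rw [hc]
    exact div_ne_zero ht0 hxz
  set z1 : Fin n → F := c • z with hz1
  have hxz1 : stdB hF n x z1 = t := by rw [hz1, map_smul, smul_eq_mul, hcs]
  have hz1x : stdB hF n z1 x = t ^ q := by rw [stdB_conj, hxz1]
  have hz1z1 : stdB hF n z1 z1 = 0 := by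
    rw [hz1, map_smul, LinearMap.map_smulₛₗ, LinearMap.smul_apply, hzz, smul_zero, smul_zero]
  have hsum_iso : stdB hF n (x + z1) (x + z1) = 0 := by
    simp only [map_add, LinearMap.add_apply, hxx, hxz1, hz1x, hz1z1]
    linear_combination ht
  have hsum_ne : x + z1 ≠ 0 := by
    intro h0
    have h1 : stdB hF n z (x + z1) = 0 := by rw [h0, map_zero]
    rw [map_add, hz1, map_smul, hzz, smul_zero, add_zero] at h1
    exact hzx h1
  have huz1 : stdB hF n u z1 = 0 := perp_smul D huz c
  have hvz1 : stdB hF n v z1 = 0 := perp_smul_v D hvz c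
  obtain ⟨τ3, hτ3⟩ := hline (x + z1) hsum_ne hsum_iso (by rw [map_add, hux, huz1, add_zero])
    (by rw [map_add, hvx, hvz1, add_zero])
  ext a
  -- compare the two expansions of `phi (a • (x + z1))`
  have e1 : phi hF α u v (a • (x + z1)) = τ3 a • (phi hF α u v x + phi hF α u v z1) := by
    rw [IsTau.apply_one D hτ3, D.phi_add hux huz1]
  have e2 : phi hF α u v (a • (x + z1)) = τx a • phi hF α u v x + τz a • phi hF α u v z1 := by
    rw [smul_add, D.phi_add (perp_smul D hux a) (perp_smul D huz1 a), IsTau.apply_one D hτx]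
    congr 1
    have := hτz a c
    rw [hz1, smul_smul]
    exact this
  rw [e1, smul_add] at e2
  -- `(τ3 a - τx a) • phi x = (τz a - τ3 a) • phi z1`
  have e3 : (τ3 a - τx a) • phi hF α u v x = (τz a - τ3 a) • phi hF α u v z1 := by
    rw [sub_smul, sub_smul]
    linear_combination (exp := 1) e2
  have e4 : phi hF α u v (τx.symm (τ3 a - τx a) • x) = (τ3 a - τx a) • phi hF α u v x := by
    rw [IsTau.apply_one D hτx, RingEquiv.apply_symm_apply]
  have e5 : phi hF α u v ((τz.symm (τz a - τ3 a) * c) • z) =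
      (τz a - τ3 a) • phi hF α u v z1 := by
    rw [hτz, RingEquiv.apply_symm_apply]
  rw [← e4, ← e5] at e3
  have e6 := D.phi_inj (perp_smul D hux _) (perp_smul_v D hvx _) (perp_smul D huz _)
    (perp_smul_v D hvz _) e3
  have e7 := congrArg (stdB hF n z) e6
  rw [map_smul, map_smul, hzz, smul_zero, smul_eq_mul] at e7
  have e8 : τx.symm (τ3 a - τx a) = 0 := (mul_eq_zero.1 e7).resolve_right hzx
  have e9 : τ3 a = τx a := by
    have := (RingEquiv.map_eq_zero_iff τx.symm).1 e8
    exact sub_eq_zero.1 this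
  have e10 := congrArg (stdB hF n x) e6
  rw [map_smul, map_smul, hxx, smul_zero, smul_eq_mul] at e10
  have e11 : τz.symm (τz a - τ3 a) = 0 := by
    have := (mul_eq_zero.1 e10.symm).resolve_right hxz
    exact (mul_eq_zero.1 this).resolve_right hc0
  have e12 : τz a = τ3 a := by
    have := (RingEquiv.map_eq_zero_iff τz.symm).1 e11
    exact sub_eq_zero.1 this
  rw [← e9, e12]

end Semi

end Cfsg.Agent.Helper13.PSUSemi
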