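import Mathlib
import Cfsg.Agent.Lib.Helper13.PSUSemi

/-!
# The induced map `phi`: isotropic lines, common companion automorphism, the hermitian form
-/

set_option autoImplicit false
set_option linter.unusedSimpArgs false
set_option linter.unusedVariables false
set_option linter.unusedSectionVars false

namespace Cfsg.Agent.Helper13.PSUForm

open Module Submodule Matrix
open Cfsg.Agent.Helper13 Cfsg.Agent.Helper13.PSUEich Cfsg.Agent.Helper13.PSUSyl
  Cfsg.Agent.Helper13.PSUCan Cfsg.Agent.Helper13.PSUBar Cfsg.Agent.Helper13.PSURoot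
  Cfsg.Agent.Helper13.PSUPhi Cfsg.Agent.Helper13.PSUSemi Cfsg.Agent.Helper13.PSUGeo

section Form

variable {F : Type*} [Field F] [Fintype F] {q n : ℕ}

theorem hdim_of (hF : Fintype.card F = q ^ 2) {u v : Fin n → F} (huu : stdB hF n u u = 0)
    (huv : stdB hF n u v = 1) (hn4 : 4 ≤ n) :
    ∀ k ∈ Wsub hF u v, ∃ z ∈ Wsub hF u v, ∀ a : F, z ≠ a • k := by
  intro k hk
  by_contra hcon
  push Not at hcon
  have hle : Wsub hF u v ≤ Submodule.span F {k} := by
    intro z hz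
    obtain ⟨a, ha⟩ := hcon z hz
    rw [ha]
    exact Submodule.smul_mem _ _ (Submodule.mem_span_singleton_self k)
  have h1 := Submodule.finrank_mono hle
  have h2 : finrank F (Submodule.span F ({k} : Set (Fin n → F))) ≤ 1 :=
    (finrank_span_le_card ({k} : Set (Fin n → F))).trans (by simp)
  rw [finrank_Wsub hF huu huv] at h1
  omega

theorem exists_ne_zero_W (hF : Fintype.card F = q ^ 2) {u v : Fin n → F}
    (huu : stdB hF n u u = 0) (huv : stdB hF n u v = 1) (hn : 3 ≤ n) :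
    ∃ w : Fin n → F, w ≠ 0 ∧ stdB hF n u w = 0 ∧ stdB hF n v w = 0 := by
  have h1 : 0 < finrank F (Wsub hF u v) := by
    rw [finrank_Wsub hF huu huv]
    omega
  obtain ⟨w, hw⟩ := Module.finrank_pos_iff_exists_ne_zero.1 h1
  obtain ⟨h2, h3⟩ := (mem_Wsub hF u v w.1).1 w.2
  refine ⟨w.1, fun h => hw (Subtype.ext h), h2, h3⟩

variable {p : ℕ} [Fact p.Prime] [CharP F p]
variable {hF : Fintype.card F = q ^ 2} {α : MulAut (Cfsg.PSU n F q)} {u v : Fin n → F}
  (D : NData p hF α u v)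

include D

/-- `phi` maps isotropic lines of `W` into isotropic lines of `W` -/
theorem phi_line {x : Fin n → F} (hx : x ≠ 0) (hxx : stdB hF n x x = 0)
    (hux : stdB hF n u x = 0) (hvx : stdB hF n v x = 0) :
    ∃ x' : Fin n → F, x' ≠ 0 ∧ stdB hF n x' x' = 0 ∧ stdB hF n u x' = 0 ∧ stdB hF n v x' = 0 ∧
      (∀ s, s ∈ Tb hF x ↔ α s ∈ Tb hF x') ∧
      ∀ b : F, ∃ b' : F, phi hF α u v (b • x) = b' • x' := by
  obtain ⟨x', hx', hx'x', hTx⟩ := aut_Tb hF (p := p) D.hn α hx hxx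
  have hux' : stdB hF n u x' = 0 :=
    (aut_orth hF (p := p) D.hn α D.hu D.huu hx hxx D.hu D.huu hx' hx'x' D.hTu hTx).1 hux
  have hvx' : stdB hF n v x' = 0 :=
    (aut_orth hF (p := p) D.hn α D.hv D.hvv hx hxx D.hv D.hvv hx' hx'x' D.hTv hTx).1 hvx
  refine ⟨x', hx', hx'x', hux', hvx', hTx, ?_⟩
  obtain ⟨a, ha0, ha⟩ := exists_trace_zero hF
  have ha' : a + a ^ q = 0 := by rw [add_comm]; exact ha
  have hva : Valid hF x 0 a := valid_zero hF hxx ha'
  have h1 : mkU n F q (ei hF x 0 a) ∈ Tb hF x := ⟨_, ei_mem_Ts hF hva, rfl⟩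
  obtain ⟨t', ht', het⟩ := (hTx _).1 h1
  obtain ⟨a', ha'', rfl⟩ := (mem_Ts_iff hF hx' hx'x' t').1 ht'
  have hva' : Valid hF x' 0 a' := valid_zero hF hx'x' ha''
  have hxu : stdB hF n x u = 0 := stdB_swap_zero hF _ _ hux
  have hxv : stdB hF n x v = 0 := stdB_swap_zero hF _ _ hvx
  have hx'u : stdB hF n x' u = 0 := stdB_swap_zero hF _ _ hux'
  have hx'v : stdB hF n x' v = 0 := stdB_swap_zero hF _ _ hvx'
  have htu : actv (ei hF x 0 a) u = (1 : F) • u := by
    rw [one_smul]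
    exact (mem_Ts hF x _).1 (ei_mem_Ts hF hva) u hxu
  have htv : actv (ei hF x 0 a) v = (1 : F) • v := by
    rw [one_smul]
    exact (mem_Ts hF x _).1 (ei_mem_Ts hF hva) v hxv
  have ht'u : actv (ei hF x' 0 a') u = (1 : F) • u := by
    rw [one_smul]
    exact (mem_Ts hF x' _).1 (ei_mem_Ts hF hva') u hx'u
  have ht'v : actv (ei hF x' 0 a') v = (1 : F) • v := by
    rw [one_smul]
    exact (mem_Ts hF x' _).1 (ei_mem_Ts hF hva') v hx'v
  obtain ⟨y, hyW, hxy, hyy⟩ := exists_partner_in (frobQ hF) (frobQ_ne_id hF) (frobQ_frobQ hF)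
    (stdB hF n) (stdB_isSymm hF n) (Wsub hF u v) (Wsub_nondeg hF D.huu D.hvv D.huv)
    ((mem_Wsub hF u v x).2 ⟨hux, hvx⟩) hx hxx
  obtain ⟨huy, hvy⟩ := (mem_Wsub hF u v y).1 hyW
  intro b
  have huw : stdB hF n u ((b / a) • y) = 0 := perp_smul D huy _
  have key := D.phi_torus het.symm one_ne_zero one_ne_zero one_ne_zero one_ne_zero htu htv
    ht'u ht'v huw
  rw [one_pow, one_smul, one_smul, actv_ei hF hva, actv_ei hF hva'] at key
  simp only [smul_zero, add_zero, map_zero, LinearMap.zero_apply, zero_smul, sub_zero] at key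
  have hxw : a * stdB hF n x ((b / a) • y) = b := by
    rw [map_smul, hxy, smul_eq_mul, mul_one]
    field_simp
  rw [hxw, D.phi_add huw (perp_smul D hux b)] at key
  exact ⟨a' * stdB hF n x' (phi hF α u v ((b / a) • y)), add_left_cancel key⟩

/-- mixing: a common companion automorphism on all of `W` (`n ≥ 4`) -/
theorem exists_tau_W (hn4 : 4 ≤ n)
    (hline : ∀ x : Fin n → F, x ≠ 0 → stdB hF n x x = 0 → stdB hF n u x = 0 →
      stdB hF n v x = 0 → ∃ τ : F ≃+* F, IsTau hF α u v x τ) :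
    ∃ τ : F ≃+* F, ∀ w : Fin n → F, stdB hF n u w = 0 → stdB hF n v w = 0 → ∀ a : F,
      phi hF α u v (a • w) = τ a • phi hF α u v w := by
  have hdim := hdim_of hF D.huu D.huv hn4
  have hWn := Wsub_nondeg hF D.huu D.hvv D.huv
  obtain ⟨w0, hw0, huw0, hvw0⟩ := exists_ne_zero_W hF D.huu D.huv D.hn
  obtain ⟨x0, hx0W, hx0x0, hx0w0⟩ := exists_iso_nonorth (frobQ hF) (frobQ_ne_id hF)
    (frobQ_frobQ hF) (stdB hF n) (stdB_isSymm hF n) (Wsub hF u v) hWn hdim
    ((mem_Wsub hF u v w0).2 ⟨huw0, hvw0⟩) hw0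
  have hx0 : x0 ≠ 0 := by
    rintro rfl
    rw [map_zero, LinearMap.zero_apply] at hx0w0
    exact hx0w0 rfl
  obtain ⟨hux0, hvx0⟩ := (mem_Wsub hF u v x0).1 hx0W
  obtain ⟨τ, hτ⟩ := hline x0 hx0 hx0x0 hux0 hvx0
  have hmix : ∀ x : Fin n → F, x ≠ 0 → stdB hF n x x = 0 → stdB hF n u x = 0 →
      stdB hF n v x = 0 → IsTau hF α u v x τ := by
    intro x hx hxx hux hvx
    obtain ⟨τx, hτx⟩ := hline x hx hxx hux hvx
    obtain ⟨y, hyW, hyy, hyx, hyx0⟩ := exists_iso_common (frobQ hF) (frobQ_ne_id hF)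
      (frobQ_frobQ hF) (stdB hF n) (stdB_isSymm hF n) (Wsub hF u v) hWn hdim
      ((mem_Wsub hF u v x).2 ⟨hux, hvx⟩) hx hx0W hx0
    have hy : y ≠ 0 := by
      rintro rfl
      rw [map_zero, LinearMap.zero_apply] at hyx
      exact hyx rfl
    obtain ⟨huy, hvy⟩ := (mem_Wsub hF u v y).1 hyW
    obtain ⟨τy, hτy⟩ := hline y hy hyy huy hvy
    have e1 : τx = τy := tau_eq_of_nonorth D hline hux hvx huy hvy hxx hyy hyx hτx hτy
    have e2 : τ = τy := tau_eq_of_nonorth D hline hux0 hvx0 huy hvy hx0x0 hyy hyx0 hτ hτy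
    rw [e2, ← e1]
    exact hτx
  refine ⟨τ, fun w huw hvw a => ?_⟩
  obtain ⟨x₁, hx₁W, x₂, hx₂W, h11, h22, hw⟩ := exists_iso_sum (frobQ hF) (frobQ_ne_id hF)
    (frobQ_frobQ hF) (stdB hF n) (stdB_isSymm hF n) (Wsub hF u v) hWn hdim
    ((mem_Wsub hF u v w).2 ⟨huw, hvw⟩)
  obtain ⟨hu1, hv1⟩ := (mem_Wsub hF u v x₁).1 hx₁W
  obtain ⟨hu2, hv2⟩ := (mem_Wsub hF u v x₂).1 hx₂W
  have hone : ∀ x : Fin n → F, stdB hF n x x = 0 → stdB hF n u x = 0 → stdB hF n v x = 0 →
      phi hF α u v (a • x) = τ a • phi hF α u v x := by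
    intro x hxx hux hvx
    by_cases hx : x = 0
    · rw [hx, smul_zero, D.phi_zero, smul_zero]
    · exact IsTau.apply_one D (hmix x hx hxx hux hvx) a
  rw [hw, smul_add, D.phi_add (perp_smul D hu1 a) (perp_smul D hu2 a), D.phi_add hu1 hu2,
    hone x₁ h11 hu1 hv1, hone x₂ h22 hu2 hv2, smul_add]

theorem gam_zero_zero : gam hF α u v 0 0 = 0 := by
  have hv0 : Valid hF u 0 0 := valid_zero hF D.huu (by rw [zero_pow (q_pos hF).ne', add_zero])
  refine (D.phi_gam_eq hv0 hv0 (map_zero _) ?_).2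
  rw [ei_zero_zero hF D.huu, map_one, map_one]

/-- the commutator relation -/
theorem comm_rel {w₁ w₂ : Fin n → F} (h₁ : stdB hF n u w₁ = 0) (h₂ : stdB hF n u w₂ = 0) :
    gam hF α u v 0 (stdB hF n w₂ w₁ - stdB hF n w₁ w₂) =
      stdB hF n (phi hF α u v w₂) (phi hF α u v w₁) -
        stdB hF n (phi hF α u v w₁) (phi hF α u v w₂) := by
  obtain ⟨c₁, hc₁⟩ := exists_valid hF D.huu h₁
  obtain ⟨c₂, hc₂⟩ := exists_valid hF D.huu h₂
  have e1 := (D.gam_mul hc₁ hc₂).2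
  have e2 := (D.gam_mul hc₂ hc₁).2
  have hS : Valid hF u 0 (stdB hF n w₂ w₁ - stdB hF n w₁ w₂) := valid_zero hF D.huu (by
    rw [frob_sub hF, ← stdB_conj hF w₁ w₂, ← stdB_conj hF w₂ w₁]
    ring)
  have e3 := (D.gam_mul (valid_mul hF hc₂ hc₁) hS).2
  have a1 : w₂ + w₁ + 0 = w₁ + w₂ := by abel
  have a2 : c₂ + c₁ - stdB hF n w₂ w₁ + (stdB hF n w₂ w₁ - stdB hF n w₁ w₂) -
      stdB hF n (w₂ + w₁) 0 = c₁ + c₂ - stdB hF n w₁ w₂ := by
    rw [map_zero]
    ring
  rw [a1, a2, D.phi_zero, map_zero, sub_zero, e1, e2] at e3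
  linear_combination (-1 : F) * e3

/-- compatibility of `phi` with the hermitian form -/
theorem form_rel {τ : F ≃+* F}
    (hsemi : ∀ w : Fin n → F, stdB hF n u w = 0 → stdB hF n v w = 0 → ∀ a : F,
      phi hF α u v (a • w) = τ a • phi hF α u v w) :
    ∃ e : F, e ≠ 0 ∧ e ^ q = e ∧
      (∀ w₁ w₂ : Fin n → F, stdB hF n u w₁ = 0 → stdB hF n v w₁ = 0 → stdB hF n u w₂ = 0 →
        stdB hF n v w₂ = 0 →
        stdB hF n (phi hF α u v w₂) (phi hF α u v w₁) = e * τ (stdB hF n w₂ w₁)) ∧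
      ∀ a : F, a + a ^ q = 0 → gam hF α u v 0 a = e * τ a := by
  -- the general relation
  have hrel : ∀ w₁ w₂ : Fin n → F, stdB hF n u w₁ = 0 → stdB hF n v w₁ = 0 →
      stdB hF n u w₂ = 0 → ∀ a : F,
      gam hF α u v 0 (a * stdB hF n w₂ w₁ - (a * stdB hF n w₂ w₁) ^ q) =
        τ a * stdB hF n (phi hF α u v w₂) (phi hF α u v w₁) -
          (τ a * stdB hF n (phi hF α u v w₂) (phi hF α u v w₁)) ^ q := by
    intro w₁ w₂ hu1 hv1 hu2 a
    have := comm_rel D (perp_smul D hu1 a) hu2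
    rw [hsemi w₁ hu1 hv1 a] at this
    have e1 : stdB hF n (a • w₁) w₂ = (a * stdB hF n w₂ w₁) ^ q := by
      rw [stdB_conj, map_smul, smul_eq_mul]
    have e2 : stdB hF n (τ a • phi hF α u v w₁) (phi hF α u v w₂) =
        (τ a * stdB hF n (phi hF α u v w₂) (phi hF α u v w₁)) ^ q := by
      rw [stdB_conj, map_smul, smul_eq_mul]
    rw [e1, e2, map_smul, map_smul, smul_eq_mul, smul_eq_mul] at this
    exact this
  -- a pair with `B w₂ w₁ = 1`
  obtain ⟨w0, hw0, huw0, hvw0⟩ := exists_ne_zero_W hF D.huu D.huv D.hn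
  obtain ⟨w', hw'W, hw'⟩ : ∃ w' ∈ Wsub hF u v, stdB hF n w0 w' ≠ 0 := by
    by_contra hcon
    push Not at hcon
    exact hw0 (Wsub_nondeg hF D.huu D.hvv D.huv w0 ((mem_Wsub hF u v w0).2 ⟨huw0, hvw0⟩) hcon)
  obtain ⟨huw', hvw'⟩ := (mem_Wsub hF u v w').1 hw'W
  have hs0 : stdB hF n w' w0 ≠ 0 := by
    rw [stdB_conj]
    exact pow_ne_zero _ hw'
  set w1 : Fin n → F := (stdB hF n w' w0)⁻¹ • w0 with hw1
  have hu1 : stdB hF n u w1 = 0 := perp_smul D huw0 _
  have hv1 : stdB hF n v w1 = 0 := perp_smul_v D hvw0 _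
  have h11 : stdB hF n w' w1 = 1 := by
    rw [hw1, map_smul, smul_eq_mul, inv_mul_cancel₀ hs0]
  set e : F := stdB hF n (phi hF α u v w') (phi hF α u v w1) with he
  have hstar : ∀ a : F, gam hF α u v 0 (a - a ^ q) = τ a * e - (τ a * e) ^ q := by
    intro a
    have := hrel w1 w' hu1 hv1 huw' a
    rwa [h11, mul_one] at this
  have heq : e ^ q = e := by
    have := hstar 1
    rw [one_pow, sub_self, gam_zero_zero D, map_one, one_mul] at this
    exact (sub_eq_zero.1 this.symm).symm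
  have hτq : ∀ a : F, (τ a) ^ q = τ (a ^ q) := fun a => (map_pow τ a q).symm
  have hkap : ∀ a : F, a + a ^ q = 0 → gam hF α u v 0 a = e * τ a := by
    intro S hS
    obtain ⟨t, ht⟩ := trace_surj_involution (frobQ hF) (frobQ_ne_id hF) (frobQ_frobQ hF) 1
      (by rw [frobQ_apply, one_pow])
    rw [frobQ_apply] at ht
    have hSq : S ^ q = -S := by linear_combination hS
    have e1 : S * t - (S * t) ^ q = S := by
      rw [mul_pow, hSq]
      linear_combination S * ht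
    have := hstar (S * t)
    rw [e1, mul_pow, heq, hτq, ← sub_mul, ← map_sub, e1, mul_comm] at this
    exact this
  have he0 : e ≠ 0 := by
    intro h0
    obtain ⟨m, hm⟩ := exists_not_fixed hF
    have hS : (m - m ^ q) + (m - m ^ q) ^ q = 0 := by
      rw [frob_sub hF, frob_frob hF]
      ring
    have h1 := hkap _ hS
    rw [h0, zero_mul] at h1
    have hv1' : Valid hF u 0 (m - m ^ q) := valid_zero hF D.huu hS
    have hv0 : Valid hF u 0 0 := valid_zero hF D.huu (by rw [zero_pow (q_pos hF).ne', add_zero])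
    have h2 := (D.gam_spec hv1').2
    rw [h1, D.phi_zero, ei_zero_zero hF D.huu, map_one] at h2
    have h3 : mkU n F q (ei hF u 0 (m - m ^ q)) = 1 := (map_eq_one_iff α α.injective).1 h2
    rw [← map_one (mkU n F q), ← ei_zero_zero hF D.huu] at h3
    have := (D.mk_ei_inj hv1' hv0 (map_zero _) (map_zero _) h3).2
    exact hm (sub_eq_zero.1 this).symm
  refine ⟨e, he0, heq, ?_, hkap⟩
  intro w₁ w₂ hu1' hv1' hu2' hv2'
  set s : F := stdB hF n w₂ w₁ with hs
  set s' : F := stdB hF n (phi hF α u v w₂) (phi hF α u v w₁) with hs'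
  have hd : ∀ a : F, τ a * (s' - e * τ s) - (τ a * (s' - e * τ s)) ^ q = 0 := by
    intro a
    have h1 := hrel w₁ w₂ hu1' hv1' hu2' a
    have hS : (a * s - (a * s) ^ q) + (a * s - (a * s) ^ q) ^ q = 0 := by
      rw [frob_sub hF, frob_frob hF]
      ring
    rw [hkap _ hS, map_sub, map_pow, map_mul] at h1
    have k1 : (τ a * (s' - e * τ s)) ^ q = (τ a * s') ^ q - e * (τ a * τ s) ^ q := by
      rw [mul_sub, frob_sub hF, show τ a * (e * τ s) = e * (τ a * τ s) by ring, mul_pow e, heq]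
    rw [k1]
    linear_combination (-1 : F) * h1
  have h1 := hd 1
  rw [map_one, one_mul] at h1
  obtain ⟨m, hm⟩ := exists_not_fixed hF
  have h2 := hd (τ.symm m)
  rw [RingEquiv.apply_symm_apply, mul_pow] at h2
  have h3 : (m - m ^ q) * (s' - e * τ s) = 0 := by
    have h4 : (s' - e * τ s) ^ q = s' - e * τ s := (sub_eq_zero.1 h1).symm
    rw [h4] at h2
    linear_combination h2
  have h5 := (mul_eq_zero.1 h3).resolve_left (sub_ne_zero.2 (Ne.symm hm))
  exact sub_eq_zero.1 h5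

end Form

end Cfsg.Agent.Helper13.PSUForm
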