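import Mathlib
import Cfsg.Agent.Lib.Helper13.PSUEich
import Cfsg.Agent.Lib.Helper5.PSUAut4

/-!
# Torus elements of `SU_n(q)` attached to hyperbolic pairs
-/

set_option autoImplicit false
set_option linter.unusedSimpArgs false
set_option linter.unusedVariables false
set_option linter.unusedSectionVars false

namespace Cfsg.Agent.Helper13.PSUTor

open Module Submodule Matrix
open Cfsg.Agent.Helper13 Cfsg.Agent.Helper13.PSUEich

section Tor

variable {F : Type*} [Field F] [Fintype F] {q n : ℕ} (hF : Fintype.card F = q ^ 2)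

/-- hyperbolic rotation `u ↦ l u`, `v ↦ l^{-q} v` -/
def hypMat (q : ℕ) (u v : Fin n → F) (l : F) : Matrix (Fin n) (Fin n) F :=
  M1 q (l - 1) u v * M1 q ((l ^ q)⁻¹ - 1) v u

theorem hypMat_mulVec {u v : Fin n → F} (hvv : stdB hF n v v = 0) (l : F) (z : Fin n → F) :
    hypMat q u v l *ᵥ z =
      z + ((l - 1) * stdB hF n v z) • u + (((l ^ q)⁻¹ - 1) * stdB hF n u z) • v := by
  unfold hypMat
  rw [← Matrix.mulVec_mulVec, M1_mulVec, M1_mulVec, ← stdB_apply hF, ← stdB_apply hF, map_add,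
    map_smul, hvv, smul_zero, add_zero]
  abel

theorem hypMat_det {u v : Fin n → F} (huv : stdB hF n u v = 1) (l : F) :
    (hypMat q u v l).det = l * (l ^ q)⁻¹ := by
  have hvu : stdB hF n v u = 1 := by rw [stdB_conj, huv, one_pow]
  unfold hypMat
  rw [Matrix.det_mul, M1_det, M1_det, ← stdB_apply hF, ← stdB_apply hF, huv, hvu]
  ring

theorem hypMat_iso {u v : Fin n → F} (huu : stdB hF n u u = 0) (hvv : stdB hF n v v = 0)
    (huv : stdB hF n u v = 1) {l : F} (hl : l ≠ 0) (x y : Fin n → F) :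
    Cfsg.hermForm n F q (hypMat q u v l *ᵥ x) (hypMat q u v l *ᵥ y) =
      Cfsg.hermForm n F q x y := by
  have hvu : stdB hF n v u = 1 := by rw [stdB_conj, huv, one_pow]
  rw [hypMat_mulVec hF hvv, hypMat_mulVec hF hvv, ← stdB_apply hF, ← stdB_apply hF]
  exact torus_isometry (stdB hF n) (stdB_isSymm hF n) u v l (l ^ q)⁻¹ huu hvv huv hvu
    (by rw [frobQ_apply, mul_inv_cancel₀ (pow_ne_zero _ hl)])
    (by rw [frobQ_apply, inv_pow, frob_frob hF, inv_mul_cancel₀ hl]) y x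

theorem hypMat_fix {u v : Fin n → F} (hvv : stdB hF n v v = 0) (l : F) {z : Fin n → F}
    (h1 : stdB hF n u z = 0) (h2 : stdB hF n v z = 0) : hypMat q u v l *ᵥ z = z := by
  rw [hypMat_mulVec hF hvv, h1, h2, mul_zero, mul_zero, zero_smul, zero_smul, add_zero, add_zero]

theorem hypMat_left {u v : Fin n → F} (huu : stdB hF n u u = 0) (hvv : stdB hF n v v = 0)
    (huv : stdB hF n u v = 1) (l : F) : hypMat q u v l *ᵥ u = l • u := by
  have hvu : stdB hF n v u = 1 := by rw [stdB_conj, huv, one_pow]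
  rw [hypMat_mulVec hF hvv, huu, hvu, mul_zero, zero_smul, add_zero, mul_one, sub_smul, one_smul]
  abel

theorem hypMat_right {u v : Fin n → F} (hvv : stdB hF n v v = 0)
    (huv : stdB hF n u v = 1) (l : F) : hypMat q u v l *ᵥ v = (l ^ q)⁻¹ • v := by
  rw [hypMat_mulVec hF hvv, hvv, huv, mul_zero, zero_smul, add_zero, mul_one, sub_smul, one_smul]
  abel

/-- the torus element for two orthogonal hyperbolic pairs -/
theorem exists_torus4 {u v x y : Fin n → F} (huu : stdB hF n u u = 0) (hvv : stdB hF n v v = 0)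
    (huv : stdB hF n u v = 1) (hxx : stdB hF n x x = 0) (hyy : stdB hF n y y = 0)
    (hxy : stdB hF n x y = 1) (hux : stdB hF n u x = 0) (huy : stdB hF n u y = 0)
    (hvx : stdB hF n v x = 0) (hvy : stdB hF n v y = 0) {l m : F} (hl : l ≠ 0) (hm : m ≠ 0)
    (hlm : (l * m) ^ q = l * m) :
    ∃ h : ↥(Cfsg.SU n F q), actv h u = l • u ∧ actv h v = (l ^ q)⁻¹ • v ∧ actv h x = m • x ∧
      actv h y = (m ^ q)⁻¹ • y := by
  have hxu : stdB hF n x u = 0 := stdB_swap_zero hF _ _ hux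
  have hyu : stdB hF n y u = 0 := stdB_swap_zero hF _ _ huy
  have hxv : stdB hF n x v = 0 := stdB_swap_zero hF _ _ hvx
  have hyv : stdB hF n y v = 0 := stdB_swap_zero hF _ _ hvy
  have hdet : (hypMat q u v l * hypMat q x y m).det = 1 := by
    rw [Matrix.det_mul, hypMat_det hF huv, hypMat_det hF hxy]
    have h1 : l ^ q * m ^ q = l * m := by rw [← mul_pow]; exact hlm
    have h2 : l ^ q ≠ 0 := pow_ne_zero _ hl
    have h3 : m ^ q ≠ 0 := pow_ne_zero _ hm
    field_simp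
    linear_combination -h1
  refine ⟨mkSU _ hdet (fun a b => by
    rw [← Matrix.mulVec_mulVec, ← Matrix.mulVec_mulVec, hypMat_iso hF huu hvv huv hl,
      hypMat_iso hF hxx hyy hxy hm]), ?_, ?_, ?_, ?_⟩
  · show (hypMat q u v l * hypMat q x y m) *ᵥ u = _
    rw [← Matrix.mulVec_mulVec, hypMat_fix hF hyy m hxu hyu, hypMat_left hF huu hvv huv]
  · show (hypMat q u v l * hypMat q x y m) *ᵥ v = _
    rw [← Matrix.mulVec_mulVec, hypMat_fix hF hyy m hxv hyv, hypMat_right hF hvv huv]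
  · show (hypMat q u v l * hypMat q x y m) *ᵥ x = _
    rw [← Matrix.mulVec_mulVec, hypMat_left hF hxx hyy hxy, Matrix.mulVec_smul,
      hypMat_fix hF hvv l hux hvx]
  · show (hypMat q u v l * hypMat q x y m) *ᵥ y = _
    rw [← Matrix.mulVec_mulVec, hypMat_right hF hyy hxy, Matrix.mulVec_smul,
      hypMat_fix hF hvv l huy hvy]

/-- the torus element for a hyperbolic pair and an orthogonal unit vector -/
theorem exists_torus3 {u v e : Fin n → F} (huu : stdB hF n u u = 0) (hvv : stdB hF n v v = 0)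
    (huv : stdB hF n u v = 1) (hee : stdB hF n e e = 1) (hue : stdB hF n u e = 0)
    (hve : stdB hF n v e = 0) {l : F} (hl : l ≠ 0) :
    ∃ h : ↥(Cfsg.SU n F q), actv h u = l • u ∧ actv h v = (l ^ q)⁻¹ • v ∧
      actv h e = (l ^ q * l⁻¹) • e := by
  have heu : stdB hF n e u = 0 := stdB_swap_zero hF _ _ hue
  have hev : stdB hF n e v = 0 := stdB_swap_zero hF _ _ hve
  have hlq : l ^ q ≠ 0 := pow_ne_zero _ hl
  have hM : ∀ z : Fin n → F, M1 q (l ^ q * l⁻¹ - 1) e e *ᵥ z =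
      z + ((l ^ q * l⁻¹ - 1) * stdB hF n e z) • e := by
    intro z
    rw [M1_mulVec, ← stdB_apply hF]
  have hdet : (hypMat q u v l * M1 q (l ^ q * l⁻¹ - 1) e e).det = 1 := by
    rw [Matrix.det_mul, hypMat_det hF huv, M1_det, ← stdB_apply hF, hee]
    field_simp
    ring
  have hκ : frobQ hF (l ^ q * l⁻¹) * (l ^ q * l⁻¹) = 1 := by
    rw [frobQ_apply, mul_pow, frob_frob hF, inv_pow]
    field_simp
  refine ⟨mkSU _ hdet (fun a b => by
    rw [← Matrix.mulVec_mulVec, ← Matrix.mulVec_mulVec, hypMat_iso hF huu hvv huv hl, hM, hM,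
      ← stdB_apply hF, ← stdB_apply hF]
    exact quasirefl_isometry (stdB hF n) (stdB_isSymm hF n) e _ hee hκ b a), ?_, ?_, ?_⟩
  · show (hypMat q u v l * M1 q (l ^ q * l⁻¹ - 1) e e) *ᵥ u = _
    rw [← Matrix.mulVec_mulVec, hM, heu, mul_zero, zero_smul, add_zero,
      hypMat_left hF huu hvv huv]
  · show (hypMat q u v l * M1 q (l ^ q * l⁻¹ - 1) e e) *ᵥ v = _
    rw [← Matrix.mulVec_mulVec, hM, hev, mul_zero, zero_smul, add_zero,
      hypMat_right hF hvv huv]
  · show (hypMat q u v l * M1 q (l ^ q * l⁻¹ - 1) e e) *ᵥ e = _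
    rw [← Matrix.mulVec_mulVec, hM, hee, mul_one, sub_smul, one_smul]
    have : e + (((l ^ q * l⁻¹) • e) - e) = (l ^ q * l⁻¹) • e := by abel
    rw [this, Matrix.mulVec_smul, hypMat_fix hF hvv l hue hve]

include hF in
/-- a non-zero element `z` with `z^{2q}` outside `F_q` -/
theorem exists_sq_not_fixed : ∃ z : F, z ≠ 0 ∧ (z ^ q * z ^ q) ^ q ≠ z ^ q * z ^ q := by
  obtain ⟨ζ, hζ, -⟩ := Cfsg.Agent.Helper5.PSUAut.exists_gen hF
  have hq := Cfsg.Agent.Helper5.PSUAut.two_le_q hF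
  refine ⟨(ζ : F), ζ.ne_zero, fun h => ?_⟩
  rw [mul_pow, frob_frob hF] at h
  -- `ζ * ζ = ζ^q * ζ^q`
  have h1 : (ζ : F) ^ (2 * q - 2) = 1 := by
    have h2 : (ζ : F) ^ 2 * (ζ : F) ^ (2 * q - 2) = (ζ : F) ^ 2 * 1 := by
      rw [← pow_add, show 2 + (2 * q - 2) = q + q by omega, pow_add, mul_one, ← h]
      ring
    exact mul_left_cancel₀ (pow_ne_zero _ ζ.ne_zero) h2
  have h3 : ζ ^ (2 * q - 2) = 1 := by
    apply Units.ext
    rw [Units.val_pow_eq_pow_val, h1, Units.val_one]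
  have h4 := orderOf_dvd_of_pow_eq_one h3
  rw [hζ] at h4
  have h5 := Nat.le_of_dvd (by omega) h4
  have h6 : q ^ 2 ≥ 2 * q := by nlinarith
  have : q ^ 2 - 1 ≥ 2 * q - 1 := by omega
  omega

include hF in
/-- a non-zero element `z` with `z^{2q-1}` outside `F_q`, for `q ≠ 2` -/
theorem exists_cube_not_fixed (hq2 : q ≠ 2) :
    ∃ z : F, z ≠ 0 ∧ (z ^ q * (z ^ q * z⁻¹)) ^ q ≠ z ^ q * (z ^ q * z⁻¹) := by
  obtain ⟨ζ, hζ, -⟩ := Cfsg.Agent.Helper5.PSUAut.exists_gen hF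
  have hq := Cfsg.Agent.Helper5.PSUAut.two_le_q hF
  refine ⟨(ζ : F), ζ.ne_zero, fun h => ?_⟩
  have hz : (ζ : F) ≠ 0 := ζ.ne_zero
  rw [mul_pow, mul_pow, frob_frob hF, inv_pow] at h
  have hzq : (ζ : F) ^ q ≠ 0 := pow_ne_zero _ hz
  have h0 : (ζ : F) ^ 3 = ((ζ : F) ^ q) ^ 3 := by
    field_simp at h
    linear_combination h
  have h1 : (ζ : F) ^ (3 * q - 3) = 1 := by
    have h2 : (ζ : F) ^ 3 * (ζ : F) ^ (3 * q - 3) = (ζ : F) ^ 3 * 1 := by
      rw [← pow_add, show 3 + (3 * q - 3) = q * 3 by omega, pow_mul, mul_one, ← h0]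
    exact mul_left_cancel₀ (pow_ne_zero _ hz) h2
  have h3 : ζ ^ (3 * q - 3) = 1 := by
    apply Units.ext
    rw [Units.val_pow_eq_pow_val, h1, Units.val_one]
  have h4 := orderOf_dvd_of_pow_eq_one h3
  rw [hζ] at h4
  have h5 := Nat.le_of_dvd (by omega) h4
  have h6 : q ≥ 3 := by omega
  have h7 : q ^ 2 ≥ 3 * q := by nlinarith
  omega

end Tor

end Cfsg.Agent.Helper13.PSUTor
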