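import Mathlib
import Cfsg.Agent.Lib.Helper13.PSUForm
import Cfsg.Agent.Lib.Helper13.PSUTor

/-!
# The induced map `phi` is semilinear on `W`
-/

set_option autoImplicit false
set_option linter.unusedSimpArgs false
set_option linter.unusedVariables false
set_option linter.unusedSectionVars false

namespace Cfsg.Agent.Helper13.PSUTau

open Module Submodule Matrix
open Cfsg.Agent.Helper13 Cfsg.Agent.Helper13.PSUEich Cfsg.Agent.Helper13.PSUSyl
  Cfsg.Agent.Helper13.PSUCan Cfsg.Agent.Helper13.PSUBar Cfsg.Agent.Helper13.PSURoot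
  Cfsg.Agent.Helper13.PSUPhi Cfsg.Agent.Helper13.PSUSemi Cfsg.Agent.Helper13.PSUGeo
  Cfsg.Agent.Helper13.PSUForm Cfsg.Agent.Helper13.PSUTor

section Tau

variable {F : Type*} [Field F] [Fintype F] {q n : ℕ}
variable {p : ℕ} [Fact p.Prime] [CharP F p]
variable {hF : Fintype.card F = q ^ 2} {α : MulAut (Cfsg.PSU n F q)} {u v : Fin n → F}
  (D : NData p hF α u v)

include D

/-- a torus element scaling `x` gives an element of `Rset`, provided the image torus element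
scales `x'` -/
theorem mem_Rset_of_torus {x x' : Fin n → F} (hux : stdB hF n u x = 0)
    (hL : ∀ b : F, ∃ b' : F, phi hF α u v (b • x) = b' • x')
    {h : ↥(Cfsg.SU n F q)} {l m ν : F} (hl : l ≠ 0) (hm : m ≠ 0)
    (hhu : actv h u = l • u) (hhv : actv h v = m • v) (hx : actv h x = ν • x)
    (himg : ∀ h' : ↥(Cfsg.SU n F q), α (mkU n F q h) = mkU n F q h' →
      (∃ l' : F, l' ≠ 0 ∧ actv h' u = l' • u) → (∃ m' : F, m' ≠ 0 ∧ actv h' v = m' • v) →
      ∃ ν' : F, actv h' x' = ν' • x') :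
    l ^ q * ν ∈ Rset hF α u v x := by
  obtain ⟨h', he⟩ := QuotientGroup.mk_surjective (α (mkU n F q h))
  have he' : α (mkU n F q h) = mkU n F q h' := he.symm
  obtain ⟨l', hl', hu'⟩ := aut_stab hF (p := p) D.hn α D.hu D.huu D.hu D.huu D.hTu he' hl hhu
  obtain ⟨m', hm', hv'⟩ := aut_stab hF (p := p) D.hn α D.hv D.hvv D.hv D.hvv D.hTv he' hm hhv
  obtain ⟨ν', hν'⟩ := himg h' he' ⟨l', hl', hu'⟩ ⟨m', hm', hv'⟩
  exact scalar_rel D hux hL he' hl hm hl' hm' hhu hhv hu' hv' hx hν'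

/-- the case `n ≥ 4`: isotropic lines -/
theorem exists_tau_iso {x : Fin n → F} (hx : x ≠ 0) (hxx : stdB hF n x x = 0)
    (hux : stdB hF n u x = 0) (hvx : stdB hF n v x = 0) :
    ∃ τ : F ≃+* F, IsTau hF α u v x τ := by
  obtain ⟨x', hx', hx'x', hux', hvx', hTx, hL⟩ := phi_line D hx hxx hux hvx
  obtain ⟨y, hyW, hxy, hyy⟩ := exists_partner_in (frobQ hF) (frobQ_ne_id hF) (frobQ_frobQ hF)
    (stdB hF n) (stdB_isSymm hF n) (Wsub hF u v) (Wsub_nondeg hF D.huu D.hvv D.huv)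
    ((mem_Wsub hF u v x).2 ⟨hux, hvx⟩) hx hxx
  obtain ⟨huy, hvy⟩ := (mem_Wsub hF u v y).1 hyW
  have himg : ∀ (h : ↥(Cfsg.SU n F q)) (ν : F), actv h x = ν • x →
      ∀ h' : ↥(Cfsg.SU n F q), α (mkU n F q h) = mkU n F q h' →
      (∃ l' : F, l' ≠ 0 ∧ actv h' u = l' • u) → (∃ m' : F, m' ≠ 0 ∧ actv h' v = m' • v) →
      ∃ ν' : F, actv h' x' = ν' • x' := by
    intro h ν hν h' he _ _
    have hν0 : ν ≠ 0 := by
      rintro rfl
      rw [zero_smul] at hν
      exact actv_ne_zero h x hx hν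
    obtain ⟨ν', -, h2⟩ := aut_stab hF (p := p) D.hn α hx hxx hx' hx'x' hTx he hν0 hν
    exact ⟨ν', h2⟩
  apply exists_tau_line D hux hvx hx
  obtain ⟨z, hz, hzq⟩ := exists_sq_not_fixed hF
  refine alg_top hF (Rset hF α u v x) (fun a b => Rset_add D hux) (fun a b => Rset_mul D) ?_
    (z ^ q * z ^ q) ?_ hzq
  · intro r hr
    by_cases hr0 : r = 0
    · rw [hr0]
      exact Rset_zero D x
    · obtain ⟨h, h1, h2, h3, -⟩ := exists_torus4 hF D.huu D.hvv D.huv hxx hyy hxy hux huy hvx hvy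
        (l := 1) (m := r) one_ne_zero hr0 (by rw [one_mul]; exact hr)
      have := mem_Rset_of_torus D hux hL one_ne_zero
        (inv_ne_zero (pow_ne_zero q (one_ne_zero (α := F)))) h1 h2 h3 (himg h r h3)
      rwa [one_pow, one_mul] at this
  · obtain ⟨h, h1, h2, h3, -⟩ := exists_torus4 hF D.huu D.hvv D.huv hxx hyy hxy hux huy hvx hvy
      (l := z) (m := z ^ q) hz (pow_ne_zero _ hz) (by rw [mul_pow, frob_frob hF, mul_comm])
    exact mem_Rset_of_torus D hux hL hz (inv_ne_zero (pow_ne_zero q hz)) h1 h2 h3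
      (himg h (z ^ q) h3)

/-- the case `n = 3` -/
theorem exists_tau_three (hn3 : n = 3) (hq2 : q ≠ 2) :
    ∃ τ : F ≃+* F, ∀ w : Fin n → F, stdB hF n u w = 0 → stdB hF n v w = 0 → ∀ a : F,
      phi hF α u v (a • w) = τ a • phi hF α u v w := by
  have hrk : finrank F (Wsub hF u v) = 1 := by rw [finrank_Wsub hF D.huu D.huv, hn3]
  have hmult : ∀ w0 : Fin n → F, w0 ≠ 0 → stdB hF n u w0 = 0 → stdB hF n v w0 = 0 →
      ∀ w : Fin n → F, stdB hF n u w = 0 → stdB hF n v w = 0 → ∃ c : F, w = c • w0 := by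
    intro w0 hw0 hu0 hv0 w huw hvw
    have hW0 : w0 ∈ Wsub hF u v := (mem_Wsub hF u v w0).2 ⟨hu0, hv0⟩
    obtain ⟨c, hc⟩ := (finrank_eq_one_iff_of_nonzero' (⟨w0, hW0⟩ : Wsub hF u v)
      (fun h => hw0 (congrArg Subtype.val h))).1 hrk ⟨w, (mem_Wsub hF u v w).2 ⟨huw, hvw⟩⟩
    exact ⟨c, (congrArg Subtype.val hc).symm⟩
  obtain ⟨w0, hw0, huw0, hvw0⟩ := exists_ne_zero_W hF D.huu D.huv D.hn
  have hc0 : stdB hF n w0 w0 ≠ 0 := by
    intro h0
    apply hw0
    apply Wsub_nondeg hF D.huu D.hvv D.huv w0 ((mem_Wsub hF u v w0).2 ⟨huw0, hvw0⟩)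
    intro w' hw'
    obtain ⟨hu', hv'⟩ := (mem_Wsub hF u v w').1 hw'
    obtain ⟨c, rfl⟩ := hmult w0 hw0 huw0 hvw0 w' hu' hv'
    rw [map_smul, h0, smul_zero]
  have hcq : (stdB hF n w0 w0) ^ q = stdB hF n w0 w0 := (stdB_conj hF w0 w0).symm
  obtain ⟨d, hd0, hd⟩ := Cfsg.Agent.Helper5.PSUAut.exists_pow_add_one hF _ hc0 hcq
  set e : Fin n → F := d⁻¹ • w0 with he
  have hee : stdB hF n e e = 1 := by
    rw [he, map_smul, LinearMap.map_smulₛₗ, LinearMap.smul_apply, smul_eq_mul, smul_eq_mul,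
      frobQ_apply, ← hd, inv_pow, pow_succ]
    field_simp
  have he0 : e ≠ 0 := smul_ne_zero (inv_ne_zero hd0) hw0
  have hue : stdB hF n u e = 0 := perp_smul D huw0 _
  have hve : stdB hF n v e = 0 := perp_smul_v D hvw0 _
  set x' : Fin n → F := phi hF α u v e with hx'
  have hx'0 : x' ≠ 0 := fun h0 => he0 (D.phi_eq_zero hue hve h0)
  have hux' : stdB hF n u x' = 0 := D.phi_perp_u hue
  have hvx' : stdB hF n v x' = 0 := D.phi_perp_v hue
  have hL : ∀ b : F, ∃ b' : F, phi hF α u v (b • e) = b' • x' := by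
    intro b
    exact hmult x' hx'0 hux' hvx' _ (D.phi_perp_u (perp_smul D hue b))
      (D.phi_perp_v (perp_smul D hue b))
  have himg : ∀ (h h' : ↥(Cfsg.SU n F q)), α (mkU n F q h) = mkU n F q h' →
      (∃ l' : F, l' ≠ 0 ∧ actv h' u = l' • u) → (∃ m' : F, m' ≠ 0 ∧ actv h' v = m' • v) →
      ∃ ν' : F, actv h' x' = ν' • x' := by
    rintro h h' - ⟨l', hl', h1⟩ ⟨m', hm', h2⟩
    exact hmult x' hx'0 hux' hvx' _ (stab_perp hF hl' h1 hux') (stab_perp hF hm' h2 hvx')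
  obtain ⟨z, hz, hzq⟩ := exists_cube_not_fixed hF hq2
  have hR : ∀ a : F, a ∈ Rset hF α u v e := by
    refine alg_top hF (Rset hF α u v e) (fun a b => Rset_add D hue) (fun a b => Rset_mul D) ?_
      (z ^ q * (z ^ q * z⁻¹)) ?_ hzq
    · intro r hr
      by_cases hr0 : r = 0
      · rw [hr0]
        exact Rset_zero D e
      · obtain ⟨h, h1, h2, h3⟩ := exists_torus3 hF D.huu D.hvv D.huv hee hue hve (l := r) hr0
        have := mem_Rset_of_torus D hue hL hr0 (inv_ne_zero (pow_ne_zero q hr0)) h1 h2 h3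
          (himg h)
        have e1 : r ^ q * (r ^ q * r⁻¹) = r := by
          rw [hr]
          field_simp
        rwa [e1] at this
    · obtain ⟨h, h1, h2, h3⟩ := exists_torus3 hF D.huu D.hvv D.huv hee hue hve (l := z) hz
      exact mem_Rset_of_torus D hue hL hz (inv_ne_zero (pow_ne_zero q hz)) h1 h2 h3 (himg h)
  obtain ⟨τ, hτ⟩ := exists_tau_line D hue hve he0 hR
  refine ⟨τ, fun w huw hvw a => ?_⟩
  obtain ⟨b, rfl⟩ := hmult e he0 hue hve w huw hvw
  rw [smul_smul]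
  exact hτ a b

/-- `phi` is semilinear on `W` -/
theorem exists_tau (h32 : ¬ (n = 3 ∧ q = 2)) :
    ∃ τ : F ≃+* F, ∀ w : Fin n → F, stdB hF n u w = 0 → stdB hF n v w = 0 → ∀ a : F,
      phi hF α u v (a • w) = τ a • phi hF α u v w := by
  by_cases hn3 : n = 3
  · exact exists_tau_three D hn3 (fun hq => h32 ⟨hn3, hq⟩)
  · have hn4 : 4 ≤ n := by
      have := D.hn
      omega
    exact exists_tau_W D hn4 (fun x hx hxx hux hvx => exists_tau_iso D hx hxx hux hvx)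

end Tau

end Cfsg.Agent.Helper13.PSUTau
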