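import Mathlib
import Cfsg.Agent.Lib.Helper13.PSUTau
import Cfsg.Agent.Lib.Helper40.PSUSemi

/-!
# Extending the semilinear map `phi` on `W` to a semilinear similitude of the whole space
-/

set_option autoImplicit false
set_option linter.unusedSimpArgs false
set_option linter.unusedVariables false
set_option linter.unusedSectionVars false

namespace Cfsg.Agent.Helper13.PSUExt

open Module Submodule Matrix
open Cfsg.Agent.Helper13 Cfsg.Agent.Helper13.PSUEich Cfsg.Agent.Helper13.PSUSyl
  Cfsg.Agent.Helper13.PSUCan Cfsg.Agent.Helper13.PSUBar Cfsg.Agent.Helper13.PSURoot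
  Cfsg.Agent.Helper13.PSUPhi Cfsg.Agent.Helper13.PSUSemi Cfsg.Agent.Helper13.PSUGeo
  Cfsg.Agent.Helper13.PSUForm Cfsg.Agent.Helper13.PSUTor
open Cfsg.Agent.Helper5.PSUAut Cfsg.Agent.Helper5.PSUGr

section Decomp

variable {F : Type*} [Field F] [Fintype F] {q n : ℕ} (hF : Fintype.card F = q ^ 2)

/-- the form in terms of the decomposition `⟨u⟩ + ⟨v⟩ + W` -/
theorem form_decomp {u v : Fin n → F} (huu : stdB hF n u u = 0) (hvv : stdB hF n v v = 0)
    (huv : stdB hF n u v = 1) (a₁ b₁ a₂ b₂ : F) {p₁ p₂ : Fin n → F}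
    (h1u : stdB hF n u p₁ = 0) (h1v : stdB hF n v p₁ = 0) (h2u : stdB hF n u p₂ = 0)
    (h2v : stdB hF n v p₂ = 0) :
    stdB hF n (a₁ • u + b₁ • v + p₁) (a₂ • u + b₂ • v + p₂) =
      a₁ ^ q * b₂ + b₁ ^ q * a₂ + stdB hF n p₁ p₂ := by
  have hvu : stdB hF n v u = 1 := by rw [stdB_conj, huv, one_pow]
  have h1u' : stdB hF n p₁ u = 0 := stdB_swap_zero hF _ _ h1u
  have h1v' : stdB hF n p₁ v = 0 := stdB_swap_zero hF _ _ h1v
  simp only [map_add, map_smul, LinearMap.add_apply, LinearMap.map_smulₛₗ, LinearMap.smul_apply,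
    smul_eq_mul, frobQ_apply, huu, hvv, huv, hvu, h1u, h1v, h2u, h2v, h1u', h1v', mul_zero,
    mul_one, add_zero, zero_add]
  ring

end Decomp

section Ext

variable {F : Type*} [Field F] [Fintype F] {q n : ℕ}

/-- the extension of `phi` to the whole space -/
noncomputable def PhiExt (hF : Fintype.card F = q ^ 2) (α : MulAut (Cfsg.PSU n F q))
    (u v : Fin n → F) (τ : F ≃+* F) (e : F) (z : Fin n → F) : Fin n → F :=
  (e * τ (stdB hF n v z)) • u + τ (stdB hF n u z) • v +
    phi hF α u v (z - stdB hF n v z • u - stdB hF n u z • v)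

variable {p : ℕ} [Fact p.Prime] [CharP F p]
variable {hF : Fintype.card F = q ^ 2} {α : MulAut (Cfsg.PSU n F q)} {u v : Fin n → F}
  (D : NData p hF α u v) {τ : F ≃+* F} {e : F} (he0 : e ≠ 0) (heq : e ^ q = e)
  (hsemi : ∀ w : Fin n → F, stdB hF n u w = 0 → stdB hF n v w = 0 → ∀ a : F,
    phi hF α u v (a • w) = τ a • phi hF α u v w)
  (hform : ∀ w₁ w₂ : Fin n → F, stdB hF n u w₁ = 0 → stdB hF n v w₁ = 0 →
    stdB hF n u w₂ = 0 → stdB hF n v w₂ = 0 →
    stdB hF n (phi hF α u v w₂) (phi hF α u v w₁) = e * τ (stdB hF n w₂ w₁))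

include D

theorem proj_perp (z : Fin n → F) :
    stdB hF n u (z - stdB hF n v z • u - stdB hF n u z • v) = 0 ∧
      stdB hF n v (z - stdB hF n v z • u - stdB hF n u z • v) = 0 :=
  (mem_Wsub hF u v _).1 (proj_mem_Wsub hF D.huu D.hvv D.huv z)

theorem PhiExt_add (x y : Fin n → F) :
    PhiExt hF α u v τ e (x + y) = PhiExt hF α u v τ e x + PhiExt hF α u v τ e y := by
  unfold PhiExt
  have h1 : x + y - stdB hF n v (x + y) • u - stdB hF n u (x + y) • v =
      (x - stdB hF n v x • u - stdB hF n u x • v) +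
        (y - stdB hF n v y • u - stdB hF n u y • v) := by
    rw [map_add, map_add, add_smul, add_smul]
    abel
  rw [h1, D.phi_add (proj_perp D x).1 (proj_perp D y).1, map_add, map_add, map_add, map_add,
    mul_add, add_smul, add_smul]
  abel

include hsemi in
theorem PhiExt_smul (a : F) (x : Fin n → F) :
    PhiExt hF α u v τ e (a • x) = τ a • PhiExt hF α u v τ e x := by
  unfold PhiExt
  have hb1 : stdB hF n v (a • x) = a * stdB hF n v x := by rw [map_smul, smul_eq_mul]
  have hb2 : stdB hF n u (a • x) = a * stdB hF n u x := by rw [map_smul, smul_eq_mul]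
  have h1 : a • x - stdB hF n v (a • x) • u - stdB hF n u (a • x) • v =
      a • (x - stdB hF n v x • u - stdB hF n u x • v) := by
    rw [hb1, hb2, smul_sub, smul_sub, smul_smul, smul_smul]
  rw [h1, hsemi _ (proj_perp D x).1 (proj_perp D x).2, hb1, hb2, map_mul, map_mul, smul_add,
    smul_add, smul_smul, smul_smul]
  congr 2
  congr 1
  ring

theorem PhiExt_u : PhiExt hF α u v τ e u = e • u := by
  unfold PhiExt
  simp only [D.hvu, D.huu, map_one, map_zero, mul_one, zero_smul, add_zero, one_smul, sub_self,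
    sub_zero, D.phi_zero]

theorem PhiExt_v : PhiExt hF α u v τ e v = v := by
  unfold PhiExt
  simp only [D.hvv, D.huv, map_one, map_zero, mul_zero, zero_smul, zero_add, add_zero, one_smul,
    sub_self, sub_zero, D.phi_zero]

theorem PhiExt_W {w : Fin n → F} (huw : stdB hF n u w = 0) (hvw : stdB hF n v w = 0) :
    PhiExt hF α u v τ e w = phi hF α u v w := by
  unfold PhiExt
  rw [huw, hvw, map_zero, mul_zero, zero_smul, zero_smul, zero_add, zero_add, sub_zero, sub_zero]

include heq hform in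
theorem PhiExt_form (x y : Fin n → F) :
    stdB hF n (PhiExt hF α u v τ e x) (PhiExt hF α u v τ e y) = e * τ (stdB hF n x y) := by
  obtain ⟨hx1, hx2⟩ := proj_perp D x
  obtain ⟨hy1, hy2⟩ := proj_perp D y
  have k1 := form_decomp hF D.huu D.hvv D.huv (stdB hF n v x) (stdB hF n u x) (stdB hF n v y)
    (stdB hF n u y) hx1 hx2 hy1 hy2
  have ex : stdB hF n v x • u + stdB hF n u x • v +
      (x - stdB hF n v x • u - stdB hF n u x • v) = x := by abel
  have ey : stdB hF n v y • u + stdB hF n u y • v +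
      (y - stdB hF n v y • u - stdB hF n u y • v) = y := by abel
  rw [ex, ey] at k1
  unfold PhiExt
  rw [form_decomp hF D.huu D.hvv D.huv _ _ _ _ (D.phi_perp_u hx1) (D.phi_perp_v hx1)
    (D.phi_perp_u hy1) (D.phi_perp_v hy1), hform _ _ hy1 hy2 hx1 hx2, k1, map_add, map_add,
    map_mul, map_mul, map_pow, map_pow, mul_pow, heq]
  ring

end Ext

end Cfsg.Agent.Helper13.PSUExt
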