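import Mathlib
import Cfsg.Agent.Lib.Helper13.PSUTau

/-!
# Rigidity: a normalised automorphism of `PSU_n(q)` inducing the identity on `Q_u/T_u` is trivial
-/

set_option autoImplicit false
set_option linter.unusedSimpArgs false
set_option linter.unusedVariables false
set_option linter.unusedSectionVars false

namespace Cfsg.Agent.Helper13.PSURigid

open Module Submodule Matrix
open Cfsg.Agent.Helper13 Cfsg.Agent.Helper13.PSUEich Cfsg.Agent.Helper13.PSUSyl
  Cfsg.Agent.Helper13.PSUCan Cfsg.Agent.Helper13.PSUBar Cfsg.Agent.Helper13.PSURoot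
  Cfsg.Agent.Helper13.PSUPhi Cfsg.Agent.Helper13.PSUSemi Cfsg.Agent.Helper13.PSUGeo
  Cfsg.Agent.Helper13.PSUForm Cfsg.Agent.Helper13.PSUTor

section Scalar

variable {F : Type*} [Field F] [Fintype F] {q n : ℕ}

/-- two elements of `SU` differing by a scalar have the same image in `PSU` -/
theorem scalar_mk_eq (θ : F) (h h' : ↥(Cfsg.SU n F q))
    (hs : ∀ z : Fin n → F, actv h' z = θ • actv h z) : mkU n F q h' = mkU n F q h := by
  symm
  show (QuotientGroup.mk h : Cfsg.PSU n F q) = QuotientGroup.mk h'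
  rw [QuotientGroup.eq, Subgroup.mem_center_iff]
  have hz : ∀ x : Fin n → F, actv (h⁻¹ * h') x = θ • x := by
    intro x
    rw [actv_mul, hs, actv_smul, ← actv_mul, inv_mul_cancel, actv_one]
  intro g
  apply SU_ext
  intro x
  change actv (g * (h⁻¹ * h')) x = actv ((h⁻¹ * h') * g) x
  rw [actv_mul, hz, actv_smul, actv_mul, hz]

end Scalar

section Del

variable {F : Type*} [Field F] [Fintype F] {q n : ℕ}

open Classical in
/-- the defect of `gam` -/
noncomputable def del (hF : Fintype.card F = q ^ 2) (α : MulAut (Cfsg.PSU n F q))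
    (u v w : Fin n → F) : F :=
  if h : ∃ c : F, Valid hF u w c then gam hF α u v w h.choose - h.choose else 0

/-- an element of norm one whose cube is not one (`q ≠ 2`) -/
theorem exists_norm_one_cube (hF : Fintype.card F = q ^ 2) (hq2 : q ≠ 2) :
    ∃ l : F, l ≠ 0 ∧ l ^ q * l = 1 ∧ l ^ 3 ≠ 1 := by
  obtain ⟨ζ, hζ, -⟩ := Cfsg.Agent.Helper5.PSUAut.exists_gen hF
  have hq := Cfsg.Agent.Helper5.PSUAut.two_le_q hF
  refine ⟨((ζ ^ (q - 1) : Fˣ) : F), Units.ne_zero _, ?_, ?_⟩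
  · rw [← Units.val_pow_eq_pow_val, ← Units.val_mul, ← pow_mul, ← pow_add,
      show (q - 1) * q + (q - 1) = q ^ 2 - 1 by
        rw [Cfsg.Agent.Helper5.PSUAut.sq_sub_one_eq hq]; ring, ← hζ, pow_orderOf_eq_one,
      Units.val_one]
  · intro h
    rw [← Units.val_pow_eq_pow_val, ← pow_mul] at h
    have h3 : ζ ^ ((q - 1) * 3) = 1 := Units.ext h
    have h4 := orderOf_dvd_of_pow_eq_one h3
    rw [hζ] at h4
    have h5 := Nat.le_of_dvd (by omega) h4
    have h6 : q ≥ 3 := by omega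
    have h7 : q ^ 2 ≥ 3 * q := by nlinarith
    omega

theorem actv_ei_zero (hF : Fintype.card F = q ^ 2) {u : Fin n → F} {a : F}
    (h : Valid hF u 0 a) (x : Fin n → F) :
    actv (ei hF u 0 a) x = x + (a * stdB hF n u x) • u := by
  rw [actv_ei hF h]
  simp

/-- the subgroup of fixed points of an automorphism -/
def fixSub (α : MulAut (Cfsg.PSU n F q)) : Subgroup (Cfsg.PSU n F q) where
  carrier := {x | α x = x}
  mul_mem' := by
    intro a b ha hb
    show α (a * b) = a * b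
    rw [map_mul, show α a = a from ha, show α b = b from hb]
  one_mem' := map_one α
  inv_mem' := by
    intro a ha
    show α a⁻¹ = a⁻¹
    rw [map_inv, show α a = a from ha]

theorem mem_fixSub (α : MulAut (Cfsg.PSU n F q)) (x : Cfsg.PSU n F q) :
    x ∈ fixSub α ↔ α x = x := Iff.rfl

end Del

section Rigid

variable {F : Type*} [Field F] [Fintype F] {q n : ℕ}
variable {p : ℕ} [Fact p.Prime] [CharP F p]
variable {hF : Fintype.card F = q ^ 2} {α : MulAut (Cfsg.PSU n F q)} {u v : Fin n → F}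
  (D : NData p hF α u v)
  (hid : ∀ w : Fin n → F, stdB hF n u w = 0 → stdB hF n v w = 0 → phi hF α u v w = w)

include D hid

/-- `α` fixes `T̄_u` pointwise -/
theorem gam_zero_id (a : F) (ha : a + a ^ q = 0) : gam hF α u v 0 a = a := by
  have hsemi : ∀ w : Fin n → F, stdB hF n u w = 0 → stdB hF n v w = 0 → ∀ a : F,
      phi hF α u v (a • w) = (RingEquiv.refl F) a • phi hF α u v w := by
    intro w huw hvw a
    rw [hid _ (perp_smul D huw a) (perp_smul_v D hvw a), hid w huw hvw]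
    rfl
  obtain ⟨e, he0, heq, hform, hkap⟩ := form_rel D hsemi
  obtain ⟨w0, hw0, huw0, hvw0⟩ := exists_ne_zero_W hF D.huu D.huv D.hn
  obtain ⟨w', hw'W, hw'⟩ : ∃ w' ∈ Wsub hF u v, stdB hF n w0 w' ≠ 0 := by
    by_contra hcon
    push Not at hcon
    exact hw0 (Wsub_nondeg hF D.huu D.hvv D.huv w0 ((mem_Wsub hF u v w0).2 ⟨huw0, hvw0⟩) hcon)
  obtain ⟨huw', hvw'⟩ := (mem_Wsub hF u v w').1 hw'W
  have h1 := hform w' w0 huw' hvw' huw0 hvw0
  rw [hid w0 huw0 hvw0, hid w' huw' hvw'] at h1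
  have he1 : e = 1 := by
    have h2 : (e - 1) * stdB hF n w0 w' = 0 := by
      have : (RingEquiv.refl F) (stdB hF n w0 w') = stdB hF n w0 w' := rfl
      rw [this] at h1
      linear_combination -h1
    exact sub_eq_zero.1 ((mul_eq_zero.1 h2).resolve_right hw')
  rw [hkap a ha, he1, one_mul]
  rfl

theorem alpha_Tu (a : F) (ha : a + a ^ q = 0) :
    α (mkU n F q (ei hF u 0 a)) = mkU n F q (ei hF u 0 a) := by
  have h := (D.gam_spec (valid_zero hF D.huu ha)).2
  rw [D.phi_zero, gam_zero_id D hid a ha] at h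
  exact h

/-- `α` fixes the image of every element stabilising `⟨u⟩` and `⟨v⟩` -/
theorem alpha_stab_id {h : ↥(Cfsg.SU n F q)} {l m : F} (hl : l ≠ 0) (hm : m ≠ 0)
    (hhu : actv h u = l • u) (hhv : actv h v = m • v) : α (mkU n F q h) = mkU n F q h := by
  obtain ⟨h', he⟩ := QuotientGroup.mk_surjective (α (mkU n F q h))
  have he' : α (mkU n F q h) = mkU n F q h' := he.symm
  obtain ⟨l', hl', hu'⟩ := aut_stab hF (p := p) D.hn α D.hu D.huu D.hu D.huu D.hTu he' hl hhu
  obtain ⟨m', hm', hv'⟩ := aut_stab hF (p := p) D.hn α D.hv D.hvv D.hv D.hvv D.hTv he' hm hhv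
  -- relation on `W`
  have r1 : ∀ w : Fin n → F, stdB hF n u w = 0 → stdB hF n v w = 0 →
      l ^ q • actv h w = l' ^ q • actv h' w := by
    intro w huw hvw
    have key := D.phi_torus he' hl hm hl' hm' hhu hhv hu' hv' huw
    rw [hid w huw hvw, hid _ (perp_smul D (stab_perp hF hl hhu huw) _)
      (perp_smul_v D (stab_perp hF hm hhv hvw) _)] at key
    exact key
  -- relation on `T_u`
  have r2 : l * l ^ q = l' * l' ^ q := by
    obtain ⟨a, ha0, ha⟩ := exists_trace_zero hF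
    have ha' : a + a ^ q = 0 := by rw [add_comm]; exact ha
    have hva : Valid hF u 0 a := valid_zero hF D.huu ha'
    obtain ⟨V1, E1⟩ := conj_ei_stab hF hl hhu hva
    obtain ⟨V2, E2⟩ := conj_ei_stab hF hl' hu' hva
    have h3 : α (mkU n F q (h * ei hF u 0 a * h⁻¹)) = mkU n F q (h' * ei hF u 0 a * h'⁻¹) := by
      rw [map_mul, map_mul, map_inv, map_mul, map_mul, map_inv, he', alpha_Tu D hid a ha',
        map_mul, map_mul, map_inv]
    rw [E1, E2, actv_zero, actv_zero, smul_zero, smul_zero] at h3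
    rw [actv_zero, smul_zero] at V1 V2
    have h4 := (D.phi_gam_eq V1 V2 (map_zero _) h3).2
    have hV1 : l * l ^ q * a + (l * l ^ q * a) ^ q = 0 := by
      have := V1.2.2
      rw [map_zero, add_zero] at this
      exact this
    rw [gam_zero_id D hid _ hV1] at h4
    have h5 : (l * l ^ q - l' * l' ^ q) * a = 0 := by linear_combination h4
    exact sub_eq_zero.1 ((mul_eq_zero.1 h5).resolve_right ha0)
  -- the eigenvalues on `v`
  have r3 : l ^ q * m = 1 := by
    have := actv_iso hF h u v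
    rw [hhu, hhv, D.huv, map_smul, LinearMap.map_smulₛₗ, LinearMap.smul_apply, D.huv,
      smul_eq_mul, smul_eq_mul, mul_one, frobQ_apply, mul_comm] at this
    exact this
  have r3' : l' ^ q * m' = 1 := by
    have := actv_iso hF h' u v
    rw [hu', hv', D.huv, map_smul, LinearMap.map_smulₛₗ, LinearMap.smul_apply, D.huv,
      smul_eq_mul, smul_eq_mul, mul_one, frobQ_apply, mul_comm] at this
    exact this
  rw [he']
  apply scalar_mk_eq (l' / l) h h'
  intro z
  have hlq : l ^ q ≠ 0 := pow_ne_zero _ hl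
  have hl'q : l' ^ q ≠ 0 := pow_ne_zero _ hl'
  have hW := proj_mem_Wsub hF D.huu D.hvv D.huv z
  obtain ⟨hW1, hW2⟩ := (mem_Wsub hF u v _).1 hW
  have hz : z = stdB hF n v z • u + stdB hF n u z • v +
      (z - stdB hF n v z • u - stdB hF n u z • v) := by abel
  have r1' := r1 _ hW1 hW2
  set w : Fin n → F := z - stdB hF n v z • u - stdB hF n u z • v with hw
  have e1 : actv h' w = (l' / l) • actv h w := by
    have h6 : actv h' w = (l' ^ q)⁻¹ • (l' ^ q • actv h' w) := by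
      rw [smul_smul, inv_mul_cancel₀ hl'q, one_smul]
    rw [h6, ← r1', smul_smul]
    congr 1
    -- `(l'^q)⁻¹ * l^q = l' / l`
    field_simp
    linear_combination r2
  have e2 : m' = (l' / l) * m := by
    have hm1 : m = (l ^ q)⁻¹ := eq_inv_of_mul_eq_one_right r3
    have hm2 : m' = (l' ^ q)⁻¹ := eq_inv_of_mul_eq_one_right r3'
    rw [hm1, hm2]
    field_simp
    linear_combination r2
  rw [hz, actv_add, actv_add, actv_smul, actv_smul, hu', hv', e1, actv_add, actv_add, actv_smul,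
    actv_smul, hhu, hhv, e2]
  simp only [smul_add, smul_smul]
  congr 2
  · congr 1
    field_simp
  · congr 1
    ring

theorem del_spec {w : Fin n → F} {c : F} (h : Valid hF u w c) :
    gam hF α u v w c = c + del hF α u v w := by
  have hex : ∃ c : F, Valid hF u w c := ⟨c, h⟩
  have hd : del hF α u v w = gam hF α u v w hex.choose - hex.choose := by
    unfold del
    rw [dif_pos hex]
  have h0 := hex.choose_spec
  have hdiff := valid_diff hF h h0
  have key := (D.gam_mul h0 hdiff).2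
  have e1 : w + 0 = w := add_zero w
  have e2 : hex.choose + (c - hex.choose) - stdB hF n w 0 = c := by
    rw [map_zero]
    ring
  rw [e1, e2, D.phi_zero, map_zero, sub_zero,
    gam_zero_id D hid _ (by have := hdiff.2.2; rw [map_zero, add_zero] at this; exact this)]
    at key
  rw [hd, key]
  ring

theorem del_add {w₁ w₂ : Fin n → F} (hu1 : stdB hF n u w₁ = 0) (hv1 : stdB hF n v w₁ = 0)
    (hu2 : stdB hF n u w₂ = 0) (hv2 : stdB hF n v w₂ = 0) :
    del hF α u v (w₁ + w₂) = del hF α u v w₁ + del hF α u v w₂ := by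
  obtain ⟨c₁, hc₁⟩ := exists_valid hF D.huu hu1
  obtain ⟨c₂, hc₂⟩ := exists_valid hF D.huu hu2
  have key := (D.gam_mul hc₁ hc₂).2
  rw [del_spec D hid (valid_mul hF hc₁ hc₂), del_spec D hid hc₁, del_spec D hid hc₂,
    hid w₁ hu1 hv1, hid w₂ hu2 hv2] at key
  linear_combination key

theorem del_zero : del hF α u v 0 = 0 := by
  have := del_add D hid (w₁ := 0) (w₂ := 0) (map_zero _) (map_zero _) (map_zero _) (map_zero _)
  rw [add_zero] at this
  exact left_eq_add.1 this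

theorem del_torus {h : ↥(Cfsg.SU n F q)} {l m : F} (hl : l ≠ 0) (hm : m ≠ 0)
    (hhu : actv h u = l • u) (hhv : actv h v = m • v) {w : Fin n → F}
    (huw : stdB hF n u w = 0) (hvw : stdB hF n v w = 0) :
    del hF α u v (l ^ q • actv h w) = l * l ^ q * del hF α u v w := by
  obtain ⟨c, hc⟩ := exists_valid hF D.huu huw
  have g1 := D.gam_spec hc
  rw [hid w huw hvw, del_spec D hid hc] at g1
  obtain ⟨V1, E1⟩ := conj_ei_stab hF hl hhu hc
  obtain ⟨V2, E2⟩ := conj_ei_stab hF hl hhu g1.1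
  have h3 : α (mkU n F q (h * ei hF u w c * h⁻¹)) =
      mkU n F q (h * ei hF u w (c + del hF α u v w) * h⁻¹) := by
    rw [map_mul, map_mul, map_inv, map_mul, map_mul, map_inv,
      alpha_stab_id D hid hl hm hhu hhv, g1.2, map_mul, map_mul, map_inv]
  rw [E1, E2] at h3
  have h4 := (D.phi_gam_eq V1 V2 (perp_smul_v D (stab_perp hF hm hhv hvw) _) h3).2
  rw [del_spec D hid V1] at h4
  linear_combination h4

/-- a unit vector spanning `W` when `n = 3` -/
theorem exists_unit_W (hn3 : n = 3) :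
    ∃ e : Fin n → F, stdB hF n e e = 1 ∧ stdB hF n u e = 0 ∧ stdB hF n v e = 0 ∧
      ∀ w : Fin n → F, stdB hF n u w = 0 → stdB hF n v w = 0 → ∃ c : F, w = c • e := by
  have hrk : finrank F (Wsub hF u v) = 1 := by rw [finrank_Wsub hF D.huu D.huv, hn3]
  have hmult : ∀ w0 : Fin n → F, w0 ≠ 0 → stdB hF n u w0 = 0 → stdB hF n v w0 = 0 →
      ∀ w : Fin n → F, stdB hF n u w = 0 → stdB hF n v w = 0 → ∃ c : F, w = c • w0 := by
    intro w0 hw0 hu0 hv0 w huw hvw
    have hW0 : w0 ∈ Wsub hF u v := (mem_Wsub hF u v w0).2 ⟨hu0, hv0⟩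
    obtain ⟨c, hc⟩ := (finrank_eq_one_iff_of_nonzero' (⟨w0, hW0⟩ : Wsub hF u v)
      (fun h => hw0 (congrArg Subtype.val h))).1 hrk ⟨w, (mem_Wsub hF u v w).2 ⟨huw, hvw⟩⟩
    exact ⟨c, (congrArg Subtype.val hc).symm⟩
  obtain ⟨w0, hw0, huw0, hvw0⟩ := exists_ne_zero_W hF D.huu D.huv D.hn
  have hc0 : stdB hF n w0 w0 ≠ 0 := by
    intro h0
    apply hw0
    apply Wsub_nondeg hF D.huu D.hvv D.huv w0 ((mem_Wsub hF u v w0).2 ⟨huw0, hvw0⟩)
    intro w' hw'
    obtain ⟨hu', hv'⟩ := (mem_Wsub hF u v w').1 hw'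
    obtain ⟨c, rfl⟩ := hmult w0 hw0 huw0 hvw0 w' hu' hv'
    rw [map_smul, h0, smul_zero]
  have hcq : (stdB hF n w0 w0) ^ q = stdB hF n w0 w0 := (stdB_conj hF w0 w0).symm
  obtain ⟨d, hd0, hd⟩ := Cfsg.Agent.Helper5.PSUAut.exists_pow_add_one hF _ hc0 hcq
  have hee : stdB hF n (d⁻¹ • w0) (d⁻¹ • w0) = 1 := by
    rw [map_smul, LinearMap.map_smulₛₗ, LinearMap.smul_apply, smul_eq_mul, smul_eq_mul,
      frobQ_apply, ← hd, inv_pow, pow_succ]
    field_simp
  have he0 : d⁻¹ • w0 ≠ 0 := smul_ne_zero (inv_ne_zero hd0) hw0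
  exact ⟨d⁻¹ • w0, hee, perp_smul D huw0 _, perp_smul_v D hvw0 _,
    hmult _ he0 (perp_smul D huw0 _) (perp_smul_v D hvw0 _)⟩

/-- the defect vanishes -/
theorem del_eq_zero (h32 : ¬ (n = 3 ∧ q = 2)) {w : Fin n → F} (huw : stdB hF n u w = 0)
    (hvw : stdB hF n v w = 0) : del hF α u v w = 0 := by
  by_cases hn3 : n = 3
  · have hq2 : q ≠ 2 := fun hq => h32 ⟨hn3, hq⟩
    obtain ⟨l, hl0, hl1, hl3⟩ := exists_norm_one_cube hF hq2
    obtain ⟨e, hee, hue, hve, hmult⟩ := exists_unit_W D hid hn3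
    obtain ⟨h, h1, h2, h3⟩ := exists_torus3 hF D.huu D.hvv D.huv hee hue hve (l := l) hl0
    have hlq : l ^ q = l⁻¹ := eq_inv_of_mul_eq_one_left hl1
    set μ : F := l ^ q * (l ^ q * l⁻¹) with hμ
    have hμ1 : μ - 1 ≠ 0 := by
      intro h0
      apply hl3
      have h5 : μ = 1 := sub_eq_zero.1 h0
      rw [hμ, hlq] at h5
      field_simp at h5
      exact h5.symm
    have hscal : ∀ w' : Fin n → F, stdB hF n u w' = 0 → stdB hF n v w' = 0 →
        del hF α u v ((μ - 1) • w') = 0 := by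
      intro w' hu' hv'
      obtain ⟨c, rfl⟩ := hmult w' hu' hv'
      have key := del_torus D hid hl0 (inv_ne_zero (pow_ne_zero q hl0)) h1 h2 hu' hv'
      rw [actv_smul, h3, smul_smul, smul_smul] at key
      have e1 : l ^ q * c * (l ^ q * l⁻¹) = μ * c := by
        rw [hμ]
        ring
      have e2 : l * l ^ q = 1 := by rw [mul_comm]; exact hl1
      rw [e1, e2, one_mul] at key
      have e3 : (μ * c) • e = (μ - 1) • (c • e) + c • e := by
        rw [smul_smul, ← add_smul]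
        congr 1
        ring
      rw [e3, del_add D hid (perp_smul D hu' _) (perp_smul_v D hv' _) hu' hv'] at key
      exact add_eq_right.1 key
    have := hscal ((μ - 1)⁻¹ • w) (perp_smul D huw _) (perp_smul_v D hvw _)
    rwa [smul_smul, mul_inv_cancel₀ hμ1, one_smul] at this
  · have hn4 : 4 ≤ n := by
      have := D.hn
      omega
    have hdim := hdim_of hF D.huu D.huv hn4
    have hWn := Wsub_nondeg hF D.huu D.hvv D.huv
    have hiso : ∀ x : Fin n → F, stdB hF n x x = 0 → stdB hF n u x = 0 → stdB hF n v x = 0 →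
        del hF α u v x = 0 := by
      intro x hxx hux hvx
      by_cases hx : x = 0
      · rw [hx]
        exact del_zero D hid
      obtain ⟨y, hyW, hxy, hyy⟩ := exists_partner_in (frobQ hF) (frobQ_ne_id hF) (frobQ_frobQ hF)
        (stdB hF n) (stdB_isSymm hF n) (Wsub hF u v) hWn
        ((mem_Wsub hF u v x).2 ⟨hux, hvx⟩) hx hxx
      obtain ⟨huy, hvy⟩ := (mem_Wsub hF u v y).1 hyW
      obtain ⟨a, ha0, ha⟩ := exists_trace_zero hF
      have ha' : a + a ^ q = 0 := by rw [add_comm]; exact ha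
      have hva : Valid hF x 0 a := valid_zero hF hxx ha'
      have hxu : stdB hF n x u = 0 := stdB_swap_zero hF _ _ hux
      have hxv : stdB hF n x v = 0 := stdB_swap_zero hF _ _ hvx
      have htu : actv (ei hF x 0 a) u = (1 : F) • u := by
        rw [one_smul]
        exact (mem_Ts hF x _).1 (ei_mem_Ts hF hva) u hxu
      have htv : actv (ei hF x 0 a) v = (1 : F) • v := by
        rw [one_smul]
        exact (mem_Ts hF x _).1 (ei_mem_Ts hF hva) v hxv
      have huw' : stdB hF n u (a⁻¹ • y) = 0 := perp_smul D huy _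
      have hvw' : stdB hF n v (a⁻¹ • y) = 0 := perp_smul_v D hvy _
      have key := del_torus D hid one_ne_zero one_ne_zero htu htv huw' hvw'
      rw [one_pow, one_smul, one_mul, one_mul, actv_ei_zero hF hva] at key
      have e1 : a * stdB hF n x (a⁻¹ • y) = 1 := by
        rw [map_smul, hxy, smul_eq_mul, mul_one, mul_inv_cancel₀ ha0]
      rw [e1, one_smul, del_add D hid huw' hvw' hux hvx] at key
      exact add_eq_left.1 key
    obtain ⟨x₁, hx₁W, x₂, hx₂W, h11, h22, hw⟩ := exists_iso_sum (frobQ hF) (frobQ_ne_id hF)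
      (frobQ_frobQ hF) (stdB hF n) (stdB_isSymm hF n) (Wsub hF u v) hWn hdim
      ((mem_Wsub hF u v w).2 ⟨huw, hvw⟩)
    obtain ⟨hu1, hv1⟩ := (mem_Wsub hF u v x₁).1 hx₁W
    obtain ⟨hu2, hv2⟩ := (mem_Wsub hF u v x₂).1 hx₂W
    rw [hw, del_add D hid hu1 hv1 hu2 hv2, hiso x₁ h11 hu1 hv1, hiso x₂ h22 hu2 hv2, add_zero]

/-- `α` fixes `Q̄_u` pointwise -/
theorem alpha_Qu (h32 : ¬ (n = 3 ∧ q = 2)) {g : ↥(Cfsg.SU n F q)} (hg : g ∈ Qs hF u) :
    α (mkU n F q g) = mkU n F q g := by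
  obtain ⟨w, c, hc, hvw, rfl⟩ := exists_ei_of_mem_Qs hF D.huu D.hvv D.huv hg
  have g1 := (D.gam_spec hc).2
  rw [hid w hc.2.1 hvw, del_spec D hid hc, del_eq_zero D hid h32 hc.2.1 hvw, add_zero] at g1
  exact g1

theorem actv_triple {a b : F} (ha : Valid hF u 0 a) (hb : Valid hF v 0 b) :
    actv (ei hF u 0 a * ei hF v 0 b * ei hF u 0 a) u = (1 + a * b) • u + b • v := by
  have s1 : actv (ei hF u 0 a) u = u := by
    rw [actv_ei_zero hF ha, D.huu, mul_zero, zero_smul, add_zero]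
  have s2 : actv (ei hF v 0 b) u = u + b • v := by
    rw [actv_ei_zero hF hb, D.hvu, mul_one]
  have s3 : actv (ei hF u 0 a) (u + b • v) = u + b • v + (a * b) • u := by
    rw [actv_ei_zero hF ha, map_add, map_smul, D.huu, D.huv, zero_add, smul_eq_mul, mul_one]
  rw [actv_mul, actv_mul, s1, s2, s3, add_smul, one_smul]
  abel

/-- `α` fixes `T̄_v` pointwise -/
theorem alpha_Tv (b : F) (hb : b + b ^ q = 0) :
    α (mkU n F q (ei hF v 0 b)) = mkU n F q (ei hF v 0 b) := by
  by_cases hb0 : b = 0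
  · rw [hb0, ei_zero_zero hF D.hvv, map_one, map_one]
  have hvb : Valid hF v 0 b := valid_zero hF D.hvv hb
  obtain ⟨b', hvb', heb⟩ := D.symm.image_Tu hvb
  have hbq : b ^ q = -b := by linear_combination hb
  have haq : -b⁻¹ + (-b⁻¹) ^ q = 0 := by
    have e : (-b⁻¹) ^ q = -(b⁻¹) ^ q := map_neg (frobQ hF) b⁻¹
    rw [e, inv_pow, hbq, inv_neg]
    ring
  have hva : Valid hF u 0 (-b⁻¹) := valid_zero hF D.huu haq
  have hau := alpha_Tu D hid _ haq
  have hgg' : α (mkU n F q (ei hF u 0 (-b⁻¹) * ei hF v 0 b * ei hF u 0 (-b⁻¹))) =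
      mkU n F q (ei hF u 0 (-b⁻¹) * ei hF v 0 b' * ei hF u 0 (-b⁻¹)) := by
    rw [map_mul, map_mul, map_mul, map_mul, hau, heb, map_mul, map_mul]
  have hgu : actv (ei hF u 0 (-b⁻¹) * ei hF v 0 b * ei hF u 0 (-b⁻¹)) u = b • v := by
    rw [actv_triple D hid hva hvb, neg_mul, inv_mul_cancel₀ hb0, add_neg_cancel, zero_smul,
      zero_add]
  have hconj : ∀ x ∈ Tb hF u,
      mkU n F q (ei hF u 0 (-b⁻¹) * ei hF v 0 b * ei hF u 0 (-b⁻¹)) * x *
        (mkU n F q (ei hF u 0 (-b⁻¹) * ei hF v 0 b * ei hF u 0 (-b⁻¹)))⁻¹ ∈ Tb hF v := by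
    rintro x ⟨t, ht, rfl⟩
    have := conj_mem_Ts hF (ei hF u 0 (-b⁻¹) * ei hF v 0 b * ei hF u 0 (-b⁻¹)) ht
    rw [hgu, Ts_smul hF hb0] at this
    refine ⟨_, this, ?_⟩
    rw [map_mul, map_mul, map_inv]
  have hconj' : ∀ x ∈ Tb hF u,
      (QuotientGroup.mk (ei hF u 0 (-b⁻¹) * ei hF v 0 b' * ei hF u 0 (-b⁻¹)) : Cfsg.PSU n F q) *
        x * (QuotientGroup.mk (ei hF u 0 (-b⁻¹) * ei hF v 0 b' * ei hF u 0 (-b⁻¹)))⁻¹ ∈
          Tb hF v := by
    intro x hx
    have hy : α.symm x ∈ Tb hF u := (D.hTu _).2 (by rw [MulEquiv.apply_symm_apply]; exact hx)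
    have := (D.hTv _).1 (hconj _ hy)
    rw [map_mul, map_mul, map_inv, hgg', MulEquiv.apply_symm_apply] at this
    exact this
  obtain ⟨l, hl0, hl⟩ := smul_of_conj_Tb hF (p := p) D.hn D.hu D.huu D.hv D.hvv _ hconj'
  rw [actv_triple D hid hva hvb'] at hl
  have h5 := congrArg (stdB hF n v) hl
  rw [map_add, map_smul, map_smul, map_smul, D.hvu, D.hvv, smul_eq_mul, smul_eq_mul, smul_eq_mul,
    mul_zero, mul_zero, add_zero, mul_one] at h5
  have h6 : b' = b := by
    have h7 : b⁻¹ * b' = 1 := by linear_combination -h5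
    have h8 : b * (b⁻¹ * b') = b * 1 := by rw [h7]
    rw [← mul_assoc, mul_inv_cancel₀ hb0, one_mul, mul_one] at h8
    exact h8
  rw [heb, h6]

/-- transvection groups with centre not orthogonal to `u` are fixed pointwise -/
theorem Tb_le_fix_of_nonorth (h32 : ¬ (n = 3 ∧ q = 2)) {y : Fin n → F}
    (hyy : stdB hF n y y = 0) (huy : stdB hF n u y ≠ 0) : Tb hF y ≤ fixSub α := by
  have huy1 : stdB hF n u ((stdB hF n u y)⁻¹ • y) = 1 := by
    rw [map_smul, smul_eq_mul, inv_mul_cancel₀ huy]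
  have hy1y1 : stdB hF n ((stdB hF n u y)⁻¹ • y) ((stdB hF n u y)⁻¹ • y) = 0 := by
    rw [map_smul, LinearMap.map_smulₛₗ, LinearMap.smul_apply, hyy, smul_zero, smul_zero]
  have hTs : Ts hF ((stdB hF n u y)⁻¹ • y) = Ts hF y := Ts_smul hF (inv_ne_zero huy)
  obtain ⟨hval, hgv⟩ := exists_ei_map hF D.huu D.hvv hy1y1 D.huv huy1
  have hgQ := ei_mem_Qs hF hval
  rintro x ⟨t', ht', rfl⟩
  rw [← hTs] at ht'
  have hs := conj_mem_Ts hF (ei hF u ((stdB hF n u y)⁻¹ • y - v)
    (stdB hF n ((stdB hF n u y)⁻¹ • y - v) v))⁻¹ ht'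
  rw [inv_inv, actv_inv _ v _ hgv] at hs
  obtain ⟨b, hb, hsb⟩ := (mem_Ts_iff hF D.hv D.hvv _).1 hs
  rw [mem_fixSub]
  have e : ∀ g t : ↥(Cfsg.SU n F q), t = g * (g⁻¹ * t * g) * g⁻¹ := by
    intro g t
    group
  show α (mkU n F q t') = mkU n F q t'
  rw [e (ei hF u ((stdB hF n u y)⁻¹ • y - v) (stdB hF n ((stdB hF n u y)⁻¹ • y - v) v)) t', hsb,
    map_mul, map_mul, map_inv, map_mul, map_mul, map_inv, alpha_Qu D hid h32 hgQ,
    alpha_Tv D hid b hb]

/-- all transvection groups are fixed pointwise -/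
theorem Tb_le_fix (h32 : ¬ (n = 3 ∧ q = 2)) {y : Fin n → F} (hy : y ≠ 0)
    (hyy : stdB hF n y y = 0) : Tb hF y ≤ fixSub α := by
  by_cases huy : stdB hF n u y = 0
  swap
  · exact Tb_le_fix_of_nonorth D hid h32 hyy huy
  obtain ⟨z, hzz, huz, hyz⟩ := exists_common_iso hF u y D.hu hy D.huu hyy
  obtain ⟨a, ha0, ha⟩ := exists_trace_zero hF
  have ha' : a + a ^ q = 0 := by rw [add_comm]; exact ha
  have hva : Valid hF z 0 a := valid_zero hF hzz ha'
  have htz : mkU n F q (ei hF z 0 a) ∈ fixSub α :=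
    Tb_le_fix_of_nonorth D hid h32 hzz huz ⟨_, ei_mem_Ts hF hva, rfl⟩
  have hzy : stdB hF n z y ≠ 0 := by
    rw [stdB_conj]
    exact pow_ne_zero _ hyz
  have hty : actv (ei hF z 0 a) y = y + (a * stdB hF n z y) • z := actv_ei_zero hF hva y
  have huy' : stdB hF n u (actv (ei hF z 0 a) y) ≠ 0 := by
    rw [hty, map_add, map_smul, huy, zero_add, smul_eq_mul]
    exact mul_ne_zero (mul_ne_zero ha0 hzy) huz
  have hle := Tb_le_fix_of_nonorth D hid h32 (iso_actv hF (ei hF z 0 a) hyy) huy'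
  rintro x ⟨t', ht', rfl⟩
  have h1 : mkU n F q (ei hF z 0 a * t' * (ei hF z 0 a)⁻¹) ∈ fixSub α :=
    hle ⟨_, conj_mem_Ts hF _ ht', rfl⟩
  have e : mkU n F q t' = (mkU n F q (ei hF z 0 a))⁻¹ *
      mkU n F q (ei hF z 0 a * t' * (ei hF z 0 a)⁻¹) * mkU n F q (ei hF z 0 a) := by
    rw [← map_inv, ← map_mul, ← map_mul]
    congr 1
    group
  rw [e]
  exact (fixSub α).mul_mem ((fixSub α).mul_mem ((fixSub α).inv_mem htz) h1) htz

theorem fix_all (h32 : ¬ (n = 3 ∧ q = 2)) (g : ↥(Cfsg.SU n F q)) :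
    α (mkU n F q g) = mkU n F q g := by
  have hle : TG hF (⊤ : Submodule F (Fin n → F)) ≤ (fixSub α).comap (mkU n F q) := by
    unfold TG
    rw [Subgroup.closure_le]
    rintro t ⟨y, a, hyy, ha, -, rfl⟩
    show mkU n F q (tvSU hF y a hyy ha) ∈ fixSub α
    by_cases hy : y = 0
    · have : tvSU hF y a hyy ha = 1 := by
        apply SU_ext
        intro x
        change actv _ x = actv _ x
        rw [actv_tvSU, hy, smul_zero, add_zero, actv_one]
      rw [this, map_one]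
      exact (fixSub α).one_mem
    · have hyy' : stdB hF n y y = 0 := hyy
      apply Tb_le_fix D hid h32 hy hyy'
      refine ⟨_, ?_, rfl⟩
      rw [SetLike.mem_coe, mem_Ts]
      intro x hx
      rw [actv_tvSU, hx, mul_zero, zero_smul, add_zero]
  have hg : g ∈ TG hF (⊤ : Submodule F (Fin n → F)) := by
    rw [TG_top hF D.hn h32]
    trivial
  exact hle hg

/-- rigidity -/
theorem rigid (h32 : ¬ (n = 3 ∧ q = 2)) : α = 1 := by
  ext x
  obtain ⟨g, rfl⟩ := QuotientGroup.mk_surjective x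
  exact fix_all D hid h32 g

end Rigid

end Cfsg.Agent.Helper13.PSURigid
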