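import Mathlib
import Cfsg.Agent.Lib.Helper13.PSUExt
import Cfsg.Agent.Lib.Helper13.PSURigid

/-!
# Normalised automorphisms of `PSU_n(q)` are induced by semilinear similitudes
-/

set_option autoImplicit false
set_option linter.unusedSimpArgs false
set_option linter.unusedVariables false
set_option linter.unusedSectionVars false

namespace Cfsg.Agent.Helper13.PSUEnd

open Module Submodule Matrix
open Cfsg.Agent.Helper13 Cfsg.Agent.Helper13.PSUEich Cfsg.Agent.Helper13.PSUSyl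
  Cfsg.Agent.Helper13.PSUCan Cfsg.Agent.Helper13.PSUBar Cfsg.Agent.Helper13.PSURoot
  Cfsg.Agent.Helper13.PSUPhi Cfsg.Agent.Helper13.PSUSemi Cfsg.Agent.Helper13.PSUGeo
  Cfsg.Agent.Helper13.PSUForm Cfsg.Agent.Helper13.PSUTor Cfsg.Agent.Helper13.PSUTau
  Cfsg.Agent.Helper13.PSUExt Cfsg.Agent.Helper13.PSURigid
open Cfsg.Agent.Helper5.PSUAut Cfsg.Agent.Helper5.PSUGr

section Gen

/-- an automorphism of a finite group mapping a subgroup into itself maps it onto itself -/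
theorem mem_iff_of_map_le {G : Type*} [Group G] [Finite G] (T : Subgroup G) (β : MulAut G)
    (h : ∀ x ∈ T, β x ∈ T) (x : G) : x ∈ T ↔ β x ∈ T := by
  refine ⟨h x, fun hx => ?_⟩
  let f : ↥T → ↥T := fun y => ⟨β y.1, h y.1 y.2⟩
  have hinj : Function.Injective f := by
    intro a b hab
    apply Subtype.ext
    exact β.injective (congrArg Subtype.val hab)
  obtain ⟨y, hy⟩ := (Finite.injective_iff_surjective.1 hinj) ⟨β x, hx⟩
  have : β y.1 = β x := congrArg Subtype.val hy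
  rw [← β.injective this]
  exact y.2

end Gen

section Beta

variable {F : Type*} [Field F] [Fintype F] {q n : ℕ} (hF : Fintype.card F = q ^ 2)

/-- conjugating an Eichler element by a semilinear similitude -/
theorem semi_conj_ei (Φ : (Fin n → F) → (Fin n → F)) (τ : F ≃+* F) (e : F) (he : e ≠ 0)
    (heq : e ^ q = e) (hadd : ∀ x y, Φ (x + y) = Φ x + Φ y)
    (hsmul : ∀ (a : F) x, Φ (a • x) = τ a • Φ x)
    (hB : ∀ x y, stdB hF n (Φ x) (Φ y) = e * τ (stdB hF n x y))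
    (s' : ↥(Cfsg.SU n F q)) {x w : Fin n → F} {c : F} (h : Valid hF x w c)
    (hs' : ∀ z, actv s' (Φ z) = Φ (actv (ei hF x w c) z)) :
    Valid hF (Φ x) (e⁻¹ • Φ w) (e⁻¹ * τ c) ∧ s' = ei hF (Φ x) (e⁻¹ • Φ w) (e⁻¹ * τ c) := by
  have hzero : Φ 0 = 0 := by
    have := hadd 0 0
    rw [add_zero] at this
    exact left_eq_add.1 this
  have hsub : ∀ a b, Φ (a - b) = Φ a - Φ b := by
    intro a b
    have := hadd (a - b) b
    rw [sub_add_cancel] at this
    rw [this, add_sub_cancel_right]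
  have hinj : Function.Injective Φ := by
    intro a b hab
    have h1 : Φ (a - b) = 0 := by rw [hsub, hab, sub_self]
    have h2 : a - b = 0 := by
      apply (stdB_nondeg hF n).1
      intro y
      have h3 := hB (a - b) y
      rw [h1, map_zero, LinearMap.zero_apply] at h3
      have h4 : τ (stdB hF n (a - b) y) = 0 := by
        rcases mul_eq_zero.1 h3.symm with h5 | h5
        · exact absurd h5 he
        · exact h5
      exact (RingEquiv.map_eq_zero_iff τ).1 h4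
    exact sub_eq_zero.1 h2
  have hsurj : Function.Surjective Φ := Finite.injective_iff_surjective.1 hinj
  have heinv : (e⁻¹) ^ q = e⁻¹ := by rw [inv_pow, heq]
  have hV : Valid hF (Φ x) (e⁻¹ • Φ w) (e⁻¹ * τ c) := by
    obtain ⟨h1, h2, h3⟩ := h
    refine ⟨by rw [hB, h1, map_zero, mul_zero], by rw [map_smul, hB, h2, map_zero, mul_zero,
      smul_zero], ?_⟩
    rw [map_smul, LinearMap.map_smulₛₗ, LinearMap.smul_apply, hB, smul_eq_mul, smul_eq_mul,
      frobQ_apply, heinv, mul_pow, heinv, ← map_pow]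
    have h4 : τ (c + c ^ q + stdB hF n w w) = 0 := by rw [h3, map_zero]
    rw [map_add, map_add] at h4
    field_simp
    linear_combination h4
  refine ⟨hV, ?_⟩
  apply SU_ext
  intro Z
  change actv s' Z = actv (ei hF (Φ x) (e⁻¹ • Φ w) (e⁻¹ * τ c)) Z
  obtain ⟨z, rfl⟩ := hsurj Z
  rw [hs', actv_ei hF h, actv_ei hF hV, hadd, hsub, hadd, hsmul, hsmul, hsmul,
    LinearMap.map_smulₛₗ, LinearMap.smul_apply, hB, hB, smul_eq_mul, frobQ_apply,
    heinv, map_mul, smul_smul]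
  have c1 : e * τ (stdB hF n x z) * e⁻¹ = τ (stdB hF n x z) := by field_simp
  have c2 : e⁻¹ * (e * τ (stdB hF n w z)) = τ (stdB hF n w z) := by field_simp
  have c3 : e⁻¹ * τ c * (e * τ (stdB hF n x z)) = τ c * τ (stdB hF n x z) := by field_simp
  rw [c1, c2, c3]

end Beta

section Main

variable {F : Type*} [Field F] [Fintype F] {q n : ℕ}
variable {p : ℕ} [Fact p.Prime] [CharP F p]
variable {hF : Fintype.card F = q ^ 2} {α : MulAut (Cfsg.PSU n F q)} {u v : Fin n → F}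

theorem NData_of_comp (D : NData p hF α u v) {β : MulAut (Cfsg.PSU n F q)}
    (hβu : ∀ y, y ∈ Tb hF u ↔ β y ∈ Tb hF u) (hβv : ∀ y, y ∈ Tb hF v ↔ β y ∈ Tb hF v) :
    NData p hF (β⁻¹ * α) u v :=
  ⟨D.hn, D.huu, D.hvv, D.huv,
    fun x => by rw [D.hTu x, hβu ((β⁻¹ * α) x), MulAut.mul_apply, MulAut.apply_inv_self],
    fun x => by rw [D.hTv x, hβv ((β⁻¹ * α) x), MulAut.mul_apply, MulAut.apply_inv_self]⟩

/-- a normalised automorphism is induced by a semilinear similitude -/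
theorem struct_of_NData (D : NData p hF α u v) (h32 : ¬ (n = 3 ∧ q = 2)) :
    ∃ (g : ↥(CU n F q)) (σ : F ≃+* F), α = PhiU g * fieldAutPSU σ := by
  obtain ⟨τ, hsemi⟩ := exists_tau D h32
  obtain ⟨e, he0, heq, hform, hkap⟩ := form_rel D hsemi
  obtain ⟨g, hg⟩ := Cfsg.Agent.Helper40.PSUSemi.exists_CU_of_semilinear hF
    (PhiExt hF α u v τ e) τ e he0 (PhiExt_add D) (PhiExt_smul D hsemi)
    (PhiExt_form D heq hform)
  set β : MulAut (Cfsg.PSU n F q) := PhiU g * fieldAutPSU τ with hβdef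
  have hβ : ∀ s : ↥(Cfsg.SU n F q), β (mkU n F q s) =
      mkU n F q (conjSU g (sigmaSU τ s)) := by
    intro s
    show β (QuotientGroup.mk s) = _
    rw [hβdef, MulAut.mul_apply, fieldAutPSU_mk, PhiU_mk]
    rfl
  have hβu : ∀ (w : Fin n → F) (c : F), Valid hF u w c → stdB hF n v w = 0 →
      Valid hF u (phi hF α u v w) (e * τ c) ∧
        β (mkU n F q (ei hF u w c)) =
          mkU n F q (ei hF u (phi hF α u v w) (e * τ c)) := by
    intro w c hc hvw
    obtain ⟨V', E'⟩ := semi_conj_ei hF (PhiExt hF α u v τ e) τ e he0 heq (PhiExt_add D)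
      (PhiExt_smul D hsemi) (PhiExt_form D heq hform) (conjSU g (sigmaSU τ (ei hF u w c))) hc
      (hg _)
    rw [PhiExt_u D, PhiExt_W D hc.2.1 hvw] at V' E'
    have V2 : Valid hF u (e⁻¹ • phi hF α u v w) (e⁻¹ * τ c) :=
      ⟨D.huu, (stdB_smul_left_eq_zero hF he0).1 V'.2.1, V'.2.2⟩
    have E2 := ei_smul_left hF V2 e
    have V3 := valid_scale hF V2 e
    have a1 : e ^ q • e⁻¹ • phi hF α u v w = phi hF α u v w := by
      rw [heq, smul_smul, mul_inv_cancel₀ he0, one_smul]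
    have a2 : e * e ^ q * (e⁻¹ * τ c) = e * τ c := by
      rw [heq]
      field_simp
    rw [a1, a2] at E2 V3
    refine ⟨V3, ?_⟩
    rw [hβ, E', E2]
  have hβTu : ∀ y, y ∈ Tb hF u ↔ β y ∈ Tb hF u := by
    apply mem_iff_of_map_le
    rintro x ⟨t, ht, rfl⟩
    obtain ⟨a, ha, rfl⟩ := (mem_Ts_iff hF D.hu D.huu t).1 ht
    obtain ⟨V3, E3⟩ := hβu 0 a (valid_zero hF D.huu ha) (map_zero _)
    rw [D.phi_zero] at V3 E3
    exact ⟨_, ei_mem_Ts hF V3, E3.symm⟩
  have hβTv : ∀ y, y ∈ Tb hF v ↔ β y ∈ Tb hF v := by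
    apply mem_iff_of_map_le
    rintro x ⟨t, ht, rfl⟩
    obtain ⟨b, hb, rfl⟩ := (mem_Ts_iff hF D.hv D.hvv t).1 ht
    obtain ⟨V', E'⟩ := semi_conj_ei hF (PhiExt hF α u v τ e) τ e he0 heq (PhiExt_add D)
      (PhiExt_smul D hsemi) (PhiExt_form D heq hform) (conjSU g (sigmaSU τ (ei hF v 0 b)))
      (valid_zero hF D.hvv hb) (hg _)
    rw [PhiExt_v D, PhiExt_W D (map_zero _) (map_zero _), D.phi_zero, smul_zero] at V' E'
    refine ⟨_, ei_mem_Ts hF V', ?_⟩
    show mkU n F q _ = β (mkU n F q (ei hF v 0 b))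
    rw [hβ, E']
  have D' := NData_of_comp D hβTu hβTv
  have hid' : ∀ w : Fin n → F, stdB hF n u w = 0 → stdB hF n v w = 0 →
      phi hF (β⁻¹ * α) u v w = w := by
    intro w huw hvw
    obtain ⟨c, hc⟩ := exists_valid hF D.huu huw
    obtain ⟨g1, g2⟩ := D.gam_spec hc
    have hf := hform w w huw hvw huw hvw
    have hc'' : Valid hF u w (τ.symm (e⁻¹ * gam hF α u v w c)) := by
      refine ⟨D.huu, huw, ?_⟩
      apply τ.injective
      have h3 := g1.2.2
      rw [hf] at h3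
      rw [map_add, map_add, map_pow, RingEquiv.apply_symm_apply, map_zero, mul_pow, inv_pow, heq]
      field_simp
      linear_combination h3
    obtain ⟨V3, E3⟩ := hβu w _ hc'' hvw
    have a3 : e * τ (τ.symm (e⁻¹ * gam hF α u v w c)) = gam hF α u v w c := by
      rw [RingEquiv.apply_symm_apply]
      field_simp
    rw [a3, ← g2] at E3
    have h4 : (β⁻¹ * α) (mkU n F q (ei hF u w c)) =
        mkU n F q (ei hF u w (τ.symm (e⁻¹ * gam hF α u v w c))) := by
      rw [MulAut.mul_apply, ← E3, MulAut.inv_apply_self]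
    exact (D'.phi_gam_eq hc hc'' hvw h4).1
  have h5 := rigid D' hid' h32
  exact ⟨g, τ, (inv_mul_eq_one.1 h5).symm⟩

/-- every automorphism can be normalised by an inner automorphism -/
theorem exists_NData (hF : Fintype.card F = q ^ 2) (hn : 3 ≤ n) (α : MulAut (Cfsg.PSU n F q)) :
    ∃ (g : ↥(Cfsg.SU n F q)) (u v : Fin n → F), NData p hF ((PhiU (suCU g))⁻¹ * α) u v := by
  obtain ⟨u, hu, huu, -⟩ := exists_fixed_iso hF (p := p) (char_dvd_q hF p) (by omega : 2 ≤ n)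
    (⊥ : Subgroup ↥(Cfsg.SU n F q)) IsPGroup.of_bot
  obtain ⟨v, huv, hvv⟩ := su_exists_partner hF u hu huu
  have hv : v ≠ 0 := by
    rintro rfl
    rw [map_zero] at huv
    exact zero_ne_one huv
  obtain ⟨u1, hu1, hu1u1, hTu⟩ := aut_Tb hF (p := p) hn α hu huu
  obtain ⟨v1, hv1, hv1v1, hTv⟩ := aut_Tb hF (p := p) hn α hv hvv
  have hne : stdB hF n u1 v1 ≠ 0 := by
    intro h0
    have := (aut_orth hF (p := p) hn α hu huu hv hvv hu1 hu1u1 hv1 hv1v1 hTu hTv).2 h0
    rw [huv] at this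
    exact one_ne_zero this
  have hl : (stdB hF n u1 v1)⁻¹ ≠ 0 := inv_ne_zero hne
  have hu1v2 : stdB hF n u1 ((stdB hF n u1 v1)⁻¹ • v1) = 1 := by
    rw [map_smul, smul_eq_mul, inv_mul_cancel₀ hne]
  have hv2v2 : stdB hF n ((stdB hF n u1 v1)⁻¹ • v1) ((stdB hF n u1 v1)⁻¹ • v1) = 0 := by
    rw [map_smul, LinearMap.map_smulₛₗ, LinearMap.smul_apply, hv1v1, smul_zero, smul_zero]
  have hTb2 : Tb hF ((stdB hF n u1 v1)⁻¹ • v1) = Tb hF v1 := by
    unfold Tb
    rw [Ts_smul hF hl]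
  obtain ⟨g, hgu, hgv⟩ := exists_SU_hyp hF hn u v u1 _ huu hvv huv hu1u1 hv2v2 hu1v2
  refine ⟨g, u, v, hn, huu, hvv, huv, fun x => ?_, fun x => ?_⟩
  · rw [hTu x, PhiU_suCU_Tb hF g u, hgu, MulAut.mul_apply, MulAut.apply_inv_self]
  · rw [hTv x, PhiU_suCU_Tb hF g v, hgv, hTb2, MulAut.mul_apply, MulAut.apply_inv_self]

end Main

section Final

variable {F : Type*} [Field F] [Fintype F] {q n : ℕ}

/-- every automorphism of `PSU_n(q)` is induced by a semilinear similitude -/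
theorem structU (hF : Fintype.card F = q ^ 2) (hn : 3 ≤ n) (h32 : ¬ (n = 3 ∧ q = 2))
    (α : MulAut (Cfsg.PSU n F q)) :
    ∃ (g : ↥(CU n F q)) (σ : F ≃+* F), α = PhiU g * fieldAutPSU σ := by
  obtain ⟨p, hp⟩ := CharP.exists F
  have : Fact p.Prime := ⟨CharP.char_is_prime F p⟩
  obtain ⟨g0, u, v, D⟩ := exists_NData (p := p) hF hn α
  obtain ⟨g1, σ, h1⟩ := struct_of_NData D h32
  refine ⟨suCU g0 * g1, σ, ?_⟩
  rw [map_mul, mul_assoc, ← h1, mul_inv_cancel_left]

end Final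

end Cfsg.Agent.Helper13.PSUEnd
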