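import Mathlib
import Cfsg.Agent.Lib.Helper62.SUO0
import Cfsg.Agent.Lib.Helper13.SUOEnd

/-!
# SUO server (S2282), Block E (E1 E2a E2b E2c E3 E4 E5), verbatim, on top of `Helper13.SUOEnd`.
-/

set_option autoImplicit false
set_option linter.unusedSectionVars false
set_option linter.unusedVariables false
set_option quotPrecheck false

namespace Cfsg.Agent.Helper13.SUO

open Matrix Cfsg Cfsg.Agent.Helper13 Cfsg.Agent.Helper87.PsuA Cfsg.Agent.Helper62.SUO

/-! ## Block E: the endgame (any `n ≥ 3`) -/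
section E
variable {F : Type*} [Field F] [Fintype F] {q n : ℕ} (hF : Fintype.card F = q ^ 2)
  {Hs : Subgroup ↥(Cfsg.SU n F q)}

local notation "V" => Fin n → F
local notation "G" => ↥(Cfsg.SU n F q)
local notation "H" => Cfsg.hermForm n F q

include hF

/-- (E1) `Q_e` is transitive on the isotropic points not orthogonal to `e`:
`lam = H v e / H v' e`, `v'' = lam • v'`, `η = H v e`, `w = η⁻¹ • (v'' - v)`, `a = H v v'' / (η * η^q)` -/
theorem Q_trans {e v v' : V} (hee : H e e = 0) (hvv : H v v = 0) (hv'v' : H v' v' = 0)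
    (hve : H v e ≠ 0) (hv'e : H v' e ≠ 0) :
    ∃ (w : V) (a lam : F), H e w = 0 ∧ a + a ^ q + H w w = 0 ∧ lam ≠ 0 ∧
      actv (eich hF e w a) v = lam • v' := by
  set s : F := H v e with hs
  set c : F := s / H v' e with hc
  have hc0 : c ≠ 0 := div_ne_zero hve hv'e
  have hsq : s ^ q ≠ 0 := pow_ne_zero q hve
  set v2 : V := c • v' with hv2
  have h1 : H v2 e = s := by
    rw [hv2, hermForm_smul_left, hc, div_mul_cancel₀ _ hv'e]
  have h2 : H v2 v2 = 0 := by
    rw [hv2, hermForm_smul_left, hermForm_smul_right, hv'v', mul_zero, mul_zero]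
  have h3 : H e v2 = s ^ q := by rw [← hermForm_conj hF, h1]
  have h4 : H e v = s ^ q := by rw [← hermForm_conj hF]
  set w : V := s⁻¹ • (v2 - v) with hw
  have huw : H e w = 0 := by
    rw [hw, hermForm_smul_right, H_sub_right hF, h3, h4, sub_self, mul_zero]
  set X : F := H v v2 with hX
  have hY : H v2 v = X ^ q := by rw [hX, hermForm_conj hF]
  have hvw : H v w = (s ^ q)⁻¹ * X := by
    rw [hw, hermForm_smul_right, H_sub_right hF, hvv, sub_zero, inv_pow]
  have hwv : H w v = s⁻¹ * X ^ q := by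
    rw [hw, hermForm_smul_left, H_sub_left hF, hvv, sub_zero, hY]
  have hww : H w w = s⁻¹ * ((s ^ q)⁻¹ * (-(X ^ q) - X)) := by
    rw [hw, hermForm_smul_left, hermForm_smul_right, H_sub_left hF, H_sub_right hF,
      H_sub_right hF, h2, hvv, hY, inv_pow]
    ring
  set a : F := H v w / s with ha
  have haq : a ^ q = H w v / s ^ q := by rw [ha, div_pow, hermForm_conj hF]
  have hcond : a + a ^ q + H w w = 0 := by
    rw [haq, ha, hvw, hwv, hww]
    field_simp
    ring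
  refine ⟨w, a, c, huw, hcond, hc0, ?_⟩
  rw [eich_act hF hee huw hcond]
  have e1 : H v e • w = v2 - v := by
    rw [hw, smul_smul, mul_inv_cancel₀ hve, one_smul]
  have e2 : a * H v e = H v w := by rw [ha, div_mul_cancel₀ _ hve]
  rw [e1, e2]
  abel

/-- (E2a) `eich_conj` -/
theorem WW_act {v : V} (hv : v ∈ WW hF Hs) {h : G} (hh : h ∈ Hs) : actv h v ∈ WW hF Hs :=
  Cfsg.Agent.Helper13.SUOEnd.FC_conj hF hv hh

/-- (E2b) `eich_smul` -/
theorem WW_smul {v : V} {lam : F} (hlam : lam ≠ 0) (hv : lam • v ∈ WW hF Hs) :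
    v ∈ WW hF Hs := by
  have h2 := Cfsg.Agent.Helper13.SUOEnd.FC_smul hF hv (inv_ne_zero hlam)
  rw [smul_smul, inv_mul_cancel₀ hlam, one_smul] at h2
  exact h2

/-- (E2c) E1 E2a E2b -/
theorem WW_step {e v v' : V} (he : e ∈ WW hF Hs) (hv : v ∈ WW hF Hs) (hv'v' : H v' v' = 0)
    (hve : H v e ≠ 0) (hv'e : H v' e ≠ 0) : v' ∈ WW hF Hs :=
  Cfsg.Agent.Helper13.SUOEnd.FC_step hF he hv hve v' hv'v' hv'e

/-- (E3) `e, v` isotropic nonzero, `v ⊥ e`: some `x` has `H x e ≠ 0`, `H x v ≠ 0` (one of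
`x1`, `x2`, `x1 + x2`), then `v' = x + t • e` with `t * H e x + (t * H e x)^q = - H x x`
(`exists_trace`) -/
theorem exists_opp {e v : V} (he : e ≠ 0) (hv : v ≠ 0) (hee : H e e = 0) (hev : H e v = 0) :
    ∃ v' : V, H v' v' = 0 ∧ H v' e ≠ 0 ∧ H v' v ≠ 0 := by
  obtain ⟨x1, hx1⟩ := Cfsg.Agent.Helper13.SUOEnd.exists_not_perp hF e he
  obtain ⟨x2, hx2⟩ := Cfsg.Agent.Helper13.SUOEnd.exists_not_perp hF v hv
  obtain ⟨x, hxe, hxv⟩ : ∃ x : V, H x e ≠ 0 ∧ H x v ≠ 0 := by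
    by_cases h1 : H x1 v = 0
    · by_cases h2 : H x2 e = 0
      · refine ⟨x1 + x2, ?_, ?_⟩
        · rw [hermForm_add_left, h2, add_zero]; exact hx1
        · rw [hermForm_add_left, h1, zero_add]; exact hx2
      · exact ⟨x2, h2, hx2⟩
    · exact ⟨x1, hx1, h1⟩
  have hex : H e x ≠ 0 := by
    rw [← hermForm_conj hF]
    exact pow_ne_zero q hxe
  have hfix : (-(H x x)) ^ q = -(H x x) := by
    rw [frob_neg hF, hermForm_conj hF]
  obtain ⟨a0, ha0⟩ := Cfsg.Agent.Helper87.PsuB0.exists_trace hF (-(H x x)) hfix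
  set t : F := a0 / H e x with ht
  have hte : t * H e x = a0 := by rw [ht, div_mul_cancel₀ _ hex]
  refine ⟨x + t • e, ?_, ?_, ?_⟩
  · rw [hermForm_add_left, hermForm_add_right hF, hermForm_add_right hF, hermForm_smul_left,
      hermForm_smul_left, hermForm_smul_right, hermForm_smul_right, hee]
    have h5 : t ^ q * H x e = a0 ^ q := by
      rw [← hte, mul_pow, hermForm_conj hF]
    linear_combination ha0 + hte + h5
  · rw [hermForm_add_left, hermForm_smul_left, hee, mul_zero, add_zero]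
    exact hxe
  · rw [hermForm_add_left, hermForm_smul_left, hev, mul_zero, add_zero]
    exact hxv

/-- (E4) E2c twice, E3 -/
theorem WW_all {e0 : V} (he : e0 ∈ WW hF Hs) {t : G} (ht : t ∈ Hs)
    (hte : H (actv t e0) e0 ≠ 0) : ∀ v : V, v ≠ 0 → H v v = 0 → v ∈ WW hF Hs :=
  fun v hv0 hvv =>
    Cfsg.Agent.Helper13.SUOEnd.FC_all hF he (Cfsg.Agent.Helper13.SUOEnd.FC_conj hF he ht) hte v
      hv0 hvv

/-- (E5) `Helper13.SUGen.TG_top`, `PsuB0.tvSU_eq_eich` (for `u = 0` the transvection is `1`) -/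
theorem top_of_Q (hn : 3 ≤ n) (h32 : ¬(n = 3 ∧ q = 2)) {e0 : V} (h00 : H e0 e0 = 0)
    (hQ : ∀ (w : V) (a : F), H e0 w = 0 → a + a ^ q + H w w = 0 → eich hF e0 w a ∈ Hs)
    {t : G} (ht : t ∈ Hs) (hte : H (actv t e0) e0 ≠ 0) : Hs = ⊤ :=
  Cfsg.Agent.Helper13.SUOEnd.top_of_Qe hF hn h32 Hs e0 h00 hQ t ht hte

end E

end Cfsg.Agent.Helper13.SUO
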