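import Mathlib

/-!
# The `hom` hypothesis of `SUOCore.core_top` (helper13, for S2282)

A nonzero additive subgroup of a field closed under multiplication by `om` is everything as soon as
`om` generates the field as a ring (e.g. `om` generates the multiplicative group).
-/

set_option autoImplicit false

namespace Cfsg.Agent.Helper13.SUOHom

variable {F : Type*} [Field F]

/-- ring generation suffices -/
theorem hom_of_closure (om : F) (hgen : Subring.closure ({om} : Set F) = ⊤) (S : AddSubgroup F)
    (hne : ∃ a ∈ S, a ≠ 0) (hS : ∀ a ∈ S, om * a ∈ S) : S = ⊤ := by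
  let T : Subring F :=
    { carrier := {t | ∀ s ∈ S, t * s ∈ S}
      mul_mem' := by
        intro a b ha hb s hs
        rw [mul_assoc]
        exact ha _ (hb s hs)
      one_mem' := by
        intro s hs
        rwa [one_mul]
      add_mem' := by
        intro a b ha hb s hs
        rw [add_mul]
        exact S.add_mem (ha s hs) (hb s hs)
      zero_mem' := by
        intro s _
        rw [zero_mul]
        exact S.zero_mem
      neg_mem' := by
        intro a ha s hs
        rw [neg_mul]
        exact S.neg_mem (ha s hs) }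
  have hT : T = ⊤ := by
    rw [eq_top_iff, ← hgen, Subring.closure_le]
    intro t ht
    rw [Set.mem_singleton_iff] at ht
    subst ht
    exact hS
  obtain ⟨a, haS, ha0⟩ := hne
  rw [eq_top_iff]
  intro y _
  have h1 : y * a⁻¹ ∈ T := by rw [hT]; trivial
  have h2 := h1 a haS
  rwa [mul_assoc, inv_mul_cancel₀ ha0, mul_one] at h2

/-- a generator of the multiplicative group generates the field as a ring -/
theorem closure_of_pow (om : F) (hgen : ∀ x : F, x ≠ 0 → ∃ k : ℕ, x = om ^ k) :
    Subring.closure ({om} : Set F) = ⊤ := by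
  rw [eq_top_iff]
  intro x _
  by_cases hx : x = 0
  · rw [hx]; exact Subring.zero_mem _
  · obtain ⟨k, rfl⟩ := hgen x hx
    exact Subring.pow_mem _ (Subring.subset_closure (Set.mem_singleton om)) k

/-- the `hom` hypothesis from a generator of `Fˣ` -/
theorem hom_of_pow (om : F) (hgen : ∀ x : F, x ≠ 0 → ∃ k : ℕ, x = om ^ k) (S : AddSubgroup F)
    (hne : ∃ a ∈ S, a ≠ 0) (hS : ∀ a ∈ S, om * a ∈ S) : S = ⊤ :=
  hom_of_closure om (closure_of_pow om hgen) S hne hS

/-- a finite field has a generator of its multiplicative group -/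
theorem exists_gen [Finite F] : ∃ om : F, om ≠ 0 ∧ ∀ x : F, x ≠ 0 → ∃ k : ℕ, x = om ^ k := by
  obtain ⟨g, hg⟩ := IsCyclic.exists_generator (α := Fˣ)
  refine ⟨(g : F), g.ne_zero, fun x hx => ?_⟩
  have hmem : Units.mk0 x hx ∈ Subgroup.zpowers g := hg _
  obtain ⟨k, hk⟩ := (mem_powers_iff_mem_zpowers.2 hmem)
  refine ⟨k, ?_⟩
  have := congrArg (fun z : Fˣ => (z : F)) hk
  simpa using this.symm

end Cfsg.Agent.Helper13.SUOHom
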