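import Mathlib
import Cfsg.Agent.Lib.Helper13.Symp
import Cfsg.Agent.Lib.Helper13.SympGeom
import Cfsg.Agent.S0765
import Cfsg.Agent.Lib.Helper84.SpRoot
import Cfsg.Agent.Lib.Helper5.SpAut1

/-!
# Endgame for generation of `Sp_{2m}(F)`

If a subgroup `H` of the symplectic group contains the full unipotent radical
`Q_e = {eich e w c : w ⊥ e}` of the stabiliser of one nonzero vector `e`, and some element of `H`
moves `e` off `e^⊥`, then `H = ⊤`.
-/

set_option autoImplicit false

namespace Cfsg.Agent.Helper13.SpEnd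

open Matrix Cfsg Cfsg.Agent.Helper13 Cfsg.Agent.Helper84.SpRoot Cfsg.Agent.Helper5.SpAut

variable {F : Type*} [Field F] {m : ℕ}

local notation "Sp" => Matrix.symplecticGroup (Fin m) F
local notation "V2" => Fin m ⊕ Fin m → F

/-- `Q_v ≤ H` in terms of Eichler elements -/
def Full (H : Subgroup Sp) (v : V2) : Prop :=
  ∀ (w : V2) (c : F), Cfsg.sympForm m F w v = 0 → eich v w c ∈ H

theorem full_sympT {H : Subgroup Sp} {v : V2} (hv : Full H v) (c : F) : sympT v c ∈ H := by
  rw [← eich_zero_eq_sympT]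
  exact hv 0 c (sympForm_zero_left v)

theorem full_act {H : Subgroup Sp} {v : V2} (hv : Full H v) {g : Sp} (hg : g ∈ H) :
    Full H (g.val *ᵥ v) := by
  intro w c hw
  have hw' : Cfsg.sympForm m F ((g⁻¹).val *ᵥ w) v = 0 := by
    rw [← sympForm_act_right, hw]
  have h1 := conj_eich g hw' c
  rw [mulVec_inv_mulVec g w] at h1
  rw [← h1]
  exact H.mul_mem (H.mul_mem hg (hv _ c hw')) (H.inv_mem hg)

/-- `eich (a v) w c = eich v (a w) (a² c)` -/
theorem eich_smul {v w : V2} (a c : F) (h : Cfsg.sympForm m F w v = 0) :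
    eich (a • v) w c = eich v (a • w) (c * a ^ 2) := by
  have h1 : Cfsg.sympForm m F w (a • v) = 0 := by rw [sympForm_smul_right, h, mul_zero]
  have h2 : Cfsg.sympForm m F (a • w) v = 0 := by rw [sympForm_smul_left, h, mul_zero]
  apply sp_ext
  intro x
  rw [eich_act h1, eich_act h2]
  simp only [sympForm_smul_right]
  module

theorem full_smul {H : Subgroup Sp} {v : V2} (hv : Full H v) {a : F} (ha : a ≠ 0) :
    Full H (a • v) := by
  intro w c hw
  have hw' : Cfsg.sympForm m F w v = 0 := by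
    rw [sympForm_smul_right] at hw
    exact (mul_eq_zero.mp hw).resolve_left ha
  rw [eich_smul a c hw']
  exact hv _ _ (by rw [sympForm_smul_left, hw', mul_zero])

/-- `Q_e` is transitive on each affine hyperplane `{v : f(v,e) = k}`, `k ≠ 0` -/
theorem exists_eich_map {e v v' : V2} (hk : Cfsg.sympForm m F v e ≠ 0)
    (hvv : Cfsg.sympForm m F v' e = Cfsg.sympForm m F v e) :
    ∃ (w : V2) (c : F), Cfsg.sympForm m F w e = 0 ∧ (eich e w c).val *ᵥ v = v' := by
  set k := Cfsg.sympForm m F v e with hkdef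
  refine ⟨k⁻¹ • (v' - v), -(Cfsg.sympForm m F v (k⁻¹ • (v' - v))) * k⁻¹, ?_, ?_⟩
  · rw [sympForm_smul_left, sympForm_sub_left, hvv, sub_self, mul_zero]
  · have h0 : Cfsg.sympForm m F (k⁻¹ • (v' - v)) e = 0 := by
      rw [sympForm_smul_left, sympForm_sub_left, hvv, sub_self, mul_zero]
    rw [eich_act h0, ← hkdef]
    have e1 : (-(Cfsg.sympForm m F v (k⁻¹ • (v' - v))) * k⁻¹ * k) =
        -(Cfsg.sympForm m F v (k⁻¹ • (v' - v))) := by
      field_simp
    rw [e1, smul_smul, mul_inv_cancel₀ hk]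
    module

/-- the key propagation step -/
theorem full_of_nonorth {H : Subgroup Sp} {e : V2} (he : Full H e) {h : Sp} (hh : h ∈ H)
    (hmove : Cfsg.sympForm m F (h.val *ᵥ e) e ≠ 0) {v : V2}
    (hv : Cfsg.sympForm m F v e ≠ 0) : Full H v := by
  set v0 := h.val *ᵥ e with hv0
  set a := Cfsg.sympForm m F v e * (Cfsg.sympForm m F v0 e)⁻¹ with ha
  have ha0 : a ≠ 0 := mul_ne_zero hv (inv_ne_zero hmove)
  have h1 : Full H (a • v0) := full_smul (full_act he hh) ha0
  have h2 : Cfsg.sympForm m F (a • v0) e ≠ 0 := by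
    rw [sympForm_smul_left]
    exact mul_ne_zero ha0 hmove
  have h3 : Cfsg.sympForm m F v e = Cfsg.sympForm m F (a • v0) e := by
    rw [sympForm_smul_left, ha]
    field_simp
  obtain ⟨w, c, hw, hmap⟩ := exists_eich_map h2 h3
  rw [← hmap]
  exact full_act h1 (he w c hw)

theorem exists_both_nonorth {e w : V2} (he : e ≠ 0) (hw : w ≠ 0) :
    ∃ v : V2, Cfsg.sympForm m F v e ≠ 0 ∧ Cfsg.sympForm m F v w ≠ 0 := by
  obtain ⟨a, ha⟩ := exists_partner he
  obtain ⟨b, hb⟩ := exists_partner hw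
  have ha' : Cfsg.sympForm m F a e ≠ 0 := by
    rw [sympForm_swap, ha]; simp
  have hb' : Cfsg.sympForm m F b w ≠ 0 := by
    rw [sympForm_swap, hb]; simp
  by_cases h1 : Cfsg.sympForm m F a w = 0
  · by_cases h2 : Cfsg.sympForm m F b e = 0
    · refine ⟨a + b, ?_, ?_⟩
      · rw [sympForm_add_left, h2, add_zero]; exact ha'
      · rw [sympForm_add_left, h1, zero_add]; exact hb'
    · exact ⟨b, h2, hb'⟩
  · exact ⟨a, ha', h1⟩

/-- **Endgame.** If `H` contains all Eichler elements `eich e w c` (`w ⊥ e`) for one nonzero `e`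
and an element moving `e` off `e^⊥`, then `H = ⊤`. -/
theorem eq_top_of_full {H : Subgroup Sp} {e : V2} (he : Full H e) {h : Sp} (hh : h ∈ H)
    (hmove : Cfsg.sympForm m F (h.val *ᵥ e) e ≠ 0) : H = ⊤ := by
  have he0 : e ≠ 0 := by
    intro h0
    rw [h0, sympForm_zero_right] at hmove
    exact hmove rfl
  have hall : ∀ w : V2, w ≠ 0 → Full H w := by
    intro w hw
    obtain ⟨v, hve, hvw⟩ := exists_both_nonorth he0 hw
    have hv : Full H v := full_of_nonorth he hh hmove hve
    have hT : sympT e 1 ∈ H := full_sympT he 1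
    have hmv : Cfsg.sympForm m F ((sympT e (1:F)).val *ᵥ v) v ≠ 0 := by
      rw [sympT_act, sympForm_add_left, sympForm_self, sympForm_smul_left, one_mul, zero_add]
      refine mul_ne_zero hve ?_
      rw [sympForm_swap]
      exact neg_ne_zero.mpr hve
    have hwv : Cfsg.sympForm m F w v ≠ 0 := by
      rw [sympForm_swap]
      exact neg_ne_zero.mpr hvw
    exact full_of_nonorth hv hT hmv hwv
  rw [eq_top_iff, ← Cfsg.Agent.S0765.result m]
  rw [Subgroup.closure_le]
  rintro A ⟨w, c, hA⟩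
  have hA' : A = sympT w c := Subtype.ext hA
  rw [SetLike.mem_coe, hA']
  by_cases hw : w = 0
  · rw [hw, sympT_zero_vec]; exact H.one_mem
  · exact full_sympT (hall w hw) c

end Cfsg.Agent.Helper13.SpEnd

namespace Cfsg.Agent.Helper13.SpEnd

open Matrix Cfsg Cfsg.Agent.Helper13 Cfsg.Agent.Helper84.SpRoot Cfsg.Agent.Helper5.SpAut

/-- the same with the intrinsic radical `Helper5.SpAut.Q e` -/
theorem eq_top_of_Q_le {F : Type*} [Field F] {m : ℕ}
    {H : Subgroup (Matrix.symplecticGroup (Fin m) F)} {e : Fin m ⊕ Fin m → F}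
    (hQ : Q e ≤ H) {h : Matrix.symplecticGroup (Fin m) F} (hh : h ∈ H)
    (hmove : Cfsg.sympForm m F (h.val *ᵥ e) e ≠ 0) : H = ⊤ :=
  eq_top_of_full (fun _ c hw => hQ (eich_mem_Q hw c)) hh hmove

end Cfsg.Agent.Helper13.SpEnd
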