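import Mathlib

/-!
# A finite field is generated, as a ring, by the square of a generator of its unit group

Adapted from helper90's `SL3FG.field_gen` (cube version): an additive subgroup `A ≠ 0` of a finite
field `F` which is stable under multiplication by `λ²` (or `-λ²`), `λ` a generator of `Fˣ`, is all
of `F`.  No exceptional field for squares.
-/

set_option autoImplicit false

namespace Cfsg.Agent.Helper13.SpFG

variable {F : Type*} [Field F]

/-- the stabiliser subfield of an additive subgroup of a finite field -/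
def stabField [Fintype F] (M : AddSubgroup F) : Subfield F where
  carrier := {a | ∀ μ ∈ M, a * μ ∈ M}
  mul_mem' := by
    intro a b ha hb μ hμ
    rw [mul_assoc]
    exact ha _ (hb μ hμ)
  one_mem' := by
    intro μ hμ
    rwa [one_mul]
  add_mem' := by
    intro a b ha hb μ hμ
    rw [add_mul]
    exact M.add_mem (ha μ hμ) (hb μ hμ)
  zero_mem' := by
    intro μ _
    rw [zero_mul]
    exact M.zero_mem
  neg_mem' := by
    intro a ha μ hμ
    rw [neg_mul]
    exact M.neg_mem (ha μ hμ)
  inv_mem' := by
    intro a ha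
    by_cases h0 : a = 0
    · rw [h0, _root_.inv_zero]
      intro μ _
      rw [zero_mul]
      exact M.zero_mem
    · have hpow : ∀ n : ℕ, ∀ μ ∈ M, a ^ n * μ ∈ M := by
        intro n
        induction n with
        | zero => intro μ hμ; rwa [pow_zero, one_mul]
        | succ n ih =>
          intro μ hμ
          rw [pow_succ, mul_assoc]
          exact ih _ (ha μ hμ)
      have h1 : a ^ (Fintype.card F - 1) = 1 := FiniteField.pow_card_sub_one_eq_one a h0
      have hq : 2 ≤ Fintype.card F := Fintype.one_lt_card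
      have h2 : a * a ^ (Fintype.card F - 2) = 1 := by
        rw [← pow_succ']
        have : Fintype.card F - 2 + 1 = Fintype.card F - 1 := by omega
        rw [this, h1]
      have h3 : a⁻¹ = a ^ (Fintype.card F - 2) := (eq_inv_of_mul_eq_one_right h2).symm
      rw [h3]
      exact hpow _

theorem mem_stabField [Fintype F] (M : AddSubgroup F) (a : F) :
    a ∈ stabField M ↔ ∀ μ ∈ M, a * μ ∈ M := Iff.rfl

/-- an element of a finite subfield `K` satisfies `x ^ (|K| - 1) = 1` unless it is `0` -/
theorem pow_card_sub_one_of_mem [Fintype F] (K : Subfield F) (x : F) (hx : x ∈ K) (h0 : x ≠ 0) :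
    x ^ (Nat.card K - 1) = 1 := by
  classical
  have := Fintype.ofFinite K
  have hne : (⟨x, hx⟩ : K) ≠ 0 := by
    intro h
    exact h0 (congrArg Subtype.val h)
  have h1 := FiniteField.pow_card_sub_one_eq_one (⟨x, hx⟩ : K) hne
  have h2 : x ^ (Fintype.card K - 1) = 1 := by
    have := congrArg Subtype.val h1
    simpa using this
  rw [Nat.card_eq_fintype_card]
  exact h2

theorem field_gen_sq' [Fintype F] (lam : F)
    (hgen : ∀ a : F, a ≠ 0 → ∃ k : ℕ, a = lam ^ k) (μ : F) (hμ : μ = lam ^ 2)
    (A : AddSubgroup F) (ρ : F) (hρ : ρ ∈ A) (hρ0 : ρ ≠ 0) (hA : ∀ a ∈ A, μ * a ∈ A) : A = ⊤ := by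
  classical
  set K := stabField A with hK
  have hμK : μ ∈ K := hA
  have hcard : Nat.card F = Nat.card K ^ Module.finrank K F :=
    Module.natCard_eq_pow_finrank (K := K) (V := F)
  rw [Nat.card_eq_fintype_card] at hcard
  have hr2 : 2 ≤ Nat.card K := Finite.one_lt_card
  have hq : 2 ≤ Fintype.card F := Fintype.one_lt_card
  have hall : ∀ a : F, a ≠ 0 → a ^ (2 * (Nat.card K - 1)) = 1 := by
    intro a ha
    obtain ⟨k, hk⟩ := hgen a ha
    by_cases hlam : lam = 0
    · rcases Nat.eq_zero_or_pos k with h | h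
      · rw [hk, h, pow_zero, one_pow]
      · exfalso
        apply ha
        rw [hk, hlam, zero_pow (by omega)]
    · have hlam2 : lam ^ (2 * (Nat.card K - 1)) = 1 := by
        have h1 := pow_card_sub_one_of_mem K μ hμK (by rw [hμ]; exact pow_ne_zero 2 hlam)
        rw [hμ, ← pow_mul] at h1
        exact h1
      rw [hk, ← pow_mul, mul_comm, pow_mul, hlam2, one_pow]
  obtain ⟨g, hg⟩ := IsCyclic.exists_generator (α := Fˣ)
  have hog : orderOf g = Fintype.card F - 1 := by
    rw [orderOf_eq_card_of_forall_mem_zpowers hg, Nat.card_eq_fintype_card, Fintype.card_units]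
  have hdvd : Fintype.card F - 1 ∣ 2 * (Nat.card K - 1) := by
    rw [← hog]
    apply orderOf_dvd_of_pow_eq_one
    apply Units.ext
    rw [Units.val_pow_eq_pow_val, hall _ g.ne_zero, Units.val_one]
  have hKtop : ∀ x : F, x ∈ K := by
    have hcases : Module.finrank K F = 1 := by
      rcases Nat.lt_or_ge (Module.finrank K F) 2 with h | h
      · interval_cases hfr : Module.finrank K F
        · rw [pow_zero] at hcard
          omega
        · rfl
      · exfalso
        have h1 : Nat.card K ^ 2 ≤ Fintype.card F := by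
          rw [hcard]
          exact Nat.pow_le_pow_right (by omega) h
        have h3 : Fintype.card F - 1 ≤ 2 * (Nat.card K - 1) := Nat.le_of_dvd (by omega) hdvd
        have : Nat.card K * 2 ≤ Nat.card K ^ 2 := by
          rw [pow_two]
          exact Nat.mul_le_mul_left _ hr2
        omega
    rw [hcases, pow_one] at hcard
    have hbij : Function.Bijective (Subtype.val : K → F) :=
      Function.Injective.bijective_of_nat_card_le Subtype.val_injective
        (by rw [Nat.card_eq_fintype_card, hcard])
    intro x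
    obtain ⟨k, hk⟩ := hbij.2 x
    rw [← hk]
    exact k.2
  rw [AddSubgroup.eq_top_iff']
  intro x
  have h1 : x * ρ⁻¹ ∈ K := hKtop _
  have h2 := h1 ρ hρ
  rwa [mul_assoc, inv_mul_cancel₀ hρ0, mul_one] at h2

/-- **square generation**: an additive subgroup `A ≠ 0` of a finite field stable under
multiplication by `±λ²`, `λ` a generator of the unit group, is everything. -/
theorem field_gen_sq [Fintype F] (lam : F)
    (hgen : ∀ a : F, a ≠ 0 → ∃ k : ℕ, a = lam ^ k) (μ : F) (hμ : μ = lam ^ 2 ∨ μ = -lam ^ 2)
    (A : AddSubgroup F) (ρ : F) (hρ : ρ ∈ A) (hρ0 : ρ ≠ 0) (hA : ∀ a ∈ A, μ * a ∈ A) : A = ⊤ := by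
  rcases hμ with h | h
  · exact field_gen_sq' lam hgen μ h A ρ hρ hρ0 hA
  · refine field_gen_sq' lam hgen (lam ^ 2) rfl A ρ hρ hρ0 ?_
    intro a ha
    have := A.neg_mem (hA a ha)
    rwa [h, neg_mul, neg_neg] at this

/-- a generator of the unit group exists, in the `∀ a ≠ 0, ∃ k, a = lam ^ k` form -/
theorem exists_gen [Fintype F] : ∃ lam : F, lam ≠ 0 ∧ ∀ a : F, a ≠ 0 → ∃ k : ℕ, a = lam ^ k := by
  classical
  obtain ⟨g, hg⟩ := IsCyclic.exists_generator (α := Fˣ)
  refine ⟨g, g.ne_zero, ?_⟩
  intro a ha
  have hmem : Units.mk0 a ha ∈ Subgroup.zpowers g := hg _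
  rw [← mem_powers_iff_mem_zpowers] at hmem
  obtain ⟨k, hk⟩ := hmem
  refine ⟨k, ?_⟩
  have := congrArg Units.val hk
  rw [Units.val_pow_eq_pow_val, Units.val_mk0] at this
  exact this.symm

end Cfsg.Agent.Helper13.SpFG
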