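import Mathlib
import Cfsg.Agent.Lib.Helper13.SpEnd
import Cfsg.Agent.Lib.Helper13.SpFG

/-!
# Middle game for generation of `Sp_{2m}(F)`: the additive group `QQ H e`

`QQ H e = {w ⊥ e : ∃ c, eich e w c ∈ H}` is an additive subgroup of the vectors, stable under the
stabiliser of `e` in `H`; transvections `sympT y κ ∈ H` with `y ⊥ e` push `w ∈ QQ` to
`(κ f(w,y)) • y ∈ QQ` (ping-pong).  If `QQ` is all of `e^⊥` and `H` contains the centre
`{sympT e c}`, then `Q_e ≤ H` (`SpEnd.Full H e`).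
-/

set_option autoImplicit false

namespace Cfsg.Agent.Helper13.SpMid

open Matrix Cfsg Cfsg.Agent.Helper13 Cfsg.Agent.Helper84.SpRoot Cfsg.Agent.Helper5.SpAut
open Cfsg.Agent.Helper13.SpEnd

variable {F : Type*} [Field F] {m : ℕ}

local notation "Sp" => Matrix.symplecticGroup (Fin m) F
local notation "V2" => Fin m ⊕ Fin m → F

theorem eich_inv {e w : V2} (h : Cfsg.sympForm m F w e = 0) (c : F) :
    (eich e w c)⁻¹ = eich e (-w) (-c) := by
  have h' : Cfsg.sympForm m F (-w) e = 0 := by rw [sympForm_neg_left, h, neg_zero]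
  rw [inv_eq_iff_mul_eq_one, eich_mul h h']
  have : c + -c + Cfsg.sympForm m F (-w) w = 0 := by
    rw [sympForm_neg_left, sympForm_self]; ring
  rw [this, add_neg_cancel, eich_one]

/-- the additive group of Eichler directions available in `H` -/
def QQ (H : Subgroup Sp) (e : V2) : AddSubgroup V2 where
  carrier := {w | Cfsg.sympForm m F w e = 0 ∧ ∃ c : F, eich e w c ∈ H}
  zero_mem' := ⟨sympForm_zero_left e, 0, by rw [eich_one]; exact H.one_mem⟩
  add_mem' := by
    rintro w w' ⟨hw, c, hc⟩ ⟨hw', c', hc'⟩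
    refine ⟨by rw [sympForm_add_left, hw, hw', add_zero],
      c + c' + Cfsg.sympForm m F w' w, ?_⟩
    rw [← eich_mul hw hw' c c']
    exact H.mul_mem hc hc'
  neg_mem' := by
    rintro w ⟨hw, c, hc⟩
    refine ⟨by rw [sympForm_neg_left, hw, neg_zero], -c, ?_⟩
    rw [← eich_inv hw]
    exact H.inv_mem hc

theorem mem_QQ {H : Subgroup Sp} {e w : V2} :
    w ∈ QQ H e ↔ Cfsg.sympForm m F w e = 0 ∧ ∃ c : F, eich e w c ∈ H := Iff.rfl

theorem mem_QQ_of_eich {H : Subgroup Sp} {e w : V2} (hw : Cfsg.sympForm m F w e = 0) {c : F}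
    (h : eich e w c ∈ H) : w ∈ QQ H e := ⟨hw, c, h⟩

/-- `QQ` is stable under the stabiliser of `e` in `H` -/
theorem QQ_act {H : Subgroup Sp} {e w : V2} {g : Sp} (hg : g ∈ H) (hge : g.val *ᵥ e = e)
    (hw : w ∈ QQ H e) : g.val *ᵥ w ∈ QQ H e := by
  obtain ⟨hw0, c, hc⟩ := hw
  have h1 := conj_eich g hw0 c
  rw [hge] at h1
  refine ⟨?_, c, ?_⟩
  · have := sympForm_mulVec (m := m) g.2 w e
    rw [hge] at this
    rw [this, hw0]
  · rw [← h1]
    exact H.mul_mem (H.mul_mem hg hc) (H.inv_mem hg)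

/-- a transvection of `H` with centre `y ⊥ e` pushes `w ∈ QQ` to a multiple of `y` -/
theorem QQ_transv {H : Subgroup Sp} {e w y : V2} {κ : F} (hy : Cfsg.sympForm m F y e = 0)
    (hT : sympT y κ ∈ H) (hw : w ∈ QQ H e) : (κ * Cfsg.sympForm m F w y) • y ∈ QQ H e := by
  have hfix : (sympT y κ).val *ᵥ e = e := by
    have : Cfsg.sympForm m F e y = 0 := by rw [sympForm_swap, hy, neg_zero]
    rw [sympT_act, this, mul_zero, zero_smul, add_zero]
  have h1 := QQ_act hT hfix hw
  rw [sympT_act] at h1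
  have h2 := (QQ H e).sub_mem h1 hw
  rwa [add_sub_cancel_left] at h2

/-- ping-pong between two centres `p, q ⊥ e` of transvections of `H` -/
theorem QQ_pingpong {H : Subgroup Sp} {e p q : V2} {κ : F} (hp : Cfsg.sympForm m F p e = 0)
    (hq : Cfsg.sympForm m F q e = 0) (hTp : sympT p κ ∈ H) (hTq : sympT q κ ∈ H) {γ : F}
    (h : γ • q ∈ QQ H e) :
    ((κ ^ 2 * Cfsg.sympForm m F q p * Cfsg.sympForm m F p q) * γ) • q ∈ QQ H e := by
  have h1 := QQ_transv hp hTp h
  have h2 := QQ_transv hq hTq h1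
  rw [sympForm_smul_left, sympForm_smul_left] at h2
  have e1 : κ * (κ * (γ * Cfsg.sympForm m F q p) * Cfsg.sympForm m F p q) =
      (κ ^ 2 * Cfsg.sympForm m F q p * Cfsg.sympForm m F p q) * γ := by ring
  rwa [e1] at h2

/-- the scalars `γ` with `γ • q ∈ QQ` -/
def Gam (H : Subgroup Sp) (e q : V2) : AddSubgroup F where
  carrier := {γ | γ • q ∈ QQ H e}
  zero_mem' := by
    show (0 : F) • q ∈ QQ H e
    rw [zero_smul]; exact (QQ H e).zero_mem
  add_mem' := by
    intro a b ha hb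
    show (a + b) • q ∈ QQ H e
    rw [add_smul]; exact (QQ H e).add_mem ha hb
  neg_mem' := by
    intro a ha
    show (-a) • q ∈ QQ H e
    rw [neg_smul]; exact (QQ H e).neg_mem ha

theorem mem_Gam {H : Subgroup Sp} {e q : V2} {γ : F} : γ ∈ Gam H e q ↔ γ • q ∈ QQ H e := Iff.rfl

theorem Gam_mul_closed {H : Subgroup Sp} {e p q : V2} {κ : F} (hp : Cfsg.sympForm m F p e = 0)
    (hq : Cfsg.sympForm m F q e = 0) (hTp : sympT p κ ∈ H) (hTq : sympT q κ ∈ H) :
    ∀ γ ∈ Gam H e q,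
      (κ ^ 2 * Cfsg.sympForm m F q p * Cfsg.sympForm m F p q) * γ ∈ Gam H e q :=
  fun _ h => QQ_pingpong hp hq hTp hTq h

/-- `QQ = e^⊥` together with the centre gives the whole radical -/
theorem full_of_QQ {H : Subgroup Sp} {e : V2} (hZ : ∀ c : F, sympT e c ∈ H)
    (hQQ : ∀ w : V2, Cfsg.sympForm m F w e = 0 → w ∈ QQ H e) : Full H e := by
  intro w c hw
  obtain ⟨_, c0, hc0⟩ := hQQ w hw
  have h0 : Cfsg.sympForm m F (0 : V2) e = 0 := sympForm_zero_left e
  have h1 := eich_mul hw h0 c0 (c - c0)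
  rw [add_zero, sympForm_zero_left, add_zero, add_sub_cancel, eich_zero_eq_sympT] at h1
  rw [← h1]
  exact H.mul_mem hc0 (hZ _)

/-- commutators of Eichler elements give central transvections -/
theorem sympT_two_mul_mem {H : Subgroup Sp} {e w w' : V2} (hw : w ∈ QQ H e) (hw' : w' ∈ QQ H e) :
    sympT e (2 * Cfsg.sympForm m F w' w) ∈ H := by
  obtain ⟨hw0, c, hc⟩ := hw
  obtain ⟨hw0', c', hc'⟩ := hw'
  have h1 := eich_mul hw0 hw0' c c'
  have h2 := eich_mul hw0' hw0 c' c
  have hsum : Cfsg.sympForm m F (w' + w) e = 0 := by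
    rw [sympForm_add_left, hw0, hw0', add_zero]
  have h0 : Cfsg.sympForm m F (0 : V2) e = 0 := sympForm_zero_left e
  have h3 := eich_mul hsum h0 (c' + c + Cfsg.sympForm m F w w') (2 * Cfsg.sympForm m F w' w)
  rw [add_zero, sympForm_zero_left, add_zero, eich_zero_eq_sympT] at h3
  have h4 : c' + c + Cfsg.sympForm m F w w' + 2 * Cfsg.sympForm m F w' w =
      c + c' + Cfsg.sympForm m F w' w := by
    rw [sympForm_swap w w']; ring
  rw [h4, ← h2] at h3
  rw [add_comm w w'] at h1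
  rw [← h1] at h3
  have h5 : sympT e (2 * Cfsg.sympForm m F w' w) =
      (eich e w' c' * eich e w c)⁻¹ * (eich e w c * eich e w' c') := by
    rw [← h3]; group
  rw [h5]
  exact H.mul_mem (H.inv_mem (H.mul_mem hc' hc)) (H.mul_mem hc hc')

/-- ping-pong + square generation: one nonzero multiple of `q` in `QQ` gives the whole line -/
theorem Gam_eq_top [Fintype F] {H : Subgroup Sp} {e p q : V2} {κ : F}
    (hp : Cfsg.sympForm m F p e = 0) (hq : Cfsg.sympForm m F q e = 0)
    (hTp : sympT p κ ∈ H) (hTq : sympT q κ ∈ H) (lam : F)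
    (hgen : ∀ a : F, a ≠ 0 → ∃ k : ℕ, a = lam ^ k)
    (hμ : κ ^ 2 * Cfsg.sympForm m F q p * Cfsg.sympForm m F p q = lam ^ 2 ∨
      κ ^ 2 * Cfsg.sympForm m F q p * Cfsg.sympForm m F p q = -lam ^ 2)
    {γ₀ : F} (h0 : γ₀ • q ∈ QQ H e) (hne : γ₀ ≠ 0) : Gam H e q = ⊤ :=
  SpFG.field_gen_sq lam hgen _ hμ (Gam H e q) γ₀ h0 hne (Gam_mul_closed hp hq hTp hTq)

theorem smul_mem_QQ_of_Gam_top {H : Subgroup Sp} {e q : V2} (h : Gam H e q = ⊤) (a : F) :
    a • q ∈ QQ H e := by
  have : a ∈ Gam H e q := by rw [h]; trivial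
  exact this

/-- `QQ` contains the span of any set of vectors all of whose multiples it contains -/
theorem span_le_QQ {H : Subgroup Sp} {e : V2} {S : Set V2}
    (hS : ∀ v ∈ S, ∀ a : F, a • v ∈ QQ H e) :
    ∀ w ∈ Submodule.span F S, w ∈ QQ H e := by
  intro w hw
  have key : ∀ a : F, a • w ∈ QQ H e := by
    induction hw using Submodule.span_induction with
    | mem x hx => exact hS x hx
    | zero => intro a; rw [smul_zero]; exact (QQ H e).zero_mem
    | add x y _ _ hx hy => intro a; rw [smul_add]; exact (QQ H e).add_mem (hx a) (hy a)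
    | smul b x _ hx => intro a; rw [smul_smul]; exact hx _
  simpa using key 1

/-- multiples of the images of `q` under the stabiliser of `e` in `H` -/
theorem smul_act_mem_QQ {H : Subgroup Sp} {e q : V2} (hq : ∀ a : F, a • q ∈ QQ H e) {g : Sp}
    (hg : g ∈ H) (hge : g.val *ᵥ e = e) (a : F) : a • (g.val *ᵥ q) ∈ QQ H e := by
  have := QQ_act hg hge (hq a)
  rwa [Matrix.mulVec_smul] at this

end Cfsg.Agent.Helper13.SpMid
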