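import Mathlib
import Cfsg.Agent.Lib.Helper13.SpMid

/-!
# The centre `Z_e = {sympT e c}` of the radical from `QQ H e = e^⊥`

* odd characteristic: commutators of Eichler elements;
* any characteristic: if `l ∈ H` with `l e ⊥ e`, `l e ∉ F e`, then `H` moves `e` to every `a • e`
  (`a ≠ 0`), so one central transvection `sympT e κ ∈ H` gives all `sympT e (κ a²)`; in
  characteristic 2 every element of a finite field is a square.
-/

set_option autoImplicit false

namespace Cfsg.Agent.Helper13.SpCen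

open Matrix Cfsg Cfsg.Agent.Helper13 Cfsg.Agent.Helper84.SpRoot Cfsg.Agent.Helper5.SpAut
open Cfsg.Agent.Helper13.SpEnd Cfsg.Agent.Helper13.SpMid

variable {F : Type*} [Field F] {m : ℕ}

local notation "Sp" => Matrix.symplecticGroup (Fin m) F
local notation "V2" => Fin m ⊕ Fin m → F

/-- odd characteristic: the centre from commutators -/
theorem center_of_two_ne_zero {H : Subgroup Sp} {e : V2} (h2 : (2 : F) ≠ 0)
    (hQQ : ∀ w : V2, Cfsg.sympForm m F w e = 0 → w ∈ QQ H e) {w w' : V2}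
    (hw : Cfsg.sympForm m F w e = 0) (hw' : Cfsg.sympForm m F w' e = 0)
    (hww : Cfsg.sympForm m F w' w ≠ 0) (c : F) : sympT e c ∈ H := by
  set a := c * (2 * Cfsg.sympForm m F w' w)⁻¹ with ha
  have h1 : Cfsg.sympForm m F (a • w') e = 0 := by rw [sympForm_smul_left, hw', mul_zero]
  have h3 := sympT_two_mul_mem (hQQ w hw) (hQQ (a • w') h1)
  have h4 : 2 * Cfsg.sympForm m F (a • w') w = c := by
    rw [sympForm_smul_left, ha]
    field_simp
  rwa [h4] at h3

/-- `H` moves `e` to `a • e` -/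
theorem exists_map_smul {H : Subgroup Sp} {e : V2} (he : e ≠ 0)
    (hQQ : ∀ w : V2, Cfsg.sympForm m F w e = 0 → w ∈ QQ H e) {l : Sp} (hl : l ∈ H)
    (hle : Cfsg.sympForm m F (l.val *ᵥ e) e = 0) (hind : ∀ a : F, l.val *ᵥ e ≠ a • e)
    {a : F} (ha : a ≠ 0) : ∃ g ∈ H, g.val *ᵥ e = a • e := by
  set e1 := l.val *ᵥ e with he1
  set p := (l⁻¹).val *ᵥ e with hp
  have hlp : l.val *ᵥ p = e := mulVec_inv_mulVec l e
  have hl1 : (l⁻¹).val *ᵥ e1 = e := inv_mulVec_mulVec l e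
  have hpe : Cfsg.sympForm m F p e = 0 := by
    have := sympForm_mulVec (m := m) l.2 p e
    rw [hlp] at this
    rw [← this, sympForm_swap, hle, neg_zero]
  have hpind : ∀ b : F, p ≠ b • e := by
    intro b hb
    have h1 : e = b • e1 := by
      rw [← hlp, hb, Matrix.mulVec_smul]
    have hb0 : b ≠ 0 := by
      intro h0
      rw [h0, zero_smul] at h1
      exact he h1
    apply hind b⁻¹
    rw [h1, smul_smul, inv_mul_cancel₀ hb0, one_smul]
  -- first Eichler element: `e1 ↦ e1 + a • e`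
  obtain ⟨z1, hz1, hz1e⟩ := exists_sep he hind
  have hw1 : Cfsg.sympForm m F (a • z1) e = 0 := by
    rw [sympForm_smul_left, sympForm_swap, hz1e, neg_zero, mul_zero]
  obtain ⟨_, c1, hE1⟩ := hQQ _ hw1
  have hact1 : (eich e (a • z1) c1).val *ᵥ e1 = e1 + a • e := by
    rw [eich_act hw1, hle, sympForm_smul_right, hz1]
    module
  -- second Eichler element: `e + a • p ↦ a • p`
  obtain ⟨z2, hz2, hz2e⟩ := exists_sep he hpind
  have hw2 : Cfsg.sympForm m F ((-a⁻¹) • z2) e = 0 := by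
    rw [sympForm_smul_left, sympForm_swap, hz2e, neg_zero, mul_zero]
  obtain ⟨_, c2, hE2⟩ := hQQ _ hw2
  have hact2 : (eich e ((-a⁻¹) • z2) c2).val *ᵥ (e + a • p) = a • p := by
    rw [eich_act hw2]
    simp only [sympForm_add_left, sympForm_smul_left, sympForm_smul_right, sympForm_self, hpe,
      hz2, hz2e]
    have : (-a⁻¹ * (0 + a * 1)) = -1 := by
      rw [zero_add, mul_one, neg_mul, inv_mul_cancel₀ ha]
    rw [this, mul_zero, add_zero, zero_smul, mul_zero, zero_smul]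
    module
  refine ⟨l * eich e ((-a⁻¹) • z2) c2 * l⁻¹ * eich e (a • z1) c1 * l,
    H.mul_mem (H.mul_mem (H.mul_mem (H.mul_mem hl hE2) (H.inv_mem hl)) hE1) hl, ?_⟩
  rw [mul_act, mul_act, mul_act, mul_act, ← he1, hact1, Matrix.mulVec_add, Matrix.mulVec_smul,
    hl1, ← hp, hact2, Matrix.mulVec_smul, hlp]

/-- one central transvection gives all `sympT e (κ a²)` -/
theorem sympT_sq_mem {H : Subgroup Sp} {e : V2} (he : e ≠ 0)
    (hQQ : ∀ w : V2, Cfsg.sympForm m F w e = 0 → w ∈ QQ H e) {l : Sp} (hl : l ∈ H)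
    (hle : Cfsg.sympForm m F (l.val *ᵥ e) e = 0) (hind : ∀ a : F, l.val *ᵥ e ≠ a • e)
    {κ : F} (hκ : sympT e κ ∈ H) (a : F) : sympT e (κ * a ^ 2) ∈ H := by
  by_cases ha : a = 0
  · rw [ha, zero_pow (by norm_num), mul_zero, sympT_zero]; exact H.one_mem
  · obtain ⟨g, hg, hge⟩ := exists_map_smul he hQQ hl hle hind ha
    have h1 := conj_sympT g e κ
    rw [hge, sympT_smul] at h1
    rw [← h1]
    exact H.mul_mem (H.mul_mem hg hκ) (H.inv_mem hg)

/-- **the centre**, all characteristics, finite field -/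
theorem center_mem [Fintype F] {H : Subgroup Sp} {e : V2} (he : e ≠ 0)
    (hQQ : ∀ w : V2, Cfsg.sympForm m F w e = 0 → w ∈ QQ H e) {l : Sp} (hl : l ∈ H)
    (hle : Cfsg.sympForm m F (l.val *ᵥ e) e = 0) (hind : ∀ a : F, l.val *ᵥ e ≠ a • e)
    {κ : F} (hκ0 : κ ≠ 0) (hκ : sympT e κ ∈ H) {w w' : V2}
    (hw : Cfsg.sympForm m F w e = 0) (hw' : Cfsg.sympForm m F w' e = 0)
    (hww : Cfsg.sympForm m F w' w ≠ 0) (c : F) : sympT e c ∈ H := by
  by_cases h2 : (2 : F) = 0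
  · have hchar : ringChar F = 2 := CharP.ringChar_of_prime_eq_zero Nat.prime_two h2
    obtain ⟨a, ha⟩ := FiniteField.isSquare_of_char_two hchar (c * κ⁻¹)
    have := sympT_sq_mem he hQQ hl hle hind hκ a
    have e1 : κ * a ^ 2 = c := by
      rw [pow_two, ← ha]; field_simp
    rwa [e1] at this
  · exact center_of_two_ne_zero h2 hQQ hw hw' hww c

/-- **middle game + centre ⇒ radical**: `QQ = e^⊥`, a seed `sympT e κ ∈ H` and `l` give
`SpEnd.Full H e`. -/
theorem full_of_QQ_seed [Fintype F] {H : Subgroup Sp} {e : V2} (he : e ≠ 0)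
    (hQQ : ∀ w : V2, Cfsg.sympForm m F w e = 0 → w ∈ QQ H e) {l : Sp} (hl : l ∈ H)
    (hle : Cfsg.sympForm m F (l.val *ᵥ e) e = 0) (hind : ∀ a : F, l.val *ᵥ e ≠ a • e)
    {κ : F} (hκ0 : κ ≠ 0) (hκ : sympT e κ ∈ H) {w w' : V2}
    (hw : Cfsg.sympForm m F w e = 0) (hw' : Cfsg.sympForm m F w' e = 0)
    (hww : Cfsg.sympForm m F w' w ≠ 0) : Full H e :=
  full_of_QQ (center_mem he hQQ hl hle hind hκ0 hκ hw hw' hww) hQQ


/-- Eichler element as a product of three commuting transvections (scaled version of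
`Helper84.PspB.eich_eq_sympT_prod`) -/
theorem eich_smul_eq_prod {e q : V2} (h : Cfsg.sympForm m F q e = 0) (c : F) :
    eich e (c • q) 0 = sympT (q + e) c * sympT q (-c) * sympT e (-c) := by
  have h0 : Cfsg.sympForm m F (c • q) e = 0 := by rw [sympForm_smul_left, h, mul_zero]
  have h' : Cfsg.sympForm m F e q = 0 := by rw [sympForm_swap, h, neg_zero]
  apply sp_ext
  intro x
  rw [eich_act h0, mul_act, mul_act, sympT_act, sympT_act, sympT_act]
  simp only [sympForm_add_left, sympForm_add_right, sympForm_smul_left, sympForm_smul_right,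
    sympForm_self, h, h']
  module

/-- the seed: three transvections of `H` give an Eichler direction -/
theorem seed_mem_QQ {H : Subgroup Sp} {e q : V2} (h : Cfsg.sympForm m F q e = 0) {c : F}
    (h1 : sympT (q + e) c ∈ H) (h2 : sympT q c ∈ H) (h3 : sympT e c ∈ H) :
    c • q ∈ QQ H e := by
  refine mem_QQ_of_eich (by rw [sympForm_smul_left, h, mul_zero]) (c := 0) ?_
  rw [eich_smul_eq_prod h]
  have h2' : sympT q (-c) ∈ H := by rw [← sympT_inv]; exact H.inv_mem h2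
  have h3' : sympT e (-c) ∈ H := by rw [← sympT_inv]; exact H.inv_mem h3
  exact H.mul_mem (H.mul_mem h1 h2') h3'

/-- **the whole abstract chain.**  `H ≤ Sp_{2m}(F)`, `F` finite, `e ≠ 0`;
* `u ∈ H` fixes `e`; `l ∈ H` with `q = l e ⊥ e`, `q ∉ F e`; `p = l⁻¹ e`;
* `sympT e κ ∈ H`, `κ ≠ 0`; `κ² f(q,p) f(p,q) = ± lam²`, `lam` a generator of `Fˣ`;
* a seed `γ₀ • q ∈ QQ H e`, `γ₀ ≠ 0`;
* the `u`-translates of `q` span `e^⊥`;
* `e^⊥` contains a non-orthogonal pair; some `h ∈ H` moves `e` off `e^⊥`.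
Then `H = ⊤`. -/
theorem eq_top_of_seed [Fintype F] {H : Subgroup Sp} {e : V2} (he : e ≠ 0)
    {u : Sp} (hu : u ∈ H) (hue : u.val *ᵥ e = e)
    {l : Sp} (hl : l ∈ H) (hle : Cfsg.sympForm m F (l.val *ᵥ e) e = 0)
    (hind : ∀ a : F, l.val *ᵥ e ≠ a • e)
    {κ : F} (hκ0 : κ ≠ 0) (hκ : sympT e κ ∈ H)
    (lam : F) (hgen : ∀ a : F, a ≠ 0 → ∃ k : ℕ, a = lam ^ k)
    (hμ : κ ^ 2 * Cfsg.sympForm m F (l.val *ᵥ e) ((l⁻¹).val *ᵥ e) *
        Cfsg.sympForm m F ((l⁻¹).val *ᵥ e) (l.val *ᵥ e) = lam ^ 2 ∨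
      κ ^ 2 * Cfsg.sympForm m F (l.val *ᵥ e) ((l⁻¹).val *ᵥ e) *
        Cfsg.sympForm m F ((l⁻¹).val *ᵥ e) (l.val *ᵥ e) = -lam ^ 2)
    {γ₀ : F} (hγ : γ₀ • (l.val *ᵥ e) ∈ QQ H e) (hγ0 : γ₀ ≠ 0)
    (hcyc : ∀ w : V2, Cfsg.sympForm m F w e = 0 →
      w ∈ Submodule.span F (Set.range fun k : ℕ => (u ^ k).val *ᵥ (l.val *ᵥ e)))
    {w w' : V2} (hw : Cfsg.sympForm m F w e = 0) (hw' : Cfsg.sympForm m F w' e = 0)
    (hww : Cfsg.sympForm m F w' w ≠ 0)
    {h : Sp} (hh : h ∈ H) (hmove : Cfsg.sympForm m F (h.val *ᵥ e) e ≠ 0) : H = ⊤ := by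
  set q := l.val *ᵥ e with hq
  set p := (l⁻¹).val *ᵥ e with hp
  have hlp : l.val *ᵥ p = e := mulVec_inv_mulVec l e
  have hpe : Cfsg.sympForm m F p e = 0 := by
    have := sympForm_mulVec (m := m) l.2 p e
    rw [hlp] at this
    rw [← this, sympForm_swap, hle, neg_zero]
  have hTq : sympT q κ ∈ H := by
    rw [hq, ← conj_sympT]
    exact H.mul_mem (H.mul_mem hl hκ) (H.inv_mem hl)
  have hTp : sympT p κ ∈ H := by
    rw [hp, ← conj_sympT]
    exact H.mul_mem (H.mul_mem (H.inv_mem hl) hκ) (H.inv_mem (H.inv_mem hl))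
  have hG : Gam H e q = ⊤ := Gam_eq_top hpe hle hTp hTq lam hgen hμ hγ hγ0
  have hqall : ∀ a : F, a • q ∈ QQ H e := smul_mem_QQ_of_Gam_top hG
  have hQQ : ∀ w : V2, Cfsg.sympForm m F w e = 0 → w ∈ QQ H e := by
    intro w hw
    refine span_le_QQ ?_ w (hcyc w hw)
    rintro v ⟨k, rfl⟩ a
    have huk : (u ^ k).val *ᵥ e = e := by
      induction k with
      | zero => rw [pow_zero, one_act]
      | succ k ih => rw [pow_succ, mul_act, hue, ih]
    exact smul_act_mem_QQ hqall (H.pow_mem hu k) huk a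
  exact eq_top_of_full (full_of_QQ_seed he hQQ hl hle hind hκ0 hκ hw hw' hww) hh hmove

end Cfsg.Agent.Helper13.SpCen
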