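import Mathlib

/-!
# TU server (helper59, S2279), piece (LUC): `exists_offset`
-/

set_option autoImplicit false

namespace Cfsg.Agent.Helper13.TU

/-- Lucas, one digit at a time: `C(p^a t + p^a - 1, p^a) ≡ t (mod p)`. -/
theorem h13_choose_block (p : ℕ) [hp : Fact p.Prime] (t : ℕ) :
    ∀ a : ℕ, Nat.choose (p ^ a * t + p ^ a - 1) (p ^ a) ≡ t [MOD p] := by
  intro a
  induction a with
  | zero => simp [Nat.ModEq]
  | succ a ih =>
    have hp0 : 0 < p := hp.out.pos
    have hpa : 0 < p ^ a := pow_pos hp0 a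
    have hN : p ^ (a + 1) * t + p ^ (a + 1) - 1 = p * (p ^ a * t + p ^ a - 1) + (p - 1) := by
      have h1 : 1 ≤ p ^ a * t + p ^ a := by omega
      have h2 : p ^ (a + 1) * t + p ^ (a + 1) = p * (p ^ a * t + p ^ a) := by ring
      rw [h2]
      obtain ⟨r, hr⟩ : ∃ r, p ^ a * t + p ^ a = r + 1 := ⟨p ^ a * t + p ^ a - 1, by omega⟩
      rw [hr, Nat.add_sub_cancel, Nat.mul_add, mul_one]
      omega
    have hmod : (p ^ (a + 1) * t + p ^ (a + 1) - 1) % p = p - 1 := by
      rw [hN, Nat.mul_add_mod]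
      exact Nat.mod_eq_of_lt (by omega)
    have hdiv : (p ^ (a + 1) * t + p ^ (a + 1) - 1) / p = p ^ a * t + p ^ a - 1 := by
      rw [hN, Nat.mul_add_div hp0, Nat.div_eq_of_lt (by omega), add_zero]
    have hKmod : p ^ (a + 1) % p = 0 := by
      rw [pow_succ, Nat.mul_mod_left]
    have hKdiv : p ^ (a + 1) / p = p ^ a := by
      rw [pow_succ, Nat.mul_div_cancel _ hp0]
    have hL := Choose.choose_modEq_choose_mod_mul_choose_div_nat (p := p)
      (n := p ^ (a + 1) * t + p ^ (a + 1) - 1) (k := p ^ (a + 1))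
    rw [hmod, hdiv, hKmod, hKdiv, Nat.choose_zero_right, one_mul] at hL
    exact hL.trans ih

theorem exists_offset (p n : ℕ) [Fact p.Prime] (hn : 4 ≤ n) :
    ∃ a : ℕ, n = p ^ a ∨ (p ^ a + 3 ≤ n ∧ ¬ p ∣ Nat.choose (n - 1 + p ^ a) (n - 1)) := by
  have hp : p.Prime := Fact.out
  have hn0 : n ≠ 0 := by omega
  obtain ⟨a, t, ht, hnt⟩ := Nat.exists_eq_pow_mul_and_not_dvd hn0 p hp.ne_one
  refine ⟨a, ?_⟩
  have hpa : 0 < p ^ a := pow_pos hp.pos a
  by_cases ht1 : t = 1
  · left; rw [hnt, ht1, mul_one]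
  · right
    have ht0 : t ≠ 0 := by
      intro h; rw [h, mul_zero] at hnt; exact hn0 hnt
    have ht2 : 2 ≤ t := by omega
    constructor
    · -- `p^a + 3 ≤ p^a * t`
      rcases Nat.lt_or_ge (p ^ a) 3 with hs | hs
      · interval_cases hsv : p ^ a
        · omega
        · -- `p^a = 2`: then `p = 2`, `t` odd
          have hp2 : p = 2 := by
            have h1 : p ∣ p ^ a := by
              apply dvd_pow_self
              intro ha0; rw [ha0, pow_zero] at hsv; omega
            rw [hsv] at h1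
            exact (Nat.prime_dvd_prime_iff_eq hp Nat.prime_two).1 h1
          have : ¬ 2 ∣ t := by rw [← hp2]; exact ht
          omega
      · nlinarith
    · have hN : n - 1 + p ^ a = p ^ a * t + p ^ a - 1 := by
        rw [hnt]
        have : 1 ≤ p ^ a * t := Nat.mul_pos hpa (by omega)
        omega
      have hK : n - 1 = (p ^ a * t + p ^ a - 1) - p ^ a := by
        rw [hnt]; omega
      have hle : p ^ a ≤ p ^ a * t + p ^ a - 1 := by
        have : 1 ≤ p ^ a * t := Nat.mul_pos hpa (by omega)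
        omega
      rw [hN, hK, Nat.choose_symm hle]
      intro hdvd
      have h1 := h13_choose_block p t a
      have h2 : Nat.choose (p ^ a * t + p ^ a - 1) (p ^ a) % p = 0 := Nat.mod_eq_zero_of_dvd hdvd
      rw [Nat.ModEq, h2] at h1
      exact ht (Nat.dvd_of_mod_eq_zero h1.symm)

end Cfsg.Agent.Helper13.TU
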