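import Mathlib
import Cfsg.Agent.Lib.Helper43.Tri.Defs2
import Cfsg.Agent.Lib.Helper13.OP8Rel

/-! TRI2 (K3a), helper43's lemma server for S2608: `g₀(xy) = g₁(x) g₂(y) ⟹ g₁(zy) = g₀(z) ĝ₂(y)`. -/

set_option autoImplicit false
set_option linter.unusedSectionVars false
set_option linter.unusedVariables false

namespace Cfsg.Agent.Helper13.Tri2

open Matrix QuadraticMap Cfsg.Agent.Helper13 Cfsg.Agent.Helper43 Cfsg.Agent.Helper5.OAut Module
  Cfsg.Agent.Helper43.Tri Cfsg.Agent.Helper43.OGam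

variable {F : Type*} [Field F]

theorem Rel.swap01 (hhat : ∀ (g : O8 F) (x : OV F), hatO g • x = oconj (g • oconj x))
    (hsum : ∀ y : OV F, ∃ a b : OV F, y = a + b ∧ stdPlus F 4 a ≠ 0 ∧ stdPlus F 4 b ≠ 0)
    {g₀ g₁ g₂ : O8 F} (h : Rel g₀ g₁ g₂) : Rel g₁ g₀ (hatO g₂) := by
  intro z y
  rw [hhat]
  have key : ∀ z : OV F, (OP8.linO g₁) ∘ₗ (Lm z) ∘ₗ Km =
      (Lm (g₀ • z)) ∘ₗ Km ∘ₗ (OP8.linO g₂) := by
    intro z
    apply OP8.lin_ext_nonsing
    intro y hy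
    simp only [LinearMap.comp_apply, Km_apply, Lm_apply, OP8.linO_apply]
    exact OP8.rel_key h z y hy
  have := LinearMap.congr_fun (key z) (oconj y)
  simp only [LinearMap.comp_apply, Km_apply, Lm_apply, OP8.linO_apply, oconj_oconj] at this
  exact this

end Cfsg.Agent.Helper13.Tri2
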