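import Mathlib
import Cfsg.Agent.Lib.Helper43.Tri.Defs2
import Cfsg.Agent.Lib.Helper13.OP8Rel

/-! TRI2 (K3b), helper43's lemma server for S2608: `g₀(xy) = g₁(x) g₂(y) ⟹ g₂(xz) = ĝ₁(x) g₀(z)`. -/

set_option autoImplicit false
set_option linter.unusedSectionVars false
set_option linter.unusedVariables false

namespace Cfsg.Agent.Helper13.Tri2

open Matrix QuadraticMap Cfsg.Agent.Helper13 Cfsg.Agent.Helper43 Cfsg.Agent.Helper5.OAut Module
  Cfsg.Agent.Helper43.Tri Cfsg.Agent.Helper43.OGam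

variable {F : Type*} [Field F]

/-- for nonsingular `x`: `g₂ (x z) = conj (g₁ x̄) · g₀ z` -/
theorem rel_key2 {g₀ g₁ g₂ : O8 F} (h : Rel g₀ g₁ g₂) (x z : OV F) (hx : stdPlus F 4 x ≠ 0) :
    g₂ • omul x z = omul (oconj (g₁ • oconj x)) (g₀ • z) := by
  have h1 := h (oconj x) (omul x z)
  rw [oconj_omul_omul] at h1
  have hc : g₀ • ((stdPlus F 4) x • z) = (stdPlus F 4) x • (g₀ • z) :=
    O_smul_smul_comm (stdPlus F 4) g₀ _ z
  rw [hc] at h1
  have h2 : omul (oconj (g₁ • oconj x)) ((stdPlus F 4) x • g₀ • z) =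
      omul (oconj (g₁ • oconj x)) (omul (g₁ • oconj x) (g₂ • omul x z)) := by rw [h1]
  have hN : (stdPlus F 4) (g₁ • oconj x) = (stdPlus F 4) x :=
    (O_Q_smul (stdPlus F 4) g₁ (oconj x)).trans (N_oconj x)
  rw [oconj_omul_omul, hN, omul_smul_right] at h2
  have h3 : (stdPlus F 4 x)⁻¹ • (stdPlus F 4 x • omul (oconj (g₁ • oconj x)) (g₀ • z)) =
      (stdPlus F 4 x)⁻¹ • (stdPlus F 4 x • g₂ • omul x z) := by rw [h2]
  rw [smul_smul, smul_smul, inv_mul_cancel₀ hx, one_smul, one_smul] at h3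
  exact h3.symm

theorem Rel.swap02 (hhat : ∀ (g : O8 F) (x : OV F), hatO g • x = oconj (g • oconj x))
    (hsum : ∀ y : OV F, ∃ a b : OV F, y = a + b ∧ stdPlus F 4 a ≠ 0 ∧ stdPlus F 4 b ≠ 0)
    {g₀ g₁ g₂ : O8 F} (h : Rel g₀ g₁ g₂) : Rel g₂ (hatO g₁) g₀ := by
  intro x z
  rw [hhat]
  have key : ∀ z : OV F, (OP8.linO g₂) ∘ₗ (Rm z) =
      (Rm (g₀ • z)) ∘ₗ Km ∘ₗ (OP8.linO g₁) ∘ₗ Km := by
    intro z
    apply OP8.lin_ext_nonsing
    intro x hx
    simp only [LinearMap.comp_apply, Km_apply, Rm_apply, OP8.linO_apply]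
    exact rel_key2 h x z hx
  have := LinearMap.congr_fun (key z) x
  simp only [LinearMap.comp_apply, Km_apply, Rm_apply, OP8.linO_apply] at this
  exact this

end Cfsg.Agent.Helper13.Tri2
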