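import Mathlib
import Cfsg.Agent.Lib.Helper43.Tri.Defs2

/-! TRI2 (K3c), helper43's lemma server for S2608: conjugating a related triple. -/

set_option autoImplicit false
set_option linter.unusedSectionVars false
set_option linter.unusedVariables false

namespace Cfsg.Agent.Helper13.Tri2

open Matrix QuadraticMap Cfsg.Agent.Helper13 Cfsg.Agent.Helper43 Cfsg.Agent.Helper5.OAut Module
  Cfsg.Agent.Helper43.Tri Cfsg.Agent.Helper43.OGam

variable {F : Type*} [Field F]

theorem Rel.hat (hhat : ∀ (g : O8 F) (x : OV F), hatO g • x = oconj (g • oconj x))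
    {g₀ g₁ g₂ : O8 F} (h : Rel g₀ g₁ g₂) : Rel (hatO g₀) (hatO g₂) (hatO g₁) := by
  intro x y
  rw [hhat, hhat, hhat, oconj_omul, h, oconj_omul]

end Cfsg.Agent.Helper13.Tri2
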